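import Mathlib

/-!
Helper lemmas on conjugacy class sizes (helper21).
-/

set_option autoImplicit false

namespace Cfsg.Agent.Lib.Helper21

open MulAction in
/-- The index of the centralizer of `g` is the size of the conjugacy class of `g`. -/
theorem index_centralizer_eq_ncard_carrier {G : Type*} [Group G] (g : G) :
    (Subgroup.centralizer ({g} : Set G)).index = (ConjClasses.mk g).carrier.ncard := by
  rw [← ConjAct.orbit_eq_carrier_conjClasses, ← MulAction.index_stabilizer,
    Subgroup.centralizer_eq_comap_stabilizer]
  exact Subgroup.index_comap_of_surjective _ (ConjAct.toConjAct (G := G)).surjective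

/-- The set of conjugates of `g`, as a set-builder, is the carrier of its class. -/
theorem setOf_isConj_eq_carrier {G : Type*} [Group G] (g : G) :
    {h : G | IsConj g h} = (ConjClasses.mk g).carrier := by
  ext h
  rw [ConjClasses.mem_carrier_iff_mk_eq, ConjClasses.mk_eq_mk_iff_isConj, Set.mem_ofPred_eq,
    isConj_comm]

theorem index_centralizer_eq_ncard_setOf_isConj {G : Type*} [Group G] (g : G) :
    (Subgroup.centralizer ({g} : Set G)).index = {h : G | IsConj g h}.ncard := by
  rw [setOf_isConj_eq_carrier, index_centralizer_eq_ncard_carrier]

end Cfsg.Agent.Lib.Helper21
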