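import Mathlib

/-!
Primary decomposition of elements of finite order (helper21).
-/

set_option autoImplicit false

namespace Cfsg.Agent.Lib.Helper21

/-- If `g ^ a ∈ H`, `g ^ b ∈ H` with `a`, `b` coprime then `g ∈ H`. -/
theorem mem_of_pow_mem_of_coprime {G : Type*} [Group G] (H : Subgroup G) (g : G) (a b : ℕ)
    (hab : Nat.Coprime a b) (ha : g ^ a ∈ H) (hb : g ^ b ∈ H) : g ∈ H := by
  have : g ^ ((Nat.gcd a b : ℕ) : ℤ) ∈ H := by
    rw [Nat.gcd_eq_gcd_ab, zpow_add, zpow_mul, zpow_mul]
    refine Subgroup.mul_mem _ (Subgroup.zpow_mem _ ?_ _) (Subgroup.zpow_mem _ ?_ _)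
    · rw [zpow_natCast]; exact ha
    · rw [zpow_natCast]; exact hb
  rw [hab] at this
  simpa using this

/-- An element all of whose primary parts lie in `H` lies in `H`. -/
theorem mem_of_primary_parts_mem {G : Type*} [Group G] (H : Subgroup G) :
    ∀ (n : ℕ) (y : G), orderOf y = n → n ≠ 0 →
      (∀ q : ℕ, q.Prime → q ∣ n → y ^ (n / q ^ n.factorization q) ∈ H) → y ∈ H := by
  intro n
  induction n using Nat.strong_induction_on with
  | _ n ih =>
    intro y hy hn0 h
    by_cases hn1 : n = 1
    · rw [hn1, orderOf_eq_one_iff] at hy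
      rw [hy]; exact H.one_mem
    set q := n.minFac with hq
    have hqp : q.Prime := Nat.minFac_prime hn1
    have hqn : q ∣ n := Nat.minFac_dvd n
    set v := n.factorization q with hv
    set m := n / q ^ v with hm
    have hnm : q ^ v * m = n := Nat.ordProj_mul_ordCompl_eq_self n q
    have hcop : Nat.Coprime (q ^ v) m := Nat.Coprime.pow_left _ (Nat.coprime_ordCompl hqp hn0)
    have hv0 : v ≠ 0 := by
      rw [hv]
      exact (Nat.Prime.factorization_pos_of_dvd hqp hn0 hqn).ne'
    have hm0 : m ≠ 0 := by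
      rintro h0
      rw [h0, mul_zero] at hnm
      exact hn0 hnm.symm
    have hmn : m < n := by
      have h2 : 2 ≤ q ^ v := by
        calc 2 ≤ q := hqp.two_le
          _ = q ^ 1 := (pow_one q).symm
          _ ≤ q ^ v := Nat.pow_le_pow_right hqp.pos (Nat.one_le_iff_ne_zero.mpr hv0)
      have hmpos : 0 < m := Nat.pos_of_ne_zero hm0
      nlinarith
    have h1 : y ^ m ∈ H := h q hqp hqn
    have h2 : y ^ (q ^ v) ∈ H := by
      have hord : orderOf (y ^ (q ^ v)) = m := by
        rw [orderOf_pow_of_dvd (pow_ne_zero _ hqp.ne_zero) (by rw [hy]; exact Dvd.intro _ hnm), hy]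
      apply ih m hmn (y ^ (q ^ v)) hord hm0
      intro r hr hrm
      have hrq : r ≠ q := by
        intro hrq
        rw [hrq] at hrm
        have : q ∣ Nat.gcd (q ^ v) m := Nat.dvd_gcd (dvd_pow_self _ hv0) hrm
        rw [hcop] at this
        exact hqp.one_lt.ne' (Nat.dvd_one.mp this)
      have hfac : m.factorization r = n.factorization r := by
        rw [hm, Nat.factorization_ordCompl, Finsupp.erase_ne hrq]
      have hrn : r ∣ n := dvd_trans hrm (Dvd.intro_left _ hnm)
      have h3 := h r hr hrn
      rw [← pow_mul, hfac]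
      have hdvd : r ^ n.factorization r ∣ m := by
        rw [← hfac]; exact Nat.ordProj_dvd m r
      have : q ^ v * (m / r ^ n.factorization r) = n / r ^ n.factorization r := by
        rw [← Nat.mul_div_assoc _ hdvd, hnm]
      rw [this]; exact h3
    exact mem_of_pow_mem_of_coprime H y _ _ hcop h2 h1

/-- If `x` commutes with every element of prime power order `q ^ b`, `q ≠ p`, then `x` commutes
with every element of finite order coprime to `p`. -/
theorem commute_of_coprime_order {G : Type*} [Group G] (p : ℕ) (x : G)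
    (h : ∀ y : G, (∃ q b : ℕ, q.Prime ∧ q ≠ p ∧ orderOf y = q ^ b) → x * y = y * x)
    (y : G) (hy0 : orderOf y ≠ 0) (hy : (orderOf y).Coprime p) : x * y = y * x := by
  have hmem : y ∈ Subgroup.centralizer ({x} : Set G) := by
    apply mem_of_primary_parts_mem _ (orderOf y) y rfl hy0
    intro q hq hqn
    rw [Subgroup.mem_centralizer_singleton_iff]
    apply (h _ ⟨q, (orderOf y).factorization q, hq, ?_, ?_⟩).symm
    · rintro rfl
      have : q ∣ Nat.gcd (orderOf y) q := Nat.dvd_gcd hqn dvd_rfl
      rw [hy] at this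
      exact hq.one_lt.ne' (Nat.dvd_one.mp this)
    · exact orderOf_pow_orderOf_div hy0 (Nat.ordProj_dvd _ _)
  rw [Subgroup.mem_centralizer_singleton_iff] at hmem
  exact hmem.symm

end Cfsg.Agent.Lib.Helper21
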