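import Mathlib

/-!
Helper lemmas on Sylow subgroups and p-groups (helper21).
-/

set_option autoImplicit false

namespace Cfsg.Agent.Lib.Helper21

open scoped Pointwise

theorem mem_conj_smul_iff' {G : Type*} [Group G] (H : Subgroup G) (g x : G) :
    x ∈ MulAut.conj g • H ↔ g⁻¹ * x * g ∈ H := by
  rw [Subgroup.mem_pointwise_smul_iff_inv_smul_mem]
  simp [MulAut.smul_def]

theorem mem_sylow_smul_iff' {G : Type*} [Group G] {p : ℕ} (P : Sylow p G) (g x : G) :
    x ∈ ((g • P : Sylow p G) : Subgroup G) ↔ g⁻¹ * x * g ∈ (P : Subgroup G) := by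
  rw [Sylow.coe_subgroup_smul]
  exact mem_conj_smul_iff' _ _ _

/-- The closure of a set of pairwise commuting elements of `p`-power order is a `p`-group. -/
theorem isPGroup_closure_of_commute {G : Type*} [Group G] {p : ℕ} (s : Set G)
    (hcomm : ∀ a ∈ s, ∀ b ∈ s, a * b = b * a) (hs : ∀ a ∈ s, ∃ k : ℕ, a ^ p ^ k = 1) :
    IsPGroup p (Subgroup.closure s) := by
  have hc : IsMulCommutative (Subgroup.closure s) := Subgroup.isMulCommutative_closure hcomm
  have key : ∀ g ∈ Subgroup.closure s, ∃ k : ℕ, g ^ p ^ k = 1 := by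
    intro g hg
    induction hg using Subgroup.closure_induction with
    | mem a ha => exact hs a ha
    | one => exact ⟨0, one_pow _⟩
    | mul a b ha hb iha ihb =>
      obtain ⟨i, hi⟩ := iha
      obtain ⟨j, hj⟩ := ihb
      have hab : Commute a b := by
        have := hc.is_comm.comm ⟨a, ha⟩ ⟨b, hb⟩
        exact congrArg Subtype.val this
      refine ⟨i + j, ?_⟩
      rw [hab.mul_pow, pow_add, pow_mul, hi, one_pow, mul_comm (p ^ i), pow_mul, hj, one_pow, mul_one]
    | inv a ha iha =>
      obtain ⟨i, hi⟩ := iha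
      exact ⟨i, by rw [inv_pow, hi, inv_one]⟩
  intro g
  obtain ⟨k, hk⟩ := key g.1 g.2
  exact ⟨k, Subtype.ext (by simpa using hk)⟩

/-- An element of `p`-power order lies in a normal Sylow `p`-subgroup. -/
theorem mem_sylow_of_normal_of_pow_eq_one' {G : Type*} [Group G] [Finite G] {p : ℕ} [Fact p.Prime]
    (P : Sylow p G) (hP : (P : Subgroup G).Normal) (g : G) (k : ℕ) (hg : g ^ p ^ k = 1) :
    g ∈ (P : Subgroup G) := by
  have hgp : IsPGroup p (Subgroup.zpowers g) := by
    apply IsPGroup.of_card_dvd_pow (n := k)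
    rw [Nat.card_zpowers]
    exact orderOf_dvd_of_pow_eq_one hg
  obtain ⟨Q, hQ⟩ := hgp.exists_le_sylow
  have := Sylow.unique_of_normal P hP
  rw [Subsingleton.elim P Q]
  exact hQ (Subgroup.mem_zpowers g)

/-- normalizers grow in finite `p`-groups (relative version). -/
theorem exists_mem_normalizer_not_mem' {G : Type*} [Group G] [Finite G] {p : ℕ} [Fact p.Prime] {P Q : Subgroup G}
    (hP : IsPGroup p P) (hQP : Q ≤ P) (hne : Q ≠ P) :
    ∃ x ∈ P, x ∈ Subgroup.normalizer (Q : Set G) ∧ x ∉ Q := by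
  have : Group.IsNilpotent P := hP.isNilpotent
  have hnc : NormalizerCondition P := Group.normalizerCondition_of_isNilpotent
  have hlt : Q.subgroupOf P < ⊤ := by
    rw [lt_top_iff_ne_top]
    intro h
    rw [Subgroup.subgroupOf_eq_top] at h
    exact hne (le_antisymm hQP h)
  have h1 := hnc _ hlt
  obtain ⟨x, hxN, hxQ⟩ := SetLike.exists_of_lt h1
  refine ⟨x, x.2, ?_, ?_⟩
  · rw [Subgroup.mem_normalizer_iff] at hxN ⊢
    intro h
    by_cases hh : h ∈ P
    · have := hxN ⟨h, hh⟩
      simpa [Subgroup.mem_subgroupOf] using this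
    · constructor
      · intro hq; exact absurd (hQP hq) hh
      · intro hq
        exfalso; apply hh
        have h2 : (x : G) * h * (x : G)⁻¹ ∈ P := hQP hq
        have : h = (x : G)⁻¹ * ((x : G) * h * (x : G)⁻¹) * (x : G) := by group
        rw [this]
        exact P.mul_mem (P.mul_mem (P.inv_mem x.2) h2) x.2
  · intro hx
    apply hxQ
    simpa [Subgroup.mem_subgroupOf] using hx

end Cfsg.Agent.Lib.Helper21
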