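import Mathlib

/-!
Helper lemmas on cyclic groups (helper21).
-/

set_option autoImplicit false

namespace Cfsg.Agent.Lib.Helper21

/-- In a finite cyclic group `zpowers g`, an element whose order divides the order of `y`
lies in `zpowers y`. -/
theorem mem_zpowers_of_orderOf_dvd {G : Type*} [Group G] [Finite G] (g x y : G)
    (hx : x ∈ Subgroup.zpowers g) (hy : y ∈ Subgroup.zpowers g) (hdvd : orderOf x ∣ orderOf y) :
    x ∈ Subgroup.zpowers y := by
  classical
  set C := Subgroup.zpowers g with hC
  have : Fintype C := Fintype.ofFinite C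
  set m := orderOf y with hm
  have hmpos : 0 < m := orderOf_pos y
  let y' : C := ⟨y, hy⟩
  let x' : C := ⟨x, hx⟩
  have hle := IsCyclic.card_pow_eq_one_le (α := C) hmpos
  have hYsub : ∀ c : C, c ∈ Subgroup.zpowers y' → c ∈ (Finset.univ.filter fun a : C => a ^ m = 1) := by
    intro c hc
    rw [Finset.mem_filter]
    refine ⟨Finset.mem_univ _, ?_⟩
    obtain ⟨k, rfl⟩ := Subgroup.mem_zpowers_iff.mp hc
    rw [← zpow_natCast, ← zpow_mul, mul_comm, zpow_mul, zpow_natCast]
    have : y' ^ m = 1 := by
      apply Subtype.ext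
      simp only [y', SubgroupClass.coe_pow, OneMemClass.coe_one]
      exact pow_orderOf_eq_one y
    rw [this, one_zpow]
  have hYcard : Nat.card (Subgroup.zpowers y') = m := by
    rw [Nat.card_zpowers, hm]
    exact Subgroup.orderOf_mk y hy
  have hx'T : x' ∈ (Finset.univ.filter fun a : C => a ^ m = 1) := by
    rw [Finset.mem_filter]
    refine ⟨Finset.mem_univ _, ?_⟩
    apply Subtype.ext
    simp only [x', SubgroupClass.coe_pow, OneMemClass.coe_one]
    exact orderOf_dvd_iff_pow_eq_one.mp hdvd
  -- the finset of elements of zpowers y'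
  have hYfin : (Finset.univ.filter fun a : C => a ∈ Subgroup.zpowers y') = (Finset.univ.filter fun a : C => a ^ m = 1) := by
    apply Finset.eq_of_subset_of_card_le
    · intro c hc
      rw [Finset.mem_filter] at hc
      exact hYsub c hc.2
    · refine hle.trans ?_
      rw [← hYcard, Nat.card_eq_fintype_card, Fintype.card_subtype]
  rw [← hYfin, Finset.mem_filter] at hx'T
  obtain ⟨k, hk⟩ := Subgroup.mem_zpowers_iff.mp hx'T.2
  rw [Subgroup.mem_zpowers_iff]
  refine ⟨k, ?_⟩
  have := congrArg Subtype.val hk
  simpa [y', x'] using this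

end Cfsg.Agent.Lib.Helper21
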