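import Mathlib
import Cfsg.Prelude.Def_OddOrderLocal
import Cfsg.Agent.Lib.Helper21.Cyclic
import Cfsg.Agent.Lib.Helper21.ClassSize
import Cfsg.Agent.Lib.Helper4.Basic

set_option autoImplicit false

namespace Cfsg.Agent.Lib.Helper21.Metacyclic

open Subgroup
open scoped commutatorElement

/-- order of `r ≡ 1 (mod p)` in `(ℤ/p^M)ˣ`, `p` odd -/
theorem orderOf_natCast_zmod {p : ℕ} [hp : Fact p.Prime] (hp2 : p ≠ 2) (M r : ℕ)
    (hr : r ≡ 1 [MOD p]) (hr1 : 1 ≤ r) :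
    orderOf ((r : ℕ) : ZMod (p ^ M)) = p ^ M / Nat.gcd (p ^ M) (r - 1) := by
  have hpp := hp.out
  by_cases h1 : r = 1
  · subst h1
    simp [Nat.div_self (pow_pos hpp.pos M)]
  have hr0 : r - 1 ≠ 0 := by omega
  obtain ⟨e, u, hu, hru⟩ := Nat.exists_eq_pow_mul_and_not_dvd hr0 p hpp.ne_one
  have he : e ≠ 0 := by
    rintro rfl
    apply hu
    have h2 : p ∣ r - 1 := (Nat.modEq_iff_dvd' hr1).mp hr.symm
    rw [hru, pow_zero, one_mul] at h2
    exact h2
  have hrr : r = 1 + p ^ e * u := by omega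
  by_cases heM : M ≤ e
  · -- r = 1 in ZMod
    have h2 : p ^ M ∣ r - 1 := by
      rw [hru]; exact Dvd.dvd.mul_right (pow_dvd_pow p heM) u
    have h3 : ((r : ℕ) : ZMod (p ^ M)) = 1 := by
      have : ((r - 1 : ℕ) : ZMod (p ^ M)) = 0 := (ZMod.natCast_eq_zero_iff _ _).mpr h2
      have h4 : (r : ZMod (p ^ M)) = ((r - 1 : ℕ) : ZMod (p ^ M)) + 1 := by
        rw [← Nat.cast_one (R := ZMod (p ^ M)), ← Nat.cast_add, Nat.sub_add_cancel hr1]
      rw [h4, this, zero_add]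
    rw [h3, orderOf_one, Nat.gcd_eq_left h2, Nat.div_self (pow_pos hpp.pos M)]
  · push Not at heM
    obtain ⟨n, rfl⟩ : ∃ n, M = n + e := ⟨M - e, by omega⟩
    have hpm : e + 2 ≤ p * e := by
      have h3 : 3 ≤ p := by
        have := hpp.two_le
        omega
      have h4 : 1 ≤ e := Nat.one_le_iff_ne_zero.mpr he
      calc e + 2 ≤ 3 * e := by omega
        _ ≤ p * e := Nat.mul_le_mul_right e h3
    have hu' : ¬ (p : ℤ) ∣ (u : ℤ) := by
      rwa [Int.natCast_dvd_natCast]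
    have h2 := ZMod.orderOf_one_add_mul_prime_pow hpp e he hpm (u : ℤ) hu' n
    have h3 : ((r : ℕ) : ZMod (p ^ (n + e))) = 1 + (p : ZMod (p ^ (n + e))) ^ e * ((u : ℤ) : ZMod (p ^ (n + e))) := by
      rw [hrr]; push_cast; ring
    rw [h3, h2]
    have h4 : Nat.gcd (p ^ (n + e)) (r - 1) = p ^ e := by
      rw [hru, pow_add, mul_comm (p ^ n), Nat.gcd_mul_left]
      have : Nat.gcd (p ^ n) u = 1 := Nat.Coprime.pow_left n ((Nat.Prime.coprime_iff_not_dvd hpp).mpr hu)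
      rw [this, mul_one]
    rw [h4, pow_add, Nat.mul_div_cancel _ (pow_pos hpp.pos e)]


/-- a metacyclic presentation of a finite `p`-group -/
structure Pres (p : ℕ) (G : Type*) [Group G] where
  a : G
  b : G
  r : ℕ
  M : ℕ
  ha : orderOf a = p ^ M
  hr : r ≡ 1 [MOD p]
  hr1 : 1 ≤ r
  conj : b * a * b⁻¹ = a ^ r
  gen : ∀ g : G, ∃ i j : ℕ, g = a ^ i * b ^ j

theorem exists_pres {G : Type*} [Group G] [Finite G] {p : ℕ} [hp : Fact p.Prime]
    (hG : IsPGroup p G) (hmc : Cfsg.IsMetacyclic G) : Nonempty (Pres p G) := by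
  obtain ⟨N, hN, hNc, hQc⟩ := hmc
  obtain ⟨a', ha'⟩ := hNc.exists_generator
  obtain ⟨q, hq⟩ := IsCyclic.exists_monoid_generator (α := G ⧸ N)
  obtain ⟨b, rfl⟩ := QuotientGroup.mk_surjective q
  set a : G := (a' : G) with hadef
  have hNa : ∀ x ∈ N, ∃ k : ℕ, x = a ^ k := by
    intro x hx
    have h1 := ha' ⟨x, hx⟩
    rw [← mem_powers_iff_mem_zpowers] at h1
    obtain ⟨k, hk⟩ := h1
    refine ⟨k, ?_⟩
    have := congrArg Subtype.val hk
    simpa using this.symm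
  have haN : a ∈ N := a'.2
  obtain ⟨M, hM⟩ := (IsPGroup.iff_orderOf.mp hG) a
  have hpp := hp.out
  -- conjugation by powers of b
  have hgen : ∀ g : G, ∃ i j : ℕ, g = a ^ i * b ^ j := by
    intro g
    obtain ⟨j, hj⟩ := hq (QuotientGroup.mk g)
    have h1 : g * (b ^ j)⁻¹ ∈ N := by
      rw [← QuotientGroup.eq_one_iff, QuotientGroup.mk_mul, QuotientGroup.mk_inv,
        QuotientGroup.mk_pow]
      simp only at hj
      rw [hj, mul_inv_cancel]
    obtain ⟨i, hi⟩ := hNa _ h1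
    exact ⟨i, j, by rw [← hi, inv_mul_cancel_right]⟩
  have hbab : b * a * b⁻¹ ∈ N := hN.conj_mem a haN b
  obtain ⟨r₀, hr₀⟩ := hNa _ hbab
  by_cases hM0 : M = 0
  · have ha1 : a = 1 := by
      rw [← orderOf_eq_one_iff, hM, hM0, pow_zero]
    exact ⟨⟨a, b, 1, M, hM, Nat.ModEq.refl 1, le_refl 1, by rw [ha1]; simp, hgen⟩⟩
  · have hpow : ∀ l : ℕ, b ^ l * a * (b ^ l)⁻¹ = a ^ (r₀ ^ l) := by
      intro l
      induction l with
      | zero => simp
      | succ l ih =>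
        have : b ^ (l + 1) * a * (b ^ (l + 1))⁻¹ = b * (b ^ l * a * (b ^ l)⁻¹) * b⁻¹ := by
          rw [pow_succ']; group
        rw [this, ih, pow_succ, pow_mul]
        have h2 : b * (a ^ r₀ ^ l) * b⁻¹ = (b * a * b⁻¹) ^ (r₀ ^ l) := by
          rw [conj_pow]
        rw [h2, hr₀, ← pow_mul, ← pow_mul, mul_comm]
    obtain ⟨k, hk⟩ := hG b
    have h3 := hpow (p ^ k)
    rw [hk, one_mul, inv_one, mul_one] at h3
    have h4 : r₀ ^ (p ^ k) ≡ 1 [MOD p ^ M] := by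
      have : a ^ (r₀ ^ p ^ k) = a ^ 1 := by rw [← h3, pow_one]
      rw [pow_eq_pow_iff_modEq, hM] at this
      exact this
    have h5 : r₀ ^ (p ^ k) ≡ 1 [MOD p] :=
      Nat.ModEq.of_dvd (dvd_pow_self p hM0) h4
    have h6 : r₀ ≡ 1 [MOD p] := by
      rw [← ZMod.natCast_eq_natCast_iff] at h5 ⊢
      push_cast at h5 ⊢
      rw [ZMod.pow_card_pow] at h5
      exact h5
    have h7 : 1 ≤ r₀ := by
      rcases Nat.eq_zero_or_pos r₀ with h | h
      · exfalso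
        rw [h] at h6
        have := (Nat.modEq_zero_iff_dvd.mp h6.symm)
        exact hpp.one_lt.ne' (Nat.dvd_one.mp this)
      · exact h
    exact ⟨⟨a, b, r₀, M, hM, h6, h7, hr₀, hgen⟩⟩


namespace Pres

variable {G : Type*} [Group G] {p : ℕ} (P : Pres p G)

theorem conj_pow (l k : ℕ) : P.b ^ l * P.a ^ k * (P.b ^ l)⁻¹ = P.a ^ (k * P.r ^ l) := by
  induction l generalizing k with
  | zero => simp
  | succ l ih =>
    have : P.b ^ (l + 1) * P.a ^ k * (P.b ^ (l + 1))⁻¹ =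
        P.b * (P.b ^ l * P.a ^ k * (P.b ^ l)⁻¹) * P.b⁻¹ := by
      rw [pow_succ']; group
    rw [this, ih, ← _root_.conj_pow, P.conj, ← pow_mul, pow_succ]
    congr 1; ring

theorem mul_formula (i j k l : ℕ) :
    (P.a ^ i * P.b ^ j) * (P.a ^ k * P.b ^ l) = P.a ^ (i + k * P.r ^ j) * P.b ^ (j + l) := by
  have h := P.conj_pow j k
  have h2 : P.b ^ j * P.a ^ k = P.a ^ (k * P.r ^ j) * P.b ^ j := by
    rw [← h]; group
  calc (P.a ^ i * P.b ^ j) * (P.a ^ k * P.b ^ l)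
      = P.a ^ i * (P.b ^ j * P.a ^ k) * P.b ^ l := by group
    _ = P.a ^ i * (P.a ^ (k * P.r ^ j) * P.b ^ j) * P.b ^ l := by rw [h2]
    _ = P.a ^ (i + k * P.r ^ j) * P.b ^ (j + l) := by rw [pow_add, pow_add]; group

theorem one_le_r_pow (l : ℕ) : 1 ≤ P.r ^ l := Nat.one_le_pow _ _ P.hr1

theorem comm_formula (i j k l : ℕ) :
    ⁅P.a ^ k * P.b ^ l, P.a ^ i * P.b ^ j⁆ =
      P.a ^ (i * (P.r ^ l - 1)) * (P.a ^ (k * (P.r ^ j - 1)))⁻¹ := by
  have h1 : ⁅P.a ^ k * P.b ^ l, P.a ^ i * P.b ^ j⁆ =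
      ((P.a ^ k * P.b ^ l) * (P.a ^ i * P.b ^ j)) * ((P.a ^ i * P.b ^ j) * (P.a ^ k * P.b ^ l))⁻¹ := by
    rw [commutatorElement_def]; group
  rw [h1, P.mul_formula, P.mul_formula, add_comm j l]
  have e1 : k + i * P.r ^ l = i * (P.r ^ l - 1) + (i + k) := by
    have := P.one_le_r_pow l
    obtain ⟨t, ht⟩ : ∃ t, P.r ^ l = t + 1 := ⟨P.r ^ l - 1, by omega⟩
    rw [ht]; simp; ring
  have e2 : i + k * P.r ^ j = k * (P.r ^ j - 1) + (i + k) := by
    have := P.one_le_r_pow j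
    obtain ⟨t, ht⟩ : ∃ t, P.r ^ j = t + 1 := ⟨P.r ^ j - 1, by omega⟩
    rw [ht]; simp; ring
  rw [e1, e2, pow_add, pow_add (P.a) (k * (P.r ^ j - 1))]
  group


/-- generator of the derived subgroup -/
def c : G := P.a ^ (P.r - 1)

theorem r_pow_modEq (l : ℕ) : P.r ^ l ≡ 1 [MOD p] := by
  have := P.hr.pow l
  rwa [one_pow] at this

variable [Finite G] [hp : Fact p.Prime]

theorem orderOf_a_pow (hp2 : p ≠ 2) (l : ℕ) :
    orderOf (P.a ^ (P.r ^ l - 1)) = orderOf (((P.r : ℕ) : ZMod (p ^ P.M)) ^ l) := by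
  have h1 := orderOf_natCast_zmod hp2 P.M (P.r ^ l) (P.r_pow_modEq l) (P.one_le_r_pow l)
  rw [orderOf_pow, P.ha]
  push_cast at h1
  rw [h1]

theorem orderOf_c (hp2 : p ≠ 2) : orderOf P.c = orderOf ((P.r : ℕ) : ZMod (p ^ P.M)) := by
  have := P.orderOf_a_pow hp2 1
  rwa [pow_one, pow_one] at this

omit [Finite G] hp in
theorem c_mem : P.c ∈ zpowers P.a := Subgroup.pow_mem _ (mem_zpowers _) _

theorem a_pow_mem_zpowers_c (l : ℕ) : P.a ^ (P.r ^ l - 1) ∈ zpowers P.c := by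
  have h : P.r - 1 ∣ P.r ^ l - 1 := by
    have := Nat.sub_dvd_pow_sub_pow P.r 1 l
    rwa [one_pow] at this
  obtain ⟨t, ht⟩ := h
  rw [ht, pow_mul]
  exact Subgroup.pow_mem _ (mem_zpowers _) _

omit [Finite G] in
theorem orderOf_c_eq_pow : ∃ n : ℕ, orderOf P.c = p ^ n ∧ n ≤ P.M := by
  have h : orderOf P.c ∣ p ^ P.M := by
    rw [← P.ha]; exact orderOf_pow_dvd _
  obtain ⟨n, hn, h2⟩ := (Nat.dvd_prime_pow hp.out).mp h
  exact ⟨n, h2, hn⟩

/-- every element of `⟨c⟩` is a commutator `[b^l, a]`. -/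
theorem exists_eq_a_pow (hp2 : p ≠ 2) (x : G) (hx : x ∈ zpowers P.c) :
    ∃ l : ℕ, x = P.a ^ (P.r ^ l - 1) := by
  classical
  set N := orderOf P.c with hN
  have hNpos : 0 < N := orderOf_pos _
  set rb : ZMod (p ^ P.M) := ((P.r : ℕ) : ZMod (p ^ P.M)) with hrb
  have hrbN : orderOf rb = N := (P.orderOf_c hp2).symm
  let f : Fin N → zpowers P.c := fun l => ⟨P.a ^ (P.r ^ (l : ℕ) - 1), P.a_pow_mem_zpowers_c l⟩
  have hinj : Function.Injective f := by
    intro l l' h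
    have h1 : P.a ^ (P.r ^ (l : ℕ) - 1) = P.a ^ (P.r ^ (l' : ℕ) - 1) := congrArg Subtype.val h
    rw [pow_eq_pow_iff_modEq, P.ha] at h1
    have h2 : rb ^ (l : ℕ) = rb ^ (l' : ℕ) := by
      have h3 : ((P.r ^ (l : ℕ) - 1 : ℕ) : ZMod (p ^ P.M)) = ((P.r ^ (l' : ℕ) - 1 : ℕ) : ZMod (p ^ P.M)) :=
        (ZMod.natCast_eq_natCast_iff _ _ _).mpr h1
      rw [Nat.cast_sub (P.one_le_r_pow _), Nat.cast_sub (P.one_le_r_pow _)] at h3
      push_cast at h3
      exact sub_left_injective h3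
    -- wlog l ≤ l'
    have key : ∀ u v : ℕ, u ≤ v → v < N → rb ^ u = rb ^ v → u = v := by
      intro u v huv hvN huv'
      have h4 : rb ^ (u + (N - v)) = 1 := by
        rw [pow_add, huv', ← pow_add, Nat.add_sub_cancel' hvN.le, ← hrbN, pow_orderOf_eq_one]
      have h5 : N ∣ u + (N - v) := by
        have := orderOf_dvd_of_pow_eq_one h4
        rwa [hrbN] at this
      have h6 : u + (N - v) ≤ N := by omega
      have h7 : 0 < u + (N - v) := by omega
      have h8 := Nat.le_of_dvd h7 h5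
      omega
    apply Fin.ext
    rcases le_total (l : ℕ) (l' : ℕ) with hle | hle
    · exact key _ _ hle l'.2 h2
    · exact (key _ _ hle l.2 h2.symm).symm
  have hcard : Nat.card (zpowers P.c) ≤ Nat.card (Fin N) := by
    rw [Nat.card_zpowers, Nat.card_eq_fintype_card, Fintype.card_fin]
  have hbij := Function.Injective.bijective_of_nat_card_le hinj hcard
  obtain ⟨l, hl⟩ := hbij.2 ⟨x, hx⟩
  exact ⟨l, (congrArg Subtype.val hl).symm⟩


theorem orderOf_dvd_of_mem {x : G} (hx : x ∈ zpowers P.a) : ∃ n : ℕ, orderOf x = p ^ n := by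
  rw [← mem_powers_iff_mem_zpowers] at hx
  obtain ⟨k, rfl⟩ := hx
  have h : orderOf (P.a ^ k) ∣ p ^ P.M := by
    rw [← P.ha]; exact orderOf_pow_dvd _
  obtain ⟨n, -, h2⟩ := (Nat.dvd_prime_pow hp.out).mp h
  exact ⟨n, h2⟩

theorem zpowers_le_or_le {x y : G} (hx : x ∈ zpowers P.a) (hy : y ∈ zpowers P.a) :
    zpowers x ≤ zpowers y ∨ zpowers y ≤ zpowers x := by
  obtain ⟨m, hm⟩ := P.orderOf_dvd_of_mem hx
  obtain ⟨n, hn⟩ := P.orderOf_dvd_of_mem hy
  rcases le_total m n with h | h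
  · left
    rw [zpowers_le]
    apply Cfsg.Agent.Lib.Helper21.mem_zpowers_of_orderOf_dvd P.a x y hx hy
    rw [hm, hn]; exact pow_dvd_pow p h
  · right
    rw [zpowers_le]
    apply Cfsg.Agent.Lib.Helper21.mem_zpowers_of_orderOf_dvd P.a y x hy hx
    rw [hm, hn]; exact pow_dvd_pow p h

theorem comm_set_eq (hp2 : p ≠ 2) (i j : ℕ) :
    {x : G | ∃ w : G, x = ⁅w, P.a ^ i * P.b ^ j⁆} =
      ((zpowers (P.c ^ i) ⊔ zpowers (P.a ^ (P.r ^ j - 1)) : Subgroup G) : Set G) := by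
  ext x
  constructor
  · rintro ⟨w, rfl⟩
    obtain ⟨k, l, rfl⟩ := P.gen w
    rw [P.comm_formula]
    apply Subgroup.mul_mem
    · apply Subgroup.mem_sup_left
      have h0 := P.a_pow_mem_zpowers_c l
      rw [← mem_powers_iff_mem_zpowers] at h0
      obtain ⟨t, ht⟩ := h0
      simp only at ht
      rw [mul_comm, pow_mul, ← ht, ← pow_mul, mul_comm, pow_mul]
      exact Subgroup.pow_mem _ (mem_zpowers _) _
    · apply Subgroup.mem_sup_right
      apply Subgroup.inv_mem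
      rw [mul_comm, pow_mul]
      exact Subgroup.pow_mem _ (mem_zpowers _) _
  · intro hx
    have h1 : P.c ^ i ∈ zpowers P.a := Subgroup.pow_mem _ P.c_mem _
    have h2 : P.a ^ (P.r ^ j - 1) ∈ zpowers P.a := Subgroup.pow_mem _ (mem_zpowers _) _
    have hx' : x ∈ zpowers (P.c ^ i) ∨ x ∈ zpowers (P.a ^ (P.r ^ j - 1)) := by
      rcases P.zpowers_le_or_le h1 h2 with h | h
      · right
        rw [sup_eq_right.mpr h] at hx
        exact hx
      · left
        rw [sup_eq_left.mpr h] at hx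
        exact hx
    rcases hx' with hx' | hx'
    · rw [← mem_powers_iff_mem_zpowers] at hx'
      obtain ⟨t, rfl⟩ := hx'
      obtain ⟨l, hl⟩ := P.exists_eq_a_pow hp2 (P.c ^ t) (Subgroup.pow_mem _ (mem_zpowers _) _)
      refine ⟨P.a ^ 0 * P.b ^ l, ?_⟩
      rw [P.comm_formula]
      simp only [zero_mul, pow_zero, inv_one, mul_one]
      rw [mul_comm i, pow_mul, ← hl, ← pow_mul, ← pow_mul, mul_comm]
    · have hx'' : x⁻¹ ∈ zpowers (P.a ^ (P.r ^ j - 1)) := Subgroup.inv_mem _ hx'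
      rw [← mem_powers_iff_mem_zpowers] at hx''
      obtain ⟨k, hk⟩ := hx''
      refine ⟨P.a ^ k * P.b ^ 0, ?_⟩
      rw [P.comm_formula]
      simp only [pow_zero, Nat.sub_self, mul_zero, one_mul]
      rw [mul_comm k, pow_mul]
      simp only at hk
      rw [hk, inv_inv]

theorem index_centralizer (hp2 : p ≠ 2) (i j : ℕ) :
    (centralizer ({P.a ^ i * P.b ^ j} : Set G)).index =
      max (orderOf (P.c ^ i)) (orderOf (P.a ^ (P.r ^ j - 1))) := by
  set g := P.a ^ i * P.b ^ j with hg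
  rw [Cfsg.Agent.Lib.Helper21.index_centralizer_eq_ncard_setOf_isConj]
  have h1 : {x : G | ∃ w : G, x = ⁅w, g⁆} = (fun h => h * g⁻¹) '' {h : G | IsConj g h} := by
    ext x
    constructor
    · rintro ⟨w, rfl⟩
      refine ⟨w * g * w⁻¹, isConj_iff.mpr ⟨w, rfl⟩, ?_⟩
      simp only [commutatorElement_def]
    · rintro ⟨h, hh, rfl⟩
      obtain ⟨w, hw⟩ := isConj_iff.mp hh
      exact ⟨w, by rw [commutatorElement_def, hw]⟩
  have h2 : ({h : G | IsConj g h}).ncard = ({x : G | ∃ w : G, x = ⁅w, g⁆}).ncard := by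
    rw [h1, Set.ncard_image_of_injective _ (mul_left_injective g⁻¹)]
  rw [h2, P.comm_set_eq hp2 i j]
  have h3 : P.c ^ i ∈ zpowers P.a := Subgroup.pow_mem _ P.c_mem _
  have h4 : P.a ^ (P.r ^ j - 1) ∈ zpowers P.a := Subgroup.pow_mem _ (mem_zpowers _) _
  have hcard : ∀ H : Subgroup G, (H : Set G).ncard = Nat.card H := fun H =>
    (Nat.card_coe_set_eq (H : Set G)).symm
  rw [hcard]
  rcases P.zpowers_le_or_le h3 h4 with h | h
  · rw [sup_eq_right.mpr h, Nat.card_zpowers]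
    have := Subgroup.card_le_of_le h
    rw [Nat.card_zpowers, Nat.card_zpowers] at this
    exact (max_eq_right this).symm
  · rw [sup_eq_left.mpr h, Nat.card_zpowers]
    have := Subgroup.card_le_of_le h
    rw [Nat.card_zpowers, Nat.card_zpowers] at this
    exact (max_eq_left this).symm


omit [Finite G] in
theorem div_gcd_le_iff (n s i : ℕ) (hs : s ≤ n) :
    p ^ n / Nat.gcd (p ^ n) i ≤ p ^ (n - s) ↔ p ^ s ∣ i := by
  have hpp := hp.out
  obtain ⟨α, hα, hg⟩ := (Nat.dvd_prime_pow hpp).mp (Nat.gcd_dvd_left (p ^ n) i)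
  rw [hg, Nat.pow_div hα hpp.pos, Nat.pow_le_pow_iff_right hpp.one_lt]
  have h1 : p ^ s ∣ i ↔ p ^ s ∣ Nat.gcd (p ^ n) i := by
    rw [Nat.dvd_gcd_iff]
    exact ⟨fun h => ⟨pow_dvd_pow p hs, h⟩, fun h => h.2⟩
  rw [h1, hg, Nat.pow_dvd_pow_iff_le_right hpp.one_lt]
  omega

theorem orderOf_c_pow (i : ℕ) :
    orderOf (P.c ^ i) = orderOf P.c / Nat.gcd (orderOf P.c) i := orderOf_pow P.c

theorem orderOf_a_pow' (hp2 : p ≠ 2) (j : ℕ) :
    orderOf (P.a ^ (P.r ^ j - 1)) = orderOf P.c / Nat.gcd (orderOf P.c) j := by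
  rw [P.orderOf_a_pow hp2 j, P.orderOf_c hp2]
  have hfin : IsOfFinOrder ((P.r : ℕ) : ZMod (p ^ P.M)) := by
    rw [← orderOf_pos_iff, ← P.orderOf_c hp2]
    exact orderOf_pos _
  exact IsOfFinOrder.orderOf_pow _ j hfin

theorem index_le_iff (hp2 : p ≠ 2) {n : ℕ} (hn : orderOf P.c = p ^ n) (s : ℕ) (hs : s ≤ n)
    (i j : ℕ) :
    (centralizer ({P.a ^ i * P.b ^ j} : Set G)).index ≤ p ^ (n - s) ↔ p ^ s ∣ i ∧ p ^ s ∣ j := by
  rw [P.index_centralizer hp2, max_le_iff, P.orderOf_c_pow, P.orderOf_a_pow' hp2, hn,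
    div_gcd_le_iff n s i hs, div_gcd_le_iff n s j hs]

/-- the derived subgroup is generated by `c` -/
theorem commutator_eq (hp2 : p ≠ 2) : commutator G = zpowers P.c := by
  apply le_antisymm
  · rw [commutator_def, Subgroup.commutator_le]
    intro w _ g _
    obtain ⟨i, j, rfl⟩ := P.gen g
    have h1 : ⁅w, P.a ^ i * P.b ^ j⁆ ∈
        ((zpowers (P.c ^ i) ⊔ zpowers (P.a ^ (P.r ^ j - 1)) : Subgroup G) : Set G) := by
      rw [← P.comm_set_eq hp2]; exact ⟨w, rfl⟩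
    have h2 : zpowers (P.c ^ i) ⊔ zpowers (P.a ^ (P.r ^ j - 1)) ≤ zpowers P.c := by
      apply sup_le
      · rw [zpowers_le]; exact Subgroup.pow_mem _ (mem_zpowers _) _
      · rw [zpowers_le]; exact P.a_pow_mem_zpowers_c j
    exact h2 h1
  · rw [zpowers_le]
    have h1 : P.c = ⁅P.b, P.a⁆ := by
      rw [commutatorElement_def, P.conj]
      have : P.r = (P.r - 1) + 1 := (Nat.sub_add_cancel P.hr1).symm
      conv_rhs => rw [this, pow_succ]
      rw [mul_inv_cancel_right]; rfl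
    rw [h1]
    exact Subgroup.commutator_mem_commutator (mem_top _) (mem_top _)

theorem card_commutator (hp2 : p ≠ 2) : Nat.card (commutator G) = orderOf P.c := by
  rw [P.commutator_eq hp2, Nat.card_zpowers]

theorem mem_center_iff (hp2 : p ≠ 2) {n : ℕ} (hn : orderOf P.c = p ^ n) (i j : ℕ) :
    P.a ^ i * P.b ^ j ∈ center G ↔ p ^ n ∣ i ∧ p ^ n ∣ j := by
  rw [← P.index_le_iff hp2 hn n le_rfl i j, Nat.sub_self, pow_zero]
  constructor
  · intro h
    have : centralizer ({P.a ^ i * P.b ^ j} : Set G) = ⊤ := by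
      rw [eq_top_iff]
      intro x _
      rw [mem_centralizer_singleton_iff]
      exact Subgroup.mem_center_iff.mp h x
    rw [this, index_top]
  · intro h
    have h1 : (centralizer ({P.a ^ i * P.b ^ j} : Set G)).index = 1 :=
      le_antisymm h (Nat.one_le_iff_ne_zero.mpr (Subgroup.index_ne_zero_of_finite))
    rw [index_eq_one] at h1
    rw [Subgroup.mem_center_iff]
    intro x
    have : x ∈ centralizer ({P.a ^ i * P.b ^ j} : Set G) := by rw [h1]; exact mem_top x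
    rw [mem_centralizer_singleton_iff] at this
    exact this


theorem normal_zpowers_a_pow (m : ℕ) : (zpowers (P.a ^ m)).Normal := by
  constructor
  intro x hx g
  rw [← mem_powers_iff_mem_zpowers] at hx
  obtain ⟨t, rfl⟩ := hx
  obtain ⟨k, l, rfl⟩ := P.gen g
  have h1 : P.a ^ k * P.b ^ l * (P.a ^ m) ^ t * (P.a ^ k * P.b ^ l)⁻¹ =
      P.a ^ k * (P.b ^ l * P.a ^ (m * t) * (P.b ^ l)⁻¹) * (P.a ^ k)⁻¹ := by
    rw [pow_mul]; group
  rw [h1, P.conj_pow]
  have h2 : P.a ^ k * P.a ^ (m * t * P.r ^ l) * (P.a ^ k)⁻¹ = (P.a ^ m) ^ (t * P.r ^ l) := by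
    rw [← pow_add, add_comm, pow_add, mul_inv_cancel_right, ← pow_mul, mul_assoc]
  rw [h2]
  exact Subgroup.pow_mem _ (mem_zpowers _) _

/-- `℧_s(G)`, as the product of `⟨a^(p^s)⟩` and `⟨b^(p^s)⟩`. -/
def Gs (s : ℕ) : Subgroup G := zpowers (P.a ^ p ^ s) ⊔ zpowers (P.b ^ p ^ s)

theorem mem_Gs_iff (s : ℕ) (g : G) :
    g ∈ P.Gs s ↔ ∃ i j : ℕ, p ^ s ∣ i ∧ p ^ s ∣ j ∧ g = P.a ^ i * P.b ^ j := by
  have hN := P.normal_zpowers_a_pow (p ^ s)
  have hle : zpowers (P.b ^ p ^ s) ≤ normalizer ((zpowers (P.a ^ p ^ s) : Subgroup G) : Set G) := by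
    rw [normalizer_eq_top]; exact le_top
  constructor
  · intro hg
    have : g ∈ ((zpowers (P.a ^ p ^ s) ⊔ zpowers (P.b ^ p ^ s) : Subgroup G) : Set G) := hg
    rw [Subgroup.coe_mul_of_right_le_normalizer_left _ _ hle, Set.mem_mul] at this
    obtain ⟨x, hx, y, hy, rfl⟩ := this
    rw [SetLike.mem_coe, ← mem_powers_iff_mem_zpowers] at hx hy
    obtain ⟨i, rfl⟩ := hx
    obtain ⟨j, rfl⟩ := hy
    refine ⟨p ^ s * i, p ^ s * j, dvd_mul_right _ _, dvd_mul_right _ _, ?_⟩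
    rw [pow_mul, pow_mul]
  · rintro ⟨i, j, ⟨i', rfl⟩, ⟨j', rfl⟩, rfl⟩
    apply Subgroup.mul_mem
    · apply Subgroup.mem_sup_left
      rw [pow_mul]; exact Subgroup.pow_mem _ (mem_zpowers _) _
    · apply Subgroup.mem_sup_right
      rw [pow_mul]; exact Subgroup.pow_mem _ (mem_zpowers _) _

theorem mem_Gs_iff_index (hp2 : p ≠ 2) {n : ℕ} (hn : orderOf P.c = p ^ n) (s : ℕ) (hs : s ≤ n)
    (g : G) : g ∈ P.Gs s ↔ (centralizer ({g} : Set G)).index ≤ p ^ (n - s) := by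
  rw [P.mem_Gs_iff]
  constructor
  · rintro ⟨i, j, hi, hj, rfl⟩
    exact (P.index_le_iff hp2 hn s hs i j).mpr ⟨hi, hj⟩
  · intro h
    obtain ⟨i, j, rfl⟩ := P.gen g
    obtain ⟨hi, hj⟩ := (P.index_le_iff hp2 hn s hs i j).mp h
    exact ⟨i, j, hi, hj, rfl⟩

theorem Gs_eq_center (hp2 : p ≠ 2) {n : ℕ} (hn : orderOf P.c = p ^ n) : P.Gs n = center G := by
  ext g
  rw [P.mem_Gs_iff]
  constructor
  · rintro ⟨i, j, hi, hj, rfl⟩
    exact (P.mem_center_iff hp2 hn i j).mpr ⟨hi, hj⟩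
  · intro h
    obtain ⟨i, j, rfl⟩ := P.gen g
    obtain ⟨hi, hj⟩ := (P.mem_center_iff hp2 hn i j).mp h
    exact ⟨i, j, hi, hj, rfl⟩

/-- the order of `b` -/
theorem exists_orderOf_b (hp2 : p ≠ 2) {n : ℕ} (hn : orderOf P.c = p ^ n) (hG : IsPGroup p G) :
    ∃ K : ℕ, orderOf P.b = p ^ K ∧ n ≤ K := by
  obtain ⟨K, hK⟩ := (IsPGroup.iff_orderOf.mp hG) P.b
  refine ⟨K, hK, ?_⟩
  have h1 : P.a ^ 0 * P.b ^ (p ^ K) ∈ center G := by
    rw [← hK, pow_orderOf_eq_one, pow_zero, one_mul]; exact Subgroup.one_mem _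
  have h2 := ((P.mem_center_iff hp2 hn 0 (p ^ K)).mp h1).2
  exact (Nat.pow_dvd_pow_iff_le_right hp.out.one_lt).mp h2

theorem inf_eq (hp2 : p ≠ 2) {n : ℕ} (hn : orderOf P.c = p ^ n) (s : ℕ) (hs : s ≤ n) :
    zpowers (P.a ^ p ^ s) ⊓ zpowers (P.b ^ p ^ s) = zpowers P.a ⊓ zpowers P.b := by
  apply le_antisymm
  · apply inf_le_inf
    · rw [zpowers_le]; exact Subgroup.pow_mem _ (mem_zpowers _) _
    · rw [zpowers_le]; exact Subgroup.pow_mem _ (mem_zpowers _) _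
  · rintro x ⟨hxa, hxb⟩
    have hxa' : x ∈ zpowers P.a := hxa
    have hxb' : x ∈ zpowers P.b := hxb
    rw [← mem_powers_iff_mem_zpowers] at hxa' hxb'
    obtain ⟨i, rfl⟩ := hxa'
    obtain ⟨j, hj⟩ := hxb'
    simp only at hj
    -- x is central
    have hcen : P.a ^ i ∈ center G := by
      rw [Subgroup.mem_center_iff]
      intro g
      obtain ⟨k, l, rfl⟩ := P.gen g
      have e1 : Commute (P.a ^ i) (P.a ^ k) := (Commute.refl P.a).pow_pow i k
      have e2 : Commute (P.a ^ i) (P.b ^ l) := by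
        rw [← hj]; exact (Commute.refl P.b).pow_pow j l
      exact ((e1.mul_right e2).eq).symm
    have h1 : P.a ^ i * P.b ^ 0 ∈ center G := by rwa [pow_zero, mul_one]
    have h2 : P.a ^ 0 * P.b ^ j ∈ center G := by rwa [pow_zero, one_mul, hj]
    have h3 := ((P.mem_center_iff hp2 hn i 0).mp h1).1
    have h4 := ((P.mem_center_iff hp2 hn 0 j).mp h2).2
    have h5 : p ^ s ∣ i := (pow_dvd_pow p hs).trans h3
    have h6 : p ^ s ∣ j := (pow_dvd_pow p hs).trans h4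
    refine Subgroup.mem_inf.mpr ⟨?_, ?_⟩
    · obtain ⟨i', rfl⟩ := h5
      show P.a ^ (p ^ s * i') ∈ zpowers (P.a ^ p ^ s)
      rw [pow_mul]; exact Subgroup.pow_mem _ (mem_zpowers _) _
    · obtain ⟨j', rfl⟩ := h6
      show P.a ^ i ∈ zpowers (P.b ^ p ^ s)
      rw [← hj, pow_mul]; exact Subgroup.pow_mem _ (mem_zpowers _) _

theorem card_Gs (hp2 : p ≠ 2) {n : ℕ} (hn : orderOf P.c = p ^ n) (hG : IsPGroup p G) (s : ℕ)
    (hs : s ≤ n) : Nat.card (P.Gs s) * p ^ (2 * s) = Nat.card G := by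
  have hpp := hp.out
  obtain ⟨K, hK, hnK⟩ := P.exists_orderOf_b hp2 hn hG
  obtain ⟨n', hn', hnM⟩ := P.orderOf_c_eq_pow
  have hnn : n' = n := Nat.pow_right_injective hpp.two_le (hn'.symm.trans hn)
  subst hnn
  have hcard : ∀ t : ℕ, t ≤ n' → Nat.card (P.Gs t) * Nat.card (zpowers P.a ⊓ zpowers P.b : Subgroup G)
      = p ^ (P.M - t) * p ^ (K - t) := by
    intro t ht
    have hN := P.normal_zpowers_a_pow (p ^ t)
    have hle : zpowers (P.b ^ p ^ t) ≤ normalizer ((zpowers (P.a ^ p ^ t) : Subgroup G) : Set G) := by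
      rw [normalizer_eq_top]; exact le_top
    have h1 := Cfsg.Agent.Lib.Helper4.card_sup_mul_card_inf _ _ hle
    rw [sup_comm, inf_comm, P.inf_eq hp2 hn t ht, Nat.card_zpowers, Nat.card_zpowers,
      orderOf_pow, orderOf_pow, P.ha, hK,
      Nat.gcd_eq_right (pow_dvd_pow p (ht.trans hnM)),
      Nat.gcd_eq_right (pow_dvd_pow p (ht.trans hnK)),
      Nat.pow_div (ht.trans hnM) hpp.pos, Nat.pow_div (ht.trans hnK) hpp.pos, mul_comm (p ^ (K - t))] at h1
    exact h1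
  have h0 := hcard 0 (Nat.zero_le _)
  have hs' := hcard s hs
  have htop : P.Gs 0 = ⊤ := by
    rw [eq_top_iff]
    intro g _
    rw [P.mem_Gs_iff]
    obtain ⟨i, j, rfl⟩ := P.gen g
    exact ⟨i, j, by simp, by simp, rfl⟩
  rw [htop, Subgroup.card_top, Nat.sub_zero, Nat.sub_zero] at h0
  have hpos : 0 < Nat.card (zpowers P.a ⊓ zpowers P.b : Subgroup G) := Nat.card_pos
  apply Nat.eq_of_mul_eq_mul_right hpos
  rw [h0, mul_right_comm, hs']
  have e1 : P.M = (P.M - s) + s := (Nat.sub_add_cancel (hs.trans hnM)).symm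
  have e2 : K = (K - s) + s := (Nat.sub_add_cancel (hs.trans hnK)).symm
  conv_rhs => rw [e1, e2]
  rw [pow_add, pow_add, two_mul, pow_add]
  ring

end Pres

end Cfsg.Agent.Lib.Helper21.Metacyclic
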