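import Mathlib
import Cfsg.Agent.Lib.Helper21.Metacyclic

set_option autoImplicit false

namespace Cfsg.Agent.Lib.Helper21.Metacyclic

open Subgroup Finset
open scoped commutatorElement

theorem geom_sum_mul_range (R m k : ℕ) :
    ∑ t ∈ range (m * k), R ^ t = (∑ u ∈ range m, (R ^ k) ^ u) * ∑ t ∈ range k, R ^ t := by
  induction m with
  | zero => simp
  | succ m ih =>
    rw [Nat.succ_mul, Finset.sum_range_add, ih, Finset.sum_range_succ, add_mul]
    congr 1
    rw [Finset.mul_sum]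
    apply Finset.sum_congr rfl
    intro t _
    rw [← pow_mul, ← pow_add, mul_comm k m]

theorem prime_dvd_geom_sum {p : ℕ} [hp : Fact p.Prime] (Q : ℕ) (hQ : Q ≡ 1 [MOD p]) :
    p ∣ ∑ u ∈ range p, Q ^ u := by
  rw [← ZMod.natCast_eq_zero_iff]
  push_cast
  have h1 : (Q : ZMod p) = 1 := by
    have := (ZMod.natCast_eq_natCast_iff _ _ _).mpr hQ
    simpa using this
  rw [h1]
  simp

theorem pow_dvd_geom_sum {p : ℕ} [hp : Fact p.Prime] (R : ℕ) (hR : R ≡ 1 [MOD p]) (s : ℕ) :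
    p ^ s ∣ ∑ t ∈ range (p ^ s), R ^ t := by
  induction s with
  | zero => simp
  | succ s ih =>
    rw [pow_succ', geom_sum_mul_range]
    apply mul_dvd_mul _ ih
    apply prime_dvd_geom_sum
    have := hR.pow (p ^ s)
    rwa [one_pow] at this

namespace Pres

variable {G : Type*} [Group G] {p : ℕ} (P : Pres p G)

theorem pow_formula (i j k : ℕ) :
    (P.a ^ i * P.b ^ j) ^ k = P.a ^ (i * ∑ t ∈ range k, (P.r ^ j) ^ t) * P.b ^ (j * k) := by
  induction k with
  | zero => simp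
  | succ k ih =>
    rw [pow_succ, ih, P.mul_formula, Finset.sum_range_succ, mul_add, ← pow_mul, mul_add, mul_one]

variable [Finite G] [hp : Fact p.Prime]

theorem pow_mem_Gs (s : ℕ) (y : G) : y ^ p ^ s ∈ P.Gs s := by
  obtain ⟨i, j, rfl⟩ := P.gen y
  rw [P.pow_formula, P.mem_Gs_iff]
  exact ⟨_, _, Dvd.dvd.mul_left (pow_dvd_geom_sum _ (P.r_pow_modEq j) s) i,
    dvd_mul_left _ _, rfl⟩

theorem closure_pow_eq_Gs (s : ℕ) :
    Subgroup.closure {x : G | ∃ y : G, y ^ p ^ s = x} = P.Gs s := by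
  apply le_antisymm
  · rw [Subgroup.closure_le]
    rintro x ⟨y, rfl⟩
    exact P.pow_mem_Gs s y
  · apply sup_le
    · rw [zpowers_le]; exact Subgroup.subset_closure ⟨P.a, rfl⟩
    · rw [zpowers_le]; exact Subgroup.subset_closure ⟨P.b, rfl⟩

end Pres

end Cfsg.Agent.Lib.Helper21.Metacyclic
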