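import Mathlib
import Cfsg.Agent.Lib.Helper21.Metacyclic2
import Cfsg.Agent.Lib.Helper16.Frattini
import Cfsg.Agent.Lib.Helper1.PGroup

set_option autoImplicit false

namespace Cfsg.Agent.Lib.Helper21.Metacyclic

open Subgroup Finset
open scoped commutatorElement

namespace Pres

variable {G : Type*} [Group G] {p : ℕ} (P : Pres p G)

theorem r_pow_eq (j : ℕ) : P.r ^ j = (P.r - 1) * ∑ t ∈ range j, P.r ^ t + 1 := by
  induction j with
  | zero => simp
  | succ j ih =>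
    rw [Finset.sum_range_succ, mul_add, pow_succ]
    have h1 := P.hr1
    obtain ⟨q, hq⟩ : ∃ q, P.r = q + 1 := ⟨P.r - 1, by omega⟩
    rw [hq] at ih ⊢
    simp only [Nat.add_sub_cancel] at ih ⊢
    nlinarith [ih]

theorem a_pow_eq_c_pow (j : ℕ) : P.a ^ (P.r ^ j - 1) = P.c ^ (∑ t ∈ range j, P.r ^ t) := by
  have h := P.r_pow_eq j
  have h2 : P.r ^ j - 1 = (P.r - 1) * ∑ t ∈ range j, P.r ^ t := by omega
  rw [h2, pow_mul]; rfl

variable [Finite G] [hp : Fact p.Prime]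

omit [Finite G] hp in
theorem index_conj (w g : G) :
    (centralizer ({w * g * w⁻¹} : Set G)).index = (centralizer ({g} : Set G)).index := by
  rw [Cfsg.Agent.Lib.Helper21.index_centralizer_eq_ncard_carrier,
    Cfsg.Agent.Lib.Helper21.index_centralizer_eq_ncard_carrier]
  have : ConjClasses.mk (w * g * w⁻¹) = ConjClasses.mk g := by
    rw [ConjClasses.mk_eq_mk_iff_isConj, isConj_comm, isConj_iff]
    exact ⟨w, rfl⟩
  rw [this]

theorem Gs_normal (hp2 : p ≠ 2) {n : ℕ} (hn : orderOf P.c = p ^ n) (s : ℕ) (hs : s ≤ n) :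
    (P.Gs s).Normal := by
  constructor
  intro g hg w
  rw [P.mem_Gs_iff_index hp2 hn s hs] at hg ⊢
  rwa [index_conj]

theorem c_mem_Gs_one : P.c ∈ P.Gs 1 := by
  apply Subgroup.mem_sup_left
  have h : p ∣ P.r - 1 := (Nat.modEq_iff_dvd' P.hr1).mp P.hr.symm
  obtain ⟨q, hq⟩ := h
  show P.a ^ (P.r - 1) ∈ zpowers (P.a ^ p ^ 1)
  rw [hq, pow_one, pow_mul]
  exact Subgroup.pow_mem _ (mem_zpowers _) _

theorem frattini_eq_Gs_one (hp2 : p ≠ 2) {n : ℕ} (hn : orderOf P.c = p ^ n) (hn1 : 1 ≤ n)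
    (hG : IsPGroup p G) : frattini G = P.Gs 1 := by
  apply le_antisymm
  · have hN := P.Gs_normal hp2 hn 1 hn1
    have hcomm : ∀ x y : G ⧸ P.Gs 1, x * y = y * x := by
      have h1 : commutator G ≤ P.Gs 1 := by
        rw [P.commutator_eq hp2, zpowers_le]; exact P.c_mem_Gs_one
      have := (Subgroup.Normal.quotient_commutative_iff_commutator_le (N := P.Gs 1)).mpr h1
      intro x y
      exact this.is_comm.comm x y
    have hexp : ∀ e : G ⧸ P.Gs 1, e ^ p = 1 := by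
      intro e
      obtain ⟨y, rfl⟩ := QuotientGroup.mk_surjective e
      rw [← QuotientGroup.mk_pow, QuotientGroup.eq_one_iff]
      have := P.pow_mem_Gs 1 y
      rwa [pow_one] at this
    have := Cfsg.Agent.Lib.Helper16.frattini_le_ker' (p := p) hcomm hexp (QuotientGroup.mk' (P.Gs 1))
    rwa [QuotientGroup.ker_mk'] at this
  · rw [← P.closure_pow_eq_Gs 1, Subgroup.closure_le]
    rintro x ⟨y, rfl⟩
    rw [pow_one]
    exact Cfsg.Agent.Lib.Helper1.IsPGroup.pow_mem_frattini hG y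


/-- `r` in `ℤ/p^M` -/
def rb : ZMod (p ^ P.M) := ((P.r : ℕ) : ZMod (p ^ P.M))

/-- geometric sums of `r` in `ℤ/p^M` -/
def S (l : ℕ) : ZMod (p ^ P.M) := ∑ t ∈ range l, P.rb ^ t

omit [Finite G] hp in
theorem commute_iff (i j k l : ℕ) :
    Commute (P.a ^ k * P.b ^ l) (P.a ^ i * P.b ^ j) ↔
      (P.rb - 1) * ((i : ZMod (p ^ P.M)) * P.S l - (k : ZMod (p ^ P.M)) * P.S j) = 0 := by
  rw [← commutatorElement_eq_one_iff_commute, P.comm_formula, mul_inv_eq_one,
    pow_eq_pow_iff_modEq, P.ha, ← ZMod.natCast_eq_natCast_iff]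
  push_cast
  rw [Nat.cast_sub (P.one_le_r_pow l), Nat.cast_sub (P.one_le_r_pow j)]
  push_cast
  unfold S
  have e1 := mul_geom_sum P.rb l
  have e2 := mul_geom_sum P.rb j
  unfold rb at e1 e2 ⊢
  constructor
  · intro h; linear_combination h + (i : ZMod (p ^ P.M)) * e1 - (k : ZMod (p ^ P.M)) * e2
  · intro h; linear_combination h - (i : ZMod (p ^ P.M)) * e1 + (k : ZMod (p ^ P.M)) * e2

omit [Finite G] in
theorem geom_sum_cast_zmod_p (j : ℕ) : ((∑ t ∈ range j, P.r ^ t : ℕ) : ZMod p) = (j : ZMod p) := by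
  have h1 : ((P.r : ℕ) : ZMod p) = 1 := by
    have := (ZMod.natCast_eq_natCast_iff _ _ _).mpr P.hr
    simpa using this
  push_cast
  rw [h1]
  simp

omit [Finite G] in
theorem not_dvd_geom_sum {j : ℕ} (hj : ¬ p ∣ j) : ¬ p ∣ ∑ t ∈ range j, P.r ^ t := by
  rw [← ZMod.natCast_eq_zero_iff, P.geom_sum_cast_zmod_p, ZMod.natCast_eq_zero_iff]
  exact hj

omit [Finite G] in
theorem dvd_geom_sum {j : ℕ} (hj : p ∣ j) : p ∣ ∑ t ∈ range j, P.r ^ t := by
  rw [← ZMod.natCast_eq_zero_iff, P.geom_sum_cast_zmod_p, ZMod.natCast_eq_zero_iff]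
  exact hj

omit [Finite G] in
theorem isUnit_S {j : ℕ} (hj : ¬ p ∣ j) : IsUnit (P.S j) := by
  have h1 := P.not_dvd_geom_sum hj
  have h2 : IsUnit ((∑ t ∈ range j, P.r ^ t : ℕ) : ZMod (p ^ P.M)) := by
    rw [ZMod.isUnit_iff_coprime]
    exact Nat.Coprime.pow_right _ ((Nat.Prime.coprime_iff_not_dvd hp.out).mpr h1).symm
  push_cast at h2
  exact h2

omit [Finite G] in
theorem commute_of_commute_of_not_dvd {i j : ℕ} (hij : ¬ (p ∣ i ∧ p ∣ j)) (k l k' l' : ℕ)
    (h1 : Commute (P.a ^ k * P.b ^ l) (P.a ^ i * P.b ^ j))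
    (h2 : Commute (P.a ^ k' * P.b ^ l') (P.a ^ i * P.b ^ j)) :
    Commute (P.a ^ k' * P.b ^ l') (P.a ^ k * P.b ^ l) := by
  rw [P.commute_iff] at h1 h2 ⊢
  by_cases hi : p ∣ i
  · have hj : ¬ p ∣ j := fun h => hij ⟨hi, h⟩
    obtain ⟨u, hu⟩ := P.isUnit_S hj
    have h3 : (u : ZMod (p ^ P.M)) * ((P.rb - 1) *
        ((k : ZMod (p ^ P.M)) * P.S l' - (k' : ZMod (p ^ P.M)) * P.S l)) = 0 := by
      rw [hu]
      linear_combination (P.S l) * h2 - (P.S l') * h1
    exact (Units.mul_right_eq_zero u).mp h3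
  · have hiu : IsUnit (i : ZMod (p ^ P.M)) := by
      rw [ZMod.isUnit_iff_coprime]
      exact Nat.Coprime.pow_right _ ((Nat.Prime.coprime_iff_not_dvd hp.out).mpr hi).symm
    obtain ⟨u, hu⟩ := hiu
    have h3 : (u : ZMod (p ^ P.M)) * ((P.rb - 1) *
        ((k : ZMod (p ^ P.M)) * P.S l' - (k' : ZMod (p ^ P.M)) * P.S l)) = 0 := by
      rw [hu]
      linear_combination (k : ZMod (p ^ P.M)) * h2 - (k' : ZMod (p ^ P.M)) * h1
    exact (Units.mul_right_eq_zero u).mp h3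

theorem isMulCommutative_centralizer {g : G} (hg : g ∉ P.Gs 1) :
    IsMulCommutative ↥(centralizer ({g} : Set G)) := by
  obtain ⟨i, j, rfl⟩ := P.gen g
  have hij : ¬ (p ∣ i ∧ p ∣ j) := by
    rintro ⟨hi, hj⟩
    apply hg
    rw [P.mem_Gs_iff]
    exact ⟨i, j, by rwa [pow_one], by rwa [pow_one], rfl⟩
  refine ⟨⟨fun x y => ?_⟩⟩
  obtain ⟨k, l, hx⟩ := P.gen (x : G)
  obtain ⟨k', l', hy⟩ := P.gen (y : G)
  have h1 : Commute (P.a ^ k * P.b ^ l) (P.a ^ i * P.b ^ j) := by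
    rw [← hx]; exact (mem_centralizer_singleton_iff.mp x.2)
  have h2 : Commute (P.a ^ k' * P.b ^ l') (P.a ^ i * P.b ^ j) := by
    rw [← hy]; exact (mem_centralizer_singleton_iff.mp y.2)
  have h3 := P.commute_of_commute_of_not_dvd hij k l k' l' h1 h2
  rw [← hx, ← hy] at h3
  apply Subtype.ext
  exact h3.eq.symm


theorem orderOf_pow_p {z : G} (hz : z ∈ zpowers P.a) :
    z ^ p = 1 ∨ orderOf z = p * orderOf (z ^ p) := by
  obtain ⟨m, hm⟩ := P.orderOf_dvd_of_mem hz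
  rcases Nat.eq_zero_or_pos m with h0 | h0
  · left
    rw [h0, pow_zero, orderOf_eq_one_iff] at hm
    rw [hm, one_pow]
  · right
    rw [orderOf_pow, hm]
    have : Nat.gcd (p ^ m) p = p := Nat.gcd_eq_right (dvd_pow_self p h0.ne')
    rw [this]
    exact (Nat.mul_div_cancel' (dvd_pow_self p h0.ne')).symm

theorem exists_commute_larger_class (hp2 : p ≠ 2) {g : G} (hg : g ∈ P.Gs 1)
    (hgz : g ∉ center G) :
    ∃ h : G, Commute h g ∧
      (centralizer ({g} : Set G)).index < (centralizer ({h} : Set G)).index := by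
  have hpp := hp.out
  obtain ⟨i, j, hi, hj, rfl⟩ := (P.mem_Gs_iff 1 g).mp hg
  rw [pow_one] at hi hj
  obtain ⟨i', rfl⟩ := hi
  obtain ⟨t, ht⟩ := P.dvd_geom_sum hj
  obtain ⟨l, hl⟩ := P.exists_eq_a_pow hp2 (P.c ^ t) (Subgroup.pow_mem _ (mem_zpowers _) _)
  have hj' : P.a ^ (P.r ^ j - 1) = (P.c ^ t) ^ p := by
    rw [P.a_pow_eq_c_pow, ht, mul_comm, pow_mul]
  refine ⟨P.a ^ i' * P.b ^ l, ?_, ?_⟩
  · rw [← commutatorElement_eq_one_iff_commute, P.comm_formula, mul_inv_eq_one]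
    have e1 : P.a ^ ((p * i') * (P.r ^ l - 1)) = P.c ^ (t * (p * i')) := by
      rw [mul_comm (p * i'), pow_mul, ← hl, ← pow_mul]
    have e2 : P.a ^ (i' * (P.r ^ j - 1)) = P.c ^ (t * (p * i')) := by
      rw [mul_comm i', pow_mul, hj', ← pow_mul, ← pow_mul]
    rw [e1, e2]
  · have e3 : P.c ^ (p * i') = (P.c ^ i') ^ p := by rw [← pow_mul, mul_comm]
    have hidx1 : (centralizer ({P.a ^ (p * i') * P.b ^ j} : Set G)).index =
        max (orderOf ((P.c ^ i') ^ p)) (orderOf ((P.c ^ t) ^ p)) := by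
      rw [P.index_centralizer hp2, e3, hj']
    have hidx2 : (centralizer ({P.a ^ i' * P.b ^ l} : Set G)).index =
        max (orderOf (P.c ^ i')) (orderOf (P.c ^ t)) := by
      rw [P.index_centralizer hp2, ← hl]
    rw [hidx1, hidx2]
    set x := P.c ^ i' with hx
    set y := P.c ^ t with hy
    have hxm : x ∈ zpowers P.a := Subgroup.pow_mem _ P.c_mem _
    have hym : y ∈ zpowers P.a := Subgroup.pow_mem _ P.c_mem _
    -- not both trivial
    have hne : ¬ (x ^ p = 1 ∧ y ^ p = 1) := by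
      rintro ⟨h1, h2⟩
      apply hgz
      have h3 := hidx1
      rw [h1, h2, orderOf_one, max_self] at h3
      rw [index_eq_one] at h3
      rw [Subgroup.mem_center_iff]
      intro w
      have : w ∈ centralizer ({P.a ^ (p * i') * P.b ^ j} : Set G) := by rw [h3]; exact mem_top w
      exact mem_centralizer_singleton_iff.mp this
    have hlt : ∀ z : G, z ∈ zpowers P.a → z ^ p ≠ 1 → orderOf (z ^ p) < orderOf z := by
      intro z hz hz1
      rcases P.orderOf_pow_p hz with h | h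
      · exact absurd h hz1
      · rw [h]
        have h1 : 0 < orderOf (z ^ p) := orderOf_pos _
        have h2 : 2 ≤ p := hpp.two_le
        nlinarith
    have hgt : ∀ z : G, z ∈ zpowers P.a → z ^ p ≠ 1 → 1 < orderOf z := by
      intro z hz hz1
      have := hlt z hz hz1
      have h1 : 0 < orderOf (z ^ p) := orderOf_pos _
      omega
    rw [max_lt_iff]
    constructor
    · by_cases h1 : x ^ p = 1
      · rw [h1, orderOf_one]
        have h2 : y ^ p ≠ 1 := fun h => hne ⟨h1, h⟩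
        exact lt_of_lt_of_le (hgt y hym h2) (le_max_right _ _)
      · exact lt_of_lt_of_le (hlt x hxm h1) (le_max_left _ _)
    · by_cases h1 : y ^ p = 1
      · rw [h1, orderOf_one]
        have h2 : x ^ p ≠ 1 := fun h => hne ⟨h, h1⟩
        exact lt_of_lt_of_le (hgt x hxm h2) (le_max_left _ _)
      · exact lt_of_lt_of_le (hlt y hym h1) (le_max_right _ _)

end Pres

end Cfsg.Agent.Lib.Helper21.Metacyclic
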