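import Mathlib
import Cfsg.Prelude.Def_OddOrderLocal
import Cfsg.Agent.Lib.Helper21.Metacyclic3
import Cfsg.Agent.Lib.Helper21.ClassSize
import Cfsg.Agent.Lib.Helper1.PGroup
import Cfsg.Agent.S3879

set_option autoImplicit false

namespace Cfsg.Agent.Lib.Helper21.Metacyclic

open Subgroup Finset
open scoped commutatorElement

/-- subgroups of metacyclic groups are metacyclic -/
theorem isMetacyclic_subgroup {G : Type*} [Group G] (hmc : Cfsg.IsMetacyclic G) (L : Subgroup G) :
    Cfsg.IsMetacyclic ↥L := by
  obtain ⟨N, hN, hNc, hQc⟩ := hmc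
  refine ⟨N.subgroupOf L, inferInstance, ?_, ?_⟩
  · have hinj : Function.Injective (Subgroup.inclusion (inf_le_left : N ⊓ L ≤ N)) :=
      Subgroup.inclusion_injective _
    have h1 : IsCyclic ↥(N ⊓ L) := isCyclic_of_injective _ hinj
    have e : ↥(N.subgroupOf L) ≃* ↥(N ⊓ L) := by
      have := Subgroup.subgroupOfEquivOfLe (inf_le_right : N ⊓ L ≤ L)
      rw [Subgroup.inf_subgroupOf_right] at this
      exact this
    exact isCyclic_of_injective e.toMonoidHom e.injective
  · let f : ↥L →* G ⧸ N := (QuotientGroup.mk' N).comp L.subtype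
    have hker : f.ker = N.subgroupOf L := by
      ext x
      simp [f, MonoidHom.mem_ker, Subgroup.mem_subgroupOf]
    have h1 : IsCyclic (↥L ⧸ f.ker) :=
      isCyclic_of_injective (QuotientGroup.kerLift f) (QuotientGroup.kerLift_injective f)
    have e : ↥L ⧸ f.ker ≃* ↥L ⧸ N.subgroupOf L := QuotientGroup.quotientMulEquivOfEq hker
    exact isCyclic_of_surjective e.toMonoidHom e.surjective

/-- class sizes are bounded by the order of the derived subgroup -/
theorem index_centralizer_le_card_commutator {G : Type*} [Group G] [Finite G] (g : G) :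
    (centralizer ({g} : Set G)).index ≤ Nat.card (commutator G) := by
  rw [Cfsg.Agent.Lib.Helper21.index_centralizer_eq_ncard_setOf_isConj]
  have h1 : Nat.card (commutator G) = ((commutator G : Subgroup G) : Set G).ncard := by
    rw [← Nat.card_coe_set_eq]; rfl
  rw [h1]
  apply Set.ncard_le_ncard_of_injOn (fun x => x * g⁻¹)
  · intro x hx
    obtain ⟨h, hh⟩ := isConj_iff.mp hx
    show x * g⁻¹ ∈ commutator G
    rw [← hh]
    exact Subgroup.commutator_mem_commutator (mem_top h) (mem_top g)
  · intro x _ y _ hxy
    exact mul_right_cancel hxy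

theorem isMulCommutative_iff_forall_mem {G : Type*} [Group G] (L : Subgroup G) :
    IsMulCommutative ↥L ↔ ∀ x ∈ L, ∀ y ∈ L, x * y = y * x := by
  constructor
  · intro h x hx y hy
    have := h.is_comm.comm (⟨x, hx⟩ : L) ⟨y, hy⟩
    exact congrArg Subtype.val this
  · intro h
    exact ⟨⟨fun x y => Subtype.ext (h x x.2 y y.2)⟩⟩

theorem isMulCommutative_subgroupOf_iff {G : Type*} [Group G] (L M : Subgroup G) (h : L ≤ M) :
    IsMulCommutative ↥(L.subgroupOf M) ↔ IsMulCommutative ↥L := by
  rw [isMulCommutative_iff_forall_mem, isMulCommutative_iff_forall_mem]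
  constructor
  · intro H x hx y hy
    have := H ⟨x, h hx⟩ (mem_subgroupOf.mpr hx) ⟨y, h hy⟩ (mem_subgroupOf.mpr hy)
    exact congrArg Subtype.val this
  · intro H x hx y hy
    exact Subtype.ext (H x (mem_subgroupOf.mp hx) y (mem_subgroupOf.mp hy))

theorem card_subgroupOf_of_le {G : Type*} [Group G] (L M : Subgroup G) (h : L ≤ M) :
    Nat.card ↥(L.subgroupOf M) = Nat.card ↥L :=
  Nat.card_congr (Subgroup.subgroupOfEquivOfLe h).toEquiv

/-- the order of the derived subgroup is an isomorphism invariant -/
theorem card_commutator_congr {H K : Type*} [Group H] [Group K] (e : H ≃* K) :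
    Nat.card (commutator H) = Nat.card (commutator K) := by
  have h1 : (commutator H).map e.toMonoidHom = commutator K := by
    rw [commutator_def, Subgroup.map_commutator, commutator_def]
    congr 1 <;> exact Subgroup.map_top_of_surjective _ e.surjective
  rw [← h1]
  exact (Subgroup.card_map_of_injective e.injective).symm

theorem index_commutator_congr {H K : Type*} [Group H] [Group K] [Finite H] (e : H ≃* K) :
    (commutator H).index = (commutator K).index := by
  have : Finite K := Finite.of_equiv H e.toEquiv
  have h1 := (commutator H).card_mul_index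
  have h2 := (commutator K).card_mul_index
  rw [card_commutator_congr e, Nat.card_congr e.toEquiv, ← h2] at h1
  exact Nat.eq_of_mul_eq_mul_left Nat.card_pos h1


section K2

variable {G : Type*} [Group G] [Finite G] {p : ℕ} [hp : Fact p.Prime]

theorem isMulCommutative_of_commutator_eq_bot {H : Type*} [Group H] (hc : commutator H = ⊥) :
    IsMulCommutative H := by
  refine ⟨⟨fun x y => ?_⟩⟩
  have : ⁅x, y⁆ ∈ commutator H := commutator_mem_commutator (mem_top x) (mem_top y)
  rw [hc, mem_bot, commutatorElement_eq_one_iff_mul_comm] at this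
  exact this

theorem commutator_eq_bot_of_isMulCommutative {H : Type*} [Group H] (h : IsMulCommutative H) :
    commutator H = ⊥ := by
  rw [commutator_def, Subgroup.commutator_eq_bot_iff_le_centralizer]
  intro x _
  rw [mem_centralizer_iff]
  intro y _
  exact h.is_comm.comm y x

/-- nonabelian: `n ≥ 1` -/
theorem Pres.one_le_of_not_comm (P : Pres p G) (hp2 : p ≠ 2) (hna : ¬ IsMulCommutative G) {n : ℕ}
    (hn : orderOf P.c = p ^ n) : 1 ≤ n := by
  by_contra h
  have h0 : n = 0 := by omega
  subst h0
  rw [pow_zero, orderOf_eq_one_iff] at hn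
  apply hna
  apply isMulCommutative_of_commutator_eq_bot
  rw [P.commutator_eq hp2, hn, zpowers_one_eq_bot]

/-- **K2**: the derived subgroup of a maximal subgroup of a nonabelian metacyclic `p`-group
(`p` odd) has index `p` in the derived subgroup of the whole group. -/
theorem card_commutator_coatom (hp2 : p ≠ 2) (hG : IsPGroup p G) (hmc : Cfsg.IsMetacyclic G)
    (hna : ¬ IsMulCommutative G) (M : Subgroup G) (hM : IsCoatom M) :
    Nat.card (commutator G) = p * Nat.card (commutator ↥M) := by
  have hpp := hp.out
  obtain ⟨P⟩ := exists_pres hG hmc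
  obtain ⟨n, hn, hnM⟩ := P.orderOf_c_eq_pow
  have hn1 := P.one_le_of_not_comm hp2 hna hn
  have hcG : Nat.card (commutator G) = p ^ n := by rw [P.card_commutator hp2, hn]
  have hMi : M.index = p := Cfsg.Agent.Lib.Helper1.IsPGroup.coatom_index hG M hM
  have hMp : IsPGroup p ↥M := hG.to_subgroup M
  have hMmc : Cfsg.IsMetacyclic ↥M := isMetacyclic_subgroup hmc M
  obtain ⟨m, hm⟩ : ∃ m, Nat.card (commutator ↥M) = p ^ m :=
    (hMp.to_subgroup _).exists_card_eq
  have hfr : frattini G = P.Gs 1 := P.frattini_eq_Gs_one hp2 hn hn1 hG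
  have hfM : P.Gs 1 ≤ M := hfr ▸ frattini_le_coatom hM
  -- upper bound
  have h1 : (center G).index = p ^ (2 * n) := by
    rw [Cfsg.Agent.S3879.result hp2 hG hmc, hcG, ← pow_mul, mul_comm]
  have h2 : (center ↥M).index = p ^ (2 * m) := by
    rw [Cfsg.Agent.S3879.result hp2 hMp hMmc, hm, ← pow_mul, mul_comm]
  have hZM : center G ≤ M := by
    intro z hz
    apply hfM
    rw [P.mem_Gs_iff_index hp2 hn 1 hn1]
    have : centralizer ({z} : Set G) = ⊤ := by
      rw [eq_top_iff]; intro w _; rw [mem_centralizer_singleton_iff]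
      exact (mem_center_iff.mp hz w)
    rw [this, index_top]
    exact Nat.one_le_pow _ _ hpp.pos
  have h3 : (center G).relIndex M * M.index = (center G).index := relIndex_mul_index hZM
  have h4 : (center ↥M).index ∣ (center G).relIndex M := by
    have : (center G).subgroupOf M ≤ center ↥M := by
      intro x hx
      rw [mem_center_iff]
      intro y
      exact Subtype.ext (mem_center_iff.mp (mem_subgroupOf.mp hx) y)
    exact index_dvd_of_le this
  have hmn : m + 1 ≤ n := by
    rw [hMi, h1] at h3
    have h5 : (center G).relIndex M = p ^ (2 * n - 1) := by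
      have : p ^ (2 * n) = p ^ (2 * n - 1) * p := by rw [← pow_succ]; congr 1; omega
      rw [this] at h3
      exact Nat.eq_of_mul_eq_mul_right hpp.pos h3
    rw [h2, h5] at h4
    have := (Nat.pow_dvd_pow_iff_le_right hpp.one_lt).mp h4
    omega
  -- lower bound
  have hex : ∃ g ∈ M, g ∉ P.Gs 1 := by
    by_contra hcon
    push Not at hcon
    have heq : M = P.Gs 1 := le_antisymm hcon hfM
    have hc1 := P.card_Gs hp2 hn hG 1 hn1
    have hc2 := M.card_mul_index
    rw [hMi, heq, ← hc1] at hc2
    have hpos : 0 < Nat.card (P.Gs 1) := Nat.card_pos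
    have h10 := Nat.eq_of_mul_eq_mul_left hpos hc2
    have h22 : p ^ (2 * 1) = p * p := by ring
    rw [h22] at h10
    have := hpp.one_lt
    nlinarith
  obtain ⟨g, hgM, hgF⟩ := hex
  have hidx : (centralizer ({g} : Set G)).index = p ^ n := by
    obtain ⟨e, he⟩ := hG.index (centralizer ({g} : Set G))
    have hle : (centralizer ({g} : Set G)).index ≤ p ^ n := by
      rw [← hcG]; exact index_centralizer_le_card_commutator g
    have hnle : ¬ (centralizer ({g} : Set G)).index ≤ p ^ (n - 1) := by
      rw [← P.mem_Gs_iff_index hp2 hn 1 hn1]; exact hgF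
    rw [he] at hle hnle ⊢
    have h6 := (Nat.pow_le_pow_iff_right hpp.one_lt).mp hle
    have h7 : ¬ e ≤ n - 1 := fun h => hnle (Nat.pow_le_pow_right hpp.pos h)
    congr 1; omega
  have hlow : p ^ n ∣ (centralizer ({(⟨g, hgM⟩ : ↥M)} : Set ↥M)).index * p := by
    have hC : centralizer ({(⟨g, hgM⟩ : ↥M)} : Set ↥M) =
        (centralizer ({g} : Set G)).subgroupOf M := by
      ext x
      rw [mem_centralizer_singleton_iff, mem_subgroupOf, mem_centralizer_singleton_iff]
      constructor
      · intro h; exact congrArg Subtype.val h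
      · intro h; exact Subtype.ext h
    rw [hC]
    show p ^ n ∣ (centralizer ({g} : Set G)).relIndex M * p
    have e1 : (centralizer ({g} : Set G)).relIndex M * p =
        (centralizer ({g} : Set G) ⊓ M).index := by
      rw [← inf_relIndex_right, ← hMi]; exact relIndex_mul_index inf_le_right
    rw [e1, ← hidx]
    exact index_dvd_of_le inf_le_left
  have hle2 := index_centralizer_le_card_commutator (⟨g, hgM⟩ : ↥M)
  rw [hm] at hle2
  obtain ⟨e, he⟩ := hMp.index (centralizer ({(⟨g, hgM⟩ : ↥M)} : Set ↥M))
  rw [he] at hle2 hlow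
  rw [← pow_succ] at hlow
  have h8 := (Nat.pow_dvd_pow_iff_le_right hpp.one_lt).mp hlow
  have h9 := (Nat.pow_le_pow_iff_right hpp.one_lt).mp hle2
  have : n = m + 1 := by omega
  rw [hcG, hm, this, pow_succ, mul_comm]


theorem index_commutator_coatom (hp2 : p ≠ 2) (hG : IsPGroup p G) (hmc : Cfsg.IsMetacyclic G)
    (hna : ¬ IsMulCommutative G) (M : Subgroup G) (hM : IsCoatom M) :
    (commutator ↥M).index = (commutator G).index := by
  have h1 := card_commutator_coatom hp2 hG hmc hna M hM
  have h2 := (commutator G).card_mul_index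
  have h3 := (commutator ↥M).card_mul_index
  have h4 := M.card_mul_index
  rw [Cfsg.Agent.Lib.Helper1.IsPGroup.coatom_index hG M hM] at h4
  rw [h1, ← h4, ← h3] at h2
  have hpos : 0 < p * Nat.card (commutator ↥M) := Nat.mul_pos hp.out.pos Nat.card_pos
  have h5 : p * Nat.card (commutator ↥M) * (commutator G).index =
      p * Nat.card (commutator ↥M) * (commutator ↥M).index := by
    rw [h2]; ring
  exact (Nat.eq_of_mul_eq_mul_left hpos h5).symm

end K2

universe u

/-- S3880, by induction on the order. -/
theorem abelian_subgroups_aux {p : ℕ} [hp : Fact p.Prime] (hp2 : p ≠ 2) :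
    ∀ (N : ℕ) (G : Type u) [Group G] [Finite G], Nat.card G = N → IsPGroup p G →
      Cfsg.IsMetacyclic G → ∀ L : Subgroup G,
    (IsMulCommutative ↥L ↔ Nat.card ↥L ≤ (commutator G).index) ∧
      (Maximal (fun K : Subgroup G => IsMulCommutative ↥K) L ↔
        Nat.card ↥L = (commutator G).index) := by
  intro N
  induction N using Nat.strong_induction_on with
  | _ N ih =>
  intro G _ _ hN hG hmc
  by_cases hab : IsMulCommutative G
  · intro L
    have hc : commutator G = ⊥ := commutator_eq_bot_of_isMulCommutative hab
    have hLab : ∀ K : Subgroup G, IsMulCommutative ↥K := fun K =>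
      (isMulCommutative_iff_forall_mem K).mpr (fun x _ y _ => hab.is_comm.comm x y)
    rw [hc, index_bot]
    refine ⟨⟨fun _ => Subgroup.card_le_card_group L, fun _ => hLab L⟩, ?_⟩
    constructor
    · intro hmax
      have : L = ⊤ := le_antisymm le_top (hmax.2 (hLab ⊤) le_top)
      rw [this, card_top]
    · intro h
      have : L = ⊤ := (card_eq_iff_eq_top L).mp h
      subst this
      exact ⟨hLab ⊤, fun K _ _ => le_top⟩
  · -- nonabelian
    have hlt : (commutator G).index < Nat.card G := by
      have h2 := (commutator G).card_mul_index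
      have hne : commutator G ≠ ⊥ := fun h => hab (isMulCommutative_of_commutator_eq_bot h)
      have h1 : 1 < Nat.card (commutator G) := (Subgroup.one_lt_card_iff_ne_bot _).mpr hne
      have hpos : 0 < (commutator G).index := Nat.pos_of_ne_zero index_ne_zero_of_finite
      nlinarith
    have hnotab_top : ¬ IsMulCommutative ↥(⊤ : Subgroup G) := by
      intro h
      apply hab
      refine ⟨⟨fun x y => ?_⟩⟩
      exact (isMulCommutative_iff_forall_mem ⊤).mp h x (mem_top x) y (mem_top y)
    have red : ∀ L : Subgroup G, L ≠ ⊤ → ∃ M : Subgroup G, IsCoatom M ∧ L ≤ M ∧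
        (∀ L' : Subgroup ↥M,
          (IsMulCommutative ↥L' ↔ Nat.card ↥L' ≤ (commutator G).index) ∧
          (Maximal (fun K : Subgroup ↥M => IsMulCommutative ↥K) L' ↔
            Nat.card ↥L' = (commutator G).index)) := by
      intro L hL
      obtain ⟨M, hM, hLM⟩ := (eq_top_or_exists_le_coatom L).resolve_left hL
      refine ⟨M, hM, hLM, ?_⟩
      have key := index_commutator_coatom hp2 hG hmc hab M hM
      have hMcard : Nat.card ↥M < N := by
        rw [← hN]
        exact lt_of_le_of_ne (Subgroup.card_le_card_group M)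
          (fun h => hM.1 (Subgroup.eq_top_of_card_eq M h))
      have := ih (Nat.card M) hMcard ↥M rfl (hG.to_subgroup M) (isMetacyclic_subgroup hmc M)
      intro L'
      rw [← key]
      exact this L'
    have part1 : ∀ L : Subgroup G,
        (IsMulCommutative ↥L ↔ Nat.card ↥L ≤ (commutator G).index) := by
      intro L
      by_cases hL : L = ⊤
      · subst hL
        apply iff_of_false hnotab_top
        rw [card_top]; exact not_le.mpr hlt
      · obtain ⟨M, hM, hLM, IH⟩ := red L hL
        have := (IH (L.subgroupOf M)).1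
        rwa [isMulCommutative_subgroupOf_iff L M hLM, card_subgroupOf_of_le L M hLM] at this
    intro L
    refine ⟨part1 L, ?_⟩
    constructor
    · intro hmax
      have hL : L ≠ ⊤ := by rintro rfl; exact hnotab_top hmax.1
      obtain ⟨M, hM, hLM, IH⟩ := red L hL
      have h2 := (IH (L.subgroupOf M)).2
      rw [card_subgroupOf_of_le L M hLM] at h2
      apply h2.mp
      refine ⟨(isMulCommutative_subgroupOf_iff L M hLM).mpr hmax.1, ?_⟩
      intro K hK hLK
      have hK' : IsMulCommutative ↥(K.map M.subtype) := by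
        rw [isMulCommutative_iff_forall_mem]
        rintro x ⟨x', hx', rfl⟩ y ⟨y', hy', rfl⟩
        have := (isMulCommutative_iff_forall_mem K).mp hK x' hx' y' hy'
        exact congrArg Subtype.val this
      have hLK' : L ≤ K.map M.subtype := by
        intro x hx
        exact ⟨⟨x, hLM hx⟩, hLK (mem_subgroupOf.mpr hx), rfl⟩
      have := hmax.2 hK' hLK'
      intro x hx
      exact mem_subgroupOf.mpr (this ⟨x, hx, rfl⟩)
    · intro hcard
      have hLab : IsMulCommutative ↥L := (part1 L).mpr hcard.le
      refine ⟨hLab, ?_⟩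
      intro K hK hLK
      have hKc := (part1 K).mp hK
      have : L = K := Subgroup.eq_of_le_of_card_ge hLK (by rw [hcard]; exact hKc)
      rw [this]

end Cfsg.Agent.Lib.Helper21.Metacyclic
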