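import Mathlib
import Cfsg.Prelude.Def_OddOrderLocal
import Cfsg.Agent.Lib.Helper21.Metacyclic4
import Cfsg.Agent.Lib.Helper4.Basic
import Cfsg.Agent.S3886

set_option autoImplicit false

namespace Cfsg.Agent.Lib.Helper21.Metacyclic

open Subgroup Finset
open scoped commutatorElement

theorem not_sq_dvd_geom_sum_prime {p : ℕ} [hp : Fact p.Prime] (hp2 : p ≠ 2) (Q : ℕ)
    (hQ : Q ≡ 1 [MOD p]) : ¬ p ^ 2 ∣ ∑ t ∈ range p, Q ^ t := by
  have hpp := hp.out
  have hodd : Odd p := hpp.odd_of_ne_two hp2
  have hpZ : Prime (p : ℤ) := Nat.prime_iff_prime_int.mp hpp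
  have hxy : (p : ℤ) ∣ (Q : ℤ) - 1 := by
    have := (Nat.modEq_iff_dvd.mp hQ.symm)
    simpa using this
  have hx : ¬ (p : ℤ) ∣ (Q : ℤ) := by
    intro h
    have h1 : (p : ℤ) ∣ 1 := by
      have := dvd_sub h hxy
      simpa using this
    exact hpZ.not_dvd_one h1
  have h1 := emultiplicity_geom_sum₂_eq_one hpZ hodd hxy hx
  intro hdvd
  have h2 : (p : ℤ) ^ 2 ∣ ∑ i ∈ range p, (Q : ℤ) ^ i * 1 ^ (p - 1 - i) := by
    simp only [one_pow, mul_one]
    have : ((p ^ 2 : ℕ) : ℤ) ∣ ((∑ t ∈ range p, Q ^ t : ℕ) : ℤ) :=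
      Int.natCast_dvd_natCast.mpr hdvd
    push_cast at this
    exact this
  have h3 := le_emultiplicity_of_pow_dvd h2
  rw [h1] at h3
  norm_num at h3

section A

variable {G : Type*} [Group G] [Finite G] {p : ℕ} [hp : Fact p.Prime]

theorem index_centralizer_eq_prime (hp2 : p ≠ 2) (hG : IsPGroup p G)
    (hmc : Cfsg.IsMetacyclic G) {z : G}
    (hz : z ∉ center G) (hzp : z ^ p ∈ center G) :
    (centralizer ({z} : Set G)).index = p := by
  have hpp := hp.out
  obtain ⟨P⟩ := exists_pres hG hmc
  obtain ⟨n, hn, -⟩ := P.orderOf_c_eq_pow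
  obtain ⟨i, j, rfl⟩ := P.gen z
  have hn1 : 1 ≤ n := by
    by_contra h
    have h0 : n = 0 := by omega
    subst h0
    apply hz
    rw [P.mem_center_iff hp2 hn]; simp
  rw [P.pow_formula, P.mem_center_iff hp2 hn] at hzp
  obtain ⟨h1, h2⟩ := hzp
  obtain ⟨u, hu⟩ := prime_dvd_geom_sum (p := p) (P.r ^ j) (P.r_pow_modEq j)
  have hu' : ¬ p ∣ u := by
    intro h
    apply not_sq_dvd_geom_sum_prime hp2 (P.r ^ j) (P.r_pow_modEq j)
    rw [hu, pow_two]; exact mul_dvd_mul_left p h
  have hpn : p ^ n = p ^ (n - 1) * p := by rw [← pow_succ, Nat.sub_add_cancel hn1]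
  have hi : p ^ (n - 1) ∣ i := by
    rw [hu, hpn] at h1
    have h3 : p ^ (n - 1) * p ∣ (i * u) * p := by
      have : i * (p * u) = (i * u) * p := by ring
      rwa [this] at h1
    have h4 : p ^ (n - 1) ∣ i * u := Nat.dvd_of_mul_dvd_mul_right hpp.pos h3
    exact (Nat.Coprime.dvd_of_dvd_mul_right
      (Nat.Coprime.pow_left _ ((Nat.Prime.coprime_iff_not_dvd hpp).mpr hu')) h4)
  have hj : p ^ (n - 1) ∣ j := by
    rw [hpn] at h2
    exact Nat.dvd_of_mul_dvd_mul_right hpp.pos h2
  have hle := (P.index_le_iff hp2 hn (n - 1) (Nat.sub_le n 1) i j).mpr ⟨hi, hj⟩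
  have hnn : n - (n - 1) = 1 := by omega
  rw [hnn, pow_one] at hle
  obtain ⟨e, he⟩ := hG.index (centralizer ({P.a ^ i * P.b ^ j} : Set G))
  have he0 : e ≠ 0 := by
    rintro rfl
    rw [pow_zero, index_eq_one] at he
    apply hz
    rw [Subgroup.mem_center_iff]; intro w
    have : w ∈ centralizer ({P.a ^ i * P.b ^ j} : Set G) := he ▸ mem_top w
    exact (mem_centralizer_singleton_iff.mp this)
  rw [he] at hle ⊢
  have he1 : e ≤ 1 := by
    by_contra h; push Not at h
    have h5 : p ^ 2 ≤ p ^ e := Nat.pow_le_pow_right hpp.pos h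
    have := hpp.one_lt; nlinarith
  have : e = 1 := by omega
  rw [this, pow_one]

end A

section Generic

variable {G : Type*} [Group G]

theorem isCoatom_of_index_prime [Finite G] (H : Subgroup G) (hH : H.index.Prime) : IsCoatom H := by
  constructor
  · intro h
    rw [h, index_top] at hH
    exact Nat.not_prime_one hH
  · intro K hK
    have h1 := relIndex_mul_index hK.le
    have h2 : K.index ∣ H.index := Dvd.intro_left _ h1
    rcases (Nat.dvd_prime hH).mp h2 with h3 | h3
    · exact index_eq_one.mp h3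
    · exfalso
      rw [h3] at h1
      have h4 : H.relIndex K = 1 := by
        have hpos : 0 < H.index := hH.pos
        nlinarith
      rw [relIndex_eq_one] at h4
      exact (not_le_of_gt hK) h4

theorem card_center_subgroup (R : Subgroup G) :
    Nat.card (center ↥R) = Nat.card ↥(R ⊓ centralizer (R : Set G)) := by
  have h1 : (center ↥R).map R.subtype = R ⊓ centralizer (R : Set G) := by
    ext x
    constructor
    · rintro ⟨y, hy, rfl⟩
      refine ⟨y.2, ?_⟩
      show R.subtype y ∈ centralizer (R : Set G)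
      rw [mem_centralizer_iff]
      intro r hr
      have := Subgroup.mem_center_iff.mp hy ⟨r, hr⟩
      exact congrArg Subtype.val this
    · rintro ⟨hxR, hxC⟩
      refine ⟨⟨x, hxR⟩, ?_, rfl⟩
      show (⟨x, hxR⟩ : ↥R) ∈ center ↥R
      rw [Subgroup.mem_center_iff]
      intro r
      exact Subtype.ext ((mem_centralizer_iff.mp hxC) r r.2)
  rw [← h1]
  exact (Subgroup.card_map_of_injective R.subtype_injective).symm

theorem centralizer_subgroupOf (R M : Subgroup G) (hRM : R ≤ M) :
    centralizer ((R.subgroupOf M : Subgroup ↥M) : Set ↥M) =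
      (centralizer (R : Set G)).subgroupOf M := by
  ext x
  rw [mem_centralizer_iff, mem_subgroupOf, mem_centralizer_iff]
  constructor
  · intro h r hr
    have := h ⟨r, hRM hr⟩ (mem_subgroupOf.mpr hr)
    exact congrArg Subtype.val this
  · intro h y hy
    exact Subtype.ext (h y (mem_subgroupOf.mp hy))

theorem card_subgroupOf_le [Finite G] (C M : Subgroup G) :
    Nat.card ↥(C.subgroupOf M) ≤ Nat.card ↥C := by
  rw [← Subgroup.inf_subgroupOf_right, card_subgroupOf_of_le _ _ inf_le_right]
  exact Subgroup.card_le_of_le inf_le_left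

theorem mem_centralizer_sup_zpowers {R : Subgroup G} {g x : G}
    (hxR : x ∈ centralizer (R : Set G)) (hxg : g * x = x * g) :
    x ∈ centralizer ((R ⊔ zpowers g : Subgroup G) : Set G) := by
  have h1 : R ⊔ zpowers g ≤ centralizer ({x} : Set G) := by
    apply sup_le
    · intro r hr
      rw [mem_centralizer_singleton_iff]
      exact ((mem_centralizer_iff.mp hxR) r hr)
    · rw [zpowers_le, mem_centralizer_singleton_iff]
      exact hxg
  rw [mem_centralizer_iff]
  intro y hy
  have := mem_centralizer_singleton_iff.mp (h1 hy)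
  exact this

end Generic

section Duality

variable {G : Type*} [Group G] [Finite G] {p : ℕ} [hp : Fact p.Prime]

/-- `|R| |Z(R)| = |G| |Z(G)|` for nonabelian subgroups `R` -/
theorem card_mul_card_center_of_not_comm (hp2 : p ≠ 2) (hG : IsPGroup p G)
    (hmc : Cfsg.IsMetacyclic G) (R : Subgroup G) (hR : ¬ IsMulCommutative ↥R) :
    Nat.card ↥R * Nat.card ↥(R ⊓ centralizer (R : Set G)) =
      Nat.card G * Nat.card (center G) := by
  rw [← card_center_subgroup,
    Cfsg.Agent.S3886.card_mul_card_center hp2 (hG.to_subgroup R) (isMetacyclic_subgroup hmc R),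
    Cfsg.Agent.S3886.card_mul_card_center hp2 hG hmc,
    Cfsg.Agent.S3886.index_commutator_of_not_comm_aux hp2 (Nat.card G) G rfl hG hmc R hR]

/-- nonabelian subgroups contain their centralizers -/
theorem centralizer_le_of_not_comm (hp2 : p ≠ 2) (hG : IsPGroup p G)
    (hmc : Cfsg.IsMetacyclic G) (R : Subgroup G) (hR : ¬ IsMulCommutative ↥R) :
    centralizer (R : Set G) ≤ R := by
  intro g hg
  by_contra hgR
  set R₁ := R ⊔ zpowers g with hR₁
  have hRR₁ : R ≤ R₁ := le_sup_left
  have hR₁na : ¬ IsMulCommutative ↥R₁ := by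
    intro h
    apply hR
    rw [isMulCommutative_iff_forall_mem] at h ⊢
    exact fun x hx y hy => h x (hRR₁ hx) y (hRR₁ hy)
  have h1 := card_mul_card_center_of_not_comm hp2 hG hmc R hR
  have h2 := card_mul_card_center_of_not_comm hp2 hG hmc R₁ hR₁na
  have h3 : R ⊓ centralizer (R : Set G) ≤ R₁ ⊓ centralizer (R₁ : Set G) := by
    rintro x ⟨hxR, hxC⟩
    refine ⟨hRR₁ hxR, ?_⟩
    apply mem_centralizer_sup_zpowers hxC
    exact ((mem_centralizer_iff.mp hg) x hxR).symm
  have h4 : Nat.card ↥R < Nat.card ↥R₁ := by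
    apply lt_of_le_of_ne (Subgroup.card_le_of_le hRR₁)
    intro h
    have : R = R₁ := Subgroup.eq_of_le_of_card_ge hRR₁ h.ge
    apply hgR
    rw [this]
    exact mem_sup_right (mem_zpowers g)
  have h5 := Subgroup.card_le_of_le h3
  have h6 : 0 < Nat.card ↥(R ⊓ centralizer (R : Set G)) := Nat.card_pos
  have : Nat.card ↥R * Nat.card ↥(R ⊓ centralizer (R : Set G)) <
      Nat.card ↥R₁ * Nat.card ↥(R₁ ⊓ centralizer (R₁ : Set G)) := by
    calc Nat.card ↥R * Nat.card ↥(R ⊓ centralizer (R : Set G))
        < Nat.card ↥R₁ * Nat.card ↥(R ⊓ centralizer (R : Set G)) :=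
          Nat.mul_lt_mul_of_pos_right h4 h6
      _ ≤ Nat.card ↥R₁ * Nat.card ↥(R₁ ⊓ centralizer (R₁ : Set G)) :=
          Nat.mul_le_mul_left _ h5
  rw [h1, h2] at this
  exact lt_irrefl _ this

theorem card_mul_card_centralizer_of_not_comm (hp2 : p ≠ 2) (hG : IsPGroup p G)
    (hmc : Cfsg.IsMetacyclic G) (R : Subgroup G) (hR : ¬ IsMulCommutative ↥R) :
    Nat.card ↥R * Nat.card ↥(centralizer (R : Set G)) = Nat.card G * Nat.card (center G) := by
  rw [← card_mul_card_center_of_not_comm hp2 hG hmc R hR,
    inf_eq_right.mpr (centralizer_le_of_not_comm hp2 hG hmc R hR)]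


theorem card_mul_card_center_coatom (hp2 : p ≠ 2) (hG : IsPGroup p G)
    (hmc : Cfsg.IsMetacyclic G) (hna : ¬ IsMulCommutative G) (M : Subgroup G) (hM : IsCoatom M) :
    Nat.card ↥M * Nat.card (center ↥M) = Nat.card G * Nat.card (center G) := by
  rw [Cfsg.Agent.S3886.card_mul_card_center hp2 (hG.to_subgroup M) (isMetacyclic_subgroup hmc M),
    Cfsg.Agent.S3886.card_mul_card_center hp2 hG hmc, index_commutator_coatom hp2 hG hmc hna M hM]

end Duality

universe u

/-- upper bound for the Chermak–Delgado measure -/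
theorem measure_le_aux {p : ℕ} [hp : Fact p.Prime] (hp2 : p ≠ 2) :
    ∀ (N : ℕ) (G : Type u) [Group G] [Finite G], Nat.card G = N → IsPGroup p G →
      Cfsg.IsMetacyclic G → ∀ R : Subgroup G,
      Nat.card ↥R * Nat.card ↥(centralizer (R : Set G)) ≤ Nat.card G * Nat.card (center G) := by
  intro N
  induction N using Nat.strong_induction_on with
  | _ N ih =>
  intro G _ _ hN hG hmc R
  by_cases hab : IsMulCommutative G
  · have : center G = ⊤ := by
      rw [eq_top_iff]; intro x _; rw [Subgroup.mem_center_iff]; intro y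
      exact hab.is_comm.comm y x
    rw [this, card_top]
    exact Nat.mul_le_mul (card_le_card_group R) (card_le_card_group _)
  · by_cases hH : centralizer (R : Set G) ⊔ R = ⊤
    · have h1 := Cfsg.Agent.Lib.Helper4.card_sup_mul_card_inf (centralizer (R : Set G)) R
        (centralizer_le_normalizer _)
      rw [hH, card_top] at h1
      rw [mul_comm (Nat.card ↥R), ← h1]
      apply Nat.mul_le_mul_left
      apply Subgroup.card_le_of_le
      rintro x ⟨hxC, hxR⟩
      rw [Subgroup.mem_center_iff]
      intro y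
      have hy : y ∈ centralizer (R : Set G) ⊔ R := hH ▸ mem_top y
      have hle : centralizer (R : Set G) ⊔ R ≤ centralizer ({x} : Set G) := by
        apply sup_le
        · intro c hc; rw [mem_centralizer_singleton_iff]
          exact ((mem_centralizer_iff.mp hc) x hxR).symm
        · intro r hr; rw [mem_centralizer_singleton_iff]
          exact (mem_centralizer_iff.mp hxC r hr)
      exact (mem_centralizer_singleton_iff.mp (hle hy))
    · obtain ⟨M, hM, hHM⟩ := (eq_top_or_exists_le_coatom _).resolve_left hH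
      have hRM : R ≤ M := le_sup_right.trans hHM
      have hCM : centralizer (R : Set G) ≤ M := le_sup_left.trans hHM
      have hMcard : Nat.card ↥M < N := by
        rw [← hN]
        exact lt_of_le_of_ne (Subgroup.card_le_card_group M)
          (fun h => hM.1 (Subgroup.eq_top_of_card_eq M h))
      have IH := ih (Nat.card M) hMcard ↥M rfl (hG.to_subgroup M) (isMetacyclic_subgroup hmc M)
        (R.subgroupOf M)
      rw [centralizer_subgroupOf R M hRM, card_subgroupOf_of_le R M hRM,
        card_subgroupOf_of_le _ M hCM, card_mul_card_center_coatom hp2 hG hmc hab M hM] at IH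
      exact IH


/-- lower bound for the Chermak–Delgado measure of abelian subgroups containing the center -/
theorem le_measure_aux {p : ℕ} [hp : Fact p.Prime] (hp2 : p ≠ 2) :
    ∀ (N : ℕ) (G : Type u) [Group G] [Finite G], Nat.card G = N → IsPGroup p G →
      Cfsg.IsMetacyclic G → ∀ R : Subgroup G, IsMulCommutative ↥R → center G ≤ R →
      Nat.card G * Nat.card (center G) ≤
        Nat.card ↥R * Nat.card ↥(centralizer (R : Set G)) := by
  intro N
  induction N using Nat.strong_induction_on with
  | _ N ih =>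
  intro G _ _ hN hG hmc R hRab hZR
  have hpp := hp.out
  by_cases hRZ : R ≤ center G
  · have hR : R = center G := le_antisymm hRZ hZR
    have hC : centralizer (R : Set G) = ⊤ := by
      rw [hR]; exact Subgroup.centralizer_eq_top_iff_subset.mpr (subset_refl _)
    rw [hC, card_top, hR, mul_comm]
  · obtain ⟨x, hxR, hxZ⟩ := SetLike.not_le_iff_exists.mp hRZ
    have hna : ¬ IsMulCommutative G := by
      intro h; apply hxZ; rw [Subgroup.mem_center_iff]; intro y; exact h.is_comm.comm y x
    have hex : ∃ e : ℕ, x ^ p ^ e ∈ center G := by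
      obtain ⟨k, hk⟩ := hG x
      exact ⟨k, hk ▸ one_mem _⟩
    classical
    have he_spec : x ^ p ^ (Nat.find hex) ∈ center G := Nat.find_spec hex
    have he0 : Nat.find hex ≠ 0 := by
      intro h; rw [h, pow_zero, pow_one] at he_spec; exact hxZ he_spec
    obtain ⟨e', he'⟩ := Nat.exists_eq_succ_of_ne_zero he0
    set z := x ^ p ^ e' with hz
    have hzZ : z ∉ center G := Nat.find_min hex (by omega : e' < Nat.find hex)
    have hzp : z ^ p ∈ center G := by
      rw [hz, ← pow_mul, ← pow_succ, ← Nat.succ_eq_add_one, ← he']; exact he_spec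
    have hzR : z ∈ R := R.pow_mem hxR _
    set M := centralizer ({z} : Set G) with hMdef
    have hMi : M.index = p := index_centralizer_eq_prime hp2 hG hmc hzZ hzp
    have hM : IsCoatom M := isCoatom_of_index_prime M (hMi ▸ hpp)
    have hRM : R ≤ M := by
      intro r hr
      rw [hMdef, mem_centralizer_singleton_iff]
      exact (isMulCommutative_iff_forall_mem R).mp hRab r hr z hzR
    have hcard := card_mul_card_center_coatom hp2 hG hmc hna M hM
    have hMG : Nat.card ↥M * p = Nat.card G := by rw [← hMi]; exact M.card_mul_index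
    have hZM : Nat.card (center ↥M) = p * Nat.card (center G) := by
      rw [← hMG] at hcard
      have hpos : 0 < Nat.card ↥M := Nat.card_pos
      apply Nat.eq_of_mul_eq_mul_left hpos
      rw [hcard]; ring
    set W := center G ⊔ zpowers z with hW
    have hWR : W ≤ R := sup_le hZR (by rw [zpowers_le]; exact hzR)
    have hWM : W ≤ M := hWR.trans hRM
    have hWcen : W.subgroupOf M ≤ center ↥M := by
      intro w hw
      rw [Subgroup.mem_center_iff]
      intro y
      apply Subtype.ext
      have hle : W ≤ centralizer ({(y : G)} : Set G) := by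
        apply sup_le
        · intro c hc; rw [mem_centralizer_singleton_iff]
          exact (Subgroup.mem_center_iff.mp hc y).symm
        · rw [zpowers_le, mem_centralizer_singleton_iff]
          have := mem_centralizer_singleton_iff.mp y.2
          exact this.symm
      exact (mem_centralizer_singleton_iff.mp (hle (mem_subgroupOf.mp hw))).symm
    have hWcard : p * Nat.card (center G) ≤ Nat.card ↥W := by
      have h1 : center G ≤ W := le_sup_left
      have h2 := Cfsg.Agent.Lib.Helper4.card_mul_relIndex h1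
      obtain ⟨k, hk⟩ := (hG.to_subgroup W).index ((center G).subgroupOf W)
      have hk' : (center G).relIndex W = p ^ k := hk
      have hk0 : k ≠ 0 := by
        rintro rfl
        rw [pow_zero, relIndex_eq_one] at hk'
        exact hzZ (hk' (mem_sup_right (mem_zpowers z)))
      rw [← h2, hk', mul_comm]
      apply Nat.mul_le_mul_left
      calc p = p ^ 1 := (pow_one p).symm
        _ ≤ p ^ k := Nat.pow_le_pow_right hpp.pos (Nat.one_le_iff_ne_zero.mpr hk0)
    have hWeq : center ↥M ≤ W.subgroupOf M := by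
      have h1 : Nat.card ↥(W.subgroupOf M) = Nat.card ↥W := card_subgroupOf_of_le W M hWM
      have h2 : Nat.card (center ↥M) ≤ Nat.card ↥(W.subgroupOf M) := by
        rw [h1, hZM]; exact hWcard
      exact (Subgroup.eq_of_le_of_card_ge hWcen h2).ge
    have hZMR : center ↥M ≤ R.subgroupOf M := hWeq.trans (by
      intro w hw; exact mem_subgroupOf.mpr (hWR (mem_subgroupOf.mp hw)))
    have hMcard : Nat.card ↥M < N := by
      rw [← hN]
      exact lt_of_le_of_ne (Subgroup.card_le_card_group M)
        (fun h => hM.1 (Subgroup.eq_top_of_card_eq M h))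
    have IH := ih (Nat.card M) hMcard ↥M rfl (hG.to_subgroup M) (isMetacyclic_subgroup hmc M)
      (R.subgroupOf M) ((isMulCommutative_subgroupOf_iff R M hRM).mpr hRab) hZMR
    rw [centralizer_subgroupOf R M hRM, card_subgroupOf_of_le R M hRM, hcard] at IH
    exact IH.trans (Nat.mul_le_mul_left _ (card_subgroupOf_le _ M))

/-- duality: `|R| |C_G(R)| = |G| |Z(G)|` for `Z(G) ≤ R` -/
theorem card_mul_card_centralizer {G : Type*} [Group G] [Finite G] {p : ℕ} [hp : Fact p.Prime]
    (hp2 : p ≠ 2) (hG : IsPGroup p G) (hmc : Cfsg.IsMetacyclic G) (R : Subgroup G)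
    (hZR : center G ≤ R) :
    Nat.card ↥R * Nat.card ↥(centralizer (R : Set G)) = Nat.card G * Nat.card (center G) := by
  by_cases hR : IsMulCommutative ↥R
  · exact le_antisymm (measure_le_aux hp2 (Nat.card G) G rfl hG hmc R)
      (le_measure_aux hp2 (Nat.card G) G rfl hG hmc R hR hZR)
  · exact card_mul_card_centralizer_of_not_comm hp2 hG hmc R hR

end Cfsg.Agent.Lib.Helper21.Metacyclic
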