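import Mathlib
import Cfsg.Prelude.Def_PLocal
import Cfsg.Agent.Lib.Helper13.QdFree
import Cfsg.Agent.Lib.Helper1.PGroup
import Cfsg.Agent.Lib.Helper21.Metacyclic5

set_option autoImplicit false

namespace Cfsg.Agent.Lib.Helper21.QdAlt

open Cfsg.Agent.Lib.Helper13 Cfsg.Agent.Lib.Helper21.Metacyclic
open scoped commutatorElement

/-- a `p`-group acting on fewer than `p²` points acts as an abelian group -/
theorem commutator_mem_stabilizer {P : Type*} [Group P] [Finite P] {p : ℕ} [hp : Fact p.Prime]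
    (hP : IsPGroup p P) {X : Type*} [MulAction P X] [Finite X] (hX : Nat.card X < p ^ 2) (x : X)
    (a b : P) : ⁅a, b⁆ ∈ MulAction.stabilizer P x := by
  have hpp := hp.out
  set S := MulAction.stabilizer P x with hS
  obtain ⟨k, hk⟩ := hP.index S
  have h1 : S.index ≤ Nat.card X := by
    rw [MulAction.index_stabilizer]
    calc (MulAction.orbit P x).ncard ≤ (Set.univ : Set X).ncard :=
          Set.ncard_le_ncard (Set.subset_univ _) (Set.toFinite _)
      _ = Nat.card X := Set.ncard_univ X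
  have hk1 : k ≤ 1 := by
    by_contra h
    push Not at h
    have : p ^ 2 ≤ p ^ k := Nat.pow_le_pow_right hpp.pos h
    rw [hk] at h1
    omega
  have hcomm : commutator P ≤ S := by
    rcases Nat.eq_zero_or_pos k with h0 | h0
    · rw [h0, pow_zero, Subgroup.index_eq_one] at hk
      rw [hk]; exact le_top
    · have hk' : k = 1 := by omega
      rw [hk', pow_one] at hk
      have hco : IsCoatom S := isCoatom_of_index_prime S (hk ▸ hpp)
      exact Cfsg.Agent.Lib.Helper1.IsPGroup.commutator_le_coatom hP S hco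
  exact hcomm (Subgroup.commutator_mem_commutator (Subgroup.mem_top a) (Subgroup.mem_top b))

theorem abSylow_perm {p : ℕ} [hp : Fact p.Prime] (n : ℕ) (hn : n < p ^ 2) :
    AbSylow p (Equiv.Perm (Fin n)) := by
  intro P a ha b hb
  have hP : IsPGroup p ↥(P : Subgroup (Equiv.Perm (Fin n))) := P.isPGroup'
  have hX : Nat.card (Fin n) < p ^ 2 := by rw [Nat.card_fin]; exact hn
  let a' : ↥(P : Subgroup (Equiv.Perm (Fin n))) := ⟨a, ha⟩
  let b' : ↥(P : Subgroup (Equiv.Perm (Fin n))) := ⟨b, hb⟩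
  have key : ∀ x : Fin n, ⁅a', b'⁆ • x = x := by
    intro x
    exact MulAction.mem_stabilizer_iff.mp (commutator_mem_stabilizer hP hX x a' b')
  have h2 : ⁅a, b⁆ = 1 := by
    ext x
    have := key x
    have h4 : (⁅a', b'⁆ • x : Fin n) = (⁅a, b⁆ : Equiv.Perm (Fin n)) x := rfl
    rw [h4] at this
    rw [this]; rfl
  exact (commutatorElement_eq_one_iff_mul_comm.mp h2)


open Matrix

/-- matrices in `SL₃(𝔽_p)` with last row `(0,0,1)` -/
def lastRow (p : ℕ) : Subgroup (SpecialLinearGroup (Fin 3) (ZMod p)) where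
  carrier := {M | (M : Matrix (Fin 3) (Fin 3) (ZMod p)) 2 0 = 0 ∧
    (M : Matrix (Fin 3) (Fin 3) (ZMod p)) 2 1 = 0 ∧ (M : Matrix (Fin 3) (Fin 3) (ZMod p)) 2 2 = 1}
  mul_mem' := by
    rintro a b ⟨h1, h2, h3⟩ ⟨k1, k2, k3⟩
    refine ⟨?_, ?_, ?_⟩ <;>
      simp [Matrix.mul_apply, Fin.sum_univ_three, h1, h2, h3, k1, k2, k3]
  one_mem' := by
    refine ⟨?_, ?_, ?_⟩ <;> simp
  inv_mem' := by
    rintro a ⟨h1, h2, h3⟩
    have hdet := a.2
    rw [Matrix.det_fin_three] at hdet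
    simp only [h1, h2, h3, mul_zero, mul_one, sub_zero, add_zero] at hdet
    refine ⟨?_, ?_, ?_⟩
    · simp [Matrix.adjugate_fin_three, h1, h2, h3]
    · simp [Matrix.adjugate_fin_three, h1, h2, h3]
    · simp [Matrix.adjugate_fin_three, h1, h2, h3]
      linear_combination hdet

theorem mem_lastRow {p : ℕ} (M : SpecialLinearGroup (Fin 3) (ZMod p)) :
    M ∈ lastRow p ↔ (M : Matrix (Fin 3) (Fin 3) (ZMod p)) 2 0 = 0 ∧
    (M : Matrix (Fin 3) (Fin 3) (ZMod p)) 2 1 = 0 ∧ (M : Matrix (Fin 3) (Fin 3) (ZMod p)) 2 2 = 1 :=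
  Iff.rfl

theorem qd_eq (p : ℕ) : Cfsg.qd p = lastRow p := by
  unfold Cfsg.qd
  exact Subgroup.closure_eq (lastRow p)


/-- the affine plane `{w | w 2 = 1}` -/
abbrev Plane (p : ℕ) := {w : Fin 3 → ZMod p // w 2 = 1}

theorem mulVec_last {p : ℕ} (M : ↥(lastRow p)) (w : Plane p) :
    ((M.1 : Matrix (Fin 3) (Fin 3) (ZMod p)) *ᵥ w.1) 2 = 1 := by
  obtain ⟨h1, h2, h3⟩ := M.2
  simp [Matrix.mulVec, dotProduct, Fin.sum_univ_three, h1, h2, h3, w.2]

instance planeAction (p : ℕ) : MulAction ↥(lastRow p) (Plane p) where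
  smul M w := ⟨(M.1 : Matrix (Fin 3) (Fin 3) (ZMod p)) *ᵥ w.1, mulVec_last M w⟩
  one_smul w := by
    apply Subtype.ext
    show ((1 : ↥(lastRow p)).1 : Matrix (Fin 3) (Fin 3) (ZMod p)) *ᵥ w.1 = w.1
    simp
  mul_smul M N w := by
    apply Subtype.ext
    show ((M * N : ↥(lastRow p)).1 : Matrix (Fin 3) (Fin 3) (ZMod p)) *ᵥ w.1 =
      (M.1 : Matrix (Fin 3) (Fin 3) (ZMod p)) *ᵥ ((N.1 : Matrix (Fin 3) (Fin 3) (ZMod p)) *ᵥ w.1)
    simp [Matrix.mulVec_mulVec]

theorem smul_coe {p : ℕ} (M : ↥(lastRow p)) (w : Plane p) :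
    (M • w).1 = (M.1 : Matrix (Fin 3) (Fin 3) (ZMod p)) *ᵥ w.1 := rfl

theorem toPermHom_injective (p : ℕ) :
    Function.Injective (MulAction.toPermHom ↥(lastRow p) (Plane p)) := by
  rw [injective_iff_map_eq_one]
  intro M hM
  have key : ∀ w : Plane p, (M.1 : Matrix (Fin 3) (Fin 3) (ZMod p)) *ᵥ w.1 = w.1 := by
    intro w
    have : (MulAction.toPermHom ↥(lastRow p) (Plane p) M) w = w := by rw [hM]; rfl
    exact congrArg Subtype.val this
  have h0 := key ⟨![0, 0, 1], rfl⟩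
  have h1 := key ⟨![1, 0, 1], rfl⟩
  have h2 := key ⟨![0, 1, 1], rfl⟩
  apply Subtype.ext
  apply Subtype.ext
  ext i j
  have e0 := congrFun h0 i
  have e1 := congrFun h1 i
  have e2 := congrFun h2 i
  simp only [Matrix.mulVec, dotProduct, Fin.sum_univ_three] at e0 e1 e2
  fin_cases i <;> fin_cases j <;> simp at e0 e1 e2 ⊢ <;> first | assumption | (rw [e0] at e1 e2; simpa using e1) | (rw [e0] at e1 e2; simpa using e2)


def planeEquiv (p : ℕ) : Plane p ≃ ZMod p × ZMod p where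
  toFun w := (w.1 0, w.1 1)
  invFun x := ⟨![x.1, x.2, 1], rfl⟩
  left_inv w := by
    apply Subtype.ext
    ext i
    fin_cases i
    · rfl
    · rfl
    · exact w.2.symm
  right_inv x := rfl

theorem card_plane (p : ℕ) [Fact p.Prime] : Nat.card (Plane p) = p ^ 2 := by
  rw [Nat.card_congr (planeEquiv p), Nat.card_prod, Nat.card_zmod, pow_two]

/-- elements `1 + N` with `N² = 0` have order dividing `p` -/
theorem pow_p_eq_one_of_sq_zero {p : ℕ} [hp : Fact p.Prime]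
    (g : SpecialLinearGroup (Fin 3) (ZMod p))
    (h : ((g : Matrix (Fin 3) (Fin 3) (ZMod p)) - 1) ^ 2 = 0) : g ^ p = 1 := by
  have key : ((g ^ p : SpecialLinearGroup (Fin 3) (ZMod p)) : Matrix (Fin 3) (Fin 3) (ZMod p)) =
      ((1 : SpecialLinearGroup (Fin 3) (ZMod p)) : Matrix (Fin 3) (Fin 3) (ZMod p)) := by
    change (g : Matrix (Fin 3) (Fin 3) (ZMod p)) ^ p = 1
    set N := (g : Matrix (Fin 3) (Fin 3) (ZMod p)) - 1 with hNdef
    have hMN : (g : Matrix (Fin 3) (Fin 3) (ZMod p)) = 1 + N := by rw [hNdef]; abel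
    have : CharP (Matrix (Fin 3) (Fin 3) (ZMod p)) p := Matrix.charP p
    rw [hMN, add_pow_char_of_commute (p := p) (Commute.one_left N), one_pow]
    have h2 : 2 ≤ p := hp.out.two_le
    have h3 : N ^ p = 0 := pow_eq_zero_of_le h2 h
    rw [h3, add_zero]
  exact Subtype.ext key

def matT {p : ℕ} (e f : ZMod p) : SpecialLinearGroup (Fin 3) (ZMod p) :=
  ⟨!![1, 0, e; 0, 1, f; 0, 0, 1], by simp [Matrix.det_fin_three]⟩

def matU {p : ℕ} (s : ZMod p) : SpecialLinearGroup (Fin 3) (ZMod p) :=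
  ⟨!![1, s, 0; 0, 1, 0; 0, 0, 1], by simp [Matrix.det_fin_three]⟩

def matV {p : ℕ} (s : ZMod p) : SpecialLinearGroup (Fin 3) (ZMod p) :=
  ⟨!![1, 0, 0; s, 1, 0; 0, 0, 1], by simp [Matrix.det_fin_three]⟩

theorem matT_mem {p : ℕ} (e f : ZMod p) : matT e f ∈ lastRow p := by
  refine ⟨?_, ?_, ?_⟩ <;> simp [matT]

theorem matU_mem {p : ℕ} (s : ZMod p) : matU s ∈ lastRow p := by
  refine ⟨?_, ?_, ?_⟩ <;> simp [matU]

theorem matV_mem {p : ℕ} (s : ZMod p) : matV s ∈ lastRow p := by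
  refine ⟨?_, ?_, ?_⟩ <;> simp [matV]

theorem matT_pow {p : ℕ} [hp : Fact p.Prime] (e f : ZMod p) : matT e f ^ p = 1 := by
  apply pow_p_eq_one_of_sq_zero
  ext i j
  fin_cases i <;> fin_cases j <;>
    simp [matT, pow_two, Matrix.mul_apply, Fin.sum_univ_three]

theorem matU_pow {p : ℕ} [hp : Fact p.Prime] (s : ZMod p) : matU s ^ p = 1 := by
  apply pow_p_eq_one_of_sq_zero
  ext i j
  fin_cases i <;> fin_cases j <;>
    simp [matU, pow_two, Matrix.mul_apply, Fin.sum_univ_three]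

theorem matV_pow {p : ℕ} [hp : Fact p.Prime] (s : ZMod p) : matV s ^ p = 1 := by
  apply pow_p_eq_one_of_sq_zero
  ext i j
  fin_cases i <;> fin_cases j <;>
    simp [matV, pow_two, Matrix.mul_apply, Fin.sum_univ_three]


theorem decomp {p : ℕ} [hp : Fact p.Prime] (M : SpecialLinearGroup (Fin 3) (ZMod p))
    (hM : M ∈ lastRow p) (hc : (M : Matrix (Fin 3) (Fin 3) (ZMod p)) 1 0 ≠ 0) :
    M = matT ((M : Matrix (Fin 3) (Fin 3) (ZMod p)) 0 2) ((M : Matrix (Fin 3) (Fin 3) (ZMod p)) 1 2) *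
      (matU (((M : Matrix (Fin 3) (Fin 3) (ZMod p)) 0 0 - 1) / (M : Matrix (Fin 3) (Fin 3) (ZMod p)) 1 0) *
        matV ((M : Matrix (Fin 3) (Fin 3) (ZMod p)) 1 0) *
        matU (((M : Matrix (Fin 3) (Fin 3) (ZMod p)) 1 1 - 1) / (M : Matrix (Fin 3) (Fin 3) (ZMod p)) 1 0)) := by
  obtain ⟨h1, h2, h3⟩ := hM
  have hdet := M.2
  rw [Matrix.det_fin_three] at hdet
  simp only [h1, h2, h3, mul_zero, mul_one, sub_zero, add_zero] at hdet
  apply Matrix.SpecialLinearGroup.ext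
  intro i j
  rw [Matrix.SpecialLinearGroup.coe_mul, Matrix.SpecialLinearGroup.coe_mul,
    Matrix.SpecialLinearGroup.coe_mul]
  fin_cases i <;> fin_cases j <;>
    simp [matT, matU, matV, Matrix.mul_apply, Fin.sum_univ_three, h1, h2, h3]
  · field_simp
    ring
  · field_simp
    linear_combination (-1 : ZMod p) * hdet
  · field_simp
    ring

theorem matV_mul_entry {p : ℕ} [hp : Fact p.Prime] (M : SpecialLinearGroup (Fin 3) (ZMod p))
    (hM : M ∈ lastRow p) (hc : (M : Matrix (Fin 3) (Fin 3) (ZMod p)) 1 0 = 0) :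
    ((matV 1 * M : SpecialLinearGroup (Fin 3) (ZMod p)) : Matrix (Fin 3) (Fin 3) (ZMod p)) 1 0 ≠ 0 := by
  obtain ⟨h1, h2, h3⟩ := hM
  have hdet := M.2
  rw [Matrix.det_fin_three] at hdet
  simp only [h1, h2, h3, hc, mul_zero, mul_one, sub_zero, add_zero] at hdet
  rw [Matrix.SpecialLinearGroup.coe_mul]
  simp [matV, Matrix.mul_apply, Fin.sum_univ_three, hc]
  intro h0
  rw [h0, zero_mul] at hdet
  exact zero_ne_one hdet

/-- any subgroup containing the three families of transvections contains `lastRow p` -/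
theorem lastRow_le {p : ℕ} [hp : Fact p.Prime] (K : Subgroup (SpecialLinearGroup (Fin 3) (ZMod p)))
    (hT : ∀ e f, matT e f ∈ K) (hU : ∀ s, matU s ∈ K) (hV : ∀ s, matV s ∈ K) :
    lastRow p ≤ K := by
  have main : ∀ M : SpecialLinearGroup (Fin 3) (ZMod p), M ∈ lastRow p →
      (M : Matrix (Fin 3) (Fin 3) (ZMod p)) 1 0 ≠ 0 → M ∈ K := by
    intro M hM hc
    rw [decomp M hM hc]
    exact K.mul_mem (hT _ _) (K.mul_mem (K.mul_mem (hU _) (hV _)) (hU _))
  intro M hM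
  by_cases hc : (M : Matrix (Fin 3) (Fin 3) (ZMod p)) 1 0 = 0
  · have h1 : matV 1 * M ∈ K :=
      main _ ((lastRow p).mul_mem (matV_mem 1) hM) (matV_mul_entry M hM hc)
    have h2 : M = (matV 1)⁻¹ * (matV 1 * M) := by group
    rw [h2]
    exact K.mul_mem (K.inv_mem (hV 1)) h1
  · exact main M hM hc

theorem hom_trivial {p : ℕ} [hp : Fact p.Prime] (hodd : p ≠ 2) (χ : ↥(lastRow p) →* ℤˣ)
    (g : ↥(lastRow p)) : χ g = 1 := by
  have hpodd : Odd p := (hp.out.eq_two_or_odd').resolve_left hodd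
  have gen : ∀ (x : SpecialLinearGroup (Fin 3) (ZMod p)) (hx : x ∈ lastRow p), x ^ p = 1 →
      x ∈ χ.ker.map (lastRow p).subtype := by
    intro x hx hxp
    refine ⟨⟨x, hx⟩, ?_, rfl⟩
    rw [SetLike.mem_coe, MonoidHom.mem_ker]
    have h1 : χ ⟨x, hx⟩ ^ p = 1 := by
      rw [← map_pow]
      have : (⟨x, hx⟩ : ↥(lastRow p)) ^ p = 1 := Subtype.ext hxp
      rw [this, map_one]
    rcases Int.units_eq_one_or (χ ⟨x, hx⟩) with h | h
    · exact h
    · rw [h, hpodd.neg_one_pow] at h1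
      exact absurd h1 (by decide)
  have hle := lastRow_le (χ.ker.map (lastRow p).subtype)
    (fun e f => gen _ (matT_mem e f) (matT_pow e f))
    (fun s => gen _ (matU_mem s) (matU_pow s))
    (fun s => gen _ (matV_mem s) (matV_pow s))
  obtain ⟨k, hk, hkg⟩ := hle g.2
  have : k = g := Subtype.ext hkg
  rw [← this]
  exact hk

theorem exists_subgroup_alternating {p n : ℕ} [hp : Fact p.Prime] (hodd : p ≠ 2)
    (hn : p ^ 2 ≤ n) :
    ∃ H : Subgroup (alternatingGroup (Fin n)), Nonempty (↥H ≃* ↥(Cfsg.qd p)) := by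
  classical
  have hcard : Fintype.card (Plane p) ≤ Fintype.card (Fin n) := by
    rw [← Nat.card_eq_fintype_card, card_plane, Fintype.card_fin]
    exact hn
  obtain ⟨ι⟩ := Function.Embedding.nonempty_of_card_le hcard
  let ψ : ↥(lastRow p) →* Equiv.Perm (Fin n) :=
    (Equiv.Perm.viaEmbeddingHom ι).comp (MulAction.toPermHom ↥(lastRow p) (Plane p))
  have hψinj : Function.Injective ψ :=
    (Equiv.Perm.viaEmbeddingHom_injective ι).comp (toPermHom_injective p)
  have hmem : ∀ g, ψ g ∈ alternatingGroup (Fin n) := by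
    intro g
    rw [Equiv.Perm.mem_alternatingGroup]
    exact hom_trivial hodd (Equiv.Perm.sign.comp ψ) g
  let ψ' : ↥(lastRow p) →* ↥(alternatingGroup (Fin n)) := ψ.codRestrict _ hmem
  have hψ'inj : Function.Injective ψ' := by
    intro a b hab
    apply hψinj
    exact congrArg Subtype.val hab
  refine ⟨ψ'.range, ⟨?_⟩⟩
  exact ((MulEquiv.subgroupCongr (qd_eq p)).trans (MonoidHom.ofInjective hψ'inj)).symm

end Cfsg.Agent.Lib.Helper21.QdAlt
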