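import Mathlib
import Cfsg.Agent.Lib.Helper1.Basic

set_option autoImplicit false
open Pointwise Subgroup

namespace Cfsg.Agent.Lib.Helper21.BG36

open Cfsg.Agent.Lib.Helper1 (mem_conj_smul_iff)

variable {G : Type*} [Group G]

/-- `Y` is a subgroup of index `q` in `K`. -/
def IsHyp (q : ℕ) (K Y : Subgroup G) : Prop := Y ≤ K ∧ Y.relIndex K = q

theorem conj_smul_eq_of_mem_normalizer {K : Subgroup G} {g : G} (hg : g ∈ normalizer (K : Set G)) :
    MulAut.conj g • K = K := by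
  ext x
  rw [mem_conj_smul_iff]
  have hg' : g⁻¹ ∈ normalizer (K : Set G) := inv_mem hg
  have := (mem_normalizer_iff.mp hg' x)
  rw [inv_inv] at this
  exact this.symm

theorem mem_normalizer_of_conj_smul_eq {K : Subgroup G} {g : G} (h : MulAut.conj g • K = K) :
    g ∈ normalizer (K : Set G) := by
  rw [mem_normalizer_iff]
  intro x
  constructor
  · intro hx
    rw [← h, mem_conj_smul_iff]
    simpa [mul_assoc] using hx
  · intro hx
    rw [← h, mem_conj_smul_iff] at hx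
    simpa [mul_assoc] using hx

theorem conj_smul_le_of_le {K Y : Subgroup G} {g : G} (hg : g ∈ normalizer (K : Set G)) (hY : Y ≤ K) :
    MulAut.conj g • Y ≤ K := by
  have := Subgroup.pointwise_smul_le_pointwise_smul_iff (a := MulAut.conj g) |>.mpr hY
  rwa [conj_smul_eq_of_mem_normalizer hg] at this

theorem relIndex_conj_smul (Y K : Subgroup G) (g : G) :
    (MulAut.conj g • Y).relIndex (MulAut.conj g • K) = Y.relIndex K := by
  exact Subgroup.relIndex_pointwise_smul (MulAut.conj g) Y K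

theorem IsHyp.conj {q : ℕ} {K Y : Subgroup G} (h : IsHyp q K Y) {g : G}
    (hg : g ∈ normalizer (K : Set G)) : IsHyp q K (MulAut.conj g • Y) := by
  refine ⟨conj_smul_le_of_le hg h.1, ?_⟩
  have := relIndex_conj_smul Y K g
  rw [conj_smul_eq_of_mem_normalizer hg] at this
  rw [this, h.2]

theorem IsHyp.sup_eq {q : ℕ} (hq : q.Prime) {K Y Y₀ : Subgroup G} (h : IsHyp q K Y)
    (h₀ : IsHyp q K Y₀) (hne : Y ≠ Y₀) : Y ⊔ Y₀ = K := by
  have hle : Y ⊔ Y₀ ≤ K := sup_le h.1 h₀.1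
  have h1 := Subgroup.relIndex_mul_relIndex Y (Y ⊔ Y₀) K le_sup_left hle
  rw [h.2] at h1
  have h2 := Subgroup.relIndex_mul_relIndex Y₀ (Y ⊔ Y₀) K le_sup_right hle
  rw [h₀.2] at h2
  rcases (Nat.dvd_prime hq).mp ⟨_, h1.symm⟩ with ha | ha
  · rcases (Nat.dvd_prime hq).mp ⟨_, h2.symm⟩ with hb | hb
    · exfalso
      have e1 : Y ⊔ Y₀ ≤ Y := Subgroup.relIndex_eq_one.mp ha
      have e2 : Y ⊔ Y₀ ≤ Y₀ := Subgroup.relIndex_eq_one.mp hb
      exact hne (le_antisymm (le_sup_left.trans e2) (le_sup_right.trans e1))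
    · rw [hb] at h2
      have : (Y ⊔ Y₀).relIndex K = 1 := by
        have hq0 : 0 < q := hq.pos
        nlinarith [Nat.eq_of_mul_eq_mul_left hq0 (by rw [mul_one]; exact h2 : q * (Y ⊔ Y₀).relIndex K = q * 1)]
      exact le_antisymm hle (Subgroup.relIndex_eq_one.mp this)
  · rw [ha] at h1
    have : (Y ⊔ Y₀).relIndex K = 1 := by
      have hq0 : 0 < q := hq.pos
      exact Nat.eq_of_mul_eq_mul_left hq0 (by rw [mul_one]; exact h1)
    exact le_antisymm hle (Subgroup.relIndex_eq_one.mp this)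

/-- conjugating a fixed point -/
theorem conj_mem_inf_centralizer_smul {V Y : Subgroup G} {g v : G}
    (hg : g ∈ normalizer (V : Set G)) (hv : v ∈ V ⊓ centralizer (Y : Set G)) :
    g * v * g⁻¹ ∈ V ⊓ centralizer ((MulAut.conj g • Y : Subgroup G) : Set G) := by
  refine mem_inf.mpr ⟨(mem_normalizer_iff.mp hg v).mp (mem_inf.mp hv).1, ?_⟩
  rw [mem_centralizer_iff]
  intro y hy
  have hy' : g⁻¹ * y * g ∈ Y := (mem_conj_smul_iff Y g y).mp hy
  have hc := (mem_centralizer_iff.mp (mem_inf.mp hv).2) _ hy'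
  -- (g⁻¹ y g) v = v (g⁻¹ y g)
  calc y * (g * v * g⁻¹) = g * ((g⁻¹ * y * g) * v) * g⁻¹ := by group
    _ = g * (v * (g⁻¹ * y * g)) * g⁻¹ := by rw [hc]
    _ = g * v * g⁻¹ * y := by group

end Cfsg.Agent.Lib.Helper21.BG36
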