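import Mathlib

set_option autoImplicit false
open Pointwise Subgroup

namespace Cfsg.Agent.Lib.Helper21.BG36

variable {G : Type*} [Group G]

/-- norm-type element: for `a` normalizing an abelian `V` with `a ^ r = 1` and `v ∈ V`, there is `w` in
the subgroup generated by the conjugates `a^i v a^-i`, `1 ≤ i < r`, with `v * w` centralized by `a`. -/
theorem exists_norm {V : Subgroup G} (hVab : ∀ x ∈ V, ∀ y ∈ V, x * y = y * x) {a : G}
    (ha : a ∈ normalizer (V : Set G)) {r : ℕ} (hr : 0 < r) (har : a ^ r = 1) {v : G} (hv : v ∈ V) :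
    ∃ w ∈ closure {x | ∃ i, 1 ≤ i ∧ i < r ∧ x = a ^ i * v * (a ^ i)⁻¹},
      w ∈ V ∧ a * (v * w) * a⁻¹ = v * w := by
  obtain ⟨n, rfl⟩ : ∃ n, r = n + 1 := ⟨r - 1, by omega⟩
  set c : ℕ → G := fun i => a ^ i * v * (a ^ i)⁻¹ with hc
  have hcV : ∀ i, c i ∈ V := by
    intro i
    have : a ^ i ∈ normalizer (V : Set G) := pow_mem ha i
    exact (mem_normalizer_iff.mp this v).mp hv
  have hconj : ∀ i, a * c i * a⁻¹ = c (i + 1) := by
    intro i
    simp only [hc, pow_succ']
    group
  set w : G := ((List.range n).map (fun i => c (i + 1))).prod with hw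
  have hwcl : w ∈ closure {x | ∃ i, 1 ≤ i ∧ i < n + 1 ∧ x = a ^ i * v * (a ^ i)⁻¹} := by
    apply Subgroup.list_prod_mem
    intro x hx
    rw [List.mem_map] at hx
    obtain ⟨i, hi, rfl⟩ := hx
    rw [List.mem_range] at hi
    exact subset_closure ⟨i + 1, by omega, by omega, rfl⟩
  have hwV : w ∈ V := by
    apply Subgroup.list_prod_mem
    intro x hx
    rw [List.mem_map] at hx
    obtain ⟨i, _, rfl⟩ := hx
    exact hcV _
  refine ⟨w, hwcl, hwV, ?_⟩
  have h0 : c 0 = v := by simp [hc]
  have hlast : c (n + 1) = v := by simp [hc, har]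
  have e1 : v * w = ((List.range (n + 1)).map c).prod := by
    rw [List.range_succ_eq_map, List.map_cons, List.prod_cons, h0, List.map_map]
    rfl
  have e2 : a * ((List.range (n + 1)).map c).prod * a⁻¹
      = ((List.range (n + 1)).map (fun i => c (i + 1))).prod := by
    have := map_list_prod (MulAut.conj a) ((List.range (n + 1)).map c)
    simp only [MulAut.conj_apply, List.map_map] at this
    rw [this]
    congr 1
    apply List.map_congr_left
    intro i _
    exact hconj i
  have e3 : ((List.range (n + 1)).map (fun i => c (i + 1))).prod = w * v := by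
    rw [List.range_succ, List.map_append, List.prod_append, List.map_singleton, List.prod_singleton,
      hlast]
  rw [e1, e2, e3, ← e1]
  exact hVab w hwV v hv

end Cfsg.Agent.Lib.Helper21.BG36
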