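import Mathlib
import Cfsg.Agent.Lib.Helper21.BG36A
import Cfsg.Agent.Lib.Helper21.BG36B
import Cfsg.Agent.S0055

set_option autoImplicit false
open Pointwise Subgroup

namespace Cfsg.Agent.Lib.Helper21.BG36

open Cfsg.Agent.Lib.Helper1 (mem_conj_smul_iff)

variable {G : Type*} [Group G]

theorem inf_centralizer_inf_centralizer_le (V Y Y₀ : Subgroup G) :
    (V ⊓ centralizer (Y : Set G)) ⊓ centralizer (Y₀ : Set G) ≤
      V ⊓ centralizer ((Y ⊔ Y₀ : Subgroup G) : Set G) := by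
  intro x hx
  have hxV : x ∈ V := (mem_inf.mp (mem_inf.mp hx).1).1
  have hxY : x ∈ centralizer (Y : Set G) := (mem_inf.mp (mem_inf.mp hx).1).2
  have hxY₀ : x ∈ centralizer (Y₀ : Set G) := (mem_inf.mp hx).2
  refine mem_inf.mpr ⟨hxV, ?_⟩
  have h1 : Y ≤ centralizer ({x} : Set G) := by
    intro y hy
    rw [mem_centralizer_iff]
    intro z hz
    rw [Set.mem_singleton_iff] at hz
    subst hz
    exact ((mem_centralizer_iff.mp hxY) y hy).symm
  have h2 : Y₀ ≤ centralizer ({x} : Set G) := by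
    intro y hy
    rw [mem_centralizer_iff]
    intro z hz
    rw [Set.mem_singleton_iff] at hz
    subst hz
    exact ((mem_centralizer_iff.mp hxY₀) y hy).symm
  have h3 : Y ⊔ Y₀ ≤ centralizer ({x} : Set G) := sup_le h1 h2
  rw [mem_centralizer_iff]
  intro y hy
  have := (mem_centralizer_iff.mp (h3 hy)) x (Set.mem_singleton x)
  exact this.symm

/-- Independence of the fixed point subgroups of the maximal subgroups of an abelian group `K`
acting coprimely on an abelian group `V` without fixed points. -/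
theorem indep [Finite G] {V K Y₀ : Subgroup G} (hVab : ∀ x ∈ V, ∀ y ∈ V, x * y = y * x)
    (hKV : K ≤ normalizer (V : Set G)) (hKab : ∀ x ∈ K, ∀ y ∈ K, x * y = y * x)
    (hY₀K : Y₀ ≤ K) (hcop : (Nat.card Y₀).Coprime (Nat.card V))
    (hVK : V ⊓ centralizer (K : Set G) = ⊥)
    (S : Set (Subgroup G)) (hS : ∀ Y ∈ S, Y ≤ K ∧ Y ⊔ Y₀ = K) :
    (V ⊓ centralizer (Y₀ : Set G)) ⊓ (⨆ Y ∈ S, V ⊓ centralizer (Y : Set G)) = ⊥ := by
  have hV : IsMulCommutative V := ⟨⟨fun a b => Subtype.ext (hVab a a.2 b b.2)⟩⟩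
  have h55 := (Cfsg.Agent.S0055.result Y₀ V (hY₀K.trans hKV) hcop).1
  have key : (⨆ Y ∈ S, V ⊓ centralizer (Y : Set G)) ≤ ⁅V, Y₀⁆ := by
    apply iSup₂_le
    intro Y hY
    obtain ⟨hYK, hYY₀⟩ := hS Y hY
    set U : Subgroup G := V ⊓ centralizer (Y : Set G) with hU
    have hUc : IsMulCommutative U :=
      ⟨⟨fun a b => Subtype.ext (hVab a (mem_inf.mp a.2).1 b (mem_inf.mp b.2).1)⟩⟩
    have hY₀U : Y₀ ≤ normalizer (U : Set G) := by
      intro y₀ hy₀
      have hy₀V : y₀ ∈ normalizer (V : Set G) := hKV (hY₀K hy₀)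
      have hsm : MulAut.conj y₀ • Y = Y := by
        ext x
        rw [mem_conj_smul_iff]
        constructor
        · intro hx
          have hxK : y₀⁻¹ * x * y₀ ∈ K := hYK hx
          have hxK' : x ∈ K := by
            have := K.mul_mem (K.mul_mem (hY₀K hy₀) hxK) (K.inv_mem (hY₀K hy₀))
            simpa [mul_assoc] using this
          have : y₀⁻¹ * x * y₀ = x := by
            rw [mul_assoc, hKab x hxK' y₀ (hY₀K hy₀), ← mul_assoc, inv_mul_cancel, one_mul]
          rwa [this] at hx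
        · intro hx
          have hxK : x ∈ K := hYK hx
          have : y₀⁻¹ * x * y₀ = x := by
            rw [mul_assoc, hKab x hxK y₀ (hY₀K hy₀), ← mul_assoc, inv_mul_cancel, one_mul]
          rwa [this]
      rw [mem_normalizer_iff]
      intro u
      constructor
      · intro hu
        have := conj_mem_inf_centralizer_smul hy₀V hu
        rwa [hsm] at this
      · intro hu
        have hy₀V' : y₀⁻¹ ∈ normalizer (V : Set G) := inv_mem hy₀V
        have hsm' : MulAut.conj y₀⁻¹ • Y = Y := by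
          rw [map_inv, inv_smul_eq_iff, hsm]
        have := conj_mem_inf_centralizer_smul hy₀V' hu
        rw [hsm', inv_inv] at this
        have e : y₀⁻¹ * (y₀ * u * y₀⁻¹) * y₀ = u := by group
        rwa [e] at this
    have hcopU : (Nat.card Y₀).Coprime (Nat.card U) :=
      Nat.Coprime.coprime_dvd_right (Subgroup.card_dvd_of_le inf_le_left) hcop
    have h55U := (Cfsg.Agent.S0055.result Y₀ U hY₀U hcopU).2
    have hfix : U ⊓ centralizer (Y₀ : Set G) = ⊥ := by
      rw [eq_bot_iff]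
      calc U ⊓ centralizer (Y₀ : Set G) ≤ V ⊓ centralizer ((Y ⊔ Y₀ : Subgroup G) : Set G) :=
            inf_centralizer_inf_centralizer_le V Y Y₀
        _ = ⊥ := by rw [hYY₀, hVK]
    rw [hfix, bot_sup_eq] at h55U
    calc U = ⁅U, Y₀⁆ := h55U.symm
      _ ≤ ⁅V, Y₀⁆ := Subgroup.commutator_mono inf_le_left le_rfl
  rw [eq_bot_iff]
  calc (V ⊓ centralizer (Y₀ : Set G)) ⊓ (⨆ Y ∈ S, V ⊓ centralizer (Y : Set G))
      ≤ (V ⊓ centralizer (Y₀ : Set G)) ⊓ ⁅V, Y₀⁆ := inf_le_inf_left _ key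
    _ = ⊥ := h55

/-- the subgroup generated by the fixed points of the other hyperplanes -/
def others (q : ℕ) (K V Y₀ : Subgroup G) : Subgroup G :=
  ⨆ Y ∈ {Y : Subgroup G | IsHyp q K Y ∧ Y ≠ Y₀}, V ⊓ centralizer (Y : Set G)

theorem le_others {q : ℕ} {K V Y₀ Y : Subgroup G} (hY : IsHyp q K Y) (hne : Y ≠ Y₀) :
    V ⊓ centralizer (Y : Set G) ≤ others q K V Y₀ :=
  le_iSup₂_of_le Y ⟨hY, hne⟩ le_rfl

theorem others_le {q : ℕ} {K V Y₀ : Subgroup G} : others q K V Y₀ ≤ V :=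
  iSup₂_le fun _ _ => inf_le_left

theorem indep' [Finite G] {q : ℕ} (hq : q.Prime) {V K Y₀ : Subgroup G}
    (hVab : ∀ x ∈ V, ∀ y ∈ V, x * y = y * x)
    (hKV : K ≤ normalizer (V : Set G)) (hKab : ∀ x ∈ K, ∀ y ∈ K, x * y = y * x)
    (hcop : (Nat.card K).Coprime (Nat.card V))
    (hVK : V ⊓ centralizer (K : Set G) = ⊥) (hY₀ : IsHyp q K Y₀) :
    (V ⊓ centralizer (Y₀ : Set G)) ⊓ others q K V Y₀ = ⊥ := by
  apply indep hVab hKV hKab hY₀.1
    (Nat.Coprime.coprime_dvd_left (Subgroup.card_dvd_of_le hY₀.1) hcop) hVK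
  intro Y hY
  exact ⟨hY.1.1, IsHyp.sup_eq hq hY.1 hY₀ hY.2⟩

end Cfsg.Agent.Lib.Helper21.BG36
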