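import Mathlib
import Cfsg.Agent.Lib.Helper21.BG36C

set_option autoImplicit false
open Pointwise Subgroup

namespace Cfsg.Agent.Lib.Helper21.BG36

open Cfsg.Agent.Lib.Helper1 (mem_conj_smul_iff)

variable {G : Type*} [Group G]

theorem mem_centralizer_singleton_of_conj {a x : G} (h : a * x * a⁻¹ = x) :
    x ∈ centralizer ({a} : Set G) := by
  rw [mem_centralizer_iff]
  intro y hy
  rw [Set.mem_singleton_iff] at hy
  subst hy
  calc y * x = y * x * y⁻¹ * y := by group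
    _ = x * y := by rw [h]

theorem aux_eq {x y s t : G} (e : x * s = y * t) : y⁻¹ * x = t * s⁻¹ := by
  calc y⁻¹ * x = y⁻¹ * (x * s) * s⁻¹ := by group
    _ = y⁻¹ * (y * t) * s⁻¹ := by rw [e]
    _ = t * s⁻¹ := by group

theorem gen_le_others {q : ℕ} {V K Y Y₀ : Subgroup G} {a : G} (haV : a ∈ normalizer (V : Set G))
    (haK : a ∈ normalizer (K : Set G)) {r : ℕ} (hY : IsHyp q K Y)
    (hne : ∀ i, 1 ≤ i → i < r → MulAut.conj (a ^ i) • Y ≠ Y₀) {v : G}
    (hv : v ∈ V ⊓ centralizer (Y : Set G)) :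
    closure {x | ∃ i, 1 ≤ i ∧ i < r ∧ x = a ^ i * v * (a ^ i)⁻¹} ≤ others q K V Y₀ := by
  rw [closure_le]
  rintro x ⟨i, hi1, hir, rfl⟩
  have h1 : a ^ i ∈ normalizer (V : Set G) := pow_mem haV i
  have h2 : a ^ i ∈ normalizer (K : Set G) := pow_mem haK i
  exact le_others (hY.conj h2) (hne i hi1 hir) (conj_mem_inf_centralizer_smul h1 hv)

section Star

variable [Finite G] {p q r : ℕ} {V K : Subgroup G} {a : G}

omit [Finite G] in
/-- If the hyperplane `Y` is moved by `a`, its fixed points inject into the fixed points of `a`;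
the function `f` gives the correcting factor. -/
theorem exists_corr (hVab : ∀ x ∈ V, ∀ y ∈ V, x * y = y * x)
    (haV : a ∈ normalizer (V : Set G)) (hr : 0 < r) (har : a ^ r = 1) :
    ∃ f : G → G, ∀ v ∈ V, f v ∈ closure {x | ∃ i, 1 ≤ i ∧ i < r ∧ x = a ^ i * v * (a ^ i)⁻¹} ∧
      f v ∈ V ∧ v * f v ∈ V ⊓ centralizer ({a} : Set G) := by
  have h : ∀ v : G, ∃ w : G, v ∈ V → w ∈ closure {x | ∃ i, 1 ≤ i ∧ i < r ∧ x = a ^ i * v * (a ^ i)⁻¹} ∧
      w ∈ V ∧ v * w ∈ V ⊓ centralizer ({a} : Set G) := by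
    intro v
    by_cases hv : v ∈ V
    · obtain ⟨w, hw1, hw2, hw3⟩ := exists_norm hVab haV hr har hv
      exact ⟨w, fun _ => ⟨hw1, hw2, mem_inf.mpr ⟨V.mul_mem hv hw2,
        mem_centralizer_singleton_of_conj hw3⟩⟩⟩
    · exact ⟨1, fun h => absurd h hv⟩
  choose f hf using h
  exact ⟨f, fun v hv => hf v hv⟩

theorem card_fix_le (hq : q.Prime) (hVab : ∀ x ∈ V, ∀ y ∈ V, x * y = y * x)
    (hKV : K ≤ normalizer (V : Set G)) (hKab : ∀ x ∈ K, ∀ y ∈ K, x * y = y * x)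
    (hcop : (Nat.card K).Coprime (Nat.card V)) (hVK : V ⊓ centralizer (K : Set G) = ⊥)
    (haV : a ∈ normalizer (V : Set G)) (haK : a ∈ normalizer (K : Set G))
    (hr : 0 < r) (har : a ^ r = 1) {Y : Subgroup G} (hY : IsHyp q K Y)
    (hmv : ∀ i, 1 ≤ i → i < r → MulAut.conj (a ^ i) • Y ≠ Y) :
    Nat.card ↥(V ⊓ centralizer (Y : Set G)) ≤ Nat.card ↥(V ⊓ centralizer ({a} : Set G)) := by
  obtain ⟨f, hf⟩ := exists_corr hVab haV hr har
  have hind := indep' hq hVab hKV hKab hcop hVK hY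
  let F : ↥(V ⊓ centralizer (Y : Set G)) → ↥(V ⊓ centralizer ({a} : Set G)) :=
    fun v => ⟨v.1 * f v.1, (hf v.1 (mem_inf.mp v.2).1).2.2⟩
  apply Nat.card_le_card_of_injective F
  intro v v' hvv'
  have hvV : v.1 ∈ V := (mem_inf.mp v.2).1
  have hv'V : v'.1 ∈ V := (mem_inf.mp v'.2).1
  have e : v.1 * f v.1 = v'.1 * f v'.1 := congrArg Subtype.val hvv'
  have hw : f v.1 ∈ others q K V Y := gen_le_others haV haK hY hmv v.2 (hf v.1 hvV).1
  have hw' : f v'.1 ∈ others q K V Y := gen_le_others haV haK hY hmv v'.2 (hf v'.1 hv'V).1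
  have hfV : f v.1 ∈ V := (hf v.1 hvV).2.1
  have hf'V : f v'.1 ∈ V := (hf v'.1 hv'V).2.1
  have e2 : v'.1⁻¹ * v.1 = f v'.1 * (f v.1)⁻¹ := aux_eq e
  have hmem : v'.1⁻¹ * v.1 ∈ (V ⊓ centralizer (Y : Set G)) ⊓ others q K V Y := by
    refine mem_inf.mpr ⟨mul_mem (inv_mem v'.2) v.2, ?_⟩
    rw [e2]
    exact mul_mem hw' (inv_mem hw)
  rw [hind, mem_bot] at hmem
  apply Subtype.ext
  have : v.1 = v'.1 := by
    have := congrArg (fun t => v'.1 * t) hmem
    simpa using this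
  exact this

theorem fix_eq_bot_of_two_orbits (hq : q.Prime) (hVab : ∀ x ∈ V, ∀ y ∈ V, x * y = y * x)
    (hKV : K ≤ normalizer (V : Set G)) (hKab : ∀ x ∈ K, ∀ y ∈ K, x * y = y * x)
    (hcop : (Nat.card K).Coprime (Nat.card V)) (hVK : V ⊓ centralizer (K : Set G) = ⊥)
    (haV : a ∈ normalizer (V : Set G)) (haK : a ∈ normalizer (K : Set G))
    (hr : 0 < r) (har : a ^ r = 1) {Y Y' : Subgroup G} (hY : IsHyp q K Y) (hY' : IsHyp q K Y')
    (hmv : ∀ i, 1 ≤ i → i < r → MulAut.conj (a ^ i) • Y ≠ Y)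
    (hmv' : ∀ i, 1 ≤ i → i < r → MulAut.conj (a ^ i) • Y' ≠ Y')
    (hdis : ∀ i, i < r → MulAut.conj (a ^ i) • Y ≠ Y')
    (hcard : Nat.card ↥(V ⊓ centralizer ({a} : Set G)) ≤ Nat.card ↥(V ⊓ centralizer (Y : Set G))) :
    V ⊓ centralizer (Y' : Set G) = ⊥ := by
  obtain ⟨f, hf⟩ := exists_corr hVab haV hr har
  have hind := indep' hq hVab hKV hKab hcop hVK hY
  have hind' := indep' hq hVab hKV hKab hcop hVK hY'
  let F : ↥(V ⊓ centralizer (Y : Set G)) → ↥(V ⊓ centralizer ({a} : Set G)) :=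
    fun v => ⟨v.1 * f v.1, (hf v.1 (mem_inf.mp v.2).1).2.2⟩
  have hFinj : Function.Injective F := by
    intro v v' hvv'
    have hvV : v.1 ∈ V := (mem_inf.mp v.2).1
    have hv'V : v'.1 ∈ V := (mem_inf.mp v'.2).1
    have e : v.1 * f v.1 = v'.1 * f v'.1 := congrArg Subtype.val hvv'
    have hw : f v.1 ∈ others q K V Y := gen_le_others haV haK hY hmv v.2 (hf v.1 hvV).1
    have hw' : f v'.1 ∈ others q K V Y := gen_le_others haV haK hY hmv v'.2 (hf v'.1 hv'V).1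
    have e2 : v'.1⁻¹ * v.1 = f v'.1 * (f v.1)⁻¹ := aux_eq e
    have hmem : v'.1⁻¹ * v.1 ∈ (V ⊓ centralizer (Y : Set G)) ⊓ others q K V Y := by
      refine mem_inf.mpr ⟨mul_mem (inv_mem v'.2) v.2, ?_⟩
      rw [e2]
      exact mul_mem hw' (inv_mem hw)
    rw [hind, mem_bot] at hmem
    apply Subtype.ext
    have := congrArg (fun t => v'.1 * t) hmem
    simpa using this
  have hFsurj : Function.Surjective F :=
    (Function.Injective.bijective_of_nat_card_le hFinj hcard).2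
  rw [eq_bot_iff]
  intro v' hv'
  rw [mem_bot]
  have hv'V : v' ∈ V := (mem_inf.mp hv').1
  obtain ⟨v, hv⟩ := hFsurj ⟨v' * f v', (hf v' hv'V).2.2⟩
  have e : v.1 * f v.1 = v' * f v' := congrArg Subtype.val hv
  have hvV : v.1 ∈ V := (mem_inf.mp v.2).1
  have h1 : v.1 ∈ others q K V Y' := le_others hY (by simpa using hdis 0 hr) v.2
  have h2 : f v.1 ∈ others q K V Y' :=
    gen_le_others haV haK hY (fun i _ hi => hdis i hi) v.2 (hf v.1 hvV).1
  have h3 : f v' ∈ others q K V Y' := gen_le_others haV haK hY' hmv' hv' (hf v' hv'V).1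
  have e2 : v' = v.1 * f v.1 * (f v')⁻¹ := by
    calc v' = v' * f v' * (f v')⁻¹ := by group
      _ = v.1 * f v.1 * (f v')⁻¹ := by rw [e]
  have hmem : v' ∈ (V ⊓ centralizer (Y' : Set G)) ⊓ others q K V Y' := by
    refine mem_inf.mpr ⟨hv', ?_⟩
    rw [e2]
    exact mul_mem (mul_mem h1 h2) (inv_mem h3)
  rwa [hind', mem_bot] at hmem

end Star

end Cfsg.Agent.Lib.Helper21.BG36
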