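import Mathlib
import Cfsg.Agent.Lib.Helper21.BG36A

set_option autoImplicit false
open Pointwise Subgroup
open scoped commutatorElement

namespace Cfsg.Agent.Lib.Helper21.BG36

open Cfsg.Agent.Lib.Helper1 (mem_conj_smul_iff)

variable {G : Type*} [Group G]

/-- elements normalizing a cyclic subgroup have commutators centralizing it -/
theorem commutator_mem_centralizer_of_isCyclic {K : Subgroup G} (hK : IsCyclic ↥K) {x y : G}
    (hx : x ∈ normalizer (K : Set G)) (hy : y ∈ normalizer (K : Set G)) :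
    ⁅x, y⁆ ∈ centralizer (K : Set G) := by
  let e := IsCyclic.mulAutMulEquiv ↥K
  have hcomm : ∀ f g : MulAut ↥K, f * g = g * f := by
    intro f g
    apply e.injective
    rw [map_mul, map_mul, mul_comm]
  let φ := K.normalizerMonoidHom
  have h1 : φ ⁅(⟨x, hx⟩ : normalizer (K : Set G)), ⟨y, hy⟩⁆ = 1 := by
    rw [map_commutatorElement, commutatorElement_def, hcomm (φ ⟨x, hx⟩) (φ ⟨y, hy⟩)]
    group
  have h2 : ⁅(⟨x, hx⟩ : normalizer (K : Set G)), ⟨y, hy⟩⁆ ∈ φ.ker := h1
  rw [normalizerMonoidHom_ker, mem_subgroupOf] at h2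
  exact h2

theorem commutator_le_centralizer_of_isCyclic {K X Y : Subgroup G} (hK : IsCyclic ↥K)
    (hX : X ≤ normalizer (K : Set G)) (hY : Y ≤ normalizer (K : Set G)) :
    ⁅X, Y⁆ ≤ centralizer (K : Set G) := by
  rw [commutator_le]
  intro x hx y hy
  exact commutator_mem_centralizer_of_isCyclic hK (hX hx) (hY hy)

theorem centralizer_zpowers_eq (a : G) :
    centralizer ((zpowers a : Subgroup G) : Set G) = centralizer ({a} : Set G) := by
  apply le_antisymm
  · apply centralizer_le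
    intro x hx
    rw [Set.mem_singleton_iff] at hx
    subst hx
    exact mem_zpowers x
  · intro x hx
    rw [mem_centralizer_iff] at hx ⊢
    intro y hy
    obtain ⟨n, rfl⟩ := mem_zpowers_iff.mp hy
    have hc : Commute a x := hx a (Set.mem_singleton a)
    exact (hc.zpow_left n).eq

/-- conjugating a normalizing element -/
theorem conj_mem_normalizer_smul {Y : Subgroup G} {g x : G} (hg : g ∈ normalizer (Y : Set G)) :
    x * g * x⁻¹ ∈ normalizer ((MulAut.conj x • Y : Subgroup G) : Set G) := by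
  apply mem_normalizer_of_conj_smul_eq
  have h : MulAut.conj (x * g * x⁻¹) = MulAut.conj x * MulAut.conj g * (MulAut.conj x)⁻¹ := by
    rw [map_mul, map_mul, map_inv]
  rw [h, mul_smul, mul_smul, inv_smul_smul, conj_smul_eq_of_mem_normalizer hg]

/-- "Frobenius generation": if `Z` is normalized by `a` and by `x a x⁻¹` with `1 ≠ x ∈ P`,
`P` is `A`-irreducible and `a` has no fixed points on `P`, then `P` normalizes `Z`. -/
theorem le_normalizer_of_conj {P A Z : Subgroup G} {a x : G} (haA : A = zpowers a)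
    (hAP : A ≤ normalizer (P : Set G))
    (hPmin : ∀ P₂ : Subgroup G, P₂ ≤ P → A ≤ normalizer (P₂ : Set G) → P₂ = ⊥ ∨ P₂ = P)
    (hPA : P ⊓ centralizer (A : Set G) = ⊥) (hx : x ∈ P) (hx1 : x ≠ 1)
    (haZ : a ∈ normalizer (Z : Set G)) (hxaZ : x * a * x⁻¹ ∈ normalizer (Z : Set G)) :
    P ≤ normalizer (Z : Set G) := by
  have haA' : a ∈ A := haA ▸ mem_zpowers a
  have hAZ : A ≤ normalizer (Z : Set G) := by
    rw [haA, zpowers_le]; exact haZ
  set P₂ : Subgroup G := P ⊓ normalizer (Z : Set G) with hP₂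
  have hAP₂ : A ≤ normalizer (P₂ : Set G) := by
    intro b hb
    rw [mem_normalizer_iff]
    intro y
    have hbP := mem_normalizer_iff.mp (hAP hb) y
    have hbZ : b ∈ normalizer (Z : Set G) := hAZ hb
    constructor
    · intro hy
      exact mem_inf.mpr ⟨hbP.mp (mem_inf.mp hy).1,
        mul_mem (mul_mem hbZ (mem_inf.mp hy).2) (inv_mem hbZ)⟩
    · intro hy
      refine mem_inf.mpr ⟨hbP.mpr (mem_inf.mp hy).1, ?_⟩
      have := mul_mem (mul_mem (inv_mem hbZ) (mem_inf.mp hy).2) hbZ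
      have e : b⁻¹ * (b * y * b⁻¹) * b = y := by group
      rwa [e] at this
  have hc : x * a * x⁻¹ * a⁻¹ ∈ P₂ := by
    refine mem_inf.mpr ⟨?_, mul_mem hxaZ (inv_mem haZ)⟩
    have h1 : a * x⁻¹ * a⁻¹ ∈ P := (mem_normalizer_iff.mp (hAP haA') x⁻¹).mp (inv_mem hx)
    have e : x * a * x⁻¹ * a⁻¹ = x * (a * x⁻¹ * a⁻¹) := by group
    rw [e]
    exact mul_mem hx h1
  rcases hPmin P₂ inf_le_left hAP₂ with h | h
  · exfalso
    rw [h, mem_bot] at hc
    have hcomm : a * x = x * a := by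
      have : x * a = a * x := by
        calc x * a = x * a * x⁻¹ * a⁻¹ * (a * x) := by group
          _ = a * x := by rw [hc, one_mul]
      exact this.symm
    have hxC : x ∈ centralizer (A : Set G) := by
      rw [haA, centralizer_zpowers_eq, mem_centralizer_iff]
      intro y hy
      rw [Set.mem_singleton_iff] at hy
      subst hy
      exact hcomm
    have : x ∈ P ⊓ centralizer (A : Set G) := mem_inf.mpr ⟨hx, hxC⟩
    rw [hPA, mem_bot] at this
    exact hx1 this
  · rw [← h]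
    exact inf_le_right

/-- Frobenius conjugacy: every element `x * b` with `x ∈ P`, `1 ≠ b ∈ A` is a `P`-conjugate of `b`. -/
theorem exists_conj_eq_mul [Finite G] {P : Subgroup G} {b : G}
    (hbP : b ∈ normalizer (P : Set G))
    (hfpf : ∀ z ∈ P, z * b = b * z → z = 1) {x : G} (hx : x ∈ P) :
    ∃ z ∈ P, z * b * z⁻¹ = x * b := by
  let F : ↥P → ↥P := fun z => ⟨z.1 * b * z.1⁻¹ * b⁻¹, by
    have h1 : b * z.1⁻¹ * b⁻¹ ∈ P := (mem_normalizer_iff.mp hbP z.1⁻¹).mp (inv_mem z.2)
    have e : z.1 * b * z.1⁻¹ * b⁻¹ = z.1 * (b * z.1⁻¹ * b⁻¹) := by group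
    rw [e]
    exact mul_mem z.2 h1⟩
  have hinj : Function.Injective F := by
    intro z z' h
    have e : z.1 * b * z.1⁻¹ * b⁻¹ = z'.1 * b * z'.1⁻¹ * b⁻¹ := congrArg Subtype.val h
    have e2 : z.1 * b * z.1⁻¹ = z'.1 * b * z'.1⁻¹ := by
      have := congrArg (fun t => t * b) e
      simpa [mul_assoc] using this
    have e3 : (z'.1⁻¹ * z.1) * b = b * (z'.1⁻¹ * z.1) := by
      calc (z'.1⁻¹ * z.1) * b = z'.1⁻¹ * (z.1 * b * z.1⁻¹) * z.1 := by group
        _ = z'.1⁻¹ * (z'.1 * b * z'.1⁻¹) * z.1 := by rw [e2]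
        _ = b * (z'.1⁻¹ * z.1) := by group
    have := hfpf _ (mul_mem (inv_mem z'.2) z.2) e3
    apply Subtype.ext
    have h4 := congrArg (fun t => z'.1 * t) this
    simpa using h4
  obtain ⟨z, hz⟩ := (Finite.injective_iff_surjective.mp hinj) ⟨x, hx⟩
  refine ⟨z.1, z.2, ?_⟩
  have e : z.1 * b * z.1⁻¹ * b⁻¹ = x := congrArg Subtype.val hz
  calc z.1 * b * z.1⁻¹ = z.1 * b * z.1⁻¹ * b⁻¹ * b := by group
    _ = x * b := by rw [e]

end Cfsg.Agent.Lib.Helper21.BG36
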