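import Mathlib
import Cfsg.Agent.Lib.Helper21.BG36D
import Cfsg.Agent.Lib.Helper21.BG36E
import Cfsg.Agent.S0026
import Cfsg.Agent.S0055
import Cfsg.Agent.S1324
import Cfsg.Agent.Lib.Helper1.NilpotentAction

set_option autoImplicit false
open Pointwise Subgroup
open scoped commutatorElement

namespace Cfsg.Agent.Lib.Helper21.BG36

open Cfsg.Agent.Lib.Helper1 (mem_conj_smul_iff)

variable {G : Type*} [Group G]

theorem mem_of_pow_mem_of_prime {a : G} {r i : ℕ} (hr : r.Prime) (har : a ^ r = 1) (hi1 : 1 ≤ i)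
    (hir : i < r) {S : Subgroup G} (h : a ^ i ∈ S) : a ∈ S := by
  have hcop : Nat.Coprime i r := by
    rw [Nat.coprime_comm, Nat.Prime.coprime_iff_not_dvd hr]
    intro hd
    have := Nat.le_of_dvd (by omega) hd
    omega
  obtain ⟨m, -, hm⟩ := Nat.exists_mul_mod_eq_one_of_coprime hcop hr.one_lt
  have e : a ^ (i * m) = a := by
    conv_lhs => rw [← Nat.div_add_mod (i * m) r, pow_add, pow_mul, har, one_pow, one_mul, hm, pow_one]
  rw [← e, pow_mul]
  exact pow_mem h m

theorem exists_zpowers_eq_of_prime_card [Finite G] {A : Subgroup G} (hA : (Nat.card A).Prime) :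
    ∃ a : G, A = zpowers a ∧ a ≠ 1 ∧ a ^ Nat.card A = 1 := by
  have : Fact (Nat.card A).Prime := ⟨hA⟩
  have hcyc : IsCyclic ↥A := isCyclic_of_prime_card (p := Nat.card A) rfl
  obtain ⟨g, hg⟩ := hcyc.exists_generator
  refine ⟨g.1, ?_, ?_, ?_⟩
  · ext x
    constructor
    · intro hx
      obtain ⟨n, hn⟩ := mem_zpowers_iff.mp (hg ⟨x, hx⟩)
      rw [mem_zpowers_iff]
      refine ⟨n, ?_⟩
      have := congrArg Subtype.val hn
      simpa using this
    · intro hx
      exact (zpowers_le.mpr g.2) hx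
  · intro h1
    have hg1 : g = 1 := Subtype.ext h1
    have : ∀ x : ↥A, x = 1 := by
      intro x
      obtain ⟨n, hn⟩ := mem_zpowers_iff.mp (hg x)
      rw [← hn, hg1, one_zpow]
    have hc : Nat.card ↥A = 1 := by
      rw [Nat.card_eq_one_iff_unique]
      exact ⟨⟨fun x y => (this x).trans (this y).symm⟩, ⟨1⟩⟩
    rw [hc] at hA
    exact Nat.not_prime_one hA
  · have h1 := pow_card_eq_one' (G := ↥A) (x := g)
    have h2 := congrArg Subtype.val h1
    rw [Subgroup.coe_pow, Subgroup.coe_one] at h2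
    exact h2

theorem le_card_of_ne_bot [Finite G] {p : ℕ} [Fact p.Prime] {U : Subgroup G} (hU : IsPGroup p U)
    (hne : U ≠ ⊥) : p ≤ Nat.card ↥U := by
  obtain ⟨n, hn⟩ := hU.exists_card_eq
  rw [hn]
  rcases Nat.eq_zero_or_pos n with h0 | h0
  · exfalso
    rw [h0, pow_zero] at hn
    exact hne (Subgroup.card_eq_one.mp hn)
  · exact Nat.le_self_pow (by omega) p

theorem ne_bot_conj {V Y : Subgroup G} {g : G} (hg : g ∈ normalizer (V : Set G))
    (h : V ⊓ centralizer (Y : Set G) ≠ ⊥) :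
    V ⊓ centralizer ((MulAut.conj g • Y : Subgroup G) : Set G) ≠ ⊥ := by
  intro hbot
  apply h
  rw [eq_bot_iff]
  intro v hv
  have := conj_mem_inf_centralizer_smul hg hv
  rw [hbot, mem_bot] at this
  rw [mem_bot]
  have e : v = g⁻¹ * (g * v * g⁻¹) * g := by group
  rw [e, this]; group

end Cfsg.Agent.Lib.Helper21.BG36
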