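import Mathlib
import Cfsg.Agent.Lib.Helper21.BG36F

set_option autoImplicit false
open Pointwise Subgroup
open scoped commutatorElement

namespace Cfsg.Agent.Lib.Helper21.BG36

open Cfsg.Agent.Lib.Helper1 (mem_conj_smul_iff)

variable {G : Type*} [Group G] [Finite G]

/-- The data of the abelian case, after the preliminary reductions. -/
structure AbData (p q r : ℕ) (V K P : Subgroup G) (a : G) : Prop where
  hq : q.Prime
  hr : r.Prime
  hr2 : r ≠ 2
  hp2 : p ≠ 2
  hVab : ∀ x ∈ V, ∀ y ∈ V, x * y = y * x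
  hVp : IsPGroup p V
  hKab : ∀ x ∈ K, ∀ y ∈ K, x * y = y * x
  hP : IsPGroup p P
  hP1 : P ≠ ⊥
  hKV : K ≤ normalizer (V : Set G)
  hPV : P ≤ normalizer (V : Set G)
  hPK : P ≤ normalizer (K : Set G)
  haV : a ∈ normalizer (V : Set G)
  haK : a ∈ normalizer (K : Set G)
  haP : a ∈ normalizer (P : Set G)
  har : a ^ r = 1
  hcop : (Nat.card K).Coprime (Nat.card V)
  hVK : V ⊓ centralizer (K : Set G) = ⊥
  hPmin : ∀ P₂ : Subgroup G, P₂ ≤ P → zpowers a ≤ normalizer (P₂ : Set G) → P₂ = ⊥ ∨ P₂ = P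
  hPA : P ⊓ centralizer ((zpowers a : Subgroup G) : Set G) = ⊥
  hVa : Nat.card ↥(V ⊓ centralizer ({a} : Set G)) ≤ p
  hPVf : P ⊓ centralizer (V : Set G) = ⊥
  hgen : ∀ T : Subgroup G, (∀ Y, IsHyp q K Y → V ⊓ centralizer (Y : Set G) ≤ T) → V ≤ T
  hnoinv : ∀ Y, IsHyp q K Y → P ≤ normalizer (Y : Set G) → a ∈ normalizer (Y : Set G) → False
  hcardP : Nat.card ↥P % r = 1

namespace AbData

variable {p q r : ℕ} [Fact p.Prime] {V K P : Subgroup G} {a : G}

theorem moved (D : AbData p q r V K P a) {Y : Subgroup G} (h : MulAut.conj a • Y ≠ Y) :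
    ∀ i, 1 ≤ i → i < r → MulAut.conj (a ^ i) • Y ≠ Y := by
  intro i hi1 hir he
  apply h
  have h1 : a ^ i ∈ normalizer (Y : Set G) := mem_normalizer_of_conj_smul_eq he
  exact conj_smul_eq_of_mem_normalizer (mem_of_pow_mem_of_prime D.hr D.har hi1 hir h1)

theorem card_fix (D : AbData p q r V K P a) {Y : Subgroup G} (hY : IsHyp q K Y)
    (hne : V ⊓ centralizer (Y : Set G) ≠ ⊥) (hmv : MulAut.conj a • Y ≠ Y) :
    Nat.card ↥(V ⊓ centralizer (Y : Set G)) = p ∧ Nat.card ↥(V ⊓ centralizer ({a} : Set G)) = p := by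
  have h1 := card_fix_le D.hq D.hVab D.hKV D.hKab D.hcop D.hVK D.haV D.haK D.hr.pos D.har hY
    (D.moved hmv)
  have h2 : p ≤ Nat.card ↥(V ⊓ centralizer (Y : Set G)) :=
    le_card_of_ne_bot (D.hVp.to_le inf_le_left) hne
  have h3 := D.hVa
  constructor <;> omega

/-- In case all relevant hyperplanes are fixed by `a`, or one is: the conjugate by `1 ≠ x ∈ P` of an
`a`-fixed relevant hyperplane is moved by `a`. -/
theorem conj_moved (D : AbData p q r V K P a) {Y : Subgroup G} (hY : IsHyp q K Y)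
    (hfix : a ∈ normalizer (Y : Set G)) {x : G} (hx : x ∈ P) (hx1 : x ≠ 1) :
    MulAut.conj a • (MulAut.conj x • Y) ≠ MulAut.conj x • Y := by
  intro he
  have ha2 : a ∈ normalizer ((MulAut.conj x • Y : Subgroup G) : Set G) :=
    mem_normalizer_of_conj_smul_eq he
  have hxa : x * a * x⁻¹ ∈ normalizer ((MulAut.conj x • Y : Subgroup G) : Set G) :=
    conj_mem_normalizer_smul hfix
  have hAP : zpowers a ≤ normalizer (P : Set G) := zpowers_le.mpr D.haP
  have hP2 : P ≤ normalizer ((MulAut.conj x • Y : Subgroup G) : Set G) :=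
    le_normalizer_of_conj rfl hAP D.hPmin D.hPA hx hx1 ha2 hxa
  exact D.hnoinv _ (hY.conj (D.hPK hx)) hP2 ha2

theorem exists_relevant (D : AbData p q r V K P a) :
    ∃ Y, IsHyp q K Y ∧ V ⊓ centralizer (Y : Set G) ≠ ⊥ := by
  by_contra hcon
  push Not at hcon
  have hV : V ≤ ⊥ := D.hgen ⊥ (fun Y hY => (hcon Y hY).le)
  have hVbot : V = ⊥ := eq_bot_iff.mpr hV
  have : P ≤ P ⊓ centralizer (V : Set G) := by
    refine le_inf le_rfl ?_
    rw [hVbot]
    intro x _
    rw [mem_centralizer_iff]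
    intro y hy
    rw [coe_bot, Set.mem_singleton_iff] at hy
    subst hy
    simp
  rw [D.hPVf] at this
  exact D.hP1 (eq_bot_iff.mpr this)

theorem exists_ne_one (D : AbData p q r V K P a) : ∃ x ∈ P, x ≠ 1 := by
  by_contra hcon
  push Not at hcon
  exact D.hP1 (eq_bot_iff.mpr fun x hx => by rw [mem_bot]; exact hcon x hx)

/-- Case 1: every relevant hyperplane is fixed by `a`. -/
theorem case1 (D : AbData p q r V K P a)
    (h : ∀ Y, IsHyp q K Y → V ⊓ centralizer (Y : Set G) ≠ ⊥ → MulAut.conj a • Y = Y) : False := by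
  obtain ⟨Y, hY, hYne⟩ := D.exists_relevant
  obtain ⟨x, hx, hx1⟩ := D.exists_ne_one
  have hfix : a ∈ normalizer (Y : Set G) := mem_normalizer_of_conj_smul_eq (h Y hY hYne)
  exact D.conj_moved hY hfix hx hx1
    (h _ (hY.conj (D.hPK hx)) (ne_bot_conj (D.hPV hx) hYne))

/-- all moved relevant hyperplanes are in one orbit -/
theorem one_orbit (D : AbData p q r V K P a) {Y₁ : Subgroup G} (hY₁ : IsHyp q K Y₁)
    (hne₁ : V ⊓ centralizer (Y₁ : Set G) ≠ ⊥) (hmv₁ : MulAut.conj a • Y₁ ≠ Y₁)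
    {Y' : Subgroup G} (hY' : IsHyp q K Y') (hne' : V ⊓ centralizer (Y' : Set G) ≠ ⊥)
    (hmv' : MulAut.conj a • Y' ≠ Y') : ∃ i, i < r ∧ MulAut.conj (a ^ i) • Y₁ = Y' := by
  by_contra hcon
  push Not at hcon
  have hc := D.card_fix hY₁ hne₁ hmv₁
  exact hne' (fix_eq_bot_of_two_orbits D.hq D.hVab D.hKV D.hKab D.hcop D.hVK D.haV D.haK D.hr.pos
    D.har hY₁ hY' (D.moved hmv₁) (D.moved hmv') hcon (by rw [hc.1, hc.2]))

/-- Case 2a: a relevant hyperplane fixed by `a` and a moved one. -/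
theorem case2a (D : AbData p q r V K P a) {Y₁ : Subgroup G} (hY₁ : IsHyp q K Y₁)
    (hne₁ : V ⊓ centralizer (Y₁ : Set G) ≠ ⊥) (hmv₁ : MulAut.conj a • Y₁ ≠ Y₁)
    {Y₀ : Subgroup G} (hY₀ : IsHyp q K Y₀) (hne₀ : V ⊓ centralizer (Y₀ : Set G) ≠ ⊥)
    (hfix₀ : MulAut.conj a • Y₀ = Y₀) : False := by
  classical
  have hfix : a ∈ normalizer (Y₀ : Set G) := mem_normalizer_of_conj_smul_eq hfix₀
  -- the map from non-identity elements of `P` to `Fin r`
  have key : ∀ x : {x : ↥P // x ≠ 1}, ∃ i : Fin r,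
      MulAut.conj (a ^ (i : ℕ)) • Y₁ = MulAut.conj (x.1 : G) • Y₀ := by
    intro x
    have hx1 : (x.1 : G) ≠ 1 := fun h => x.2 (Subtype.ext h)
    obtain ⟨i, hi, he⟩ := D.one_orbit hY₁ hne₁ hmv₁ (hY₀.conj (D.hPK x.1.2))
      (ne_bot_conj (D.hPV x.1.2) hne₀) (D.conj_moved hY₀ hfix x.1.2 hx1)
    exact ⟨⟨i, hi⟩, he⟩
  choose ψ hψ using key
  have hAP : zpowers a ≤ normalizer (P : Set G) := zpowers_le.mpr D.haP
  have hinj : Function.Injective ψ := by
    intro x x' hxx'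
    have e : MulAut.conj (x.1 : G) • Y₀ = MulAut.conj (x'.1 : G) • Y₀ := by
      rw [← hψ x, ← hψ x', hxx']
    -- x'⁻¹ x normalizes Y₀
    have hn : (x'.1 : G)⁻¹ * x.1 ∈ P ⊓ normalizer (Y₀ : Set G) := by
      refine mem_inf.mpr ⟨mul_mem (inv_mem x'.1.2) x.1.2, ?_⟩
      apply mem_normalizer_of_conj_smul_eq
      rw [map_mul, mul_smul, e, map_inv, inv_smul_smul]
    set P₃ : Subgroup G := P ⊓ normalizer (Y₀ : Set G) with hP₃
    have hAP₃ : zpowers a ≤ normalizer (P₃ : Set G) := by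
      have hAZ : zpowers a ≤ normalizer (Y₀ : Set G) := zpowers_le.mpr hfix
      intro b hb
      rw [mem_normalizer_iff]
      intro y
      have hbP := mem_normalizer_iff.mp (hAP hb) y
      have hbZ : b ∈ normalizer (Y₀ : Set G) := hAZ hb
      constructor
      · intro hy
        exact mem_inf.mpr ⟨hbP.mp (mem_inf.mp hy).1,
          mul_mem (mul_mem hbZ (mem_inf.mp hy).2) (inv_mem hbZ)⟩
      · intro hy
        refine mem_inf.mpr ⟨hbP.mpr (mem_inf.mp hy).1, ?_⟩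
        have := mul_mem (mul_mem (inv_mem hbZ) (mem_inf.mp hy).2) hbZ
        have e : b⁻¹ * (b * y * b⁻¹) * b = y := by group
        rwa [e] at this
    rcases D.hPmin P₃ inf_le_left hAP₃ with h | h
    · rw [h, mem_bot] at hn
      apply Subtype.ext
      apply Subtype.ext
      have := congrArg (fun t => (x'.1 : G) * t) hn
      simpa using this
    · exfalso
      exact D.hnoinv Y₀ hY₀ (h ▸ inf_le_right) hfix
  have hcard : Nat.card {x : ↥P // x ≠ 1} ≤ r := by
    have := Nat.card_le_card_of_injective ψ hinj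
    simpa using this
  have hcard2 : Nat.card {x : ↥P // x ≠ 1} = Nat.card ↥P - 1 := by
    have : Fintype ↥P := Fintype.ofFinite _
    rw [Nat.card_eq_fintype_card, Nat.card_eq_fintype_card, Fintype.card_subtype_compl,
      Fintype.card_subtype_eq]
  -- parity
  obtain ⟨n, hn⟩ := D.hP.exists_card_eq
  have hp : p.Prime := Fact.out
  have hodd : Odd (Nat.card ↥P) := by
    rw [hn]
    exact Odd.pow (hp.odd_of_ne_two D.hp2)
  have hrodd : Odd r := D.hr.odd_of_ne_two D.hr2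
  have h1 := D.hcardP
  have hPgt : 1 < Nat.card ↥P := by
    rw [Subgroup.one_lt_card_iff_ne_bot]
    exact D.hP1
  rw [hcard2] at hcard
  obtain ⟨t, ht⟩ : ∃ t, Nat.card ↥P = r * t + 1 :=
    ⟨Nat.card ↥P / r, by have := Nat.div_add_mod (Nat.card ↥P) r; omega⟩
  have ht1 : t = 1 := by
    rcases Nat.lt_or_ge t 1 with h | h
    · have h0 : t = 0 := by omega
      subst h0
      omega
    · rcases Nat.lt_or_ge 1 t with h' | h'
      · have h2 : r * 2 ≤ r * t := Nat.mul_le_mul_left r h'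
        have hr0 := D.hr.pos
        omega
      · omega
  subst ht1
  obtain ⟨k, hk⟩ := hodd
  obtain ⟨m, hm⟩ := hrodd
  omega

end AbData

end Cfsg.Agent.Lib.Helper21.BG36
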