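import Mathlib
import Cfsg.Agent.Lib.Helper21.BG36G
import Cfsg.Agent.Lib.Helper1.Coprime

set_option autoImplicit false
open Pointwise Subgroup
open scoped commutatorElement

namespace Cfsg.Agent.Lib.Helper21.BG36

open Cfsg.Agent.Lib.Helper1 (mem_conj_smul_iff)

variable {G : Type*} [Group G] [Finite G]

theorem card_mod_eq_one {P A : Subgroup G} {r : ℕ} [Fact r.Prime] (hA : IsPGroup r A)
    (hAP : A ≤ normalizer (P : Set G)) (hPA : P ⊓ centralizer (A : Set G) = ⊥) :
    Nat.card ↥P % r = 1 := by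
  let _ : MulAction ↥A ↥P := MulAction.compHom ↥P (Subgroup.inclusion hAP)
  have h := hA.card_modEq_card_fixedPoints ↥P
  have hfix : MulAction.fixedPoints ↥A ↥P = {1} := by
    ext x
    rw [MulAction.mem_fixedPoints, Set.mem_singleton_iff]
    constructor
    · intro hx
      have hxC : (x : G) ∈ P ⊓ centralizer (A : Set G) := by
        refine mem_inf.mpr ⟨x.2, ?_⟩
        rw [mem_centralizer_iff]
        intro b hb
        have := hx ⟨b, hb⟩
        have h2 : b * (x : G) * b⁻¹ = x := congrArg Subtype.val this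
        calc b * (x : G) = b * x * b⁻¹ * b := by group
          _ = x * b := by rw [h2]
      rw [hPA, mem_bot] at hxC
      exact Subtype.ext hxC
    · rintro rfl b
      apply Subtype.ext
      show (b : G) * 1 * (b : G)⁻¹ = 1
      group
  have hc : Nat.card (MulAction.fixedPoints ↥A ↥P) = 1 := by
    rw [hfix]
    simp
  rw [hc] at h
  have hr1 : 1 < r := (Fact.out : r.Prime).one_lt
  have : Nat.card ↥P % r = 1 % r := h
  rwa [Nat.mod_eq_of_lt hr1] at this

theorem mem_of_inv_mul_pow_mem {a : G} {r : ℕ} (hr : r.Prime) (har : a ^ r = 1) {i j : ℕ}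
    (hi : i < r) (hj : j < r) (hij : i ≠ j) {S : Subgroup G} (h : (a ^ i)⁻¹ * a ^ j ∈ S) :
    a ∈ S := by
  rcases Nat.lt_or_gt_of_ne hij with hlt | hgt
  · have e : (a ^ i)⁻¹ * a ^ j = a ^ (j - i) := by
      have : a ^ j = a ^ i * a ^ (j - i) := by rw [← pow_add]; congr 1; omega
      rw [this]; group
    rw [e] at h
    exact mem_of_pow_mem_of_prime hr har (by omega) (by omega) h
  · have e : ((a ^ i)⁻¹ * a ^ j)⁻¹ = a ^ (i - j) := by
      have : a ^ i = a ^ j * a ^ (i - j) := by rw [← pow_add]; congr 1; omega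
      rw [this]; group
    have h' := S.inv_mem h
    rw [e] at h'
    exact mem_of_pow_mem_of_prime hr har (by omega) (by omega) h'

namespace AbData

variable {p q r : ℕ} [Fact p.Prime] {V K P : Subgroup G} {a : G}

/-- Case 2b: no relevant hyperplane is fixed by `a`; then `P` normalizes all of them. -/
theorem le_normalizer_of_all_moved (D : AbData p q r V K P a)
    (hall : ∀ Y, IsHyp q K Y → V ⊓ centralizer (Y : Set G) ≠ ⊥ → MulAut.conj a • Y ≠ Y)
    {Y : Subgroup G} (hY : IsHyp q K Y) (hne : V ⊓ centralizer (Y : Set G) ≠ ⊥) :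
    P ≤ normalizer (Y : Set G) := by
  obtain ⟨Y₁, hY₁, hne₁⟩ := D.exists_relevant
  have hmv₁ := hall Y₁ hY₁ hne₁
  intro x hx
  apply mem_normalizer_of_conj_smul_eq
  obtain ⟨j, hj, hej⟩ := D.one_orbit hY₁ hne₁ hmv₁ hY hne (hall Y hY hne)
  have hxY : IsHyp q K (MulAut.conj x • Y) := hY.conj (D.hPK hx)
  have hxne : V ⊓ centralizer ((MulAut.conj x • Y : Subgroup G) : Set G) ≠ ⊥ :=
    ne_bot_conj (D.hPV hx) hne
  obtain ⟨i, hi, hei⟩ := D.one_orbit hY₁ hne₁ hmv₁ hxY hxne (hall _ hxY hxne)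
  by_cases hij : i = j
  · rw [← hei, hij, hej]
  exfalso
  -- g = (a^i)⁻¹ x a^j normalizes Y₁
  set b : G := (a ^ i)⁻¹ * a ^ j with hb
  set x' : G := (a ^ i)⁻¹ * x * a ^ i with hx'
  have hai : a ^ i ∈ normalizer (P : Set G) := pow_mem D.haP i
  have hx'P : x' ∈ P := by
    have := (mem_normalizer_iff.mp (inv_mem hai) x).mp hx
    simpa [hx', mul_assoc] using this
  have hg : x' * b ∈ normalizer (Y₁ : Set G) := by
    apply mem_normalizer_of_conj_smul_eq
    have e : x' * b = (a ^ i)⁻¹ * x * a ^ j := by rw [hx', hb]; group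
    rw [e, map_mul, map_mul, mul_smul, mul_smul, hej, ← hei, map_inv, inv_smul_smul]
  have hbP : b ∈ normalizer (P : Set G) := mul_mem (inv_mem hai) (pow_mem D.haP j)
  have hfpf : ∀ z ∈ P, z * b = b * z → z = 1 := by
    intro z hz hzb
    have hbS : b ∈ centralizer ({z} : Set G) := by
      rw [mem_centralizer_iff]
      intro y hy
      rw [Set.mem_singleton_iff] at hy
      subst hy
      exact hzb
    have haS : a ∈ centralizer ({z} : Set G) :=
      mem_of_inv_mul_pow_mem D.hr D.har hi hj hij hbS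
    have hza : z * a = a * z := (mem_centralizer_iff.mp haS) z (Set.mem_singleton z)
    have hzC : z ∈ P ⊓ centralizer ((zpowers a : Subgroup G) : Set G) := by
      refine mem_inf.mpr ⟨hz, ?_⟩
      rw [centralizer_zpowers_eq, mem_centralizer_iff]
      intro y hy
      rw [Set.mem_singleton_iff] at hy
      subst hy
      exact hza.symm
    rw [D.hPA, mem_bot] at hzC
    exact hzC
  obtain ⟨z, hz, hze⟩ := exists_conj_eq_mul hbP hfpf hx'P
  rw [← hze] at hg
  -- so b normalizes z⁻¹ • Y₁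
  have hb2 : b ∈ normalizer ((MulAut.conj z⁻¹ • Y₁ : Subgroup G) : Set G) := by
    have := conj_mem_normalizer_smul (x := z⁻¹) hg
    have e : z⁻¹ * (z * b * z⁻¹) * z⁻¹⁻¹ = b := by group
    rwa [e] at this
  have ha2 : a ∈ normalizer ((MulAut.conj z⁻¹ • Y₁ : Subgroup G) : Set G) :=
    mem_of_inv_mul_pow_mem D.hr D.har hi hj hij hb2
  have hzP : z⁻¹ ∈ P := inv_mem hz
  exact hall _ (hY₁.conj (D.hPK hzP)) (ne_bot_conj (D.hPV hzP) hne₁)
    (conj_smul_eq_of_mem_normalizer ha2)

theorem case2b (D : AbData p q r V K P a)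
    (hall : ∀ Y, IsHyp q K Y → V ⊓ centralizer (Y : Set G) ≠ ⊥ → MulAut.conj a • Y ≠ Y) :
    False := by
  have hp : p.Prime := Fact.out
  have key : ∀ Y, IsHyp q K Y → V ⊓ centralizer (Y : Set G) ≤ centralizer (P : Set G) := by
    intro Y hY
    by_cases hne : V ⊓ centralizer (Y : Set G) = ⊥
    · rw [hne]; exact bot_le
    set U : Subgroup G := V ⊓ centralizer (Y : Set G) with hU
    have hPY := D.le_normalizer_of_all_moved hall hY hne
    have hPU : P ≤ normalizer (U : Set G) := by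
      intro x hx
      apply Cfsg.Agent.Lib.Helper1.mem_normalizer_of_forall_conj_mem
      intro u hu
      have := conj_mem_inf_centralizer_smul (D.hPV hx) hu
      rwa [conj_smul_eq_of_mem_normalizer (hPY hx)] at this
    have hUp : IsPGroup p U := D.hVp.to_le inf_le_left
    have hlt := Cfsg.Agent.Lib.Helper1.IsPGroup.commutator_lt hUp D.hP hPU hne
    have hcard : Nat.card ↥U = p := (D.card_fix hY hne (hall Y hY hne)).1
    have hbot : ⁅U, P⁆ = ⊥ := by
      have hdvd : Nat.card ↥⁅U, P⁆ ∣ p := hcard ▸ Subgroup.card_dvd_of_le hlt.le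
      rcases (Nat.dvd_prime hp).mp hdvd with h1 | h1
      · exact Subgroup.card_eq_one.mp h1
      · exfalso
        have : ⁅U, P⁆ = U := Subgroup.eq_of_le_of_card_ge hlt.le (by rw [h1, hcard])
        exact hlt.ne this
    exact commutator_eq_bot_iff_le_centralizer.mp hbot
  have hV : V ≤ centralizer (P : Set G) := D.hgen _ key
  have hPV : P ≤ centralizer (V : Set G) := le_centralizer_iff.mp hV
  have : P ≤ P ⊓ centralizer (V : Set G) := le_inf le_rfl hPV
  rw [D.hPVf] at this
  exact D.hP1 (eq_bot_iff.mpr this)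

theorem false (D : AbData p q r V K P a) : False := by
  by_cases h1 : ∀ Y, IsHyp q K Y → V ⊓ centralizer (Y : Set G) ≠ ⊥ → MulAut.conj a • Y = Y
  · exact D.case1 h1
  push Not at h1
  obtain ⟨Y₁, hY₁, hne₁, hmv₁⟩ := h1
  by_cases h2 : ∀ Y, IsHyp q K Y → V ⊓ centralizer (Y : Set G) ≠ ⊥ → MulAut.conj a • Y ≠ Y
  · exact D.case2b h2
  push Not at h2
  obtain ⟨Y₀, hY₀, hne₀, hfix₀⟩ := h2
  exact D.case2a hY₁ hne₁ hmv₁ hY₀ hne₀ hfix₀

end AbData

end Cfsg.Agent.Lib.Helper21.BG36
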