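import Mathlib
import Cfsg.Agent.Lib.Helper21.BG36H
import Cfsg.Agent.S0026
import Cfsg.Agent.S0055
import Cfsg.Agent.S1324

set_option autoImplicit false
open Pointwise Subgroup
open scoped commutatorElement

namespace Cfsg.Agent.Lib.Helper21.BG36

open Cfsg.Agent.Lib.Helper1 (mem_conj_smul_iff)

variable {G : Type*} [Group G] [Finite G]

/-- the subgroup of elements of order dividing `q` in an abelian subgroup -/
def omegaSub (q : ℕ) (K : Subgroup G) (hKab : ∀ x ∈ K, ∀ y ∈ K, x * y = y * x) : Subgroup G where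
  carrier := {x | x ∈ K ∧ x ^ q = 1}
  mul_mem' := by
    rintro x y ⟨hx, hxq⟩ ⟨hy, hyq⟩
    refine ⟨K.mul_mem hx hy, ?_⟩
    have hc : Commute x y := hKab x hx y hy
    rw [hc.mul_pow, hxq, hyq, one_mul]
  one_mem' := ⟨K.one_mem, one_pow q⟩
  inv_mem' := by
    rintro x ⟨hx, hxq⟩
    exact ⟨K.inv_mem hx, by rw [inv_pow, hxq, inv_one]⟩

omit [Finite G] in
theorem mem_normalizer_bot (g : G) : g ∈ normalizer (((⊥ : Subgroup G) : Subgroup G) : Set G) := by
  rw [mem_normalizer_iff]
  intro h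
  rw [mem_bot, mem_bot]
  constructor
  · rintro rfl; group
  · intro hh
    have : h = g⁻¹ * (g * h * g⁻¹) * g := by group
    rw [this, hh]; group

theorem fc_abelian (p : ℕ) [Fact p.Prime] (hp2 : p ≠ 2) (V K P A : Subgroup G)
    (hVab : ∀ x ∈ V, ∀ y ∈ V, x * y = y * x) (hVexp : ∀ x ∈ V, x ^ p = 1)
    (hKp : (Nat.card K).Coprime p)
    (hP : IsPGroup p P) (hP1 : P ≠ ⊥)
    (hA : (Nat.card A).Prime) (hA2 : Nat.card A ≠ 2) (hAp : Nat.card A ≠ p)
    (hKV : K ≤ normalizer (V : Set G)) (hPV : P ≤ normalizer (V : Set G))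
    (hAV : A ≤ normalizer (V : Set G))
    (hPK : P ≤ normalizer (K : Set G)) (hAKn : A ≤ normalizer (K : Set G))
    (hAP : A ≤ normalizer (P : Set G))
    (hfaith : (K ⊔ P) ⊓ centralizer (V : Set G) = ⊥) (hPKf : P ⊓ centralizer (K : Set G) = ⊥)
    (hKP : ⁅K, P⁆ = K)
    (hKmin : ∀ K₂ : Subgroup G, K₂ ≤ K → K₂ ≠ K → P ≤ normalizer (K₂ : Set G) →
      A ≤ normalizer (K₂ : Set G) → P ≤ centralizer (K₂ : Set G))
    (hPmin : ∀ P₂ : Subgroup G, P₂ ≤ P → A ≤ normalizer (P₂ : Set G) → P₂ = ⊥ ∨ P₂ = P)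
    (hPA : P ⊓ centralizer (A : Set G) = ⊥) (hVA : Nat.card ↥(V ⊓ centralizer (A : Set G)) ≤ p)
    (hVK : V ⊓ centralizer (K : Set G) = ⊥)
    (hKab : ∀ x ∈ K, ∀ y ∈ K, x * y = y * x) : False := by
  classical
  have hp : p.Prime := Fact.out
  obtain ⟨a, haA, ha1, har⟩ := exists_zpowers_eq_of_prime_card hA
  set r := Nat.card ↥A with hr
  have haA' : a ∈ A := haA ▸ mem_zpowers a
  have hVp : IsPGroup p V := by
    intro x
    refine ⟨1, ?_⟩
    apply Subtype.ext
    rw [pow_one, Subgroup.coe_pow, Subgroup.coe_one]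
    exact hVexp x.1 x.2
  have hKc : IsMulCommutative ↥K := ⟨⟨fun x y => Subtype.ext (hKab x x.2 y y.2)⟩⟩
  -- coprimality
  have hcopPK : (Nat.card ↥P).Coprime (Nat.card ↥K) := by
    obtain ⟨n, hn⟩ := hP.exists_card_eq
    rw [hn]
    exact Nat.Coprime.pow_left n hKp.symm
  have hcopKV : (Nat.card ↥K).Coprime (Nat.card ↥V) := by
    obtain ⟨n, hn⟩ := hVp.exists_card_eq
    rw [hn]
    exact Nat.Coprime.pow_right n hKp
  have hcopAP : (Nat.card ↥A).Coprime (Nat.card ↥P) := by
    obtain ⟨n, hn⟩ := hP.exists_card_eq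
    rw [hn]
    exact Nat.Coprime.pow_right n ((Nat.coprime_primes hA hp).mpr hAp)
  -- C_K(P) = 1
  have hCKP : K ⊓ centralizer (P : Set G) = ⊥ := by
    have h := (Cfsg.Agent.S0055.result P K hPK hcopPK).1
    rw [hKP] at h
    have : K ⊓ centralizer (P : Set G) ≤ (K ⊓ centralizer (P : Set G)) ⊓ K := le_inf le_rfl inf_le_left
    rw [h] at this
    exact eq_bot_iff.mpr this
  -- irreducibility of K
  have hirr : ∀ K₂ : Subgroup G, K₂ ≤ K → P ≤ normalizer (K₂ : Set G) →
      A ≤ normalizer (K₂ : Set G) → K₂ = ⊥ ∨ K₂ = K := by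
    intro K₂ h1 h2 h3
    by_cases hK₂ : K₂ = K
    · exact Or.inr hK₂
    · left
      have hc := hKmin K₂ h1 hK₂ h2 h3
      have : K₂ ≤ K ⊓ centralizer (P : Set G) := le_inf h1 (le_centralizer_iff.mp hc)
      rw [hCKP] at this
      exact eq_bot_iff.mpr this
  have hK1 : K ≠ ⊥ := by
    intro hK
    apply hP1
    have : P ≤ P ⊓ centralizer (K : Set G) := by
      refine le_inf le_rfl ?_
      rw [hK]
      intro x _
      rw [mem_centralizer_iff]
      intro y hy
      rw [coe_bot, Set.mem_singleton_iff] at hy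
      subst hy
      simp
    rw [hPKf] at this
    exact eq_bot_iff.mpr this
  -- the prime q
  have hcardK1 : Nat.card ↥K ≠ 1 := fun h => hK1 (Subgroup.card_eq_one.mp h)
  set q := (Nat.card ↥K).minFac with hq
  have hqp : q.Prime := Nat.minFac_prime hcardK1
  have hqdvd : q ∣ Nat.card ↥K := Nat.minFac_dvd _
  have hqF : Fact q.Prime := ⟨hqp⟩
  have hKexp : ∀ x ∈ K, x ^ q = 1 := by
    have : Fact q.Prime := ⟨hqp⟩
    set Ω := omegaSub q K hKab with hΩ
    have hΩK : Ω ≤ K := fun x hx => hx.1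
    have hΩinv : ∀ g ∈ normalizer (K : Set G), g ∈ normalizer (Ω : Set G) := by
      intro g hg
      apply Cfsg.Agent.Lib.Helper1.mem_normalizer_of_forall_conj_mem
      rintro x ⟨hx, hxq⟩
      refine ⟨(mem_normalizer_iff.mp hg x).mp hx, ?_⟩
      rw [conj_pow, hxq]; group
    have hΩ1 : Ω ≠ ⊥ := by
      obtain ⟨x, hx⟩ := exists_prime_orderOf_dvd_card' (G := ↥K) q hqdvd
      intro hbot
      have hxΩ : (x : G) ∈ Ω := by
        refine ⟨x.2, ?_⟩
        have := pow_orderOf_eq_one x
        rw [hx] at this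
        have h2 := congrArg Subtype.val this
        rwa [Subgroup.coe_pow, Subgroup.coe_one] at h2
      rw [hbot, mem_bot] at hxΩ
      have : x = 1 := Subtype.ext hxΩ
      rw [this, orderOf_one] at hx
      exact hqp.one_lt.ne hx
    rcases hirr Ω hΩK (fun g hg => hΩinv g (hPK hg)) (fun g hg => hΩinv g (hAKn hg)) with h | h
    · exact absurd h hΩ1
    · intro x hx
      have : x ∈ Ω := h ▸ hx
      exact this.2
  have hKq : IsPGroup q K := by
    intro x
    refine ⟨1, ?_⟩
    apply Subtype.ext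
    rw [pow_one, Subgroup.coe_pow, Subgroup.coe_one]
    exact hKexp x.1 x.2
  have hKel : Cfsg.IsElementaryAbelian q K := ⟨hKc, hKexp⟩
  -- P = [P, A]
  have hPcomm : ⁅P, A⁆ = P := by
    have h := Cfsg.Agent.S0026.result A P hAP hcopAP
      (Or.inr (by have := hP.isNilpotent; infer_instance))
    rw [hPA, sup_bot_eq] at h
    exact h
  -- no invariant hyperplane
  have hnoinv : ∀ Y, IsHyp q K Y → P ≤ normalizer (Y : Set G) → a ∈ normalizer (Y : Set G) →
      False := by
    intro Y hY hPY haY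
    have hAY : A ≤ normalizer (Y : Set G) := by rw [haA, zpowers_le]; exact haY
    rcases hirr Y hY.1 hPY hAY with h | h
    · -- |K| = q, K cyclic
      have hcard : Nat.card ↥K = q := by
        have := hY.2
        rwa [h, Subgroup.relIndex_bot_left] at this
      have : Fact q.Prime := ⟨hqp⟩
      have hcyc : IsCyclic ↥K := isCyclic_of_prime_card hcard
      have h1 : ⁅P, A⁆ ≤ centralizer (K : Set G) :=
        commutator_le_centralizer_of_isCyclic hcyc hPK hAKn
      rw [hPcomm] at h1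
      have : P ≤ P ⊓ centralizer (K : Set G) := le_inf le_rfl h1
      rw [hPKf] at this
      exact hP1 (eq_bot_iff.mpr this)
    · have := hY.2
      rw [h, Subgroup.relIndex_self] at this
      exact hqp.one_lt.ne this
  -- q² ≤ |K|
  obtain ⟨n, hn⟩ := hKq.exists_card_eq
  have hn2 : 2 ≤ n := by
    rcases Nat.lt_or_ge n 2 with h | h
    · exfalso
      interval_cases n
      · rw [pow_zero] at hn; exact hcardK1 hn
      · rw [pow_one] at hn
        exact hnoinv ⊥ ⟨bot_le, by rw [Subgroup.relIndex_bot_left, hn]⟩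
          (fun g _ => mem_normalizer_bot g) (mem_normalizer_bot a)
    · exact h
  have hq2 : q ^ 2 ≤ Nat.card ↥K := by
    rw [hn]
    exact Nat.pow_le_pow_right hqp.pos hn2
  have hqV : ¬ q ∣ Nat.card ↥V := by
    intro hd
    have := Nat.eq_one_of_dvd_coprimes hcopKV hqdvd hd
    exact hqp.one_lt.ne' this
  -- generation
  have hgen : ∀ T : Subgroup G, (∀ Y, IsHyp q K Y → V ⊓ centralizer (Y : Set G) ≤ T) → V ≤ T := by
    intro T hT
    have : Fact q.Prime := ⟨hqp⟩
    have h := Cfsg.Agent.S1324.result q K V hKel hq2 hqV hKV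
    rw [h]
    apply iSup_le
    rintro ⟨B, hBK, hBq⟩
    show V ⊓ centralizer (B : Set G) ≤ T
    have hdvd : B.relIndex K ∣ q ^ n := hn ▸ Subgroup.relIndex_dvd_card B K
    obtain ⟨j, hj, hje⟩ := (Nat.dvd_prime_pow hqp).mp hdvd
    rcases Nat.eq_zero_or_pos j with h0 | h0
    · rw [h0, pow_zero] at hje
      have hKB : K ≤ B := Subgroup.relIndex_eq_one.mp hje
      calc V ⊓ centralizer (B : Set G) ≤ V ⊓ centralizer (K : Set G) :=
            inf_le_inf_left _ (centralizer_le hKB)
        _ = ⊥ := hVK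
        _ ≤ T := bot_le
    · have hj1 : j = 1 := by
        by_contra hne
        have hj2 : 2 ≤ j := by omega
        have : q ^ 2 ≤ q ^ j := Nat.pow_le_pow_right hqp.pos hj2
        have hq1 := hqp.one_lt
        rw [hje] at hBq
        nlinarith
      rw [hj1, pow_one] at hje
      exact hT B ⟨hBK, hje⟩
  -- the data
  have hAeq : centralizer (A : Set G) = centralizer ({a} : Set G) := by
    rw [haA, centralizer_zpowers_eq]
  have D : AbData p q r V K P a :=
    { hq := hqp
      hr := hA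
      hr2 := hA2
      hp2 := hp2
      hVab := hVab
      hVp := hVp
      hKab := hKab
      hP := hP
      hP1 := hP1
      hKV := hKV
      hPV := hPV
      hPK := hPK
      haV := hAV haA'
      haK := hAKn haA'
      haP := hAP haA'
      har := har
      hcop := hcopKV
      hVK := hVK
      hPmin := fun P₂ h1 h2 => hPmin P₂ h1 (haA ▸ h2)
      hPA := haA ▸ hPA
      hVa := hAeq ▸ hVA
      hPVf := by
        rw [eq_bot_iff, ← hfaith]
        exact inf_le_inf_right _ le_sup_right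
      hgen := hgen
      hnoinv := hnoinv
      hcardP := by
        have : Fact r.Prime := ⟨hA⟩
        exact card_mod_eq_one (IsPGroup.of_card (n := 1) (by rw [pow_one])) hAP hPA }
  exact D.false

end Cfsg.Agent.Lib.Helper21.BG36
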