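import Mathlib
import Cfsg.Agent.Lib.Helper21.BG36F
import Cfsg.Agent.Lib.Helper17.FrobCount2

set_option autoImplicit false
open Pointwise Subgroup
open scoped commutatorElement

namespace Cfsg.Agent.Lib.Helper21.BG36

variable {G : Type*} [Group G]

theorem relIndex_sup_of_le_normalizer' (M D : Subgroup G) (h : M ≤ normalizer (D : Set G)) :
    D.relIndex (M ⊔ D) = D.relIndex M := by
  have : (D.subgroupOf (M ⊔ D)).Normal := Subgroup.normal_subgroupOf_sup_of_le_normalizer h
  have h1 := Subgroup.relIndex_sup_right (H := M.subgroupOf (M ⊔ D)) (K := D.subgroupOf (M ⊔ D))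
  rw [← Subgroup.subgroupOf_sup le_sup_left le_sup_right, Subgroup.relIndex_subgroupOf le_rfl,
    Subgroup.relIndex_subgroupOf le_sup_left] at h1
  exact h1

theorem card_sup_dvd' (H K : Subgroup G) (h : H ≤ normalizer (K : Set G)) :
    Nat.card ↥(H ⊔ K) ∣ Nat.card ↥H * Nat.card ↥K := by
  have h1 := Subgroup.relIndex_mul_relIndex ⊥ K (H ⊔ K) bot_le le_sup_right
  rw [Subgroup.relIndex_bot_left, Subgroup.relIndex_bot_left, relIndex_sup_of_le_normalizer' H K h] at h1
  rw [← h1, mul_comm]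
  exact Nat.mul_dvd_mul (Subgroup.relIndex_dvd_card K H) dvd_rfl

/-- an element `e ≠ 1` of `zpowers a`, `a` of prime order, generates: any subgroup containing `e`
contains `a`. -/
theorem mem_of_mem_zpowers_ne_one {a e : G} {r : ℕ} (hr : r.Prime) (har : a ^ r = 1)
    (he : e ∈ zpowers a) (he1 : e ≠ 1) {S : Subgroup G} (heS : e ∈ S) : a ∈ S := by
  obtain ⟨n, rfl⟩ := mem_zpowers_iff.mp he
  have hr0 : (r : ℤ) ≠ 0 := by exact_mod_cast hr.ne_zero
  set i : ℕ := (n % r).toNat with hi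
  have hi0 : 0 ≤ n % (r : ℤ) := Int.emod_nonneg n hr0
  have hilt : n % (r : ℤ) < r := Int.emod_lt_of_pos n (by exact_mod_cast hr.pos)
  have hir : i < r := by
    have : (i : ℤ) < r := by rw [hi, Int.toNat_of_nonneg hi0]; exact hilt
    exact_mod_cast this
  have e1 : a ^ n = a ^ i := by
    have h1 : n = r * (n / r) + n % r := (Int.mul_ediv_add_emod n r).symm
    have h2 : (i : ℤ) = n % r := by rw [hi, Int.toNat_of_nonneg hi0]
    conv_lhs => rw [h1]
    rw [zpow_add, zpow_mul, zpow_natCast, har, one_zpow, one_mul, ← h2, zpow_natCast]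
  rw [e1] at heS he1
  have hi1 : 1 ≤ i := by
    rcases Nat.eq_zero_or_pos i with h | h
    · rw [h, pow_zero] at he1; exact absurd rfl he1
    · exact h
  exact mem_of_pow_mem_of_prime hr har hi1 hir heS

/-- `g` normalizing `M` and `P` normalizes `M ⊓ C(P)`. -/
theorem mem_normalizer_inf_centralizer [Finite G] {M P : Subgroup G} {g : G}
    (hM : g ∈ normalizer (M : Set G)) (hP : g ∈ normalizer (P : Set G)) :
    g ∈ normalizer ((M ⊓ centralizer (P : Set G) : Subgroup G) : Set G) := by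
  apply Cfsg.Agent.Lib.Helper1.mem_normalizer_of_forall_conj_mem
  intro x hx
  have := conj_mem_inf_centralizer_smul hM hx
  rwa [conj_smul_eq_of_mem_normalizer hP] at this

/-- conjugating a centralizing element by a normalizing one -/
theorem conj_mem_centralizer {M : Subgroup G} {g x : G} (hg : g ∈ normalizer (M : Set G))
    (hx : x ∈ centralizer (M : Set G)) : g * x * g⁻¹ ∈ centralizer (M : Set G) := by
  rw [mem_centralizer_iff] at hx ⊢
  intro m hm
  have hm' : g⁻¹ * m * g ∈ M := by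
    have := (mem_normalizer_iff.mp (inv_mem hg) m).mp hm
    simpa using this
  have h := hx _ hm'
  calc m * (g * x * g⁻¹) = g * ((g⁻¹ * m * g) * x) * g⁻¹ := by group
    _ = g * (x * (g⁻¹ * m * g)) * g⁻¹ := by rw [h]
    _ = g * x * g⁻¹ * m := by group

/-- if `P ≤ C(M)` and `K ≤ N(M)` then `⁅K, P⁆ ≤ C(M)`. -/
theorem commutator_le_centralizer_of_le {M K P : Subgroup G} (hK : K ≤ normalizer (M : Set G))
    (hP : P ≤ centralizer (M : Set G)) : ⁅K, P⁆ ≤ centralizer (M : Set G) := by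
  rw [commutator_le]
  intro k hk x hx
  have h1 : k * x * k⁻¹ ∈ centralizer (M : Set G) := conj_mem_centralizer (hK hk) (hP hx)
  have e : ⁅k, x⁆ = k * x * k⁻¹ * x⁻¹ := rfl
  rw [e]
  exact mul_mem h1 (inv_mem (hP hx))

/-- a `p`-group normalizing a nontrivial `p`-group has nontrivial fixed points on it -/
theorem inf_centralizer_ne_bot [Finite G] {p : ℕ} [Fact p.Prime] {M P : Subgroup G}
    (hM : IsPGroup p M) (hP : IsPGroup p P) (hPM : P ≤ normalizer (M : Set G)) (hM1 : M ≠ ⊥) :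
    M ⊓ centralizer (P : Set G) ≠ ⊥ := by
  let _ : MulAction ↥P ↥M := MulAction.compHom ↥M (Subgroup.inclusion hPM)
  have hp : p ∣ Nat.card ↥M := by
    obtain ⟨n, hn⟩ := hM.exists_card_eq
    rw [hn]
    rcases Nat.eq_zero_or_pos n with h0 | h0
    · exfalso
      rw [h0, pow_zero] at hn
      exact hM1 (Subgroup.card_eq_one.mp hn)
    · exact dvd_pow_self p (by omega)
  have h1 : (1 : ↥M) ∈ MulAction.fixedPoints ↥P ↥M := by
    intro b
    apply Subtype.ext
    show (b : G) * 1 * (b : G)⁻¹ = 1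
    group
  obtain ⟨m, hm, hm1⟩ := hP.exists_fixed_point_of_prime_dvd_card_of_fixed_point ↥M hp h1
  intro hbot
  have hmC : (m : G) ∈ M ⊓ centralizer (P : Set G) := by
    refine mem_inf.mpr ⟨m.2, ?_⟩
    rw [mem_centralizer_iff]
    intro b hb
    have := hm ⟨b, hb⟩
    have h2 : b * (m : G) * b⁻¹ = m := congrArg Subtype.val this
    calc b * (m : G) = b * m * b⁻¹ * b := by group
      _ = m * b := by rw [h2]
  rw [hbot, mem_bot] at hmC
  exact hm1 (Subtype.ext hmC.symm)

/-- Frobenius fixed point formula when the kernel has no fixed points. -/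
theorem frob_card [Finite G] {U E M : Subgroup G} (hE1 : E ≠ ⊥)
    (hUn : ∀ e ∈ E, ∀ u ∈ U, e * u * e⁻¹ ∈ U)
    (hfpf : ∀ e ∈ E, e ≠ 1 → ∀ u ∈ U, e * u = u * e → u = 1)
    (hUM : U ≤ normalizer (M : Set G)) (hEM : E ≤ normalizer (M : Set G))
    (hsolv : Group.IsSolvable ↥M) (hcop : Nat.Coprime (Nat.card M) (Nat.card ↥(U ⊔ E)))
    (hCU : M ⊓ centralizer (U : Set G) = ⊥) :
    Nat.card ↥M = Nat.card ↥(M ⊓ centralizer (E : Set G)) ^ Nat.card ↥E := by
  have hn : ∀ x ∈ U ⊔ E, ∀ h ∈ M, x * h * x⁻¹ ∈ M := by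
    intro x hx h hh
    exact (mem_normalizer_iff.mp ((sup_le hUM hEM) hx) h).mp hh
  have F := Cfsg.Agent.Lib.Helper17.FrobCount.formula_aux U E hE1 hUn hfpf _ M rfl hn hsolv hcop
  have h1 : M ⊓ centralizer ((U ⊔ E : Subgroup G) : Set G) = ⊥ := by
    rw [eq_bot_iff, ← hCU]
    exact inf_le_inf_left _ (centralizer_le (by intro x hx; exact (le_sup_left : U ≤ U ⊔ E) hx))
  rw [h1, hCU, Subgroup.card_bot, one_pow, one_mul, mul_one] at F
  exact F

end Cfsg.Agent.Lib.Helper21.BG36
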