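import Mathlib
import Cfsg.Agent.Lib.Helper21.BG36J
import Cfsg.Agent.Lib.Helper1.NilpotentAction
import Cfsg.Agent.Lib.Helper1.Commutator
import Cfsg.Agent.S0026
import Cfsg.Agent.S0055

set_option autoImplicit false
open Pointwise Subgroup
open scoped commutatorElement

namespace Cfsg.Agent.Lib.Helper21.BG36

variable {G : Type*} [Group G] [Finite G]

/-- (d1): `A` centralizes the derived subgroup of `K`. -/
theorem derived_le_centralizer (p : ℕ) [Fact p.Prime] (V K P A : Subgroup G)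
    (hVab : ∀ x ∈ V, ∀ y ∈ V, x * y = y * x) (hVp : IsPGroup p V)
    (hKp : (Nat.card K).Coprime p)
    (hP : IsPGroup p P)
    (hA : (Nat.card A).Prime) (hAp : Nat.card A ≠ p)
    (hAK : (Nat.card A).Coprime (Nat.card K))
    (hKV : K ≤ normalizer (V : Set G)) (hPV : P ≤ normalizer (V : Set G))
    (hAV : A ≤ normalizer (V : Set G))
    (hPK : P ≤ normalizer (K : Set G)) (hAKn : A ≤ normalizer (K : Set G))
    (hAP : A ≤ normalizer (P : Set G))
    (hfaith : (K ⊔ P) ⊓ centralizer (V : Set G) = ⊥)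
    (hKP : ⁅K, P⁆ = K)
    (hVA : Nat.card ↥(V ⊓ centralizer (A : Set G)) ≤ p)
    (hKcen : ⁅K, K⁆ ≤ centralizer (K : Set G)) (hPcen : P ≤ centralizer ((⁅K, K⁆ : Subgroup G) : Set G)) :
    ⁅K, K⁆ ≤ centralizer (A : Set G) := by
  classical
  have hp : p.Prime := Fact.out
  obtain ⟨a, haA, ha1, har⟩ := exists_zpowers_eq_of_prime_card hA
  set r := Nat.card ↥A with hr
  set K' : Subgroup G := ⁅K, K⁆ with hK'
  have hK'K : K' ≤ K := Cfsg.Agent.Lib.Helper1.commutator_le_of_le_normalizer le_normalizer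
  have hAK' : A ≤ normalizer (K' : Set G) := fun x hx =>
    Cfsg.Agent.Lib.Helper1.inf_normalizer_le_normalizer_commutator K K ⟨hAKn hx, hAKn hx⟩
  by_contra hcon
  set Z₁ : Subgroup G := ⁅K', A⁆ with hZ₁
  have hZ₁ne : Z₁ ≠ ⊥ := by
    intro h
    apply hcon
    exact commutator_eq_bot_iff_le_centralizer.mp h
  have hZ₁K' : Z₁ ≤ K' := Cfsg.Agent.Lib.Helper1.commutator_le_of_le_normalizer hAK'
  have hZ₁K : Z₁ ≤ K := hZ₁K'.trans hK'K
  have hAZ₁ : A ≤ normalizer (Z₁ : Set G) :=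
    Cfsg.Agent.Lib.Helper1.le_normalizer_commutator_right K' A
  have hZ₁cenK : Z₁ ≤ centralizer (K : Set G) := hZ₁K'.trans hKcen
  have hK'ab : IsMulCommutative ↥K' := by
    refine ⟨⟨fun x y => Subtype.ext ?_⟩⟩
    have := (mem_centralizer_iff.mp (hKcen y.2)) x.1 (hK'K x.2)
    exact this
  have hcopAK' : (Nat.card ↥A).Coprime (Nat.card ↥K') :=
    Nat.Coprime.coprime_dvd_right (Subgroup.card_dvd_of_le hK'K) hAK
  have hZ₁A : Z₁ ⊓ centralizer (A : Set G) = ⊥ := by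
    have h := (Cfsg.Agent.S0055.result A K' hAK' hcopAK').1
    rw [eq_bot_iff, ← h]
    exact le_inf (inf_le_inf_right _ hZ₁K') inf_le_left
  -- M = [V, Z₁]
  set M : Subgroup G := ⁅V, Z₁⁆ with hM
  have hZ₁V : Z₁ ≤ normalizer (V : Set G) := hZ₁K.trans hKV
  have hMV : M ≤ V := Cfsg.Agent.Lib.Helper1.commutator_le_of_le_normalizer hZ₁V
  have hMp : IsPGroup p M := hVp.to_le hMV
  have hVc : IsMulCommutative ↥V := ⟨⟨fun x y => Subtype.ext (hVab x x.2 y y.2)⟩⟩
  have hcopZ₁V : (Nat.card ↥Z₁).Coprime (Nat.card ↥V) := by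
    obtain ⟨n, hn⟩ := hVp.exists_card_eq
    rw [hn]
    exact Nat.Coprime.pow_right n
      (Nat.Coprime.coprime_dvd_left (Subgroup.card_dvd_of_le hZ₁K) hKp)
  have hMZ₁ : M ⊓ centralizer (Z₁ : Set G) = ⊥ := by
    have h := (Cfsg.Agent.S0055.result Z₁ V hZ₁V hcopZ₁V).1
    rw [eq_bot_iff, ← h]
    exact le_inf (inf_le_inf_right _ hMV) inf_le_left
  have hM1 : M ≠ ⊥ := by
    intro h
    have h1 : V ≤ centralizer (Z₁ : Set G) := commutator_eq_bot_iff_le_centralizer.mp h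
    have h2 : Z₁ ≤ centralizer (V : Set G) := le_centralizer_iff.mp h1
    have h3 : Z₁ ≤ (K ⊔ P) ⊓ centralizer (V : Set G) := le_inf (hZ₁K.trans le_sup_left) h2
    rw [hfaith] at h3
    exact hZ₁ne (eq_bot_iff.mpr h3)
  -- normalizers of Z₁ and M
  have hKZ₁ : K ≤ normalizer (Z₁ : Set G) := by
    intro k hk
    apply Cfsg.Agent.Lib.Helper1.mem_normalizer_of_forall_conj_mem
    intro z hz
    have := (mem_centralizer_iff.mp (hZ₁cenK hz)) k hk
    have e : k * z * k⁻¹ = z := by rw [this]; group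
    rwa [e]
  have hPZ₁c : P ≤ centralizer (Z₁ : Set G) := hPcen.trans (centralizer_le hZ₁K')
  have hPZ₁ : P ≤ normalizer (Z₁ : Set G) := fun x hx =>
    Subgroup.centralizer_le_normalizer _ (hPZ₁c hx)
  have hnM : ∀ g, g ∈ normalizer (V : Set G) → g ∈ normalizer (Z₁ : Set G) →
      g ∈ normalizer (M : Set G) := fun g h1 h2 =>
    Cfsg.Agent.Lib.Helper1.inf_normalizer_le_normalizer_commutator V Z₁ ⟨h1, h2⟩
  have hKM : K ≤ normalizer (M : Set G) := fun g hg => hnM g (hKV hg) (hKZ₁ hg)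
  have hPM : P ≤ normalizer (M : Set G) := fun g hg => hnM g (hPV hg) (hPZ₁ hg)
  have hAM : A ≤ normalizer (M : Set G) := fun g hg => hnM g (hAV hg) (hAZ₁ hg)
  have hZ₁M : Z₁ ≤ normalizer (M : Set G) := hZ₁K.trans hKM
  -- Frobenius hypotheses for Z₁ A
  have hA1 : A ≠ ⊥ := by
    intro h
    have h1 : r = 1 := by rw [hr, h]; exact Subgroup.card_bot
    rw [h1] at hA
    exact Nat.not_prime_one hA
  have hUn : ∀ e ∈ A, ∀ u ∈ Z₁, e * u * e⁻¹ ∈ Z₁ := fun e he u hu =>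
    (mem_normalizer_iff.mp (hAZ₁ he) u).mp hu
  have hfpf : ∀ e ∈ A, e ≠ 1 → ∀ u ∈ Z₁, e * u = u * e → u = 1 := by
    intro e he he1 u hu hc
    have heS : e ∈ centralizer ({u} : Set G) := by
      rw [mem_centralizer_iff]
      intro y hy
      rw [Set.mem_singleton_iff] at hy
      subst hy
      exact hc.symm
    have haS : a ∈ centralizer ({u} : Set G) :=
      mem_of_mem_zpowers_ne_one hA har (haA ▸ he) he1 heS
    have hua : u * a = a * u := (mem_centralizer_iff.mp haS) u (Set.mem_singleton u)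
    have : u ∈ Z₁ ⊓ centralizer (A : Set G) := by
      refine mem_inf.mpr ⟨hu, ?_⟩
      rw [haA, centralizer_zpowers_eq, mem_centralizer_iff]
      intro y hy
      rw [Set.mem_singleton_iff] at hy
      subst hy
      exact hua.symm
    rw [hZ₁A, mem_bot] at this
    exact this
  have hcopsup : ∀ M₂ : Subgroup G, M₂ ≤ V → Nat.Coprime (Nat.card M₂) (Nat.card ↥(Z₁ ⊔ A)) := by
    intro M₂ hM₂
    have hdvd : Nat.card ↥(Z₁ ⊔ A) ∣ Nat.card ↥A * Nat.card ↥Z₁ := by
      rw [sup_comm]; exact card_sup_dvd' A Z₁ hAZ₁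
    obtain ⟨n, hn⟩ := (hVp.to_le hM₂).exists_card_eq
    rw [hn]
    apply Nat.Coprime.pow_left
    apply Nat.Coprime.coprime_dvd_right hdvd
    apply Nat.Coprime.mul_right
    · exact (Nat.coprime_primes hp hA).mpr (Ne.symm hAp)
    · exact (Nat.Coprime.coprime_dvd_left (Subgroup.card_dvd_of_le hZ₁K) hKp).symm
  have hsolvM : ∀ M₂ : Subgroup G, M₂ ≤ V → Group.IsSolvable ↥M₂ := by
    intro M₂ hM₂
    have := (hVp.to_le hM₂).isNilpotent
    infer_instance
  -- |M| = |C_M(A)|^r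
  have F1 := frob_card hA1 hUn hfpf hZ₁M hAM (hsolvM M hMV) (hcopsup M hMV) hMZ₁
  have hcardle : ∀ M₂ : Subgroup G, M₂ ≤ V → M₂ ⊓ centralizer (A : Set G) ≠ ⊥ →
      Nat.card ↥(M₂ ⊓ centralizer (A : Set G)) = p := by
    intro M₂ hM₂ hne
    have h1 : Nat.card ↥(M₂ ⊓ centralizer (A : Set G)) ≤ p :=
      (Nat.card_le_card_of_injective (Subgroup.inclusion (inf_le_inf_right _ hM₂))
        (Subgroup.inclusion_injective _)).trans hVA
    have h2 := le_card_of_ne_bot (hVp.to_le (inf_le_left.trans hM₂)) hne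
    omega
  have hMA : M ⊓ centralizer (A : Set G) ≠ ⊥ := by
    intro h
    rw [h, Subgroup.card_bot, one_pow] at F1
    exact hM1 (Subgroup.card_eq_one.mp F1)
  rw [hcardle M hMV hMA] at F1
  -- M' = C_M(P)
  set M' : Subgroup G := M ⊓ centralizer (P : Set G) with hM'
  have hM'1 : M' ≠ ⊥ := inf_centralizer_ne_bot hMp hP hPM hM1
  have hM'M : M' ≤ M := inf_le_left
  have hZ₁P : Z₁ ≤ normalizer (P : Set G) := fun x hx =>
    Subgroup.centralizer_le_normalizer _ ((le_centralizer_iff.mp hPZ₁c) hx)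
  have hZ₁M' : Z₁ ≤ normalizer (M' : Set G) := fun g hg =>
    mem_normalizer_inf_centralizer (hZ₁M hg) (hZ₁P hg)
  have hAM' : A ≤ normalizer (M' : Set G) := fun g hg =>
    mem_normalizer_inf_centralizer (hAM hg) (hAP hg)
  have hM'Z₁ : M' ⊓ centralizer (Z₁ : Set G) = ⊥ := by
    rw [eq_bot_iff, ← hMZ₁]
    exact inf_le_inf_right _ hM'M
  have F2 := frob_card hA1 hUn hfpf hZ₁M' hAM' (hsolvM M' (hM'M.trans hMV))
    (hcopsup M' (hM'M.trans hMV)) hM'Z₁
  have hM'A : M' ⊓ centralizer (A : Set G) ≠ ⊥ := by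
    intro h
    rw [h, Subgroup.card_bot, one_pow] at F2
    exact hM'1 (Subgroup.card_eq_one.mp F2)
  rw [hcardle M' (hM'M.trans hMV) hM'A] at F2
  have hMM' : M' = M := Subgroup.eq_of_le_of_card_ge hM'M (by rw [F1, F2])
  have hMcP : M ≤ centralizer (P : Set G) := by
    rw [← hMM']; exact inf_le_right
  have hPcM : P ≤ centralizer (M : Set G) := le_centralizer_iff.mp hMcP
  have hKcM : K ≤ centralizer (M : Set G) := by
    have := commutator_le_centralizer_of_le hKM hPcM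
    rwa [hKP] at this
  have hMcZ₁ : M ≤ centralizer (Z₁ : Set G) := le_centralizer_iff.mp (hZ₁K.trans hKcM)
  have : M ≤ M ⊓ centralizer (Z₁ : Set G) := le_inf le_rfl hMcZ₁
  rw [hMZ₁] at this
  exact hM1 (eq_bot_iff.mpr this)

end Cfsg.Agent.Lib.Helper21.BG36
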