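import Mathlib
import Cfsg.Agent.Lib.Helper21.BG36K

set_option autoImplicit false
open Pointwise Subgroup
open scoped commutatorElement

namespace Cfsg.Agent.Lib.Helper21.BG36

variable {G : Type*} [Group G] [Finite G]

/-- a Z-subgroup of a class-2 group is abelian -/
theorem commute_of_isZGroup {C K : Subgroup G} (hCK : C ≤ K)
    (hKcen : ⁅K, K⁆ ≤ centralizer (K : Set G)) (hZ : IsZGroup ↥C) :
    ∀ x ∈ C, ∀ y ∈ C, x * y = y * x := by
  have hnil : Group.IsNilpotent ↥C := by
    apply Subgroup.isNilpotent_of_ker_le_center (Abelianization.of (G := ↥C))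
    rw [Abelianization.ker_of, _root_.commutator_def, Subgroup.commutator_le]
    intro x _ y _
    rw [Subgroup.mem_center_iff]
    intro g
    apply Subtype.ext
    have h1 : ⁅(x : G), (y : G)⁆ ∈ ⁅K, K⁆ :=
      Subgroup.commutator_mem_commutator (hCK x.2) (hCK y.2)
    have h2 := (mem_centralizer_iff.mp (hKcen h1)) g.1 (hCK g.2)
    simpa [commutatorElement_def] using h2
  have hcyc : IsCyclic ↥C := inferInstance
  intro x hx y hy
  obtain ⟨g, hg⟩ := IsCyclic.exists_generator (α := ↥C)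
  obtain ⟨m, hm⟩ := Subgroup.mem_zpowers_iff.mp (hg ⟨x, hx⟩)
  obtain ⟨n, hn⟩ := Subgroup.mem_zpowers_iff.mp (hg ⟨y, hy⟩)
  have h : (⟨x, hx⟩ : ↥C) * ⟨y, hy⟩ = ⟨y, hy⟩ * ⟨x, hx⟩ := by
    rw [← hm, ← hn, ← zpow_add, ← zpow_add, add_comm]
  exact congrArg Subtype.val h

theorem fc_nonabelian (p : ℕ) [Fact p.Prime] (V K P A : Subgroup G)
    (hVab : ∀ x ∈ V, ∀ y ∈ V, x * y = y * x) (hVexp : ∀ x ∈ V, x ^ p = 1)
    (hKp : (Nat.card K).Coprime p) (hKsol : Group.IsSolvable K)
    (hP : IsPGroup p P)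
    (hA : (Nat.card A).Prime) (hAp : Nat.card A ≠ p)
    (hAK : (Nat.card A).Coprime (Nat.card K))
    (hKV : K ≤ normalizer (V : Set G)) (hPV : P ≤ normalizer (V : Set G))
    (hAV : A ≤ normalizer (V : Set G))
    (hPK : P ≤ normalizer (K : Set G)) (hAKn : A ≤ normalizer (K : Set G))
    (hAP : A ≤ normalizer (P : Set G))
    (hfaith : (K ⊔ P) ⊓ centralizer (V : Set G) = ⊥)
    (hKP : ⁅K, P⁆ = K)
    (hKmin : ∀ K₂ : Subgroup G, K₂ ≤ K → K₂ ≠ K → P ≤ normalizer (K₂ : Set G) →
      A ≤ normalizer (K₂ : Set G) → P ≤ centralizer (K₂ : Set G))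
    (hPA : P ⊓ centralizer (A : Set G) = ⊥) (hVA : Nat.card ↥(V ⊓ centralizer (A : Set G)) ≤ p)
    (hKA : IsZGroup ↥(K ⊓ centralizer (A : Set G)))
    (hKnab : ¬ ∀ x ∈ K, ∀ y ∈ K, x * y = y * x) : False := by
  classical
  have hp : p.Prime := Fact.out
  have hVp : IsPGroup p V := by
    intro x
    refine ⟨1, ?_⟩
    apply Subtype.ext
    rw [pow_one, Subgroup.coe_pow, Subgroup.coe_one]
    exact hVexp x.1 x.2
  have hK1 : K ≠ ⊥ := by
    intro h
    apply hKnab
    intro x hx y hy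
    rw [h, mem_bot] at hx hy
    rw [hx, hy]
  -- (c)
  set K' : Subgroup G := ⁅K, K⁆ with hK'
  have hK'K : K' ≤ K := Cfsg.Agent.Lib.Helper1.commutator_le_of_le_normalizer le_normalizer
  have hK'ne : K' ≠ K := by
    intro h
    have : Nontrivial ↥K := (Subgroup.nontrivial_iff_ne_bot K).mpr hK1
    have hlt := Group.IsSolvable.commutator_lt_top_of_nontrivial (G := ↥K)
    have h1 : Subgroup.map K.subtype (_root_.commutator ↥K) = Subgroup.map K.subtype ⊤ := by
      rw [Subgroup.map_subtype_commutator, ← hK', h, ← MonoidHom.range_eq_map, Subgroup.range_subtype]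
    have h2 := Subgroup.map_injective K.subtype_injective h1
    exact hlt.ne h2
  have hPK' : P ≤ normalizer (K' : Set G) := fun x hx =>
    Cfsg.Agent.Lib.Helper1.inf_normalizer_le_normalizer_commutator K K ⟨hPK hx, hPK hx⟩
  have hAK' : A ≤ normalizer (K' : Set G) := fun x hx =>
    Cfsg.Agent.Lib.Helper1.inf_normalizer_le_normalizer_commutator K K ⟨hAKn hx, hAKn hx⟩
  have hPcen : P ≤ centralizer (K' : Set G) := hKmin K' hK'K hK'ne hPK' hAK'
  have hKcen : K' ≤ centralizer (K : Set G) := by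
    have h1 : ⁅⁅P, K'⁆, K⁆ = ⊥ := by
      rw [commutator_eq_bot_iff_le_centralizer.mpr hPcen]
      exact Subgroup.commutator_bot_left K
    have h2 : ⁅⁅K', K⁆, P⁆ = ⊥ := by
      have h3 : ⁅K', K⁆ ≤ K' := Cfsg.Agent.Lib.Helper1.commutator_le_of_le_normalizer
        (fun x hx => Cfsg.Agent.Lib.Helper1.inf_normalizer_le_normalizer_commutator K K
          ⟨le_normalizer hx, le_normalizer hx⟩)
      have h4 : ⁅K', P⁆ = ⊥ :=
        commutator_eq_bot_iff_le_centralizer.mpr (le_centralizer_iff.mp hPcen)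
      rw [eq_bot_iff, ← h4]
      exact Subgroup.commutator_mono h3 le_rfl
    have h5 := Subgroup.commutator_commutator_eq_bot_of_rotate h1 h2
    rw [hKP] at h5
    exact le_centralizer_iff.mp (commutator_eq_bot_iff_le_centralizer.mp h5)
  -- (d1)
  have hK'A : K' ≤ centralizer (A : Set G) :=
    derived_le_centralizer p V K P A hVab hVp hKp hP hA hAp hAK hKV hPV hAV hPK hAKn hAP hfaith
      hKP hVA hKcen hPcen
  -- (d2)
  set C : Subgroup G := K ⊓ centralizer (A : Set G) with hC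
  have hCK : C ≤ K := inf_le_left
  have hCab := commute_of_isZGroup hCK hKcen hKA
  have hdecomp : ⁅K, A⁆ ⊔ C = K := Cfsg.Agent.S0026.result A K hAKn hAK (Or.inr hKsol)
  have hCcen : C ≤ centralizer (K : Set G) := by
    intro c hc
    have hcK : c ∈ K := hCK hc
    have hcA : c ∈ centralizer (A : Set G) := (mem_inf.mp hc).2
    have hle : K ≤ centralizer ({c} : Set G) := by
      rw [← hdecomp]
      apply sup_le
      · rw [Subgroup.commutator_le]
        intro k hk b hb
        rw [mem_centralizer_iff]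
        intro y hy
        rw [Set.mem_singleton_iff] at hy
        subst hy
        set z : G := y * k * y⁻¹ * k⁻¹ with hz
        have hzK' : z ∈ K' := Subgroup.commutator_mem_commutator hcK hk
        have hzb : b * z = z * b := (mem_centralizer_iff.mp (hK'A hzK')) b hb
        have hyb : b * y = y * b := (mem_centralizer_iff.mp hcA) b hb
        have hwK : k * b * k⁻¹ * b⁻¹ ∈ K := by
          have h1 : b * k⁻¹ * b⁻¹ ∈ K := (mem_normalizer_iff.mp (hAKn hb) k⁻¹).mp (K.inv_mem hk)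
          have e : k * b * k⁻¹ * b⁻¹ = k * (b * k⁻¹ * b⁻¹) := by group
          rw [e]
          exact K.mul_mem hk h1
        have hzw : (k * b * k⁻¹ * b⁻¹) * z = z * (k * b * k⁻¹ * b⁻¹) :=
          (mem_centralizer_iff.mp (hKcen hzK')) _ hwK
        have h1 : y * k * y⁻¹ = z * k := by rw [hz]; group
        have h2 : y * b * y⁻¹ = b := by rw [← hyb]; group
        have hzb' : z⁻¹ * b⁻¹ = b⁻¹ * z⁻¹ := by
          rw [← mul_inv_rev, ← mul_inv_rev, hzb]
        have e : ⁅k, b⁆ = k * b * k⁻¹ * b⁻¹ := rfl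
        rw [e]
        have key : y * (k * b * k⁻¹ * b⁻¹) * y⁻¹ = k * b * k⁻¹ * b⁻¹ := by
          calc y * (k * b * k⁻¹ * b⁻¹) * y⁻¹
              = (y * k * y⁻¹) * (y * b * y⁻¹) * (y * k * y⁻¹)⁻¹ * (y * b * y⁻¹)⁻¹ := by group
            _ = (z * k) * b * (z * k)⁻¹ * b⁻¹ := by rw [h1, h2]
            _ = z * (k * b * k⁻¹) * (z⁻¹ * b⁻¹) := by group
            _ = z * (k * b * k⁻¹) * (b⁻¹ * z⁻¹) := by rw [hzb']
            _ = z * (k * b * k⁻¹ * b⁻¹) * z⁻¹ := by group
            _ = k * b * k⁻¹ * b⁻¹ := by rw [← hzw]; group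
        calc y * (k * b * k⁻¹ * b⁻¹) = y * (k * b * k⁻¹ * b⁻¹) * y⁻¹ * y := by group
          _ = k * b * k⁻¹ * b⁻¹ * y := by rw [key]
      · intro c' hc'
        rw [mem_centralizer_iff]
        intro y hy
        rw [Set.mem_singleton_iff] at hy
        subst hy
        exact hCab y hc c' hc'
    rw [mem_centralizer_iff]
    intro k hk
    exact ((mem_centralizer_iff.mp (hle hk)) c (Set.mem_singleton c)).symm
  -- (d3)
  set Z : Subgroup G := K ⊓ centralizer (K : Set G) with hZ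
  have hZK : Z ≤ K := inf_le_left
  have hZne : Z ≠ K := by
    intro h
    apply hKnab
    intro x hx y hy
    have hy' : y ∈ Z := h ▸ hy
    exact ((mem_centralizer_iff.mp (mem_inf.mp hy').2) x hx)
  have hPZ : P ≤ normalizer (Z : Set G) := fun g hg =>
    mem_normalizer_inf_centralizer (hPK hg) (hPK hg)
  have hAZ : A ≤ normalizer (Z : Set G) := fun g hg =>
    mem_normalizer_inf_centralizer (hAKn hg) (hAKn hg)
  have hPZc : P ≤ centralizer (Z : Set G) := hKmin Z hZK hZne hPZ hAZ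
  have hCZ : C ≤ Z := le_inf hCK hCcen
  have hCP : C ≤ centralizer (P : Set G) := hCZ.trans (le_centralizer_iff.mp hPZc)
  -- (d4)
  obtain ⟨a, haA, ha1, har⟩ := exists_zpowers_eq_of_prime_card hA
  have hA1 : A ≠ ⊥ := by
    intro h
    have h1 : Nat.card ↥A = 1 := by rw [h]; exact Subgroup.card_bot
    rw [h1] at hA
    exact Nat.not_prime_one hA
  have hUn : ∀ e ∈ A, ∀ u ∈ P, e * u * e⁻¹ ∈ P := fun e he u hu =>
    (mem_normalizer_iff.mp (hAP he) u).mp hu
  have hfpf : ∀ e ∈ A, e ≠ 1 → ∀ u ∈ P, e * u = u * e → u = 1 := by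
    intro e he he1 u hu hc
    have heS : e ∈ centralizer ({u} : Set G) := by
      rw [mem_centralizer_iff]
      intro y hy
      rw [Set.mem_singleton_iff] at hy
      subst hy
      exact hc.symm
    have haS : a ∈ centralizer ({u} : Set G) :=
      mem_of_mem_zpowers_ne_one hA har (haA ▸ he) he1 heS
    have hua : u * a = a * u := (mem_centralizer_iff.mp haS) u (Set.mem_singleton u)
    have : u ∈ P ⊓ centralizer (A : Set G) := by
      refine mem_inf.mpr ⟨hu, ?_⟩
      rw [haA, centralizer_zpowers_eq, mem_centralizer_iff]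
      intro y hy
      rw [Set.mem_singleton_iff] at hy
      subst hy
      exact hua.symm
    rw [hPA, mem_bot] at this
    exact this
  have hn : ∀ x ∈ P ⊔ A, ∀ h ∈ K, x * h * x⁻¹ ∈ K := by
    intro x hx h hh
    exact (mem_normalizer_iff.mp ((sup_le hPK hAKn) hx) h).mp hh
  have hcop : Nat.Coprime (Nat.card K) (Nat.card ↥(P ⊔ A)) := by
    have hdvd : Nat.card ↥(P ⊔ A) ∣ Nat.card ↥A * Nat.card ↥P := by
      rw [sup_comm]; exact card_sup_dvd' A P hAP
    apply Nat.Coprime.coprime_dvd_right hdvd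
    apply Nat.Coprime.mul_right
    · exact hAK.symm
    · obtain ⟨n, hn⟩ := hP.exists_card_eq
      rw [hn]
      exact Nat.Coprime.pow_right n hKp
  have F := Cfsg.Agent.Lib.Helper17.FrobCount.formula_aux P A hA1 hUn hfpf _ K rfl hn hKsol hcop
  have hCsup : K ⊓ centralizer ((P ⊔ A : Subgroup G) : Set G) = C := by
    apply le_antisymm
    · exact inf_le_inf_left _ (centralizer_le (by intro x hx; exact (le_sup_right : A ≤ P ⊔ A) hx))
    · refine le_inf hCK ?_
      rw [le_centralizer_iff]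
      exact sup_le (le_centralizer_iff.mp hCP) (le_centralizer_iff.mp inf_le_right)
  rw [hCsup] at F
  have hpos : 0 < Nat.card ↥C ^ Nat.card ↥A := pow_pos Nat.card_pos _
  have hcard : Nat.card ↥K = Nat.card ↥(K ⊓ centralizer (P : Set G)) :=
    Nat.eq_of_mul_eq_mul_left hpos F
  have hKD : K ⊓ centralizer (P : Set G) = K :=
    Subgroup.eq_of_le_of_card_ge inf_le_left hcard.le
  have hKcP : K ≤ centralizer (P : Set G) := by rw [← hKD]; exact inf_le_right
  have : ⁅K, P⁆ = ⊥ := commutator_eq_bot_iff_le_centralizer.mpr hKcP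
  rw [hKP] at this
  exact hK1 this

end Cfsg.Agent.Lib.Helper21.BG36
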