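import Mathlib
import Cfsg.Agent.Lib.Helper21.BG36I
import Cfsg.Agent.Lib.Helper21.BG36L

/-!
# B&G Theorem 3.6, final configuration (PART 2)

`final_config`: the minimal configuration reached in the proof of Bender–Glauberman Theorem 3.6
is impossible.  Abelian `K`: `fc_abelian` (BG36A–BG36I); nonabelian `K`: `fc_nonabelian`
(BG36J–BG36L).
-/

set_option autoImplicit false
open Pointwise Subgroup

namespace Cfsg.Agent.Lib.Helper21.BG36

theorem final_config {G : Type*} [Group G] [Finite G] (p : ℕ) [Fact p.Prime] (hp2 : p ≠ 2)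
    (V K P A : Subgroup G)
    (hVab : ∀ x ∈ V, ∀ y ∈ V, x * y = y * x) (hVexp : ∀ x ∈ V, x ^ p = 1)
    (hKp : (Nat.card K).Coprime p) (hKsol : Group.IsSolvable K) (hKodd : Odd (Nat.card K))
    (hP : IsPGroup p P) (hP1 : P ≠ ⊥)
    (hA : (Nat.card A).Prime) (hA2 : Nat.card A ≠ 2) (hAp : Nat.card A ≠ p)
    (hAK : (Nat.card A).Coprime (Nat.card K))
    (hKV : K ≤ normalizer (V : Set G)) (hPV : P ≤ normalizer (V : Set G))
    (hAV : A ≤ normalizer (V : Set G))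
    (hPK : P ≤ normalizer (K : Set G)) (hAKn : A ≤ normalizer (K : Set G))
    (hAP : A ≤ normalizer (P : Set G))
    (hfaith : (K ⊔ P) ⊓ centralizer (V : Set G) = ⊥) (hPKf : P ⊓ centralizer (K : Set G) = ⊥)
    (hKP : ⁅K, P⁆ = K)
    (hKmin : ∀ K₂ : Subgroup G, K₂ ≤ K → K₂ ≠ K → P ≤ normalizer (K₂ : Set G) →
      A ≤ normalizer (K₂ : Set G) → P ≤ centralizer (K₂ : Set G))
    (hPmin : ∀ P₂ : Subgroup G, P₂ ≤ P → A ≤ normalizer (P₂ : Set G) → P₂ = ⊥ ∨ P₂ = P)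
    (hPA : P ⊓ centralizer (A : Set G) = ⊥) (hVA : Nat.card ↥(V ⊓ centralizer (A : Set G)) ≤ p)
    (hKA : IsZGroup ↥(K ⊓ centralizer (A : Set G))) (hVK : V ⊓ centralizer (K : Set G) = ⊥) :
    False := by
  have _ := hKodd
  by_cases hKab : ∀ x ∈ K, ∀ y ∈ K, x * y = y * x
  · exact fc_abelian p hp2 V K P A hVab hVexp hKp hP hP1 hA hA2 hAp hKV hPV hAV hPK hAKn hAP
      hfaith hPKf hKP hKmin hPmin hPA hVA hVK hKab
  · exact fc_nonabelian p V K P A hVab hVexp hKp hKsol hP hA hAp hAK hKV hPV hAV hPK hAKn hAP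
      hfaith hKP hKmin hPA hVA hKA hKab

end Cfsg.Agent.Lib.Helper21.BG36
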