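import Mathlib

set_option autoImplicit false

namespace Cfsg.Agent.Lib.Helper21.Camina

variable {G : Type*} [Group G]

/-- Camina condition on a subgroup `N`. -/
def IsCam (N : Subgroup G) : Prop := ∀ g : G, g ∉ N → ∀ n ∈ N, ∃ x : G, x * g * x⁻¹ = g * n

theorem pow_orderOf_eq_one_of_comm {N : Subgroup G} (hc : IsCam N) {g y : G} (hg : g ∉ N)
    (hy : y ∈ N) (hgy : g * y = y * g) : y ^ orderOf g = 1 := by
  obtain ⟨x, hx⟩ := hc g hg y hy
  have h1 : (g * y) ^ orderOf g = 1 := by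
    rw [← hx, conj_pow, pow_orderOf_eq_one, mul_one, mul_inv_cancel]
  have h2 : (g * y) ^ orderOf g = g ^ orderOf g * y ^ orderOf g := Commute.mul_pow hgy _
  rw [h2, pow_orderOf_eq_one, one_mul] at h1
  exact h1

/-- conjugates of elements outside `N` in the same coset have the same order -/
theorem orderOf_mul_eq {N : Subgroup G} (hc : IsCam N) {g n : G} (hg : g ∉ N) (hn : n ∈ N) :
    orderOf (g * n) = orderOf g := by
  obtain ⟨x, hx⟩ := hc g hg n hn
  rw [← hx]
  exact (MulAut.conj x).orderOf_eq g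

theorem eq_one_of_orderOf_dvd_pow {q r : ℕ} (hq : q.Prime) (hr : r.Prime) (hqr : q ≠ r) {y : G}
    {a b : ℕ} (h1 : orderOf y ∣ q ^ a) (h2 : orderOf y ∣ r ^ b) : y = 1 := by
  have hcop : Nat.Coprime (q ^ a) (r ^ b) :=
    Nat.Coprime.pow _ _ ((Nat.coprime_primes hq hr).mpr hqr)
  have := Nat.eq_one_of_dvd_coprimes hcop h1 h2
  exact orderOf_eq_one_iff.mp this

/-- a `q`-element acting on a normal subgroup of order divisible by `q` has a nontrivial fixed
point -/
theorem exists_comm_ne_one [Finite G] (N : Subgroup G) [N.Normal] (q : ℕ) [Fact q.Prime]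
    (hqN : q ∣ Nat.card N) {g : G} {k : ℕ} (hgq : orderOf g = q ^ k) :
    ∃ d ∈ N, d ≠ 1 ∧ g * d = d * g := by
  classical
  let Z := Subgroup.zpowers g
  have hZ : IsPGroup q Z := by
    rw [IsPGroup.iff_card]
    exact ⟨k, by rw [Nat.card_zpowers, hgq]⟩
  let _ : MulAction Z N :=
    MulAction.compHom N ((MulAut.conjNormal (H := N)).comp Z.subtype)
  have hsm : ∀ (z : Z) (n : N), ((z • n : N) : G) = (z : G) * n * (z : G)⁻¹ := by
    intro z n
    rfl
  have h1 := hZ.card_modEq_card_fixedPoints (α := N)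
  have h2 : q ∣ Nat.card (MulAction.fixedPoints Z N) := by
    have := (Nat.modEq_zero_iff_dvd.mpr hqN)
    exact (Nat.modEq_zero_iff_dvd.mp (h1.symm.trans this))
  have h3 : 1 < Nat.card (MulAction.fixedPoints Z N) := by
    have hpos : 0 < Nat.card (MulAction.fixedPoints Z N) :=
      Nat.card_pos_iff.mpr ⟨⟨⟨1, by
        intro z
        apply Subtype.ext
        rw [hsm]
        simp⟩⟩, inferInstance⟩
    have := Nat.le_of_dvd hpos h2
    exact lt_of_lt_of_le (Fact.out : q.Prime).one_lt this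
  rw [Finite.one_lt_card_iff_nontrivial] at h3
  obtain ⟨⟨a, ha⟩, hne⟩ := exists_ne (⟨1, by
        intro z
        apply Subtype.ext
        rw [hsm]
        simp⟩ : MulAction.fixedPoints Z N)
  refine ⟨(a : G), a.2, ?_, ?_⟩
  · intro h
    apply hne
    apply Subtype.ext
    apply Subtype.ext
    exact h
  · have := ha ⟨g, Subgroup.mem_zpowers g⟩
    have h4 := congrArg (fun n : N => (n : G)) this
    simp only [hsm] at h4
    calc g * (a : G) = (g * a * g⁻¹) * g := by group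
      _ = a * g := by rw [h4]

theorem dvd_index_of_pow_mem [Finite G] {N : Subgroup G} [N.Normal] {q : ℕ} (hq : q.Prime) {c : G}
    (hcN : c ∉ N) (hcq : c ^ q ∈ N) : q ∣ N.index := by
  have h1 : ((c : G ⧸ N)) ^ q = 1 := by
    rw [← QuotientGroup.mk_pow]
    exact (QuotientGroup.eq_one_iff _).mpr hcq
  have h2 : ((c : G ⧸ N)) ≠ 1 := by
    intro h
    exact hcN ((QuotientGroup.eq_one_iff _).mp h)
  have h3 : orderOf (c : G ⧸ N) = q := by
    have := orderOf_dvd_of_pow_eq_one h1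
    rcases (Nat.dvd_prime hq).mp this with h | h
    · exact absurd (orderOf_eq_one_iff.mp h) h2
    · exact h
  rw [Subgroup.index_eq_card, ← h3]
  exact orderOf_dvd_natCard _

theorem exists_bad_prime [Finite G] {N : Subgroup G} [N.Normal] (hc : IsCam N)
    (h : ¬ ∀ x ∈ N, x ≠ 1 → Subgroup.centralizer ({x} : Set G) ≤ N) :
    ∃ q : ℕ, q.Prime ∧ q ∣ Nat.card N ∧ q ∣ N.index := by
  classical
  push Not at h
  obtain ⟨x, hxN, hx1, hcen⟩ := h
  obtain ⟨c0, hc0, hc0N⟩ := SetLike.not_le_iff_exists.mp hcen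
  have hox : orderOf x ≠ 1 := by rwa [Ne, orderOf_eq_one_iff]
  obtain ⟨q, hq, hqx⟩ := Nat.exists_prime_and_dvd hox
  set x' := x ^ (orderOf x / q) with hx'
  have hox' : orderOf x' = q := orderOf_pow_orderOf_div (orderOf_pos x).ne' hqx
  have hx'N : x' ∈ N := N.pow_mem hxN _
  have hc0x : x * c0 = c0 * x := (Subgroup.mem_centralizer_iff.mp hc0) x rfl
  have hc0x' : c0 * x' = x' * c0 := ((Commute.pow_left (show Commute x c0 from hc0x) _).eq).symm
  have hex : ∃ n, ∃ c : G, c ∉ N ∧ c * x' = x' * c ∧ orderOf c = n :=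
    ⟨orderOf c0, c0, hc0N, hc0x', rfl⟩
  obtain ⟨c, hcN, hcx, hcn⟩ := Nat.find_spec hex
  have hqn : q ∣ orderOf c := by
    have := pow_orderOf_eq_one_of_comm hc hcN hx'N hcx
    rw [← hox']
    exact orderOf_dvd_of_pow_eq_one this
  have hcq : c ^ q ∈ N := by
    by_contra hcon
    have h1 : orderOf (c ^ q) = orderOf c / q := orderOf_pow_of_dvd hq.ne_zero hqn
    have h2 : orderOf c / q < Nat.find hex := by
      rw [← hcn]
      exact Nat.div_lt_self (orderOf_pos c) hq.one_lt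
    exact Nat.find_min hex h2 ⟨c ^ q, hcon, ((Commute.pow_left (show Commute c x' from hcx) _).eq), h1⟩
  refine ⟨q, hq, ?_, dvd_index_of_pow_mem hq hcN hcq⟩
  rw [← hox']
  exact Subgroup.orderOf_dvd_natCard N hx'N


theorem card_inf_mul_relIndex [Finite G] (H K : Subgroup G) :
    Nat.card (H ⊓ K : Subgroup G) * H.relIndex K = Nat.card K := by
  have h1 := (H.subgroupOf K).card_mul_index
  have h2 : Nat.card (H.subgroupOf K) = Nat.card (H ⊓ K : Subgroup G) := by
    rw [← Subgroup.inf_subgroupOf_right]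
    exact Nat.card_congr (Subgroup.subgroupOfEquivOfLe inf_le_right).toEquiv
  rw [← h2]
  exact h1

theorem exists_fibMap (N K : Subgroup G) (g : G) (hgK : g ∈ K)
    (hK : ∀ x ∈ K, g⁻¹ * (x * g * x⁻¹) ∈ N) :
    ∃ ψ : (K ⧸ (Subgroup.centralizer ({g} : Set G)).subgroupOf K) → ↥(K ⊓ N),
      Function.Injective ψ ∧ ∀ x : K,
        ((ψ (QuotientGroup.mk x) : ↥(K ⊓ N)) : G) = g⁻¹ * ((x : G) * g * (x : G)⁻¹) := by
  have hmem : ∀ x : K, g⁻¹ * ((x : G) * g * (x : G)⁻¹) ∈ K ⊓ N := fun x =>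
    ⟨K.mul_mem (K.inv_mem hgK) (K.mul_mem (K.mul_mem x.2 hgK) (K.inv_mem x.2)), hK x x.2⟩
  have hrel : ∀ a b : K, (a⁻¹ * b ∈ (Subgroup.centralizer ({g} : Set G)).subgroupOf K) ↔
      (a : G) * g * (a : G)⁻¹ = (b : G) * g * (b : G)⁻¹ := by
    intro a b
    rw [Subgroup.mem_subgroupOf, Subgroup.mem_centralizer_iff]
    simp only [Set.mem_singleton_iff, forall_eq, Subgroup.coe_mul, Subgroup.coe_inv]
    constructor
    · intro h
      calc (a : G) * g * (a : G)⁻¹
          = (a : G) * (g * ((a : G)⁻¹ * b)) * ((a : G)⁻¹ * b)⁻¹ * (a : G)⁻¹ := by group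
        _ = (a : G) * ((a : G)⁻¹ * b * g) * ((a : G)⁻¹ * b)⁻¹ * (a : G)⁻¹ := by rw [h]
        _ = (b : G) * g * (b : G)⁻¹ := by group
    · intro h
      calc g * ((a : G)⁻¹ * b) = (a : G)⁻¹ * ((a : G) * g * (a : G)⁻¹) * b := by group
        _ = (a : G)⁻¹ * ((b : G) * g * (b : G)⁻¹) * b := by rw [h]
        _ = (a : G)⁻¹ * b * g := by group
  refine ⟨fun c => Quotient.liftOn' c (fun x => ⟨g⁻¹ * ((x : G) * g * (x : G)⁻¹), hmem x⟩) ?_, ?_, ?_⟩
  · intro a b hab
    have := (hrel a b).mp (QuotientGroup.leftRel_apply.mp hab)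
    apply Subtype.ext
    show g⁻¹ * ((a : G) * g * (a : G)⁻¹) = g⁻¹ * ((b : G) * g * (b : G)⁻¹)
    rw [this]
  · intro c d
    refine Quotient.inductionOn₂' c d ?_
    intro a b h
    apply Quotient.sound'
    apply QuotientGroup.leftRel_apply.mpr
    apply (hrel a b).mpr
    have := congrArg (fun t : ↥(K ⊓ N) => (t : G)) h
    simp only [Quotient.liftOn'_mk''] at this
    exact mul_left_cancel this
  · intro x
    rfl

theorem card_le_of_fib [Finite G] (N K : Subgroup G) (g : G) (hgK : g ∈ K)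
    (hK : ∀ x ∈ K, g⁻¹ * (x * g * x⁻¹) ∈ N) :
    Nat.card K ≤ Nat.card (K ⊓ N : Subgroup G) *
      Nat.card (Subgroup.centralizer ({g} : Set G) ⊓ K : Subgroup G) := by
  obtain ⟨ψ, hψ, -⟩ := exists_fibMap N K g hgK hK
  have h1 : (Subgroup.centralizer ({g} : Set G)).relIndex K ≤ Nat.card (K ⊓ N : Subgroup G) :=
    Nat.card_le_card_of_injective ψ hψ
  rw [← card_inf_mul_relIndex (Subgroup.centralizer ({g} : Set G)) K, mul_comm]
  exact Nat.mul_le_mul_right _ h1

theorem card_eq_of_fib_surj [Finite G] (N K : Subgroup G) (g : G) (hgK : g ∈ K)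
    (hK : ∀ x ∈ K, g⁻¹ * (x * g * x⁻¹) ∈ N)
    (hs : ∀ n ∈ K ⊓ N, ∃ x ∈ K, x * g * x⁻¹ = g * n) :
    Nat.card K = Nat.card (K ⊓ N : Subgroup G) *
      Nat.card (Subgroup.centralizer ({g} : Set G) ⊓ K : Subgroup G) := by
  obtain ⟨ψ, hψ, hψv⟩ := exists_fibMap N K g hgK hK
  have hsur : Function.Surjective ψ := by
    intro n
    obtain ⟨x, hx, hxn⟩ := hs n n.2
    refine ⟨QuotientGroup.mk ⟨x, hx⟩, ?_⟩
    apply Subtype.ext
    rw [hψv]
    show g⁻¹ * (x * g * x⁻¹) = n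
    rw [hxn]
    group
  have h1 : (Subgroup.centralizer ({g} : Set G)).relIndex K = Nat.card (K ⊓ N : Subgroup G) :=
    Nat.card_congr (Equiv.ofBijective ψ ⟨hψ, hsur⟩)
  rw [← card_inf_mul_relIndex (Subgroup.centralizer ({g} : Set G)) K, mul_comm, h1]

theorem fib_surj_of_card_le [Finite G] (N K : Subgroup G) (g : G) (hgK : g ∈ K)
    (hK : ∀ x ∈ K, g⁻¹ * (x * g * x⁻¹) ∈ N)
    (hcard : Nat.card (K ⊓ N : Subgroup G) *
      Nat.card (Subgroup.centralizer ({g} : Set G) ⊓ K : Subgroup G) ≤ Nat.card K) :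
    ∀ n ∈ K ⊓ N, ∃ x ∈ K, x * g * x⁻¹ = g * n := by
  obtain ⟨ψ, hψ, hψv⟩ := exists_fibMap N K g hgK hK
  have hpos : 0 < Nat.card (Subgroup.centralizer ({g} : Set G) ⊓ K : Subgroup G) := Nat.card_pos
  have h1 : Nat.card (K ⊓ N : Subgroup G) ≤ (Subgroup.centralizer ({g} : Set G)).relIndex K := by
    rw [← card_inf_mul_relIndex (Subgroup.centralizer ({g} : Set G)) K, mul_comm] at hcard
    exact Nat.le_of_mul_le_mul_left hcard hpos
  have hsur : Function.Surjective ψ :=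
    (Function.Injective.bijective_of_nat_card_le hψ h1).2
  intro n hn
  obtain ⟨c, hc⟩ := hsur ⟨n, hn⟩
  refine Quotient.inductionOn' c (fun x hx => ?_) hc
  refine ⟨x, x.2, ?_⟩
  have := congrArg (fun t : ↥(K ⊓ N) => (t : G)) hx
  have h2 := hψv x
  change ((ψ (QuotientGroup.mk x) : ↥(K ⊓ N)) : G) = n at this
  rw [h2] at this
  rw [← this]
  group


end Cfsg.Agent.Lib.Helper21.Camina
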