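import Mathlib
import Cfsg.Agent.Lib.Helper21.CaminaA

set_option autoImplicit false

namespace Cfsg.Agent.Lib.Helper21.Camina

variable {G : Type*} [Group G]

/-- preimage in `G` of the centralizer of `gN` in `G/N` -/
def Bsub (N : Subgroup G) [N.Normal] (g : G) : Subgroup G :=
  (Subgroup.centralizer ({(g : G ⧸ N)} : Set (G ⧸ N))).comap (QuotientGroup.mk' N)

theorem mem_Bsub_iff (N : Subgroup G) [N.Normal] (g x : G) :
    x ∈ Bsub N g ↔ g⁻¹ * (x * g * x⁻¹) ∈ N := by
  unfold Bsub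
  rw [Subgroup.mem_comap, Subgroup.mem_centralizer_iff]
  simp only [Set.mem_singleton_iff, forall_eq, QuotientGroup.mk'_apply]
  rw [← QuotientGroup.eq_one_iff (N := N)]
  simp only [QuotientGroup.mk_mul, QuotientGroup.mk_inv]
  constructor
  · intro h
    rw [← h]
    group
  · intro h
    have : ((x : G ⧸ N)) * (g : G ⧸ N) = (g : G ⧸ N) * ((g : G ⧸ N)⁻¹ * ((x : G ⧸ N) * (g : G ⧸ N) * (x : G ⧸ N)⁻¹)) * (x : G ⧸ N) := by group
    rw [this, h]
    group

theorem le_Bsub (N : Subgroup G) [N.Normal] (g : G) : N ≤ Bsub N g := by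
  intro n hn
  rw [mem_Bsub_iff]
  have h1 : g⁻¹ * n * g⁻¹⁻¹ ∈ N := Subgroup.Normal.conj_mem inferInstance n hn g⁻¹
  have : g⁻¹ * (n * g * n⁻¹) = (g⁻¹ * n * g⁻¹⁻¹) * n⁻¹ := by group
  rw [this]
  exact N.mul_mem h1 (N.inv_mem hn)

theorem centralizer_le_Bsub (N : Subgroup G) [N.Normal] (g : G) :
    Subgroup.centralizer ({g} : Set G) ≤ Bsub N g := by
  intro x hx
  rw [mem_Bsub_iff]
  have : g * x = x * g := (Subgroup.mem_centralizer_iff.mp hx) g rfl
  have h2 : g⁻¹ * (x * g * x⁻¹) = 1 := by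
    rw [← this]
    group
  rw [h2]
  exact N.one_mem

theorem self_mem_Bsub (N : Subgroup G) [N.Normal] (g : G) : g ∈ Bsub N g :=
  centralizer_le_Bsub N g (Subgroup.mem_centralizer_iff.mpr (fun h hh => by rw [hh]))

theorem map_Bsub (N : Subgroup G) [N.Normal] (g : G) :
    (Bsub N g).map (QuotientGroup.mk' N) = Subgroup.centralizer ({(g : G ⧸ N)} : Set (G ⧸ N)) :=
  Subgroup.map_comap_eq_self_of_surjective (QuotientGroup.mk'_surjective N) _

theorem card_of_map_eq [Finite G] (N : Subgroup G) [N.Normal] (K : Subgroup G) :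
    Nat.card K = Nat.card (N ⊓ K : Subgroup G) * Nat.card (K.map (QuotientGroup.mk' N)) := by
  rw [← card_inf_mul_relIndex N K, ← Subgroup.relIndex_ker, QuotientGroup.ker_mk']

/-- under the Camina condition, centralizers of elements outside `N` have the same order as
in the quotient -/
theorem card_centralizer_eq [Finite G] {N : Subgroup G} [N.Normal] (hc : IsCam N) {g : G}
    (hg : g ∉ N) :
    Nat.card (Subgroup.centralizer ({g} : Set G)) =
      Nat.card (Subgroup.centralizer ({(g : G ⧸ N)} : Set (G ⧸ N))) := by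
  have h1 := card_of_map_eq N (Bsub N g)
  rw [map_Bsub, inf_eq_left.mpr (le_Bsub N g)] at h1
  have h2 := card_eq_of_fib_surj N (Bsub N g) g (self_mem_Bsub N g)
    (fun x hx => (mem_Bsub_iff N g x).mp hx) (by
      intro n hn
      obtain ⟨x, hx⟩ := hc g hg n hn.2
      refine ⟨x, ?_, hx⟩
      rw [mem_Bsub_iff, hx]
      simpa using hn.2)
  rw [inf_eq_right.mpr (le_Bsub N g), inf_eq_left.mpr (centralizer_le_Bsub N g)] at h2
  have hpos : 0 < Nat.card N := Nat.card_pos
  rw [h1] at h2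
  exact (Nat.eq_of_mul_eq_mul_left hpos h2).symm

/-- Key counting lemma: if `M N = G` then for `g ∈ M \ N` the centralizer of `g` lies in `M`
and `M` inherits the Camina condition at `g`. -/
theorem centralizer_le_of_sup_eq_top [Finite G] {N : Subgroup G} [N.Normal] (hc : IsCam N)
    (M : Subgroup G) (hMN : M ⊔ N = ⊤) {g : G} (hgM : g ∈ M) (hg : g ∉ N) :
    Subgroup.centralizer ({g} : Set G) ≤ M ∧
      ∀ n ∈ N, n ∈ M → ∃ x ∈ M, x * g * x⁻¹ = g * n := by
  set K : Subgroup G := Bsub N g ⊓ M with hK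
  have hgK : g ∈ K := ⟨self_mem_Bsub N g, hgM⟩
  have hKN : ∀ x ∈ K, g⁻¹ * (x * g * x⁻¹) ∈ N := fun x hx => (mem_Bsub_iff N g x).mp hx.1
  have hmap : K.map (QuotientGroup.mk' N) =
      Subgroup.centralizer ({(g : G ⧸ N)} : Set (G ⧸ N)) := by
    apply le_antisymm
    · rw [← map_Bsub]
      exact Subgroup.map_mono inf_le_left
    · intro c hcc
      obtain ⟨x, rfl⟩ := QuotientGroup.mk'_surjective N c
      have hx : x ∈ M ⊔ N := by rw [hMN]; exact Subgroup.mem_top x
      rw [Subgroup.mem_sup_of_normal_right] at hx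
      obtain ⟨m, hm, n, hn, rfl⟩ := hx
      refine ⟨m, ⟨?_, hm⟩, ?_⟩
      · have : m * n ∈ Bsub N g := hcc
        have h2 := (Bsub N g).mul_mem this ((Bsub N g).inv_mem (le_Bsub N g hn))
        simpa using h2
      · simp only [QuotientGroup.mk'_apply, QuotientGroup.mk_mul]
        rw [(QuotientGroup.eq_one_iff n).mpr hn, mul_one]
  have h1 := card_of_map_eq N K
  rw [hmap] at h1
  have h2 := card_le_of_fib N K g hgK hKN
  have h3 : (N ⊓ K : Subgroup G) = K ⊓ N := inf_comm _ _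
  rw [h3] at h1
  have hpos : 0 < Nat.card (K ⊓ N : Subgroup G) := Nat.card_pos
  have h4 : Nat.card (Subgroup.centralizer ({g} : Set G)) ≤
      Nat.card (Subgroup.centralizer ({g} : Set G) ⊓ K : Subgroup G) := by
    rw [card_centralizer_eq hc hg]
    rw [h1] at h2
    exact Nat.le_of_mul_le_mul_left h2 hpos
  have h5 : (Subgroup.centralizer ({g} : Set G) ⊓ K : Subgroup G) =
      Subgroup.centralizer ({g} : Set G) :=
    Subgroup.eq_of_le_of_card_ge inf_le_left h4
  have h6 : Subgroup.centralizer ({g} : Set G) ≤ K := by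
    rw [← h5]
    exact inf_le_right
  refine ⟨h6.trans inf_le_right, ?_⟩
  have h7 : Nat.card (K ⊓ N : Subgroup G) *
      Nat.card (Subgroup.centralizer ({g} : Set G) ⊓ K : Subgroup G) ≤ Nat.card K := by
    rw [h1, h5, card_centralizer_eq hc hg]
  have h8 := fib_surj_of_card_le N K g hgK hKN h7
  intro n hn hnM
  obtain ⟨x, hx, hxn⟩ := h8 n ⟨⟨le_Bsub N g hn, hnM⟩, hn⟩
  exact ⟨x, hx.2, hxn⟩

end Cfsg.Agent.Lib.Helper21.Camina
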