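import Mathlib
import Cfsg.Agent.Lib.Helper21.CaminaB

set_option autoImplicit false

namespace Cfsg.Agent.Lib.Helper21.Camina

variable {G : Type*} [Group G]

/-- lifting an element of prime power order of a quotient to an element of prime power order -/
theorem exists_lift_prime_pow [Finite G] (N : Subgroup G) [N.Normal] (q : ℕ) [Fact q.Prime]
    (y : G ⧸ N) (a : ℕ) (hy : orderOf y = q ^ a) :
    ∃ g : G, (g : G ⧸ N) = y ∧ ∃ k, orderOf g = q ^ k := by
  have hq : q.Prime := Fact.out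
  obtain ⟨x, rfl⟩ := QuotientGroup.mk_surjective y
  rcases Nat.eq_zero_or_pos a with ha | ha
  · refine ⟨1, ?_, 0, by simp⟩
    rw [ha, pow_zero, orderOf_eq_one_iff] at hy
    rw [hy]
    rfl
  obtain ⟨b, m, hm, hxo⟩ := Nat.exists_eq_pow_mul_and_not_dvd (orderOf_pos x).ne' q hq.ne_one
  have hcop : Nat.Coprime m (q ^ a) := (Nat.Coprime.pow_left a ((Nat.Prime.coprime_iff_not_dvd hq).mpr hm)).symm
  have h1 : 1 < q ^ a := Nat.one_lt_pow ha.ne' hq.one_lt
  obtain ⟨e, -, he⟩ := Nat.exists_mul_mod_eq_one_of_coprime hcop h1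
  refine ⟨x ^ (m * e), ?_, ?_⟩
  · rw [QuotientGroup.mk_pow, ← pow_mod_orderOf, hy, he, pow_one]
  · have h2 : (x ^ (m * e)) ^ (q ^ b) = 1 := by
      rw [← pow_mul, mul_comm (m * e), ← mul_assoc, ← hxo, pow_mul, pow_orderOf_eq_one, one_pow]
    exact (Nat.dvd_prime_pow hq).mp (orderOf_dvd_of_pow_eq_one h2) |>.imp (fun k hk => hk.2)

/-- abstract step: in a finite group `Q`, if `y` is a `q`-element of maximal order `q ^ a`
(`a ≥ 1`) among `q`-elements and `q ^ (a+1)` divides the order of its centralizer, then there is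
an element `e` of order dividing `q` commuting with `y` and outside `⟨y⟩`. -/
theorem exists_outside_of_max {Q : Type*} [Group Q] [Finite Q] (q : ℕ) [Fact q.Prime] (y : Q)
    (a : ℕ) (ha : 0 < a) (hy : orderOf y = q ^ a)
    (hmax : ∀ x : Q, (∃ k, orderOf x = q ^ k) → orderOf x ≤ q ^ a)
    (hdvd : q ^ (a + 1) ∣ Nat.card (Subgroup.centralizer ({y} : Set Q))) :
    ∃ e : Q, e ^ q = 1 ∧ e * y = y * e ∧ e ∉ Subgroup.zpowers y := by
  have hq : q.Prime := Fact.out
  set Cb : Subgroup Q := Subgroup.centralizer ({y} : Set Q) with hCb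
  have hyC : y ∈ Cb := Subgroup.mem_centralizer_iff.mpr (fun h hh => by rw [hh])
  let y' : Cb := ⟨y, hyC⟩
  have hcomm : ∀ t : Cb, t * y' = y' * t := by
    intro t
    apply Subtype.ext
    have := (Subgroup.mem_centralizer_iff.mp t.2) y rfl
    exact this.symm
  let H : Subgroup Cb := Subgroup.zpowers y'
  have hHn : H.Normal := by
    constructor
    intro n hn t
    obtain ⟨k, rfl⟩ := Subgroup.mem_zpowers_iff.mp hn
    have : t * y' ^ k * t⁻¹ = y' ^ k := by
      have h1 : Commute t (y' ^ k) := (show Commute t y' from hcomm t).zpow_right k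
      rw [h1.eq]
      group
    rw [this]
    exact Subgroup.zpow_mem_zpowers y' k
  have hy'o : orderOf y' = q ^ a := by
    rw [← hy]
    exact (Subgroup.orderOf_coe y').symm
  have hHcard : Nat.card H = q ^ a := by rw [Nat.card_zpowers, hy'o]
  obtain ⟨K, hKcard, hHK⟩ := Sylow.exists_subgroup_card_pow_succ hdvd hHcard
  -- an element of K outside H
  have hlt : H < K := by
    refine lt_of_le_of_ne hHK ?_
    intro h
    rw [h, hKcard] at hHcard
    have : q ^ a < q ^ (a + 1) := Nat.pow_lt_pow_right hq.one_lt (Nat.lt_succ_self a)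
    omega
  obtain ⟨t, htK, htH⟩ := SetLike.exists_of_lt hlt
  -- t ^ q ∈ H
  have hmapcard : Nat.card (K.map (QuotientGroup.mk' H)) = q := by
    have h1 := card_of_map_eq H K
    rw [inf_eq_left.mpr hHK, hKcard, hHcard, pow_succ] at h1
    exact (Nat.eq_of_mul_eq_mul_left (pow_pos hq.pos a) h1).symm
  have htq : t ^ q ∈ H := by
    have h1 : (QuotientGroup.mk' H) t ∈ K.map (QuotientGroup.mk' H) := ⟨t, htK, rfl⟩
    have h2 : (⟨_, h1⟩ : K.map (QuotientGroup.mk' H)) ^ q = 1 := by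
      rw [← hmapcard]
      exact pow_card_eq_one'
    have h3 := congrArg (fun z : K.map (QuotientGroup.mk' H) => (z : Cb ⧸ H)) h2
    simp only [Subgroup.coe_pow, Subgroup.coe_one, QuotientGroup.mk'_apply] at h3
    rw [← QuotientGroup.mk_pow] at h3
    exact (QuotientGroup.eq_one_iff _).mp h3
  obtain ⟨k, hk⟩ := (mem_powers_iff_mem_zpowers.mpr htq)
  -- order of t
  have hto : orderOf t ∣ q ^ (a + 1) := by
    have := Subgroup.orderOf_dvd_natCard K htK
    rwa [hKcard] at this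
  obtain ⟨b, hb, hbo⟩ := (Nat.dvd_prime_pow hq).mp hto
  have hto' : orderOf (t : Q) = q ^ b := by rw [Subgroup.orderOf_coe, hbo]
  have hle : q ^ b ≤ q ^ a := by
    rw [← hto']
    exact hmax _ ⟨b, hto'⟩
  have hba : b ≤ a := (Nat.pow_le_pow_iff_right hq.one_lt).mp hle
  have htpow : t ^ (q ^ a) = 1 := by
    apply orderOf_dvd_iff_pow_eq_one.mp
    rw [hbo]
    exact pow_dvd_pow q hba
  -- q ∣ k
  have hqk : q ∣ k := by
    have h1 : y' ^ (k * q ^ (a - 1)) = 1 := by
      change y' ^ k = t ^ q at hk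
      rw [pow_mul, hk, ← pow_mul, ← pow_succ', Nat.sub_add_cancel ha, htpow]
    have h2 : q ^ a ∣ k * q ^ (a - 1) := by
      rw [← hy'o]
      exact orderOf_dvd_of_pow_eq_one h1
    have h3 : q ^ a = q * q ^ (a - 1) := by
      rw [← pow_succ', Nat.sub_add_cancel ha]
    rw [h3] at h2
    exact Nat.dvd_of_mul_dvd_mul_right (pow_pos hq.pos _) h2
  obtain ⟨k', rfl⟩ := hqk
  change y' ^ (q * k') = t ^ q at hk
  refine ⟨((t * (y' ^ k')⁻¹ : Cb) : Q), ?_, ?_, ?_⟩
  · have hc1 : Commute t ((y' ^ k')⁻¹) := ((show Commute t y' from hcomm t).pow_right k').inv_right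
    have : (t * (y' ^ k')⁻¹) ^ q = 1 := by
      rw [hc1.mul_pow, ← hk, inv_pow, ← pow_mul, mul_comm k' q, mul_inv_cancel]
    have h2 := congrArg (fun z : Cb => (z : Q)) this
    simpa using h2
  · have h1 := hcomm (t * (y' ^ k')⁻¹)
    have h2 := congrArg (fun z : Cb => (z : Q)) h1
    simpa using h2
  · intro hmem
    apply htH
    have h1 : (t * (y' ^ k')⁻¹ : Cb) ∈ H := by
      obtain ⟨j, hj⟩ := Subgroup.mem_zpowers_iff.mp hmem
      apply Subgroup.mem_zpowers_iff.mpr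
      refine ⟨j, ?_⟩
      apply Subtype.ext
      rw [← hj]
      simp [y']
    have h2 : (y' ^ k') ∈ H := Subgroup.npow_mem_zpowers y' k'
    have := H.mul_mem h1 h2
    simpa using this

/-- Lemma X: for a bad prime `q`, `G/N` contains a copy of `C_q × C_q`. -/
theorem exists_rank_two [Finite G] {N : Subgroup G} [N.Normal] (hc : IsCam N) (q : ℕ)
    [Fact q.Prime] (hqN : q ∣ Nat.card N) (hqI : q ∣ N.index) :
    ∃ g₁ g₂ : G, g₁ ^ q ∈ N ∧ g₂ ^ q ∈ N ∧ g₁⁻¹ * g₂⁻¹ * g₁ * g₂ ∈ N ∧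
      ∀ i j : ℕ, g₁ ^ i * g₂ ^ j ∈ N → q ∣ i ∧ q ∣ j := by
  classical
  have hq : q.Prime := Fact.out
  have hcardQ : q ∣ Nat.card (G ⧸ N) := by rwa [← Subgroup.index_eq_card]
  obtain ⟨x0, hx0⟩ := exists_prime_orderOf_dvd_card' q hcardQ
  have : Fintype (G ⧸ N) := Fintype.ofFinite _
  let S : Finset (G ⧸ N) := Finset.univ.filter (fun x => x ≠ 1 ∧ ∃ k, orderOf x = q ^ k)
  have hS : S.Nonempty := by
    refine ⟨x0, ?_⟩
    simp only [S, Finset.mem_filter, Finset.mem_univ, true_and]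
    refine ⟨?_, 1, by simpa using hx0⟩
    intro h
    rw [h, orderOf_one] at hx0
    exact hq.ne_one hx0.symm
  obtain ⟨gb, hgbS, hmaxS⟩ := Finset.exists_max_image S orderOf hS
  simp only [S, Finset.mem_filter, Finset.mem_univ, true_and] at hgbS hmaxS
  obtain ⟨hgb1, a, hgba⟩ := hgbS
  have ha : 0 < a := by
    rcases Nat.eq_zero_or_pos a with h | h
    · rw [h, pow_zero, orderOf_eq_one_iff] at hgba
      exact absurd hgba hgb1
    · exact h
  have hmax : ∀ x : G ⧸ N, (∃ k, orderOf x = q ^ k) → orderOf x ≤ q ^ a := by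
    intro x hx
    by_cases hx1 : x = 1
    · rw [hx1, orderOf_one]
      exact Nat.one_le_pow _ _ hq.pos
    · rw [← hgba]
      exact hmaxS x ⟨hx1, hx⟩
  -- lift
  obtain ⟨g, hgmk, kk, hgo⟩ := exists_lift_prime_pow N q gb a hgba
  have hgN : g ∉ N := by
    intro h
    apply hgb1
    rw [← hgmk]
    exact (QuotientGroup.eq_one_iff g).mpr h
  obtain ⟨d, hdN, hd1, hgd⟩ := exists_comm_ne_one N q hqN hgo
  -- divisibility
  have hdvd : q ^ (a + 1) ∣ Nat.card (Subgroup.centralizer ({gb} : Set (G ⧸ N))) := by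
    rw [← hgmk, ← card_centralizer_eq hc hgN]
    rw [card_of_map_eq N (Subgroup.centralizer ({g} : Set G)), pow_succ, mul_comm]
    apply Nat.mul_dvd_mul
    · -- q divides card (N ⊓ C)
      have hdmem : d ∈ (N ⊓ Subgroup.centralizer ({g} : Set G) : Subgroup G) :=
        ⟨hdN, Subgroup.mem_centralizer_iff.mpr (fun h hh => by rw [Set.mem_singleton_iff.mp hh]; exact hgd)⟩
      have h1 : orderOf d ∣ Nat.card (N ⊓ Subgroup.centralizer ({g} : Set G) : Subgroup G) :=
        Subgroup.orderOf_dvd_natCard _ hdmem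
      have h2 : orderOf d ∣ q ^ kk := by
        rw [← hgo]
        exact orderOf_dvd_of_pow_eq_one (pow_orderOf_eq_one_of_comm hc hgN hdN hgd)
      obtain ⟨j, -, hj⟩ := (Nat.dvd_prime_pow hq).mp h2
      have hj0 : j ≠ 0 := by
        intro h
        rw [h, pow_zero, orderOf_eq_one_iff] at hj
        exact hd1 hj
      have : q ∣ orderOf d := by
        rw [hj]
        exact dvd_pow_self q hj0
      exact this.trans h1
    · rw [← hgba, ← hgmk]
      apply Subgroup.orderOf_dvd_natCard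
      exact ⟨g, Subgroup.mem_centralizer_iff.mpr (fun h hh => by rw [Set.mem_singleton_iff.mp hh]), rfl⟩
  obtain ⟨e, heq, hey, heH⟩ := exists_outside_of_max q gb a ha hgba hmax hdvd
  obtain ⟨g₂, hg₂⟩ := QuotientGroup.mk_surjective e
  -- the element of order q in ⟨gb⟩
  set g₁ : G := g ^ (q ^ (a - 1)) with hg₁
  have hg₁mk : (g₁ : G ⧸ N) = gb ^ (q ^ (a - 1)) := by rw [hg₁, QuotientGroup.mk_pow, hgmk]
  have hg₁o : orderOf (gb ^ (q ^ (a - 1))) = q := by
    rw [orderOf_pow_of_dvd (pow_pos hq.pos _).ne' (by rw [hgba]; exact pow_dvd_pow q (Nat.sub_le a 1)), hgba]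
    have : q ^ a = q * q ^ (a - 1) := by rw [← pow_succ', Nat.sub_add_cancel ha]
    rw [this, Nat.mul_div_cancel _ (pow_pos hq.pos _)]
  have hcomm : (g₂ : G ⧸ N) * (g₁ : G ⧸ N) = (g₁ : G ⧸ N) * (g₂ : G ⧸ N) := by
    rw [hg₁mk, hg₂]
    exact ((show Commute e gb from hey).pow_right _).eq
  refine ⟨g₁, g₂, ?_, ?_, ?_, ?_⟩
  · apply (QuotientGroup.eq_one_iff (N := N) (g₁ ^ q)).mp
    have h0 : ((g₁ ^ q : G) : G ⧸ N) = (gb ^ (q ^ (a - 1))) ^ q := by
      rw [QuotientGroup.mk_pow, hg₁mk]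
    rw [h0]
    have h := pow_orderOf_eq_one (gb ^ (q ^ (a - 1)))
    rwa [hg₁o] at h
  · apply (QuotientGroup.eq_one_iff (N := N) (g₂ ^ q)).mp
    rw [QuotientGroup.mk_pow, hg₂, heq]
  · apply (QuotientGroup.eq_one_iff (N := N) (g₁⁻¹ * g₂⁻¹ * g₁ * g₂)).mp
    simp only [QuotientGroup.mk_mul, QuotientGroup.mk_inv]
    rw [mul_assoc, ← hcomm]
    group
  · intro i j hij
    have h1 : (gb ^ (q ^ (a - 1))) ^ i * e ^ j = 1 := by
      have := (QuotientGroup.eq_one_iff (N := N) (g₁ ^ i * g₂ ^ j)).mpr hij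
      simpa [QuotientGroup.mk_mul, QuotientGroup.mk_pow, hg₁mk, hg₂] using this
    have hj : q ∣ j := by
      by_contra hqj
      have hcop : Nat.Coprime j q := ((Nat.Prime.coprime_iff_not_dvd hq).mpr hqj).symm
      obtain ⟨j', -, hj'⟩ := Nat.exists_mul_mod_eq_one_of_coprime hcop hq.one_lt
      apply heH
      have h2 : e ^ j = ((gb ^ (q ^ (a - 1))) ^ i)⁻¹ := eq_inv_of_mul_eq_one_right h1
      have h3 : e = (e ^ j) ^ j' := by
        rw [← pow_mul]
        have : e ^ (j * j') = e ^ (j * j' % q) := pow_eq_pow_mod _ heq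
        rw [this, hj', pow_one]
      rw [h3, h2]
      apply Subgroup.pow_mem
      apply Subgroup.inv_mem
      apply Subgroup.pow_mem
      exact Subgroup.npow_mem_zpowers gb _
    obtain ⟨j'', rfl⟩ := hj
    rw [pow_mul, heq, one_pow, mul_one] at h1
    refine ⟨?_, Dvd.intro _ rfl⟩
    rw [← hg₁o]
    exact orderOf_dvd_of_pow_eq_one h1

end Cfsg.Agent.Lib.Helper21.Camina
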