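import Mathlib
import Cfsg.Agent.Lib.Helper21.CaminaC

set_option autoImplicit false

namespace Cfsg.Agent.Lib.Helper21.Camina

variable {G : Type*} [Group G]

theorem exists_prime_pow_elt_not_mem [Finite G] (N : Subgroup G) [N.Normal] (t : ℕ)
    [Fact t.Prime] (ht : t ∣ N.index) : ∃ g : G, g ∉ N ∧ ∃ k, orderOf g = t ^ k := by
  have hcardQ : t ∣ Nat.card (G ⧸ N) := by rwa [← Subgroup.index_eq_card]
  obtain ⟨x0, hx0⟩ := exists_prime_orderOf_dvd_card' t hcardQ
  obtain ⟨g, hg, k, hk⟩ := exists_lift_prime_pow N t x0 1 (by simpa using hx0)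
  refine ⟨g, ?_, k, hk⟩
  intro h
  have : x0 = 1 := by rw [← hg]; exact (QuotientGroup.eq_one_iff g).mpr h
  rw [this, orderOf_one] at hx0
  exact (Fact.out : t.Prime).ne_one hx0.symm

theorem exists_in_sup [Finite G] {N : Subgroup G} [N.Normal] (hc : IsCam N) (M : Subgroup G)
    (hMN : M ⊔ N = ⊤) (t : ℕ) [Fact t.Prime] (ht : t ∣ N.index) :
    ∃ m ∈ M, m ∉ N ∧ ∃ k, orderOf m = t ^ k := by
  obtain ⟨g, hgN, k, hk⟩ := exists_prime_pow_elt_not_mem N t ht
  have hg : g ∈ M ⊔ N := by rw [hMN]; exact Subgroup.mem_top g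
  obtain ⟨m, hm, n, hn, rfl⟩ := Subgroup.mem_sup_of_normal_right.mp hg
  have hmN : m ∉ N := by
    intro h
    exact hgN (N.mul_mem h hn)
  refine ⟨m, hm, hmN, k, ?_⟩
  rw [← hk]
  exact (orderOf_mul_eq hc hmN hn).symm

theorem isCam_subgroupOf [Finite G] {N : Subgroup G} [N.Normal] (hc : IsCam N) (M : Subgroup G)
    (hMN : M ⊔ N = ⊤) : IsCam (N.subgroupOf M) := by
  intro g hg n hn
  have hgN : (g : G) ∉ N := fun h => hg (Subgroup.mem_subgroupOf.mpr h)
  obtain ⟨x, hx, hxe⟩ := (centralizer_le_of_sup_eq_top hc M hMN g.2 hgN).2 (n : G)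
    (Subgroup.mem_subgroupOf.mp hn) n.2
  refine ⟨⟨x, hx⟩, ?_⟩
  apply Subtype.ext
  simpa using hxe

theorem index_subgroupOf_eq (N : Subgroup G) [N.Normal] (M : Subgroup G) (hMN : M ⊔ N = ⊤) :
    (N.subgroupOf M).index = N.index := by
  have h1 : N.relIndex (M ⊔ N) = N.relIndex M := Subgroup.relIndex_sup_right M N
  rw [hMN, Subgroup.relIndex_top_right] at h1
  exact h1.symm

/-- elements acting with a fixed point: if `x ∉ N`, `x ^ q ∈ N`, then `x` fixes no nontrivial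
`r`-element of `N` (`r ≠ q`). -/
theorem eq_one_of_comm_of_pow_mem [Finite G] {N : Subgroup G} [N.Normal] (hc : IsCam N) {q r : ℕ}
    (hq : q.Prime) (hr : r.Prime) (hqr : q ≠ r) {x v : G} (hxN : x ∉ N) (hxq : x ^ q ∈ N)
    (hvN : v ∈ N) (hxv : x * v = v * x) {j : ℕ} (hvo : orderOf v ∣ r ^ j) : v = 1 := by
  obtain ⟨b, m, hm, hxo⟩ := Nat.exists_eq_pow_mul_and_not_dvd (orderOf_pos x).ne' q hq.ne_one
  have hx'o : orderOf (x ^ m) = q ^ b := by
    rw [orderOf_pow_of_dvd ?_ (Dvd.intro_left _ hxo.symm), hxo, Nat.mul_div_cancel]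
    · exact Nat.pos_of_ne_zero (fun h => by rw [h] at hm; exact hm (dvd_zero q))
    · intro h; rw [h] at hm; exact hm (dvd_zero q)
  have hx'N : x ^ m ∉ N := by
    intro h
    apply hxN
    have hcop : Nat.Coprime m q := ((Nat.Prime.coprime_iff_not_dvd hq).mpr hm).symm
    obtain ⟨e, -, he⟩ := Nat.exists_mul_mod_eq_one_of_coprime hcop hq.one_lt
    have h1 : x ^ (m * e) ∈ N := by rw [pow_mul]; exact N.pow_mem h e
    have h2 : x ^ (m * e) = x ^ (q * (m * e / q)) * x := by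
      conv_lhs => rw [← Nat.div_add_mod (m * e) q, he, pow_add, pow_one]
    have h3 : x ^ (q * (m * e / q)) ∈ N := by rw [pow_mul]; exact N.pow_mem hxq _
    rw [h2] at h1
    have := N.mul_mem (N.inv_mem h3) h1
    simpa using this
  have hcomm : x ^ m * v = v * x ^ m := ((show Commute x v from hxv).pow_left m).eq
  have h4 := pow_orderOf_eq_one_of_comm hc hx'N hvN hcomm
  rw [hx'o] at h4
  exact eq_one_of_orderOf_dvd_pow hq hr hqr (orderOf_dvd_of_pow_eq_one h4) hvo

/-- if for every prime some Sylow subgroup of `N` lies in `C`, then `N ≤ C`. -/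
theorem le_of_sylows [Finite G] (N C : Subgroup G)
    (h : ∀ (t : ℕ) [Fact t.Prime], ∃ T : Sylow t N, (T : Subgroup N).map N.subtype ≤ C) :
    N ≤ C := by
  have h1 : (C.subgroupOf N).index = 1 := by
    apply Nat.eq_one_iff_not_exists_prime_dvd.mpr
    intro t ht htd
    have : Fact t.Prime := ⟨ht⟩
    obtain ⟨T, hT⟩ := h t
    have h2 : (T : Subgroup N) ≤ C.subgroupOf N := by
      intro x hx
      rw [Subgroup.mem_subgroupOf]
      exact hT ⟨x, hx, rfl⟩
    have h3 : (C.subgroupOf N).index ∣ (T : Subgroup N).index := Subgroup.index_dvd_of_le h2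
    exact T.not_dvd_index (htd.trans h3)
  have h2 : C.subgroupOf N = ⊤ := Subgroup.index_eq_one.mp h1
  intro x hx
  have : (⟨x, hx⟩ : N) ∈ C.subgroupOf N := by rw [h2]; exact Subgroup.mem_top _
  exact Subgroup.mem_subgroupOf.mp this


theorem card_inf_eq_prime_pow [Finite G] {N : Subgroup G} [N.Normal] (hc : IsCam N)
    (M : Subgroup G) (hMN : M ⊔ N = ⊤) (q : ℕ) [Fact q.Prime] (hqN : q ∣ Nat.card N)
    (hqI : q ∣ N.index) (h3 : ¬ IsPrimePow N.index)
    (halt : (∀ x ∈ N.subgroupOf M, x ≠ 1 →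
        Subgroup.centralizer ({x} : Set M) ≤ N.subgroupOf M) ∨
      IsPrimePow (Nat.card (N.subgroupOf M)) ∨ IsPrimePow (N.subgroupOf M).index) :
    ∃ k, Nat.card (N ⊓ M : Subgroup G) = q ^ k := by
  have hq : q.Prime := Fact.out
  obtain ⟨g, hgM, hgN, k, hgo⟩ := exists_in_sup hc M hMN q hqI
  obtain ⟨d, hdN, hd1, hgd⟩ := exists_comm_ne_one N q hqN hgo
  have hdM : d ∈ M := (centralizer_le_of_sup_eq_top hc M hMN hgM hgN).1
    (Subgroup.mem_centralizer_iff.mpr (fun h hh => by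
      rw [Set.mem_singleton_iff.mp hh]; exact hgd))
  have hcardeq : Nat.card (N.subgroupOf M) = Nat.card (N ⊓ M : Subgroup G) := by
    rw [← Subgroup.inf_subgroupOf_right]
    exact Nat.card_congr (Subgroup.subgroupOfEquivOfLe inf_le_right).toEquiv
  rcases halt with h | h | h
  · exfalso
    have h1 := h ⟨d, hdM⟩ (Subgroup.mem_subgroupOf.mpr hdN)
      (by intro hh; exact hd1 (congrArg Subtype.val hh))
    have h2 : (⟨g, hgM⟩ : M) ∈ Subgroup.centralizer ({(⟨d, hdM⟩ : M)} : Set M) := by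
      rw [Subgroup.mem_centralizer_iff]
      intro y hy
      rw [Set.mem_singleton_iff.mp hy]
      apply Subtype.ext
      exact hgd.symm
    exact hgN (Subgroup.mem_subgroupOf.mp (h1 h2))
  · rw [hcardeq] at h
    obtain ⟨p, j, hp, hj, hpj⟩ := (isPrimePow_nat_iff _).mp h
    have hqd : q ∣ Nat.card (N ⊓ M : Subgroup G) := by
      have h1 : orderOf d ∣ Nat.card (N ⊓ M : Subgroup G) :=
        Subgroup.orderOf_dvd_natCard _ ⟨hdN, hdM⟩
      have h2 : orderOf d ∣ q ^ k := by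
        rw [← hgo]
        exact orderOf_dvd_of_pow_eq_one (pow_orderOf_eq_one_of_comm hc hgN hdN hgd)
      obtain ⟨i, -, hi⟩ := (Nat.dvd_prime_pow hq).mp h2
      have hi0 : i ≠ 0 := by
        intro h0
        rw [h0, pow_zero, orderOf_eq_one_iff] at hi
        exact hd1 hi
      have : q ∣ orderOf d := by rw [hi]; exact dvd_pow_self q hi0
      exact this.trans h1
    rw [← hpj] at hqd
    have hqp : q = p := (Nat.prime_dvd_prime_iff_eq hq hp).mp (hq.dvd_of_dvd_pow hqd)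
    exact ⟨j, by rw [hqp, hpj]⟩
  · exfalso
    rw [index_subgroupOf_eq N M hMN] at h
    exact h3 h

end Cfsg.Agent.Lib.Helper21.Camina
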