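import Cfsg.Agent.Lib.Helper27.SymAlgDefs

/-!
# S4607 leaf A5c: the centralizer of a full set of matrix units in a symmetric algebra is symmetric
-/

set_option autoImplicit false

namespace Cfsg.Agent.Lib.Helper21.SymAlgA5c

open Cfsg.Agent.Lib.Helper27.SymAlg

variable {F : Type*} [Field F] {B : Type*} [Ring B] [Algebra F B]

/-- the averaging map `y ↦ ∑ k, u k 0 * y * u 0 k` -/
def avg {n : ℕ} [NeZero n] (u : Fin n → Fin n → B) (y : B) : B := ∑ k : Fin n, u k 0 * y * u 0 k

theorem avg_mem {n : ℕ} [NeZero n] {u : Fin n → Fin n → B} (hu : IsMatrixUnits u) (y : B) :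
    avg u y ∈ unitsCentralizer F u := by
  rw [mem_unitsCentralizer]
  intro i j
  unfold avg
  rw [Finset.mul_sum, Finset.sum_mul]
  have h1 : ∀ k : Fin n, u i j * (u k 0 * y * u 0 k) = if j = k then u i 0 * y * u 0 k else 0 := by
    intro k
    rw [← mul_assoc, ← mul_assoc, hu.mul i j k 0]
    split_ifs <;> simp
  have h2 : ∀ k : Fin n, u k 0 * y * u 0 k * u i j = if k = i then u k 0 * y * u 0 j else 0 := by
    intro k
    rw [mul_assoc, hu.mul 0 k i j]
    split_ifs <;> simp
  rw [Finset.sum_congr rfl (fun k _ => h1 k), Finset.sum_congr rfl (fun k _ => h2 k)]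
  rw [Finset.sum_ite_eq Finset.univ j, Finset.sum_ite_eq' Finset.univ i]
  simp

theorem eq_sum_of_mem {n : ℕ} [NeZero n] {u : Fin n → Fin n → B} (hu : IsMatrixUnits u) {c : B}
    (hc : c ∈ unitsCentralizer F u) : c = avg u (c * u 0 0) := by
  rw [mem_unitsCentralizer] at hc
  unfold avg
  have h : ∀ k : Fin n, u k 0 * (c * u 0 0) * u 0 k = c * u k k := by
    intro k
    rw [← mul_assoc, hc k 0, mul_assoc c, hu.mul k 0 0 0, if_pos rfl, mul_assoc, hu.mul k 0 0 k, if_pos rfl]
  rw [Finset.sum_congr rfl (fun k _ => h k), ← Finset.mul_sum, hu.sum, mul_one]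

theorem avg_mul_u00 {n : ℕ} [NeZero n] {u : Fin n → Fin n → B} (hu : IsMatrixUnits u) (y : B) :
    avg u y * u 0 0 = u 0 0 * y * u 0 0 := by
  unfold avg
  rw [Finset.sum_mul]
  have h : ∀ k : Fin n, u k 0 * y * u 0 k * u 0 0 = if k = 0 then u k 0 * y * u 0 0 else 0 := by
    intro k
    rw [mul_assoc, hu.mul 0 k 0 0]
    split_ifs <;> simp
  rw [Finset.sum_congr rfl (fun k _ => h k), Finset.sum_ite_eq' Finset.univ 0]
  simp

/-- LEAF A5c: `c ↦ lam (c * u 0 0)` is a symmetrizing form on the centralizer of the matrix units. -/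
theorem isSymForm_unitsCentralizer {n : ℕ} [NeZero n] {u : Fin n → Fin n → B}
    (hu : IsMatrixUnits u) {lam : B →ₗ[F] F} (hlam : IsSymForm lam) :
    IsSymForm (F := F) (B := unitsCentralizer F u)
      ((lam.comp (LinearMap.mulRight F (u 0 0))).comp (unitsCentralizer F u).val.toLinearMap) := by
  have happ : ∀ c : unitsCentralizer F u,
      ((lam.comp (LinearMap.mulRight F (u 0 0))).comp (unitsCentralizer F u).val.toLinearMap) c =
        lam ((c : B) * u 0 0) := fun c => rfl
  have hcomm0 : ∀ c : unitsCentralizer F u, u 0 0 * (c : B) = (c : B) * u 0 0 := fun c =>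
    (mem_unitsCentralizer u (c : B)).mp c.2 0 0
  constructor
  · intro c d
    rw [happ, happ, Subalgebra.coe_mul, Subalgebra.coe_mul]
    rw [mul_assoc, hlam.comm, mul_assoc, hcomm0 c, ← mul_assoc]
  · intro c hc
    have hc' : (c : B) ≠ 0 := fun h => hc (Subtype.ext h)
    have hcu : (c : B) * u 0 0 ≠ 0 := by
      intro h0
      apply hc'
      rw [eq_sum_of_mem hu c.2, h0]
      unfold avg
      simp
    obtain ⟨y, hy⟩ := hlam.nondeg _ hcu
    refine ⟨⟨avg u y, avg_mem hu y⟩, ?_⟩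
    rw [happ, Subalgebra.coe_mul]
    show lam ((c : B) * avg u y * u 0 0) ≠ 0
    rw [mul_assoc, avg_mul_u00 hu, ← mul_assoc, ← mul_assoc, hlam.comm, ← mul_assoc, ← mul_assoc,
      hcomm0 c, mul_assoc (c : B), hu.mul 0 0 0 0, if_pos rfl]
    exact hy

end Cfsg.Agent.Lib.Helper21.SymAlgA5c
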