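import Cfsg.Agent.Lib.Helper27.SymAlgDefs

/-!
# S4607 leaf A0: dimension of the orthogonal of a subspace for a symmetrizing form
-/

set_option autoImplicit false

namespace Cfsg.Agent.Lib.Helper21.SymAlgA0

open Cfsg.Agent.Lib.Helper27.SymAlg

variable {F : Type*} [Field F] {B : Type*} [Ring B] [Algebra F B]

/-- LEAF A0: dimension of the orthogonal for the nondegenerate symmetric bilinear form
`(x, y) ↦ lam (x * y)`. -/
theorem finrank_perp [FiniteDimensional F B] {lam : B →ₗ[F] F} (hlam : IsSymForm lam)
    (W : Submodule F B) :
    Module.finrank F (perp lam W) + Module.finrank F W = Module.finrank F B := by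
  let Bf : LinearMap.BilinForm F B := (LinearMap.mul F B).compr₂ lam
  have hBf : ∀ x y, Bf x y = lam (x * y) := fun x y => rfl
  have hnd : Bf.Nondegenerate := by
    constructor
    · intro x hx
      by_contra hne
      obtain ⟨y, hy⟩ := hlam.nondeg x hne
      exact hy (hx y)
    · intro y hy
      by_contra hne
      obtain ⟨x, hx⟩ := hlam.nondeg y hne
      apply hx
      rw [hlam.comm]
      exact hy x
  have heq : perp lam W = Bf.orthogonal W := by
    ext z
    rw [mem_perp, LinearMap.BilinForm.mem_orthogonal_iff]
    constructor
    · intro h n hn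
      rw [hBf, hlam.comm]
      exact h n hn
    · intro h c hc
      rw [hlam.comm]
      exact h c hc
  rw [heq, LinearMap.BilinForm.finrank_orthogonal hnd W]
  have := Submodule.finrank_le W
  omega

end Cfsg.Agent.Lib.Helper21.SymAlgA0
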