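import Cfsg.Agent.Lib.Helper27.SymAlgDefs

/-!
# S4607 leaf A1: the centre of a symmetric algebra is the orthogonal of the commutator space
-/

set_option autoImplicit false

namespace Cfsg.Agent.Lib.Helper21.SymAlgA1

open Cfsg.Agent.Lib.Helper27.SymAlg

variable {F : Type*} [Field F] {B : Type*} [Ring B] [Algebra F B]

theorem lam_comm_shift {lam : B →ₗ[F] F} (hlam : IsSymForm lam) (z x y : B) :
    lam ((z * x - x * z) * y) = lam (z * (x * y - y * x)) := by
  rw [sub_mul, mul_sub, map_sub, map_sub, mul_assoc z x y, mul_assoc x z y, hlam.comm x (z * y),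
    mul_assoc z y x]

/-- LEAF A1: the centre is the orthogonal of the commutator space. -/
theorem perp_commSpan {lam : B →ₗ[F] F} (hlam : IsSymForm lam) :
    perp lam (commSpan F B) = Subalgebra.toSubmodule (Subalgebra.center F B) := by
  ext z
  rw [mem_perp, Subalgebra.mem_toSubmodule, Subalgebra.mem_center_iff]
  constructor
  · intro h x
    by_contra hne
    have hne' : z * x - x * z ≠ 0 := fun h0 => hne (sub_eq_zero.mp h0).symm
    obtain ⟨y, hy⟩ := hlam.nondeg _ hne'
    apply hy
    rw [lam_comm_shift hlam]
    exact h (x * y - y * x) (Submodule.subset_span ⟨x, y, rfl⟩)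
  · intro hz c hc
    induction hc using Submodule.span_induction with
    | mem c hc =>
      obtain ⟨x, y, rfl⟩ := hc
      rw [← lam_comm_shift hlam, hz x, sub_self, zero_mul, map_zero]
    | zero => rw [mul_zero, map_zero]
    | add a b _ _ ha hb => rw [mul_add, map_add, ha, hb, add_zero]
    | smul r a _ ha => rw [mul_smul_comm, map_smul, ha, smul_zero]

end Cfsg.Agent.Lib.Helper21.SymAlgA1
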