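import Mathlib
import Cfsg.Prelude.Def_Characters
import Cfsg.Agent.Lib.Helper24.BSWDefs
import Cfsg.Agent.Lib.Helper1.BSWCDefs
import Cfsg.Agent.Lib.Helper10.PowTwistChar
import Cfsg.Agent.Lib.Helper24.Ord4320Cnt
import Cfsg.Agent.Lib.Helper16.BSWB1

/-!
# S3282 (Brauer-Suzuki-Wall), batch 2, leaf E2: the class multiplication formula for `pairCount`
-/

set_option autoImplicit false
open Cfsg Cfsg.Agent.Lib.Helper24.BSW Cfsg.Agent.CharLib Cfsg.Agent.Lib.Helper1.BSWC
open scoped ComplexConjugate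

namespace Cfsg.Agent.Lib.Helper21.BSWCE2

universe u

variable {G : Type u} [Group G] [Fintype G]

omit [Fintype G] in
theorem orderOf_eq_of_isConj {a b : G} (h : IsConj a b) : orderOf a = orderOf b := by
  obtain ⟨c, rfl⟩ := isConj_iff.mp h
  exact ((MulAut.conj c).orderOf_eq a).symm

omit [Fintype G] in
/-- pairs of involutions with product `z` versus conjugates `s` of `t` with `s⁻¹ z` conjugate to `t` -/
theorem pairCount_eq_card {t s : G} {K : Subgroup G} (h : Hyp t s K) (z : G) :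
    pairCount z = Nat.card {s : G // IsConj t s ∧ IsConj t (s⁻¹ * z)} := by
  unfold pairCount
  apply Nat.card_congr
  refine ⟨fun p => ⟨p.1.1, h.hconj t p.1.1 h.ht p.2.1, ?_⟩,
    fun s => ⟨(s.1, s.1⁻¹ * z), ?_, ?_, ?_⟩, ?_, ?_⟩
  · obtain ⟨⟨u, v⟩, hu, hv, huv⟩ := p
    simp only at hu hv huv ⊢
    have : u⁻¹ * z = v := by rw [← huv]; group
    rw [this]
    exact h.hconj t v h.ht hv
  · simp only
    rw [← orderOf_eq_of_isConj s.2.1]
    exact h.ht
  · simp only
    rw [← orderOf_eq_of_isConj s.2.2]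
    exact h.ht
  · simp
  · rintro ⟨⟨u, v⟩, hu, hv, huv⟩
    apply Subtype.ext
    simp only
    rw [← huv]
    simp
  · rintro ⟨s, hs1, hs2⟩
    rfl

/-- **E2** -/
theorem pairCount_formula {t s : G} {K : Subgroup G} (h : Hyp t s K) [Fintype (IrrCharacter G)]
    (z : G) :
    (pairCount z : ℂ) * (2 * (Nat.card K : ℂ)) ^ 2 =
      (Nat.card G : ℂ) * ∑ χ : IrrCharacter G,
        (χ : G → ℂ) t * (χ : G → ℂ) t * (χ : G → ℂ) z⁻¹ / (χ : G → ℂ) 1 := by
  have hB1 := (Cfsg.Agent.Lib.Helper16.BSWB1.card_centralizer h).1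
  have h1 := Cfsg.Agent.Lib.Helper24.Ord4320.card_pairs_conj t t z
  have h2 := Cfsg.Agent.Lib.Helper24.Ord4320.class_mul_count t t z
  rw [h1, hB1, ← pairCount_eq_card h z] at h2
  have hG : (Nat.card G : ℂ) = (Fintype.card G : ℂ) := by rw [Nat.card_eq_fintype_card]
  rw [hG, ← h2]
  push_cast
  ring

end Cfsg.Agent.Lib.Helper21.BSWCE2
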