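/-
helper21: class-multiplication constants through characters, in counting form:
`#{(a,b) ∈ G × G : a x a⁻¹ · b y b⁻¹ = g} = |G| ∑_χ χ(x) χ(y) conj χ(g) / χ(1)`; in particular the character sum is a
non-negative real number (used in S4504, step (T)).
-/
import Mathlib
import Cfsg.Agent.Lib.Helper24.IrrFacts
import Cfsg.Agent.Lib.Lead.CharOrtho

set_option autoImplicit false

namespace Cfsg.Agent.Lib.Helper21.ClassMulPos

open Cfsg Cfsg.Agent.CharLib Cfsg.Agent.Lib.Helper24
open scoped ComplexConjugate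

universe u

variable {G : Type u} [Group G]

open Classical in
/-- The number of pairs `(a,b)` with `a x a⁻¹ * (b y b⁻¹) = g`, through the irreducible characters. -/
theorem card_pairs_eq [Fintype G] [Fintype (IrrCharacter G)] (x y g : G) :
    ((Finset.univ.filter (fun ab : G × G => ab.1 * x * ab.1⁻¹ * (ab.2 * y * ab.2⁻¹) = g)).card : ℂ) =
      (Fintype.card G : ℂ) * ∑ χ : IrrCharacter G,
        (χ : G → ℂ) x * (χ : G → ℂ) y * conj ((χ : G → ℂ) g) / (χ : G → ℂ) 1 := by
  have hG : (Fintype.card G : ℂ) ≠ 0 := by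
    have : 0 < Fintype.card G := Fintype.card_pos
    exact_mod_cast this.ne'
  -- the indicator through the regular character
  have h1 : ∀ a b : G, (if a * x * a⁻¹ * (b * y * b⁻¹) * g⁻¹ = 1 then (Fintype.card G : ℂ) else 0) =
      ∑ χ : IrrCharacter G, (χ : G → ℂ) 1 * (χ : G → ℂ) (a * x * a⁻¹ * (b * y * b⁻¹) * g⁻¹) := by
    intro a b
    rw [sum_irr_degree_mul]
  have h2 : ∑ a : G, ∑ b : G,
      (if a * x * a⁻¹ * (b * y * b⁻¹) * g⁻¹ = 1 then (Fintype.card G : ℂ) else 0) =
      ∑ χ : IrrCharacter G, (Fintype.card G : ℂ) ^ 2 *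
        ((χ : G → ℂ) x * (χ : G → ℂ) y * conj ((χ : G → ℂ) g) / (χ : G → ℂ) 1) := by
    rw [Finset.sum_congr rfl (fun a _ => Finset.sum_congr rfl (fun b _ => h1 a b))]
    rw [Finset.sum_congr rfl (fun a _ => Finset.sum_comm)]
    rw [Finset.sum_comm]
    apply Finset.sum_congr rfl
    intro χ _
    simp only [← Finset.mul_sum]
    have h3 := irr_class_mul3 χ x y g⁻¹
    have hne := irr_apply_one_ne_zero χ
    have hinv : (χ : G → ℂ) g⁻¹ = conj ((χ : G → ℂ) g) :=
      IsCharacter.apply_inv (IsIrrCharacter.isCharacter χ.2) g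
    rw [hinv] at h3
    field_simp
    linear_combination h3
  -- the left side counts the pairs
  have h4 : ∑ a : G, ∑ b : G,
      (if a * x * a⁻¹ * (b * y * b⁻¹) * g⁻¹ = 1 then (Fintype.card G : ℂ) else 0) =
      ((Finset.univ.filter (fun ab : G × G => ab.1 * x * ab.1⁻¹ * (ab.2 * y * ab.2⁻¹) = g)).card : ℂ) *
        (Fintype.card G : ℂ) := by
    rw [← Finset.sum_product' (s := Finset.univ) (t := Finset.univ)
      (f := fun a b => if a * x * a⁻¹ * (b * y * b⁻¹) * g⁻¹ = 1 then (Fintype.card G : ℂ) else 0)]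
    rw [Finset.univ_product_univ, ← Finset.sum_filter, Finset.sum_const, nsmul_eq_mul]
    have hfil : Finset.univ.filter (fun ab : G × G => ab.1 * x * ab.1⁻¹ * (ab.2 * y * ab.2⁻¹) * g⁻¹ = 1) =
        Finset.univ.filter (fun ab : G × G => ab.1 * x * ab.1⁻¹ * (ab.2 * y * ab.2⁻¹) = g) := by
      ext ab
      simp only [Finset.mem_filter, Finset.mem_univ, true_and]
      exact mul_inv_eq_one
    rw [hfil]
  rw [h4, ← Finset.mul_sum] at h2
  have h5 : ((Finset.univ.filter (fun ab : G × G => ab.1 * x * ab.1⁻¹ * (ab.2 * y * ab.2⁻¹) = g)).card : ℂ) *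
      (Fintype.card G : ℂ) = ((Fintype.card G : ℂ) * ∑ χ : IrrCharacter G,
        (χ : G → ℂ) x * (χ : G → ℂ) y * conj ((χ : G → ℂ) g) / (χ : G → ℂ) 1) * (Fintype.card G : ℂ) := by
    rw [h2]
    ring
  exact mul_right_cancel₀ hG h5

/-- The class-multiplication character sum is a non-negative rational multiple: `|G| * sum = n`. -/
theorem exists_nat_eq [Finite G] (x y g : G) :
    ∃ n : ℕ, (Nat.card G : ℂ) * ∑ᶠ χ : IrrCharacter G,
        (χ : G → ℂ) x * (χ : G → ℂ) y * conj ((χ : G → ℂ) g) / (χ : G → ℂ) 1 = (n : ℂ) := by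
  classical
  let _ : Fintype G := Fintype.ofFinite G
  let _ : Fintype (IrrCharacter G) := Fintype.ofFinite _
  refine ⟨(Finset.univ.filter (fun ab : G × G => ab.1 * x * ab.1⁻¹ * (ab.2 * y * ab.2⁻¹) = g)).card, ?_⟩
  rw [card_pairs_eq x y g, finsum_eq_sum_of_fintype, Nat.card_eq_fintype_card]

end Cfsg.Agent.Lib.Helper21.ClassMulPos
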