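import Mathlib

/-!
Bounding the commutator subgroup from generators modulo a central subgroup (helper21).
-/

set_option autoImplicit false

namespace Cfsg.Agent.Lib.Helper21

open scoped commutatorElement

/-- If `Γ = ⟨S⟩ Z` with `Z` central and `N` is a normal subgroup containing all commutators of elements
of `S`, then `Γ' ≤ N`. -/
theorem commutator_le_of_generators {Γ : Type*} [Group Γ] (Z N : Subgroup Γ) [hN : N.Normal] (S : Set Γ)
    (hZ : Z ≤ Subgroup.center Γ) (hgen : Subgroup.closure S ⊔ Z = ⊤)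
    (hS : ∀ s ∈ S, ∀ t ∈ S, ⁅s, t⁆ ∈ N) : commutator Γ ≤ N := by
  set π := QuotientGroup.mk' N with hπ
  have hcl : Subgroup.closure (S ∪ (Z : Set Γ)) = ⊤ := by
    rw [Subgroup.closure_union, Subgroup.closure_eq, hgen]
  have hcomm_gen : ∀ a ∈ π '' (S ∪ (Z : Set Γ)), ∀ b ∈ π '' (S ∪ (Z : Set Γ)), a * b = b * a := by
    have hcen : ∀ c ∈ Z, ∀ g : Γ, π c * π g = π g * π c := by
      intro c hc g
      rw [← map_mul, ← map_mul, (Subgroup.mem_center_iff.mp (hZ hc)) g]
    rintro _ ⟨a, ha, rfl⟩ _ ⟨b, hb, rfl⟩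
    rcases ha with ha | ha
    · rcases hb with hb | hb
      · have h2 : π ⁅a, b⁆ = 1 := (QuotientGroup.eq_one_iff _).mpr (hS a ha b hb)
        rw [map_commutatorElement, commutatorElement_eq_one_iff_commute] at h2
        exact h2
      · exact (hcen b hb a).symm
    · exact hcen a ha b
  have hcommQ := Subgroup.isMulCommutative_closure hcomm_gen
  have htop : Subgroup.closure (π '' (S ∪ (Z : Set Γ))) = ⊤ := by
    rw [← MonoidHom.map_closure, hcl, ← MonoidHom.range_eq_map, MonoidHom.range_eq_top]
    exact QuotientGroup.mk'_surjective N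
  have hcommAll : ∀ a b : Γ ⧸ N, a * b = b * a := by
    intro a b
    have ha : a ∈ Subgroup.closure (π '' (S ∪ (Z : Set Γ))) := by rw [htop]; trivial
    have hb : b ∈ Subgroup.closure (π '' (S ∪ (Z : Set Γ))) := by rw [htop]; trivial
    have := hcommQ.is_comm.comm ⟨a, ha⟩ ⟨b, hb⟩
    exact congrArg Subtype.val this
  rw [commutator_def, Subgroup.commutator_le]
  intro g _ h _
  have h2 : π ⁅g, h⁆ = 1 := by
    rw [map_commutatorElement, commutatorElement_eq_one_iff_commute]
    exact hcommAll _ _
  exact (QuotientGroup.eq_one_iff _).mp h2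

/-- a subgroup of the centre is normal -/
theorem normal_of_le_center' {Γ : Type*} [Group Γ] (N : Subgroup Γ) (h : N ≤ Subgroup.center Γ) : N.Normal := by
  constructor
  intro n hn g
  have := Subgroup.mem_center_iff.mp (h hn) g
  have h2 : g * n * g⁻¹ = n := by rw [this]; group
  rw [h2]; exact hn

end Cfsg.Agent.Lib.Helper21
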