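import Mathlib
import Cfsg.Agent.Lib.Helper21.ClassSize
import Cfsg.Agent.Lib.Helper21.CommutatorGen

/-!
Frobenius' theorem: if `n ∣ |G|` then `n ∣ #{g : g ^ n = 1}` (helper21), following Isaacs–Robinson.
-/

set_option autoImplicit false

namespace Cfsg.Agent.Lib.Helper21

/-- If `S` is a union of classes of `r`, `w` is constant on classes and `d ∣ |class y| * w y` for `y ∈ S`,
then `d ∣ ∑ y ∈ S, w y`. -/
theorem dvd_sum_of_setoid' {Y : Type*} [Fintype Y] [DecidableEq Y] (r : Setoid Y) [DecidableRel r.r]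
    (S : Finset Y) (w : Y → ℕ) (d : ℕ)
    (hS : ∀ y y', y ∈ S → r.r y y' → y' ∈ S)
    (hw : ∀ y y', r.r y y' → w y = w y')
    (hd : ∀ y ∈ S, d ∣ (Finset.univ.filter (fun y' => r.r y y')).card * w y) : d ∣ ∑ y ∈ S, w y := by
  classical
  rw [← Finset.sum_fiberwise_of_maps_to (s := S) (t := S.image (fun y => (Quotient.mk r y)))
    (g := fun y => (Quotient.mk r y)) (fun y hy => Finset.mem_image_of_mem _ hy) w]
  apply Finset.dvd_sum
  intro q hq
  obtain ⟨y₀, hy₀, rfl⟩ := Finset.mem_image.mp hq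
  have h1 : (S.filter (fun y => Quotient.mk r y = Quotient.mk r y₀)) =
      Finset.univ.filter (fun y' => r.r y₀ y') := by
    ext y
    simp only [Finset.mem_filter, Finset.mem_univ, true_and]
    rw [Quotient.eq]
    constructor
    · rintro ⟨_, h⟩; exact r.symm h
    · intro h; exact ⟨hS y₀ y hy₀ h, r.symm h⟩
  rw [h1]
  have h2 : ∑ y ∈ Finset.univ.filter (fun y' => r.r y₀ y'), w y =
      ∑ y ∈ Finset.univ.filter (fun y' => r.r y₀ y'), w y₀ := by
    apply Finset.sum_congr rfl
    intro y hy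
    rw [Finset.mem_filter] at hy
    exact (hw y₀ y hy.2).symm
  rw [h2, Finset.sum_const, smul_eq_mul]
  exact hd y₀ hy₀

/-- CRT idempotent exponents -/
theorem exists_crt_exponents (A B : ℕ) (hAB : Nat.Coprime A B) :
    ∃ e₁ e₂ : ℕ, e₁ ≡ 1 [MOD A] ∧ B ∣ e₁ ∧ A ∣ e₂ ∧ e₂ ≡ 1 [MOD B] ∧ e₁ + e₂ ≡ 1 [MOD A * B] := by
  obtain ⟨e₁, h1, h2⟩ := Nat.chineseRemainder hAB 1 0
  obtain ⟨e₂, h3, h4⟩ := Nat.chineseRemainder hAB 0 1
  refine ⟨e₁, e₂, h1, (Nat.modEq_zero_iff_dvd).mp h2, (Nat.modEq_zero_iff_dvd).mp h3, h4, ?_⟩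
  rw [← Nat.modEq_and_modEq_iff_modEq_mul hAB]
  constructor
  · have := Nat.ModEq.add h1 h3
    simpa using this
  · have := Nat.ModEq.add h2 h4
    simpa using this

theorem pow_eq_self_of_modEq_one {G : Type*} [Group G] (y : G) (A e : ℕ) (hy : y ^ A = 1) (he : e ≡ 1 [MOD A]) :
    y ^ e = y := by
  have h1 : orderOf y ∣ A := orderOf_dvd_of_pow_eq_one hy
  have h2 : e ≡ 1 [MOD orderOf y] := he.of_dvd h1
  have := (pow_eq_pow_iff_modEq (x := y)).mpr h2
  rw [this, pow_one]

theorem pow_eq_one_of_dvd' {G : Type*} [Group G] (y : G) (A e : ℕ) (hy : y ^ A = 1) (he : A ∣ e) :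
    y ^ e = 1 := by
  obtain ⟨k, rfl⟩ := he
  rw [pow_mul, hy, one_pow]

/-- decomposition of elements with `x ^ (A * B) = 1` into commuting `A`- and `B`-parts -/
noncomputable def coprimeDecompEquiv {G : Type*} [Group G] (A B : ℕ) (e₁ e₂ : ℕ)
    (h1 : e₁ ≡ 1 [MOD A]) (h2 : B ∣ e₁) (h3 : A ∣ e₂) (h4 : e₂ ≡ 1 [MOD B]) (h5 : e₁ + e₂ ≡ 1 [MOD A * B])
    (Q : G → Prop) :
    (Σ y : {y : G // y ^ A = 1 ∧ Q y}, {z : G // z ^ B = 1 ∧ y.1 * z = z * y.1}) ≃
      {x : G // x ^ (A * B) = 1 ∧ Q (x ^ e₁)} where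
  toFun yz := ⟨yz.1.1 * yz.2.1, by
    obtain ⟨⟨y, hy, hQ⟩, ⟨z, hz, hc⟩⟩ := yz
    have hcomm : Commute y z := hc
    constructor
    · show (y * z) ^ (A * B) = 1
      rw [hcomm.mul_pow, pow_mul, hy, one_pow, one_mul, mul_comm, pow_mul, hz, one_pow]
    · show Q ((y * z) ^ e₁)
      rw [hcomm.mul_pow, pow_eq_self_of_modEq_one y A e₁ hy h1, pow_eq_one_of_dvd' z B e₁ hz h2, mul_one]
      exact hQ⟩
  invFun x := ⟨⟨x.1 ^ e₁, by
      obtain ⟨x, hx, hQ⟩ := x
      refine ⟨?_, hQ⟩
      show (x ^ e₁) ^ A = 1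
      obtain ⟨k, rfl⟩ := h2
      rw [← pow_mul, mul_comm, ← mul_assoc, pow_mul, hx, one_pow]⟩,
    ⟨x.1 ^ e₂, by
      obtain ⟨x, hx, hQ⟩ := x
      constructor
      · show (x ^ e₂) ^ B = 1
        obtain ⟨k, rfl⟩ := h3
        rw [← pow_mul, mul_assoc, mul_comm k B, ← mul_assoc, pow_mul, hx, one_pow]
      · show x ^ e₁ * x ^ e₂ = x ^ e₂ * x ^ e₁
        rw [← pow_add, ← pow_add, add_comm]⟩⟩
  left_inv yz := by
    obtain ⟨⟨y, hy, hQ⟩, ⟨z, hz, hc⟩⟩ := yz
    have hcomm : Commute y z := hc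
    have e1 : (y * z) ^ e₁ = y := by
      rw [hcomm.mul_pow, pow_eq_self_of_modEq_one y A e₁ hy h1, pow_eq_one_of_dvd' z B e₁ hz h2, mul_one]
    have e2 : (y * z) ^ e₂ = z := by
      rw [hcomm.mul_pow, pow_eq_self_of_modEq_one z B e₂ hz h4, pow_eq_one_of_dvd' y A e₂ hy h3, one_mul]
    apply Sigma.subtype_ext
    · exact Subtype.ext e1
    · exact e2
  right_inv x := by
    obtain ⟨x, hx, hQ⟩ := x
    apply Subtype.ext
    show x ^ e₁ * x ^ e₂ = x
    rw [← pow_add]
    exact pow_eq_self_of_modEq_one x (A * B) _ hx h5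

theorem card_pow_eq_one_quotient {C : Type*} [Group C] [Finite C] (Z : Subgroup C) [Z.Normal]
    (hZ : Z ≤ Subgroup.center C) (s : ℕ) (hs : Nat.Coprime s (Nat.card Z)) :
    Nat.card {z : C // z ^ s = 1} = Nat.card {q : C ⧸ Z // q ^ s = 1} := by
  have hord : ∀ u ∈ Z, Nat.Coprime s (orderOf u) := by
    intro u hu
    have h1 : orderOf u ∣ Nat.card Z := by
      rw [← Subgroup.orderOf_mk u hu]; exact orderOf_dvd_natCard _
    exact Nat.Coprime.coprime_dvd_right h1 hs
  let f : {z : C // z ^ s = 1} → {q : C ⧸ Z // q ^ s = 1} :=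
    fun z => ⟨(z.1 : C ⧸ Z), by rw [← QuotientGroup.mk_pow, z.2]; rfl⟩
  apply Nat.card_congr
  apply Equiv.ofBijective f
  constructor
  · rintro ⟨z, hz⟩ ⟨z', hz'⟩ h
    have h1 : (z : C ⧸ Z) = (z' : C ⧸ Z) := congrArg Subtype.val h
    have hu : z⁻¹ * z' ∈ Z := QuotientGroup.eq.mp h1
    have huc : Commute z (z⁻¹ * z') := ((Subgroup.mem_center_iff.mp (hZ hu)) z)
    have h2 : z' = z * (z⁻¹ * z') := by group
    have h3 : (z⁻¹ * z') ^ s = 1 := by
      have : z' ^ s = z ^ s * (z⁻¹ * z') ^ s := by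
        conv_lhs => rw [h2]
        exact huc.mul_pow s
      rw [hz, hz', one_mul] at this
      exact this.symm
    have h4 : orderOf (z⁻¹ * z') ∣ s := orderOf_dvd_of_pow_eq_one h3
    have h5 : orderOf (z⁻¹ * z') = 1 := by
      have := Nat.dvd_gcd h4 dvd_rfl
      rw [hord _ hu] at this
      exact Nat.dvd_one.mp this
    rw [orderOf_eq_one_iff] at h5
    apply Subtype.ext
    show z = z'
    rw [h2, h5, mul_one]
  · rintro ⟨q, hq⟩
    obtain ⟨z₀, rfl⟩ := QuotientGroup.mk_surjective q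
    have hw : z₀ ^ s ∈ Z := by
      rw [← QuotientGroup.eq_one_iff, QuotientGroup.mk_pow]; exact hq
    have hw' : (z₀ ^ s)⁻¹ ∈ Z := Z.inv_mem hw
    obtain ⟨m, hm⟩ := exists_pow_eq_self_of_coprime (hord _ hw')
    have hu : ((z₀ ^ s)⁻¹) ^ m ∈ Z := Z.pow_mem hw' m
    have hus : (((z₀ ^ s)⁻¹) ^ m) ^ s = (z₀ ^ s)⁻¹ := by
      rw [← pow_mul, mul_comm, pow_mul]; exact hm
    have huc : Commute z₀ (((z₀ ^ s)⁻¹) ^ m) := ((Subgroup.mem_center_iff.mp (hZ hu)) z₀)
    refine ⟨⟨z₀ * ((z₀ ^ s)⁻¹) ^ m, ?_⟩, ?_⟩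
    · rw [huc.mul_pow, hus, mul_inv_cancel]
    · apply Subtype.ext
      show ((z₀ * ((z₀ ^ s)⁻¹) ^ m : C) : C ⧸ Z) = (z₀ : C ⧸ Z)
      rw [QuotientGroup.mk_mul, (QuotientGroup.eq_one_iff _).mpr hu, mul_one]

/-- number of solutions of `z ^ s = 1` in the centralizer of `y` -/
noncomputable def frobWt {G : Type*} [Group G] (s : ℕ) (y : G) : ℕ :=
  Nat.card {z : G // z ^ s = 1 ∧ y * z = z * y}

theorem frobWt_conj {G : Type*} [Group G] (s : ℕ) (y y' : G) (h : IsConj y y') : frobWt s y = frobWt s y' := by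
  obtain ⟨g, rfl⟩ := isConj_iff.mp h
  unfold frobWt
  apply Nat.card_congr
  refine ⟨fun z => ⟨g * z.1 * g⁻¹, ?_, ?_⟩, fun z => ⟨g⁻¹ * z.1 * g, ?_, ?_⟩, ?_, ?_⟩
  · rw [conj_pow, z.2.1]; group
  · have := z.2.2
    calc g * y * g⁻¹ * (g * z.1 * g⁻¹) = g * (y * z.1) * g⁻¹ := by group
      _ = g * (z.1 * y) * g⁻¹ := by rw [this]
      _ = g * z.1 * g⁻¹ * (g * y * g⁻¹) := by group
  · have : (g⁻¹ * z.1 * g) ^ s = g⁻¹ * z.1 ^ s * g := by
      have := conj_pow (a := g⁻¹) (b := z.1) (i := s)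
      rw [inv_inv] at this
      exact this
    rw [this, z.2.1]; group
  · have := z.2.2
    calc y * (g⁻¹ * z.1 * g) = g⁻¹ * ((g * y * g⁻¹) * z.1) * g := by group
      _ = g⁻¹ * (z.1 * (g * y * g⁻¹)) * g := by rw [this]
      _ = g⁻¹ * z.1 * g * y := by group
  · intro z; apply Subtype.ext; simp only; group
  · intro z; apply Subtype.ext; simp only; group

theorem frobWt_zpowers {G : Type*} [Group G] (s : ℕ) (y y' : G) (h : Subgroup.zpowers y = Subgroup.zpowers y') :
    frobWt s y = frobWt s y' := by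
  unfold frobWt
  apply Nat.card_congr
  apply Equiv.subtypeEquivRight
  intro z
  have key : ∀ a b : G, a ∈ Subgroup.zpowers b → b * z = z * b → a * z = z * a := by
    intro a b hab hb
    obtain ⟨k, rfl⟩ := Subgroup.mem_zpowers_iff.mp hab
    have hc : Commute b z := hb
    exact (hc.zpow_left k).eq
  constructor
  · rintro ⟨h1, h2⟩
    exact ⟨h1, key y' y (h ▸ Subgroup.mem_zpowers y') h2⟩
  · rintro ⟨h1, h2⟩
    exact ⟨h1, key y y' (h ▸ Subgroup.mem_zpowers y) h2⟩

theorem card_filter_isConj {G : Type*} [Group G] [Fintype G] [DecidableEq G] (y : G)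
    [DecidablePred (fun y' => IsConj y y')] :
    (Finset.univ.filter (fun y' => IsConj y y')).card = (Subgroup.centralizer ({y} : Set G)).index := by
  rw [index_centralizer_eq_ncard_setOf_isConj, Set.ncard_eq_toFinset_card']
  congr 1
  ext y'
  simp

theorem card_filter_zpowers_eq {G : Type*} [Group G] [Fintype G] [DecidableEq G] (y : G)
    [DecidablePred (fun y' => Subgroup.zpowers y = Subgroup.zpowers y')] :
    (Finset.univ.filter (fun y' => Subgroup.zpowers y = Subgroup.zpowers y')).card = Nat.totient (orderOf y) := by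
  classical
  have hcyc : IsCyclic (Subgroup.zpowers y) := inferInstance
  have hcard : Fintype.card (Subgroup.zpowers y) = orderOf y := by
    rw [← Nat.card_eq_fintype_card, Nat.card_zpowers]
  have h1 := IsCyclic.card_orderOf_eq_totient (α := Subgroup.zpowers y) (d := orderOf y) (by rw [hcard])
  rw [← h1]
  symm
  apply Finset.card_bij (fun a _ => a.1)
  · intro a ha
    rw [Finset.mem_filter] at ha ⊢
    refine ⟨Finset.mem_univ _, ?_⟩
    have ho : orderOf a.1 = orderOf y := by rw [← ha.2, Subgroup.orderOf_coe]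
    symm
    apply Subgroup.eq_of_le_of_card_ge
    · rw [Subgroup.zpowers_le]; exact a.2
    · rw [Nat.card_zpowers, Nat.card_zpowers, ho]
  · intro a _ b _ hab
    exact Subtype.ext hab
  · intro y' hy'
    rw [Finset.mem_filter] at hy'
    have hmem : y' ∈ Subgroup.zpowers y := by rw [hy'.2]; exact Subgroup.mem_zpowers y'
    refine ⟨⟨y', hmem⟩, ?_, rfl⟩
    rw [Finset.mem_filter]
    refine ⟨Finset.mem_univ _, ?_⟩
    rw [Subgroup.orderOf_mk, ← Nat.card_zpowers, ← hy'.2, Nat.card_zpowers]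

theorem card_filter_isConj' {G : Type*} [Group G] [Fintype G] [DecidableEq G] (y : G)
    [DecidablePred (fun y' => (IsConj.setoid G).r y y')] :
    (Finset.univ.filter (fun y' => (IsConj.setoid G).r y y')).card = (Subgroup.centralizer ({y} : Set G)).index := by
  rw [index_centralizer_eq_ncard_setOf_isConj, Set.ncard_eq_toFinset_card']
  congr 1
  ext y'
  simp only [Finset.mem_filter, Finset.mem_univ, true_and, Set.mem_toFinset, Set.mem_ofPred_eq]
  exact Iff.rfl

theorem card_filter_zpowers_eq' {G : Type*} [Group G] [Fintype G] [DecidableEq G] (y : G)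
    [DecidablePred (fun y' => (Setoid.ker (Subgroup.zpowers : G → Subgroup G)).r y y')] :
    (Finset.univ.filter (fun y' => (Setoid.ker (Subgroup.zpowers : G → Subgroup G)).r y y')).card =
      Nat.totient (orderOf y) := by
  classical
  rw [← card_filter_zpowers_eq y]
  congr 1

theorem card_pow_eq_one_gcd {H : Type*} [Group H] [Finite H] (n : ℕ) :
    Nat.card {h : H // h ^ n = 1} = Nat.card {h : H // h ^ (Nat.gcd n (Nat.card H)) = 1} := by
  apply Nat.card_congr
  apply Equiv.subtypeEquivRight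
  intro h
  constructor
  · intro h1
    have h2 : orderOf h ∣ n := orderOf_dvd_of_pow_eq_one h1
    have h3 : orderOf h ∣ Nat.card H := orderOf_dvd_natCard h
    exact orderOf_dvd_iff_pow_eq_one.mp (Nat.dvd_gcd h2 h3)
  · intro h1
    have h2 : orderOf h ∣ Nat.gcd n (Nat.card H) := orderOf_dvd_of_pow_eq_one h1
    exact orderOf_dvd_iff_pow_eq_one.mp (dvd_trans h2 (Nat.gcd_dvd_left _ _))

universe u

theorem frobWt_dvd {G : Type u} [Group G] [Finite G]
    (IH : ∀ (H : Type u) [Group H] [Finite H], Nat.card H < Nat.card G → ∀ n, n ∣ Nat.card H →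
      n ∣ Nat.card {h : H // h ^ n = 1})
    (s : ℕ) (y : G) (hy1 : y ≠ 1) (hs : Nat.Coprime s (orderOf y)) :
    ∃ c : ℕ, Nat.card (Subgroup.centralizer ({y} : Set G)) = c * orderOf y ∧ Nat.gcd s c ∣ frobWt s y := by
  set C := Subgroup.centralizer ({y} : Set G) with hC
  have hyC : y ∈ C := by rw [hC, Subgroup.mem_centralizer_singleton_iff]
  set Z : Subgroup C := Subgroup.zpowers (⟨y, hyC⟩ : C) with hZ
  have hZc : Z ≤ Subgroup.center C := by
    rw [hZ, Subgroup.zpowers_le, Subgroup.mem_center_iff]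
    intro c
    apply Subtype.ext
    have : (c : G) ∈ Subgroup.centralizer ({y} : Set G) := c.2
    rw [Subgroup.mem_centralizer_singleton_iff] at this
    exact this
  have hZn : Z.Normal := normal_of_le_center' Z hZc
  have hZcard : Nat.card Z = orderOf y := by
    rw [hZ, Nat.card_zpowers, Subgroup.orderOf_mk]
  refine ⟨Nat.card (C ⧸ Z), ?_, ?_⟩
  · rw [← hZcard]; exact Subgroup.card_eq_card_quotient_mul_card_subgroup Z
  · have h1 : frobWt s y = Nat.card {c : C // c ^ s = 1} := by
      unfold frobWt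
      apply Nat.card_congr
      refine ⟨fun z => ⟨⟨z.1, ?_⟩, ?_⟩, fun c => ⟨c.1.1, ?_, ?_⟩, ?_, ?_⟩
      · rw [hC, Subgroup.mem_centralizer_singleton_iff]; exact z.2.2.symm
      · apply Subtype.ext; simpa using z.2.1
      · have := congrArg Subtype.val c.2; simpa using this
      · have : (c.1 : G) ∈ Subgroup.centralizer ({y} : Set G) := c.1.2
        rw [Subgroup.mem_centralizer_singleton_iff] at this
        exact this.symm
      · intro z; rfl
      · intro c; rfl
    rw [h1, card_pow_eq_one_quotient Z hZc s (by rw [hZcard]; exact hs), card_pow_eq_one_gcd]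
    apply IH
    · have h2 : Nat.card C = Nat.card (C ⧸ Z) * orderOf y := by
        rw [← hZcard]; exact Subgroup.card_eq_card_quotient_mul_card_subgroup Z
      have h3 : Nat.card C ≤ Nat.card G := Subgroup.card_le_card_group C
      have h4 : 2 ≤ orderOf y := by
        have h5 : orderOf y ≠ 1 := by rw [Ne, orderOf_eq_one_iff]; exact hy1
        have h6 : 0 < orderOf y := orderOf_pos y
        omega
      have h7 : 0 < Nat.card (C ⧸ Z) := Nat.card_pos
      nlinarith
    · exact Nat.gcd_dvd_right _ _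


/-- the inductive step of the Isaacs–Robinson proof -/
theorem frobenius_step {G : Type u} [Group G] [Finite G]
    (IH : ∀ (H : Type u) [Group H] [Finite H], Nat.card H < Nat.card G → ∀ n, n ∣ Nat.card H →
      n ∣ Nat.card {h : H // h ^ n = 1})
    (n p : ℕ) (hn : 0 < n) (hp : p.Prime) (hnp : n * p ∣ Nat.card G)
    (h1 : n * p ∣ Nat.card {g : G // g ^ (n * p) = 1}) :
    n ∣ Nat.card {g : G // g ^ n = 1} := by
  classical
  have := Fintype.ofFinite G
  have hnp0 : n * p ≠ 0 := Nat.mul_ne_zero hn.ne' hp.ne_zero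
  -- n * p = p ^ a * s
  set a := (n * p).factorization p with ha
  set s := (n * p) / p ^ a with hs
  have hpas : p ^ a * s = n * p := Nat.ordProj_mul_ordCompl_eq_self (n * p) p
  have hcop : Nat.Coprime (p ^ a) s := Nat.Coprime.pow_left _ (Nat.coprime_ordCompl hp hnp0)
  have ha0 : a ≠ 0 := by
    rw [ha]
    exact (Nat.Prime.factorization_pos_of_dvd hp hnp0 (Dvd.intro_left _ rfl)).ne'
  obtain ⟨a', ha'⟩ : ∃ a', a = a' + 1 := ⟨a - 1, by omega⟩
  have hn' : n = p ^ a' * s := by
    have h2 : p ^ a' * s * p = n * p := by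
      rw [← hpas, ha', pow_succ]; ring
    exact (Nat.eq_of_mul_eq_mul_right hp.pos h2).symm
  have hs0 : s ≠ 0 := by
    rintro h0; rw [h0, mul_zero] at hn'; exact hn.ne' hn'
  obtain ⟨e₁, e₂, he1, he2, he3, he4, he5⟩ := exists_crt_exponents (p ^ a) s hcop
  -- split off B
  have hsplit : Nat.card {g : G // g ^ (n * p) = 1} =
      Nat.card {g : G // g ^ n = 1} + Nat.card {g : G // g ^ (n * p) = 1 ∧ ¬ g ^ n = 1} := by
    rw [Nat.card_eq_fintype_card, Nat.card_eq_fintype_card, Nat.card_eq_fintype_card,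
      Fintype.card_subtype, Fintype.card_subtype, Fintype.card_subtype]
    rw [← Finset.card_filter_add_card_filter_not (s := Finset.univ.filter (fun g : G => g ^ (n * p) = 1))
      (fun g => g ^ n = 1)]
    congr 2
    · ext g
      simp only [Finset.mem_filter, Finset.mem_univ, true_and]
      constructor
      · rintro ⟨_, h⟩; exact h
      · intro h; exact ⟨by rw [pow_mul, h, one_pow], h⟩
    · ext g
      simp only [Finset.mem_filter, Finset.mem_univ, true_and]
  have hnB : n ∣ Nat.card {g : G // g ^ (n * p) = 1 ∧ ¬ g ^ n = 1} → n ∣ Nat.card {g : G // g ^ n = 1} := by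
    intro hB
    have h2 : n ∣ Nat.card {g : G // g ^ (n * p) = 1} := dvd_trans (Dvd.intro _ rfl) h1
    rw [hsplit] at h2
    exact (Nat.dvd_add_left hB).mp h2
  apply hnB
  -- rewrite B via the decomposition
  have hB1 : Nat.card {g : G // g ^ (n * p) = 1 ∧ ¬ g ^ n = 1} =
      Nat.card {x : G // x ^ (p ^ a * s) = 1 ∧ orderOf (x ^ e₁) = p ^ a} := by
    apply Nat.card_congr
    apply Equiv.subtypeEquivRight
    intro x
    rw [hpas]
    apply and_congr_right
    intro hx
    -- y = x ^ e₁, z = x ^ e₂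
    have hy : (x ^ e₁) ^ (p ^ a) = 1 := by
      obtain ⟨k, rfl⟩ := he2
      rw [← pow_mul, mul_comm s k, mul_assoc, mul_comm s, hpas, mul_comm, pow_mul, hx, one_pow]
    have hz : (x ^ e₂) ^ s = 1 := by
      obtain ⟨k, rfl⟩ := he3
      rw [← pow_mul, mul_comm (p ^ a) k, mul_assoc, hpas, mul_comm, pow_mul, hx, one_pow]
    have hxyz : x ^ e₁ * x ^ e₂ = x := by
      rw [← pow_add]
      exact pow_eq_self_of_modEq_one x (p ^ a * s) _ (by rw [hpas]; exact hx) he5
    have hxn : x ^ n = (x ^ e₁) ^ n := by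
      have hc : Commute (x ^ e₁) (x ^ e₂) := (Commute.refl x).pow_pow e₁ e₂
      conv_lhs => rw [← hxyz]
      rw [hc.mul_pow]
      have : (x ^ e₂) ^ n = 1 := by
        rw [hn', mul_comm, pow_mul, hz, one_pow]
      rw [this, mul_one]
    rw [hxn]
    constructor
    · intro hne
      rw [ha']
      apply orderOf_eq_prime_pow (hp := ⟨hp⟩)
      · intro h3
        apply hne
        rw [hn', pow_mul, h3, one_pow]
      · rw [← ha']; exact hy
    · intro ho h3
      have h4 : orderOf (x ^ e₁) ∣ n := orderOf_dvd_of_pow_eq_one h3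
      rw [ho, hn'] at h4
      have h5 : p ^ a ∣ p ^ a' := Nat.Coprime.dvd_of_dvd_mul_right hcop h4
      rw [ha'] at h5
      have := Nat.pow_dvd_pow_iff_le_right hp.one_lt |>.mp h5
      omega
  rw [hB1, ← Nat.card_congr (coprimeDecompEquiv (G := G) (p ^ a) s e₁ e₂ he1 he2 he3 he4 he5
    (fun y => orderOf y = p ^ a)), Nat.card_sigma]
  -- sum over the subtype = sum over the finset
  set S : Finset G := Finset.univ.filter (fun y : G => y ^ (p ^ a) = 1 ∧ orderOf y = p ^ a) with hS
  have hsum : ∑ y : {y : G // y ^ (p ^ a) = 1 ∧ orderOf y = p ^ a}, Nat.card {z : G // z ^ s = 1 ∧ y.1 * z = z * y.1} =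
      ∑ y ∈ S, frobWt s y := by
    rw [hS, Finset.sum_subtype (Finset.univ.filter (fun y : G => y ^ (p ^ a) = 1 ∧ orderOf y = p ^ a))
      (p := fun y => y ^ (p ^ a) = 1 ∧ orderOf y = p ^ a) (by intro x; simp) (fun y => frobWt s y)]
    rfl
  rw [hsum, hn']
  apply Nat.Coprime.mul_dvd_of_dvd_of_dvd
  · rw [ha'] at hcop
    exact Nat.Coprime.coprime_dvd_left (pow_dvd_pow p (Nat.le_succ a')) hcop
  · -- (1) p ^ a' ∣ sum, via classes of generators
    apply dvd_sum_of_setoid' (Setoid.ker (Subgroup.zpowers : G → Subgroup G)) S (frobWt s) (p ^ a')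
    · intro y y' hy hr
      have hr' : Subgroup.zpowers y = Subgroup.zpowers y' := hr
      rw [hS, Finset.mem_filter] at hy ⊢
      have ho : orderOf y' = orderOf y := by
        rw [← Nat.card_zpowers, ← hr', Nat.card_zpowers]
      refine ⟨Finset.mem_univ _, ?_, ?_⟩
      · rw [← hy.2.2, ← ho, pow_orderOf_eq_one]
      · rw [ho]; exact hy.2.2
    · intro y y' hr
      exact frobWt_zpowers s y y' hr
    · intro y hy
      rw [hS, Finset.mem_filter] at hy
      rw [card_filter_zpowers_eq' y, hy.2.2, ha', Nat.totient_prime_pow_succ hp, mul_assoc]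
      exact Dvd.intro _ rfl
  · -- (2) s ∣ sum, via conjugacy classes
    apply dvd_sum_of_setoid' (IsConj.setoid G) S (frobWt s) s
    · intro y y' hy hr
      have hr' : IsConj y y' := hr
      obtain ⟨g, rfl⟩ := isConj_iff.mp hr'
      rw [hS, Finset.mem_filter] at hy ⊢
      have ho : orderOf (g * y * g⁻¹) = orderOf y :=
        orderOf_injective (MulAut.conj g).toMonoidHom (MulAut.conj g).injective y
      refine ⟨Finset.mem_univ _, ?_, ?_⟩
      · rw [← hy.2.2, ← ho, pow_orderOf_eq_one]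
      · rw [ho]; exact hy.2.2
    · intro y y' hr
      have hr' : IsConj y y' := hr
      exact frobWt_conj s y y' hr'
    · intro y hy
      rw [hS, Finset.mem_filter] at hy
      rw [card_filter_isConj' y]
      have hy1 : y ≠ 1 := by
        rintro rfl
        have := hy.2.2
        rw [orderOf_one] at this
        have h2 : 1 < p ^ a := Nat.one_lt_pow ha0 hp.one_lt
        omega
      have hsc : Nat.Coprime s (orderOf y) := by rw [hy.2.2]; exact hcop.symm
      obtain ⟨c, hc1, hc2⟩ := frobWt_dvd IH s y hy1 hsc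
      have h3 : s ∣ (Subgroup.centralizer ({y} : Set G)).index * Nat.gcd s c := by
        have h4 : (Subgroup.centralizer ({y} : Set G)).index * Nat.card (Subgroup.centralizer ({y} : Set G)) =
            Nat.card G := Subgroup.index_mul_card _
        have h5 : s ∣ Nat.card G := dvd_trans (Dvd.intro_left _ hpas) hnp
        rw [← h4, hc1, hy.2.2, ← mul_assoc] at h5
        have h6 : s ∣ (Subgroup.centralizer ({y} : Set G)).index * c :=
          Nat.Coprime.dvd_of_dvd_mul_right hcop.symm h5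
        have h7 : s ∣ Nat.gcd ((Subgroup.centralizer ({y} : Set G)).index * s)
            ((Subgroup.centralizer ({y} : Set G)).index * c) :=
          Nat.dvd_gcd (Dvd.intro_left _ rfl) h6
        rwa [Nat.gcd_mul_left] at h7
      exact dvd_trans h3 (Nat.mul_dvd_mul_left _ hc2)

/-- **Frobenius' theorem**: if `n ∣ |G|` then `n` divides the number of solutions of `g ^ n = 1`. -/
theorem frobenius_aux : ∀ (N : ℕ) (G : Type u) [Group G] [Finite G], Nat.card G = N → ∀ n, n ∣ N →
    n ∣ Nat.card {g : G // g ^ n = 1} := by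
  intro N
  induction N using Nat.strong_induction_on with
  | _ N ihN =>
    intro G _ _ hGN
    have IH : ∀ (H : Type u) [Group H] [Finite H], Nat.card H < Nat.card G → ∀ n, n ∣ Nat.card H →
        n ∣ Nat.card {h : H // h ^ n = 1} :=
      fun H _ _ hlt n hn => ihN (Nat.card H) (hGN ▸ hlt) H rfl n hn
    have hNpos : 0 < N := hGN ▸ Nat.card_pos
    have inner : ∀ k n, n * k = N → n ∣ Nat.card {g : G // g ^ n = 1} := by
      intro k
      induction k using Nat.strong_induction_on with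
      | _ k ihk =>
        intro n hnk
        have hn0 : 0 < n := by
          rcases Nat.eq_zero_or_pos n with h | h
          · rw [h, zero_mul] at hnk; omega
          · exact h
        have hk0 : 0 < k := by
          rcases Nat.eq_zero_or_pos k with h | h
          · rw [h, mul_zero] at hnk; omega
          · exact h
        by_cases hk1 : k = 1
        · rw [hk1, mul_one] at hnk
          have : Nat.card {g : G // g ^ n = 1} = Nat.card G := by
            apply Nat.card_congr
            apply Equiv.subtypeUnivEquiv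
            intro g
            rw [hnk, ← hGN]
            exact pow_card_eq_one'
          rw [this, hGN, hnk]
        · have hp : (Nat.minFac k).Prime := Nat.minFac_prime hk1
          obtain ⟨k', hk'⟩ := Nat.minFac_dvd k
          have hk'lt : k' < k := by
            have h2 : 2 ≤ Nat.minFac k := hp.two_le
            have hk'0 : 0 < k' := by
              rcases Nat.eq_zero_or_pos k' with h | h
              · rw [h, mul_zero] at hk'; omega
              · exact h
            nlinarith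
          have h1 : n * Nat.minFac k ∣ Nat.card {g : G // g ^ (n * Nat.minFac k) = 1} := by
            apply ihk k' hk'lt
            rw [mul_assoc, ← hk']; exact hnk
          apply frobenius_step IH n (Nat.minFac k) hn0 hp _ h1
          rw [hGN, ← hnk]
          exact Nat.mul_dvd_mul_left n (Nat.minFac_dvd k)
    intro n hn
    obtain ⟨k, hk⟩ := hn
    exact inner k n hk.symm

theorem frobenius_dvd_card_pow_eq_one {G : Type u} [Group G] [Finite G] (n : ℕ) (hn : n ∣ Nat.card G) :
    n ∣ Nat.card {g : G // g ^ n = 1} :=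
  frobenius_aux (Nat.card G) G rfl n hn

end Cfsg.Agent.Lib.Helper21
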