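import Mathlib
import Cfsg.Agent.Lib.Helper6.PDDefs

set_option autoImplicit false

/-!
Helper21 library: leaf PDKEY of the market "PD" (S3611, planner helper6): the key lemma.  An
`H`-invariant function `f : Ω → ZMod p` with `Σ f = 0` whose two translates `f ∘ g₁`, `f ∘ g₂` have
first moment `0` is constant, when `G = H g₁ N ∪ H g₂ N` with `N` affine and the invariant subspaces
of `Ω → ZMod p` have dimension `0, 1, p - 1, p`.
-/

namespace Cfsg.Agent.Lib.Helper21.PDKEY

open Module MulAction Cfsg.Agent.Lib.Helper6.PD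

section

variable {G Ω : Type*} [Group G] [MulAction G Ω] [Fintype Ω] {p : ℕ} [Fact p.Prime]

/-- sums are invariant under precomposition with a group element. -/
theorem sum_smul (g : G) (F : Ω → ZMod p) : ∑ a, F (g • a) = ∑ a, F a :=
  Equiv.sum_comp (MulAction.toPerm g) F

/-- semi-invariance of `ell` under an affine element. -/
theorem ell_affine (e : ZMod p ≃ Ω) (n : G) (u b : ZMod p)
    (hn : ∀ j : ZMod p, n • e j = e (u * j + b)) (F : Ω → ZMod p) :
    u ≠ 0 ∧ u * ell e (fun a => F (n • a)) = ell e F - b * ∑ a, F a := by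
  have hu : u ≠ 0 := by
    intro hu
    have h0 := hn 0
    have h1 := hn 1
    rw [hu] at h0 h1
    simp only [zero_mul, zero_add] at h0 h1
    have h2 : n • e 0 = n • e 1 := by rw [h0, h1]
    have h3 := e.injective (MulAction.injective n h2)
    exact zero_ne_one h3
  refine ⟨hu, ?_⟩
  set σ : ZMod p ≃ ZMod p := (Equiv.mulLeft₀ u hu).trans (Equiv.addRight b) with hσ
  have hσj : ∀ j, σ j = u * j + b := fun j => rfl
  unfold ell
  rw [Finset.mul_sum]
  have h1 : ∀ j : ZMod p, u * (j * F (n • e j)) = (σ j - b) * F (e (σ j)) := by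
    intro j
    rw [hn j, hσj]
    ring
  rw [Finset.sum_congr rfl (fun j _ => h1 j)]
  rw [Equiv.sum_comp σ (fun i => (i - b) * F (e i))]
  have h2 : ∑ a, F a = ∑ j : ZMod p, F (e j) := (Equiv.sum_comp e F).symm
  rw [h2, Finset.mul_sum, ← Finset.sum_sub_distrib]
  apply Finset.sum_congr rfl
  intro i _
  ring

/-- the pair of functionals `(Σ, ell)`. -/
noncomputable def phi (e : ZMod p ≃ Ω) : (Ω → ZMod p) →ₗ[ZMod p] (Fin 2 → ZMod p) where
  toFun f := ![∑ a, f a, ell e f]
  map_add' f g := by
    ext i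
    fin_cases i
    · simp [Finset.sum_add_distrib]
    · simp [ell, mul_add, Finset.sum_add_distrib]
  map_smul' c f := by
    ext i
    fin_cases i
    · simp [Finset.mul_sum]
    · simp only [ell, Pi.smul_apply, smul_eq_mul, RingHom.id_apply, Fin.mk_one, Fin.isValue,
        Matrix.cons_val_one, Matrix.cons_val_zero, Finset.mul_sum]
      apply Finset.sum_congr rfl
      intro j _
      ring

theorem phi_apply (e : ZMod p ≃ Ω) (f : Ω → ZMod p) : phi e f = ![∑ a, f a, ell e f] := rfl

theorem mem_ker_phi (e : ZMod p ≃ Ω) (f : Ω → ZMod p) :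
    f ∈ LinearMap.ker (phi e) ↔ ∑ a, f a = 0 ∧ ell e f = 0 := by
  rw [LinearMap.mem_ker, phi_apply]
  constructor
  · intro h
    have h0 := congrFun h 0
    have h1 := congrFun h 1
    simpa using And.intro h0 h1
  · rintro ⟨h0, h1⟩
    ext i
    fin_cases i
    · simpa using h0
    · simpa using h1

theorem ell_single [DecidableEq Ω] (e : ZMod p ≃ Ω) (i c : ZMod p) :
    ell e (Pi.single (e i) c) = i * c := by
  unfold ell
  have : ∀ j : ZMod p, j * (Pi.single (e i) c : Ω → ZMod p) (e j) = if j = i then i * c else 0 := by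
    intro j
    rw [Pi.single_apply]
    by_cases h : j = i
    · rw [h]; simp
    · have : e j ≠ e i := fun h' => h (e.injective h')
      simp [h, this]
  rw [Finset.sum_congr rfl (fun j _ => this j)]
  simp

theorem sum_single [DecidableEq Ω] (a : Ω) (c : ZMod p) :
    ∑ b, (Pi.single a c : Ω → ZMod p) b = c := by
  simp [Pi.single_apply]

theorem phi_surjective [DecidableEq Ω] (e : ZMod p ≃ Ω) : Function.Surjective (phi e) := by
  intro t
  refine ⟨Pi.single (e 0) (t 0 - t 1) + Pi.single (e 1) (t 1), ?_⟩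
  rw [map_add, phi_apply, phi_apply]
  ext i
  fin_cases i
  · simp [sum_single]
  · simp [ell_single]

/-- the common kernel of `Σ` and `ell` has dimension at most `p - 2`. -/
theorem finrank_le [DecidableEq Ω] (e : ZMod p ≃ Ω) (Z : Submodule (ZMod p) (Ω → ZMod p))
    (hZ : ∀ f ∈ Z, ∑ a, f a = 0 ∧ ell e f = 0) : finrank (ZMod p) Z ≤ p - 2 := by
  have hle : Z ≤ LinearMap.ker (phi e) := fun f hf => (mem_ker_phi e f).mpr (hZ f hf)
  have h1 := Submodule.finrank_mono hle
  have h2 := LinearMap.finrank_range_add_finrank_ker (phi e)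
  rw [LinearMap.range_eq_top.mpr (phi_surjective e), finrank_top, Module.finrank_fin_fun,
    Module.finrank_fintype_fun_eq_card] at h2
  have hc : Fintype.card Ω = p := by
    rw [← Fintype.card_congr e, ZMod.card]
  rw [hc] at h2
  omega

theorem sum_zmod_eq_zero (hp2 : p ≠ 2) : ∑ j : ZMod p, j = 0 := by
  have h1 : ∑ j : ZMod p, j = ∑ j : ZMod p, -j := (Equiv.sum_comp (Equiv.neg (ZMod p)) (fun j => j)).symm
  rw [Finset.sum_neg_distrib] at h1
  have h2 : (2 : ZMod p) * ∑ j : ZMod p, j = 0 := by
    rw [two_mul]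
    nth_rewrite 2 [h1]
    exact add_neg_cancel _
  rcases mul_eq_zero.mp h2 with h | h
  · exfalso
    have h3 : ((2 : ℕ) : ZMod p) = 0 := by exact_mod_cast h
    rw [ZMod.natCast_eq_zero_iff] at h3
    have := (Nat.prime_dvd_prime_iff_eq (Fact.out : p.Prime) Nat.prime_two).mp h3
    exact hp2 this
  · exact h

end

/-- **PDKEY**.  The key lemma. -/
theorem PDKEY {G Ω : Type*} [Group G] [MulAction G Ω] [Fintype Ω] [DecidableEq Ω] {p : ℕ}
    [Fact p.Prime] (hp2 : p ≠ 2) (e : ZMod p ≃ Ω) (hinv : InvDims p G Ω)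
    (N : Subgroup G) (hNaff : ∀ n ∈ N, ∃ u b : ZMod p, ∀ j : ZMod p, n • e j = e (u * j + b))
    (H : Subgroup G) (g₁ g₂ : G)
    (hcov : ∀ g : G, ∃ h ∈ H, ∃ n ∈ N, g = h * g₁ * n ∨ g = h * g₂ * n)
    (f : Ω → ZMod p) (hfH : ∀ h ∈ H, ∀ a, f (h • a) = f a) (hf0 : ∑ a, f a = 0)
    (hf1 : ell e (fun a => f (g₁ • a)) = 0) (hf2 : ell e (fun a => f (g₂ • a)) = 0) :
    ∃ c : ZMod p, ∀ a, f a = c := by
  have hprime : p.Prime := Fact.out
  have hcard : Fintype.card Ω = p := by
    rw [← Fintype.card_congr e, ZMod.card]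
  set one : Ω → ZMod p := fun _ => 1 with hone
  set W : Submodule (ZMod p) (Ω → ZMod p) :=
    Submodule.span (ZMod p) (Set.range (fun g : G => fun a => f (g • a))) ⊔
      Submodule.span (ZMod p) {one} with hW
  -- `W` is invariant
  have hWinv : ∀ g : G, ∀ w ∈ W, (fun a => w (g • a)) ∈ W := by
    intro g w hw
    have hmap : W.map (LinearMap.funLeft (ZMod p) (ZMod p) (fun a : Ω => g • a)) ≤ W := by
      rw [hW, Submodule.map_sup, Submodule.map_span, Submodule.map_span]
      apply sup_le
      · apply (Submodule.span_le.mpr _).trans le_sup_left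
        rintro _ ⟨_, ⟨g', rfl⟩, rfl⟩
        apply Submodule.subset_span
        refine ⟨g' * g, ?_⟩
        funext a
        simp [LinearMap.funLeft_apply, mul_smul]
      · apply (Submodule.span_le.mpr _).trans le_sup_right
        rintro _ ⟨_, h1, rfl⟩
        rw [Set.mem_singleton_iff] at h1
        rw [h1]
        apply Submodule.subset_span
        rw [Set.mem_singleton_iff]
        funext a
        simp [LinearMap.funLeft_apply, hone]
    exact hmap ⟨w, hw, rfl⟩
  -- `W` lies in the common kernel
  have hWker : W ≤ LinearMap.ker (phi e) := by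
    rw [hW]
    apply sup_le
    · apply Submodule.span_le.mpr
      rintro _ ⟨g, rfl⟩
      rw [SetLike.mem_coe, mem_ker_phi]
      refine ⟨by rw [sum_smul g f, hf0], ?_⟩
      obtain ⟨h, hh, n, hnN, hg⟩ := hcov g
      obtain ⟨u, b, hn⟩ := hNaff n hnN
      have key : ∀ gi : G, ell e (fun a => f (gi • a)) = 0 → g = h * gi * n →
          ell e (fun a => f (g • a)) = 0 := by
        intro gi hgi hg'
        have e1 : (fun a => f (g • a)) = fun a => (fun c => f (gi • c)) (n • a) := by
          funext a
          rw [hg', mul_smul, mul_smul, hfH h hh]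
        rw [e1]
        obtain ⟨hu, h2⟩ := ell_affine e n u b hn (fun c => f (gi • c))
        rw [hgi, sum_smul gi f, hf0, mul_zero, sub_zero] at h2
        exact (mul_eq_zero.mp h2).resolve_left hu
      rcases hg with hg | hg
      · exact key g₁ hf1 hg
      · exact key g₂ hf2 hg
    · apply Submodule.span_le.mpr
      intro w hw
      rw [Set.mem_singleton_iff] at hw
      rw [SetLike.mem_coe, mem_ker_phi, hw]
      constructor
      · simp [hone, hcard]
      · simp only [ell, hone, mul_one]
        exact sum_zmod_eq_zero hp2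
  have hWle : finrank (ZMod p) W ≤ p - 2 :=
    finrank_le e W (fun w hw => (mem_ker_phi e w).mp (hWker hw))
  have honeW : one ∈ W := by
    rw [hW]
    exact Submodule.mem_sup_right (Submodule.subset_span (Set.mem_singleton _))
  have hone0 : one ≠ 0 := by
    intro h
    have := congrFun h (e 0)
    simp [hone] at this
  have hpos : 0 < finrank (ZMod p) W := by
    rw [Module.finrank_pos_iff_exists_ne_zero]
    refine ⟨⟨one, honeW⟩, ?_⟩
    intro h
    exact hone0 (congrArg Subtype.val h)
  have h2p : 2 ≤ p := hprime.two_le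
  have hW1 : finrank (ZMod p) W = 1 := by
    rcases hinv W hWinv with h | h | h | h
    · omega
    · exact h
    · omega
    · omega
  have hfW : f ∈ W := by
    rw [hW]
    apply Submodule.mem_sup_left
    apply Submodule.subset_span
    refine ⟨1, ?_⟩
    funext a
    simp
  have hall := (finrank_eq_one_iff_of_nonzero' (⟨one, honeW⟩ : W)
    (fun h => hone0 (congrArg Subtype.val h))).mp hW1
  obtain ⟨c, hc⟩ := hall ⟨f, hfW⟩
  refine ⟨c, fun a => ?_⟩
  have := congrFun (congrArg Subtype.val hc) a
  simp [hone] at this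
  exact this.symm

end Cfsg.Agent.Lib.Helper21.PDKEY
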