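import Mathlib
import Cfsg.Prelude.Def_KGroupFacts

/-!
Schur multiplier predicates: basic criteria (helper21).
-/

set_option autoImplicit false

namespace Cfsg.Agent.Lib.Helper21

universe u

/-- If every finite stem extension of the finite group `G` has trivial kernel, the multiplier is trivial. -/
theorem hasCyclicSchurMultiplier_one_of {G : Type u} [Group G] [Finite G]
    (h : ∀ (Γ : Type u) [Group Γ] [Finite Γ] (σ : Γ →* G), Cfsg.IsStemExtension σ → σ.ker = ⊥) :
    Cfsg.HasCyclicSchurMultiplier G 1 := by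
  constructor
  · refine ⟨G, inferInstance, inferInstance, MonoidHom.id G, ⟨Function.surjective_id, ?_, ?_⟩, ⟨?_⟩⟩
    · rw [MonoidHom.ker_id]; exact bot_le
    · rw [MonoidHom.ker_id]; exact bot_le
    · have h1 : Subsingleton (MonoidHom.id G).ker := by
        rw [MonoidHom.ker_id]; infer_instance
      have h2 : Subsingleton (Multiplicative (ZMod 1)) := by
        have : Subsingleton (ZMod 1) := by
          change Subsingleton (Fin 1); infer_instance
        exact inferInstanceAs (Subsingleton (ZMod 1))
      exact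
        { toFun := fun _ => 1
          invFun := fun _ => 1
          left_inv := fun x => Subsingleton.elim _ _
          right_inv := fun x => Subsingleton.elim _ _
          map_mul' := fun x y => Subsingleton.elim _ _ }
  · intro Γ _ _ σ hσ
    have hk := h Γ σ hσ
    refine ⟨1, ?_⟩
    intro c
    refine ⟨1, ?_⟩
    have : Subsingleton σ.ker := by rw [hk]; infer_instance
    exact Subsingleton.elim _ _

/-- a subgroup all of whose elements are powers of `γ ∈ K` with `γ ^ m = 1` is an image of `ZMod m`. -/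
theorem exists_surjective_of_zpowers {Γ : Type*} [Group Γ] (K : Subgroup Γ) (m : ℕ) (γ : Γ) (hγ : γ ∈ K)
    (hγm : γ ^ m = 1) (hK : ∀ c ∈ K, ∃ j : ℤ, c = γ ^ j) :
    ∃ π : Multiplicative (ZMod m) →* K, Function.Surjective π := by
  let γ' : K := ⟨γ, hγ⟩
  have hγ'm : γ' ^ m = 1 := Subtype.ext (by simpa using hγm)
  let f : ℤ →+ Additive K := zmultiplesHom (Additive K) (Additive.ofMul γ')
  have hf : f m = 0 := by
    show (m : ℤ) • Additive.ofMul γ' = 0
    rw [natCast_zsmul, ← ofMul_pow, hγ'm]; rfl
  let g : ZMod m →+ Additive K := ZMod.lift m ⟨f, hf⟩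
  refine ⟨AddMonoidHom.toMultiplicativeLeft g, ?_⟩
  intro c
  obtain ⟨j, hj⟩ := hK c.1 c.2
  refine ⟨Multiplicative.ofAdd (j : ZMod m), ?_⟩
  rw [AddMonoidHom.coe_toMultiplicativeLeft]
  show Additive.toMul (g (j : ZMod m)) = c
  have : g (j : ZMod m) = f j := ZMod.lift_coe m ⟨f, hf⟩ j
  rw [this]
  show Additive.toMul (j • Additive.ofMul γ') = c
  rw [← ofMul_zpow, toMul_ofMul]
  exact Subtype.ext (by simpa using hj.symm)

end Cfsg.Agent.Lib.Helper21
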