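import Mathlib
import Cfsg.Agent.Lib.Helper18.Sims3Defs

set_option autoImplicit false

/-!
Helper21 library: leaf SIMS-R2 of the market "SIMS" (S3385, planner helper18): the case `p = 2` of the
Thompson-Wielandt reduction: if `X = core_A(core_B(A ⊓ B))` is a 2-group (and `A ⊓ B` has index 3 in `A`
and `B`) then `|A|` divides 48 or `(A, B)` is a Tutte-Sims pair `TS A B`.
-/

namespace Cfsg.Agent.Lib.Helper21.SIMSR2

open Cfsg Cfsg.Agent.Lib.Helper29.TWPair Cfsg.Agent.Lib.Helper18.Sims3 MulAction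

variable {G : Type*} [Group G]

/-- if `A` normalizes the 2-group `D = A ⊓ B` of index 3 in `A` and `B`, then so does `B`. -/
theorem le_normalizer_of_le_normalizer [Finite G] {A B D : Subgroup G} (h : Pair A B)
    (hDA : D ≤ A) (hDB : D ≤ B) (hA : D.relIndex A = 3) (hB : D.relIndex B = 3)
    (k : ℕ) (hk : Nat.card ↥D = 2 ^ k)
    (hAN : A ≤ Subgroup.normalizer ((D : Subgroup G) : Set G)) :
    B ≤ Subgroup.normalizer ((D : Subgroup G) : Set G) := by
  obtain ⟨g, hg⟩ := h.conj
  set D' : Subgroup G := D.map (MulAut.conj g).toMonoidHom with hD'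
  -- `B` normalizes `D'`
  have hBN : B ≤ Subgroup.normalizer ((D' : Subgroup G) : Set G) := by
    intro b hb
    rw [hg, Helper16.mem_map_conj_iff] at hb
    have h1 := hAN hb
    apply Helper16.mem_normalizer_of_map_conj_le
    rintro _ ⟨y, hy, rfl⟩
    have hy' : y ∈ D' := hy
    rw [hD', Helper16.mem_map_conj_iff] at hy' ⊢
    have h2 := (Subgroup.mem_normalizer_iff.mp h1 (g⁻¹ * y * g)).mp hy'
    have e : g⁻¹ * ((MulAut.conj b).toMonoidHom y) * g =
        g⁻¹ * b * g * (g⁻¹ * y * g) * (g⁻¹ * b * g)⁻¹ := by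
      simp only [MulEquiv.coe_toMonoidHom, MulAut.conj_apply]
      group
    rw [e]; exact h2
  have hD'B : D' ≤ B := by
    rw [hg]; exact Subgroup.map_mono hDA
  have hcard' : Nat.card ↥D' = Nat.card ↥D := Helper16.card_map_conj D g
  -- `|B : D'| = 3`
  have hB' : D'.relIndex B = 3 := by
    have e1 := Helper4.card_mul_relIndex hD'B
    have e2 := Helper4.card_mul_relIndex hDB
    rw [hcard'] at e1
    rw [hB, ← e1] at e2
    have hpos : 0 < Nat.card ↥D := Nat.card_pos
    exact (Nat.eq_of_mul_eq_mul_left hpos e2).symm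
  -- `|D : D ⊓ D'|` divides 3 and `2 ^ k`
  have h3 : D'.relIndex D ∣ 3 := by
    have := relIndex_dvd_relIndex_of_le (N := D') hDB hBN
    rwa [hB'] at this
  have h4 : D'.relIndex D ∣ 2 ^ k := by
    have : D'.relIndex D ∣ Nat.card ↥D := by
      unfold Subgroup.relIndex
      exact Subgroup.index_dvd_card _
    rwa [hk] at this
  have h5 : D'.relIndex D = 1 := by
    have hcop : Nat.Coprime 3 (2 ^ k) := by
      apply Nat.Coprime.pow_right
      decide
    exact Nat.eq_one_of_dvd_coprimes hcop h3 h4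
  have h6 : D ≤ D' := Subgroup.relIndex_eq_one.mp h5
  have h7 : D = D' := Subgroup.eq_of_le_of_card_ge h6 hcard'.le
  rw [h7]; exact hBN

/-- LEAF R2. -/
theorem red_p2 [Finite G] {A B : Subgroup G} (h : Pair A B)
    (hA : (A ⊓ B).relIndex A = 3) (hB : (A ⊓ B).relIndex B = 3)
    (hX : IsPGroup 2 ↥(coreIn A (coreIn B (A ⊓ B)))) :
    Nat.card ↥A ∣ 48 ∨ TS A B := by
  haveI : Fact (Nat.Prime 2) := ⟨Nat.prime_two⟩
  set D : Subgroup G := A ⊓ B with hD
  have hDA : D ≤ A := inf_le_left
  have hDB : D ≤ B := inf_le_right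
  -- the order of `A`
  have hcA : Nat.card ↥D * 3 = Nat.card ↥A := by
    have := Helper4.card_mul_relIndex hDA
    rwa [hA] at this
  -- `|A : X|` divides 48
  have hW : (coreIn A (coreIn B D)).relIndex A ∣ 48 := by
    have := relIndex_coreIn_coreIn_dvd A B
    rw [← hD, hA, hB] at this
    exact this
  obtain ⟨j, hj⟩ := IsPGroup.iff_card.mp hX
  have hXA : coreIn A (coreIn B D) ≤ A := coreIn_le_left _ _
  have hcX := Helper4.card_mul_relIndex hXA
  -- `|D|` is a power of 2
  have hDdvd : Nat.card ↥D ∣ 2 ^ (j + 4) := by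
    have h1 : Nat.card ↥A ∣ 2 ^ j * 48 := by
      rw [← hcX, hj]
      exact Nat.mul_dvd_mul_left _ hW
    rw [← hcA] at h1
    have h2 : 2 ^ j * 48 = 2 ^ (j + 4) * 3 := by rw [pow_add]; ring
    rw [h2] at h1
    exact Nat.dvd_of_mul_dvd_mul_right (by norm_num) h1
  obtain ⟨k, -, hk⟩ := (Nat.dvd_prime_pow Nat.prime_two).mp hDdvd
  have hD2 : IsPGroup 2 ↥D := IsPGroup.of_card hk
  -- the cores of `D` in `A` and `B` have index 1 or 2 in `D`
  have hidx : ∀ {L : Subgroup G}, D ≤ L → D.relIndex L = 3 → (coreIn L D).relIndex D ∣ 2 := by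
    intro L hDL hL
    have h1 := relIndex_coreIn_dvd_factorial L D
    rw [hL] at h1
    have h2 := Subgroup.relIndex_mul_relIndex (coreIn L D) D L (coreIn_le_right _ _) hDL
    rw [hL] at h2
    rw [← h2] at h1
    have h3 : Nat.factorial 3 = 2 * 3 := by decide
    rw [h3] at h1
    exact Nat.dvd_of_mul_dvd_mul_right (by norm_num) h1
  have hone : ∀ {L : Subgroup G}, (coreIn L D).relIndex D = 1 →
      L ≤ Subgroup.normalizer ((D : Subgroup G) : Set G) := by
    intro L h1
    have h2 : D ≤ coreIn L D := Subgroup.relIndex_eq_one.mp h1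
    have h3 : coreIn L D = D := le_antisymm (coreIn_le_right _ _) h2
    have := le_normalizer_coreIn L D
    rwa [h3] at this
  have hbot : D = ⊥ → Nat.card ↥A ∣ 48 := by
    intro h0
    rw [← hcA, h0, Subgroup.card_bot]
    norm_num
  have hiA := hidx hDA hA
  have hiB := hidx hDB hB
  rcases (Nat.dvd_prime Nat.prime_two).mp hiA with h1 | h1
  · left
    have hAN := hone h1
    have hBN := le_normalizer_of_le_normalizer h hDA hDB hA hB k hk hAN
    exact hbot (h.eq_bot_of_le_normalizer hDA hAN hBN)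
  · rcases (Nat.dvd_prime Nat.prime_two).mp hiB with h2 | h2
    · left
      have hBN := hone h2
      have hAN := le_normalizer_of_le_normalizer h.symm hDB hDA hB hA k hk hBN
      exact hbot (h.eq_bot_of_le_normalizer hDA hAN hBN)
    · right
      exact ⟨h, hD2, hA, hB, h1, h2⟩

end Cfsg.Agent.Lib.Helper21.SIMSR2
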