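import Mathlib

/-!
# Gagola's theorem (S4561): definitions

Every finite solvable group `G` is a subgroup of `H / Z(H)` for a group `H` of central type.
The proof goes by induction along a normal series with prime factors, carrying a *datum*
`(H, Z, lam, s, m)`:

* `Z` is a normal subgroup of `H`, `lam : H → ℂˣ` is multiplicative on `Z` and `H`-invariant on `Z`
  (only the values of `lam` on `Z` matter);
* (star) every `x ∉ Z` has a `y` with `[x, y] ∈ Z` and `lam [x, y] ≠ 1`;
* `s : G → H` is a homomorphism modulo `Z`, injective modulo `Z`;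
* the primes dividing `#H` divide `n`; `lam` has exponent dividing the squarefree number `m`, whose
  primes divide `n`; every prime dividing `n` is the order of some value of `lam` on `Z`.

The final group is `H / ker lam`.  The induction step replaces `H` by the regular wreath product
`(H × C_p) ≀ᵣ C_p`.
-/

set_option autoImplicit false

namespace Cfsg.Agent.Lib.Helper21.Gag

open RegularWreathProduct

universe u

/-- the datum carried along the induction -/
structure GDatum (G : Type u) [Group G] (n : ℕ) (H : Type u) [Group H] (Z : Subgroup H)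
    (lam : H → ℂˣ) (s : G → H) (m : ℕ) : Prop where
  normal : Z.Normal
  lam_mul : ∀ a ∈ Z, ∀ b ∈ Z, lam (a * b) = lam a * lam b
  lam_conj : ∀ h : H, ∀ z ∈ Z, lam (h * z * h⁻¹) = lam z
  star : ∀ x : H, x ∉ Z → ∃ y : H, x * y * x⁻¹ * y⁻¹ ∈ Z ∧ lam (x * y * x⁻¹ * y⁻¹) ≠ 1
  s_mul : ∀ a b : G, s a * s b * (s (a * b))⁻¹ ∈ Z
  s_inj : ∀ a : G, s a ∈ Z → a = 1
  primes_card : ∀ q : ℕ, q.Prime → q ∣ Nat.card H → q ∣ n
  sqfree : Squarefree m
  primes_m : ∀ q : ℕ, q.Prime → q ∣ m → q ∣ n
  lam_pow : ∀ z ∈ Z, lam z ^ m = 1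
  witness : ∀ q : ℕ, q.Prime → q ∣ n → ∃ z ∈ Z, lam z ≠ 1 ∧ lam z ^ q = 1

/-- `G` has a datum relative to `n` -/
def GData (G : Type u) [Group G] (n : ℕ) : Prop :=
  ∃ (H : Type u) (_ : Group H) (_ : Finite H) (Z : Subgroup H) (lam : H → ℂˣ) (s : G → H) (m : ℕ),
    GDatum G n H Z lam s m

/-- the cyclic group of order `p`, multiplicatively -/
abbrev Cp (p : ℕ) : Type := Multiplicative (ZMod p)

section step

variable {H : Type u} [Group H] (p : ℕ) [NeZero p]

/-- the new group `(H × C_p) ≀ᵣ C_p` -/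
abbrev Wr (H : Type u) [Group H] (p : ℕ) : Type u := (H × Cp p) ≀ᵣ (Cp p)

/-- the new subgroup `Z₁`: trivial top part, all `H`-coordinates in `Z`, and the `C_p`-coordinates
have product one -/
def Z1 (Z : Subgroup H) : Subgroup (Wr H p) where
  carrier := {w | w.right = 1 ∧ (∀ q, (w.left q).1 ∈ Z) ∧ ∏ q : Cp p, (w.left q).2 = 1}
  one_mem' := by
    refine ⟨rfl, fun q => ?_, ?_⟩
    · show ((1 : Wr H p).left q).1 ∈ Z
      rw [RegularWreathProduct.one_left]
      exact Z.one_mem
    · simp [RegularWreathProduct.one_left]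
  mul_mem' := by
    rintro a b ⟨ha1, ha2, ha3⟩ ⟨hb1, hb2, hb3⟩
    have hleft : ∀ q, (a * b).left q = a.left q * b.left q := by
      intro q
      rw [RegularWreathProduct.mul_left, Pi.mul_apply, ha1, inv_one, one_mul]
    refine ⟨?_, fun q => ?_, ?_⟩
    · show (a * b).right = 1
      rw [RegularWreathProduct.mul_right, ha1, hb1, one_mul]
    · rw [hleft q]
      exact Z.mul_mem (ha2 q) (hb2 q)
    · simp only [hleft, Prod.snd_mul]
      rw [Finset.prod_mul_distrib, ha3, hb3, one_mul]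
  inv_mem' := by
    rintro a ⟨ha1, ha2, ha3⟩
    have hleft : ∀ q, (a⁻¹).left q = (a.left q)⁻¹ := by
      intro q
      rw [RegularWreathProduct.inv_left, ha1]
      show (a.left⁻¹) (1 * q) = (a.left q)⁻¹
      rw [one_mul, Pi.inv_apply]
    refine ⟨?_, fun q => ?_, ?_⟩
    · show (a⁻¹).right = 1
      rw [RegularWreathProduct.inv_right, ha1, inv_one]
    · rw [hleft q]
      exact Z.inv_mem (ha2 q)
    · simp only [hleft, Prod.snd_inv]
      rw [Finset.prod_inv_distrib, ha3, inv_one]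

theorem mem_Z1 (Z : Subgroup H) (w : Wr H p) :
    w ∈ Z1 p Z ↔ w.right = 1 ∧ (∀ q, (w.left q).1 ∈ Z) ∧ ∏ q : Cp p, (w.left q).2 = 1 :=
  Iff.rfl

/-- the first moment of the `C_p`-coordinates -/
def mom (w : Wr H p) : ZMod p :=
  ∑ q : Cp p, Multiplicative.toAdd q * Multiplicative.toAdd (w.left q).2

/-- a faithful linear character of `C_p` -/
noncomputable def eps : Cp p →* ℂˣ :=
  ((ZMod.stdAddChar (N := p)).toMonoidHom).toHomUnits

/-- the new function `lam₁` -/
noncomputable def lam1 (lam : H → ℂˣ) (w : Wr H p) : ℂˣ :=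
  (∏ q : Cp p, lam (w.left q).1) * eps p (Multiplicative.ofAdd (mom p w))

/-- the new section `s₁` -/
def s1 {G : Type u} [Group G] (s : G → H) (w : G ≀ᵣ (Cp p)) : Wr H p :=
  ⟨fun q => (s (w.left q), 1), w.right⟩

/-- the new exponent -/
def m1 (m : ℕ) : ℕ := if p ∣ m then m else m * p

end step

section quot

variable {G : Type u} [Group G] {n : ℕ} {H : Type u} [Group H] {Z : Subgroup H}
  {lam : H → ℂˣ} {s : G → H} {m : ℕ}

theorem GDatum.lam_one (D : GDatum G n H Z lam s m) : lam 1 = 1 := by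
  have h := D.lam_mul 1 Z.one_mem 1 Z.one_mem
  rw [mul_one] at h
  exact (mul_eq_left.mp h.symm)

/-- the kernel of `lam` on `Z` -/
def kerLam (D : GDatum G n H Z lam s m) : Subgroup H where
  carrier := {k | k ∈ Z ∧ lam k = 1}
  one_mem' := ⟨Z.one_mem, D.lam_one⟩
  mul_mem' := by
    rintro a b ⟨ha, ha1⟩ ⟨hb, hb1⟩
    exact ⟨Z.mul_mem ha hb, by rw [D.lam_mul a ha b hb, ha1, hb1, one_mul]⟩
  inv_mem' := by
    rintro a ⟨ha, ha1⟩
    refine ⟨Z.inv_mem ha, ?_⟩
    have h := D.lam_mul a ha a⁻¹ (Z.inv_mem ha)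
    rw [mul_inv_cancel, D.lam_one, ha1, one_mul] at h
    exact h.symm

theorem mem_kerLam (D : GDatum G n H Z lam s m) (k : H) :
    k ∈ kerLam D ↔ k ∈ Z ∧ lam k = 1 := Iff.rfl

end quot

end Cfsg.Agent.Lib.Helper21.Gag
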