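import Mathlib
import Cfsg.Prelude.Def_Blocks
import Cfsg.Agent.Lib.Lead.CharMore
import Cfsg.Agent.Lib.Helper6.CliffordCorr
import Cfsg.Agent.Lib.Helper6.Gallagher
import Cfsg.Agent.Lib.Helper24.IrrFacts
import Cfsg.Agent.Lib.Helper25.Inflate
import Cfsg.Agent.Lib.Helper25.Gagola
import Cfsg.Agent.Lib.Helper2.MGroup

set_option autoImplicit false

namespace Cfsg.Agent.Lib.Helper21.BG

open Cfsg Cfsg.Agent.CharLib Cfsg.Agent.Lib.Helper6 Cfsg.Agent.Lib.Helper24 Cfsg.Agent.Lib.Helper25
open scoped ComplexConjugate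

universe u

/-- composing an irreducible character with a surjective homomorphism -/
theorem isIrrCharacter_comp {A B : Type u} [Group A] [Group B] (f : A →* B)
    (hf : Function.Surjective f) (θ : IrrCharacter B) :
    IsIrrCharacter A (fun a => (θ : B → ℂ) (f a)) := by
  obtain ⟨θf, n, ρ, hirr, rfl⟩ := θ
  exact ⟨n, (MonoidHom.comp ρ f : Representation ℂ A (Fin n → ℂ)),
    (isIrreducible_comp_iff f hf ρ).mpr hirr, rfl⟩

variable {G : Type u} [Group G]

/-- restriction of an irreducible character to a supplement of a normal subgroup of its kernel is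
irreducible -/
theorem isIrrCharacter_resFun_of_sup_eq_top [Finite G] (χ : IrrCharacter G) (K : Subgroup G)
    [K.Normal] (hK : ∀ k ∈ K, (χ : G → ℂ) k = (χ : G → ℂ) 1) (H : Subgroup G)
    (hHK : H ⊔ K = ⊤) : IsIrrCharacter H (resFun H (χ : G → ℂ)) := by
  obtain ⟨χb, hχb⟩ := exists_inflateIrr_eq K χ hK
  have hf : Function.Surjective ((QuotientGroup.mk' K).comp H.subtype) := by
    intro q
    obtain ⟨g, rfl⟩ := QuotientGroup.mk'_surjective K q
    have hg : g ∈ ((H ⊔ K : Subgroup G) : Set G) := by rw [hHK]; trivial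
    rw [Subgroup.mul_normal] at hg
    obtain ⟨h, hh, k, hk, rfl⟩ := Set.mem_mul.mp hg
    refine ⟨⟨h, hh⟩, ?_⟩
    show (QuotientGroup.mk' K) h = (QuotientGroup.mk' K) (h * k)
    have hk1 : (QuotientGroup.mk' K) k = 1 := (QuotientGroup.eq_one_iff k).mpr hk
    rw [map_mul, hk1, mul_one]
  have := isIrrCharacter_comp _ hf χb
  rw [resFun_eq, ← hχb]
  exact this

/-- the value of an irreducible character is constant on cosets of a normal subgroup in its
kernel -/
theorem apply_mul_of_mem_ker [Finite G] (χ : IrrCharacter G) (K : Subgroup G)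
    [K.Normal] (hK : ∀ k ∈ K, (χ : G → ℂ) k = (χ : G → ℂ) 1) {k : G} (hk : k ∈ K) (g : G) :
    (χ : G → ℂ) (k * g) = (χ : G → ℂ) g := by
  obtain ⟨χb, hχb⟩ := exists_inflateIrr_eq K χ hK
  rw [← hχb, inflateIrr_apply, inflateIrr_apply, QuotientGroup.mk_mul,
    (QuotientGroup.eq_one_iff k).mpr hk, one_mul]

/-- a character with an irreducible constituent of at least the same degree is that constituent -/
theorem eq_of_constituent_of_degree_le {A : Type u} [Group A] [Fintype A] {Φ θ : A → ℂ}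
    (hΦ : IsCharacter A Φ) (hθ : IsIrrCharacter A θ) (hne : classInner Φ θ ≠ 0)
    (hdeg : (Φ 1).re ≤ (θ 1).re) : Φ = θ := by
  classical
  let _ := fintypeIrr A
  obtain ⟨m, hm, hcoef⟩ := IsCharacter.exists_decomp_sum hΦ
  set θ' : IrrCharacter A := ⟨θ, hθ⟩ with hθ'
  have hmθ : m θ' ≠ 0 := by
    intro h0
    apply hne
    have := hcoef θ'
    rw [h0, Nat.cast_zero] at this
    exact this
  have h1 : Φ 1 = ((∑ ψ : IrrCharacter A, m ψ * charDegree (ψ : A → ℂ) : ℕ) : ℂ) := by
    have := congrFun hm 1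
    rw [Finset.sum_apply] at this
    rw [this]
    push_cast
    apply Finset.sum_congr rfl
    intro ψ _
    rw [Pi.smul_apply, nsmul_eq_mul, irr_apply_one ψ]
  have h2 : θ 1 = ((charDegree θ : ℕ) : ℂ) := irr_apply_one θ'
  rw [h1, h2, Complex.natCast_re, Complex.natCast_re] at hdeg
  have hdegN : ∑ ψ : IrrCharacter A, m ψ * charDegree (ψ : A → ℂ) ≤ charDegree θ := by
    exact_mod_cast hdeg
  rw [← Finset.add_sum_erase _ _ (Finset.mem_univ θ')] at hdegN
  have hdpos : 0 < charDegree θ := irr_charDegree_pos θ'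
  have hθ'c : charDegree (θ' : A → ℂ) = charDegree θ := rfl
  rw [hθ'c] at hdegN
  have hm1 : m θ' = 1 := by
    have : m θ' * charDegree θ ≤ 1 * charDegree θ := by omega
    have := Nat.le_of_mul_le_mul_right this hdpos
    omega
  have hrest : ∑ ψ ∈ Finset.univ.erase θ', m ψ * charDegree (ψ : A → ℂ) = 0 := by
    rw [hm1] at hdegN
    omega
  have hzero : ∀ ψ : IrrCharacter A, ψ ≠ θ' → m ψ = 0 := by
    intro ψ hψ
    have := (Finset.sum_eq_zero_iff.mp hrest) ψ (Finset.mem_erase.mpr ⟨hψ, Finset.mem_univ ψ⟩)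
    rcases Nat.mul_eq_zero.mp this with h | h
    · exact h
    · exact absurd h (irr_charDegree_pos ψ).ne'
  rw [hm, Finset.sum_eq_single θ']
  · rw [hm1, one_smul]
  · intro ψ _ hψ
    rw [hzero ψ hψ, zero_smul]
  · intro h
    exact absurd (Finset.mem_univ θ') h

/-- if no irreducible constituent of `(χ_H)^G` has larger degree than `χ` (with `χ_H` irreducible),
then `χ` vanishes on `H` outside the normal core of `H` -/
theorem mem_normalCore_of_no_larger [Fintype G] (χ : IrrCharacter G) (H : Subgroup G)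
    (hθ : IsIrrCharacter H (resFun H (χ : G → ℂ)))
    (hno : ∀ ψ : IrrCharacter G, classInner (indFun H (resFun H (χ : G → ℂ))) (ψ : G → ℂ) ≠ 0 →
      charDegree (ψ : G → ℂ) ≤ charDegree (χ : G → ℂ)) :
    ∀ h ∈ H, (χ : G → ℂ) h ≠ 0 → h ∈ H.normalCore := by
  classical
  let _ : Fintype H := Fintype.ofFinite H
  let _ := fintypeIrr G
  have hχc : IsCharacter G (χ : G → ℂ) := IsIrrCharacter.isCharacter χ.2
  have hχcl : IsClassFunction G (χ : G → ℂ) := IsCharacter.isClassFunction hχc
  set θ : H → ℂ := resFun H (χ : G → ℂ) with hθdef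
  set Θ : G → ℂ := indFun H θ with hΘ
  have hΘcl : IsClassFunction G Θ := indFun_isClassFunction H θ
  have hres : ∀ ψ : IrrCharacter G, classInner Θ (ψ : G → ℂ) ≠ 0 →
      resFun H (ψ : G → ℂ) = θ := by
    intro ψ hψ
    have hψc : IsCharacter G (ψ : G → ℂ) := IsIrrCharacter.isCharacter ψ.2
    have hfr := frobenius_reciprocity H θ (IsCharacter.isClassFunction hψc)
    have hne : classInner (resFun H (ψ : G → ℂ)) θ ≠ 0 := by
      intro h0
      apply hψ
      rw [hfr, ← classInner_conj_symm]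
      have : classInner (resFun H (ψ : G → ℂ)) θ = classInner (fun h : H => (ψ : G → ℂ) h) θ := rfl
      rw [← this, h0, map_zero]
    apply eq_of_constituent_of_degree_le (isCharacter_resFun H hψc) hθ hne
    show ((ψ : G → ℂ) 1).re ≤ ((χ : G → ℂ) 1).re
    rw [irr_apply_one ψ, irr_apply_one χ, Complex.natCast_re, Complex.natCast_re]
    exact_mod_cast hno ψ hψ
  have hdec := classFunction_eq_sum hΘcl
  have hval : ∀ h ∈ H, Θ h =
      (∑ ψ : IrrCharacter G, classInner Θ (ψ : G → ℂ)) * (χ : G → ℂ) h := by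
    intro h hh
    have := congrFun hdec h
    rw [Finset.sum_apply] at this
    rw [this, Finset.sum_mul]
    apply Finset.sum_congr rfl
    intro ψ _
    rw [Pi.smul_apply, smul_eq_mul]
    by_cases h0 : classInner Θ (ψ : G → ℂ) = 0
    · rw [h0, zero_mul, zero_mul]
    · have := congrFun (hres ψ h0) ⟨h, hh⟩
      rw [resFun_apply, hθdef, resFun_apply] at this
      rw [show (ψ : G → ℂ) h = (χ : G → ℂ) h from this]
  have hχ1 : (χ : G → ℂ) 1 ≠ 0 := irr_apply_one_ne_zero χ
  have hcardH : (Nat.card H : ℂ) ≠ 0 := by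
    exact_mod_cast (Nat.card_pos (α := H)).ne'
  have hA : (∑ ψ : IrrCharacter G, classInner Θ (ψ : G → ℂ)) = (H.index : ℂ) := by
    have h1 := hval 1 H.one_mem
    have h2 : Θ 1 = (Nat.card H : ℂ)⁻¹ * (Nat.card G : ℂ) * θ 1 := indFun_apply_one H θ
    have h3 : θ 1 = (χ : G → ℂ) 1 := rfl
    have h4 : (Nat.card G : ℂ) = (Nat.card H : ℂ) * (H.index : ℂ) := by
      rw [← Nat.cast_mul, Subgroup.card_mul_index]
    rw [h2, h3, h4, ← mul_assoc, inv_mul_cancel₀ hcardH, one_mul] at h1
    exact (mul_right_cancel₀ hχ1 h1).symm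
  have hprod : Θ = indFun H (fun _ => (1 : ℂ)) * (χ : G → ℂ) := by
    rw [← indFun_mul_resFun H (fun _ => (1 : ℂ)) hχcl, hΘ]
    congr 1
    funext h
    rw [Pi.mul_apply, one_mul]
  intro h hh hne
  have h1 := hval h hh
  rw [hA, hprod, Pi.mul_apply, indFun_one_eq_card_fixed] at h1
  have h2 := mul_right_cancel₀ hne h1
  have h3 : Nat.card {q : G ⧸ H // h • q = q} = H.index := by exact_mod_cast h2
  have hall : ∀ q : G ⧸ H, h • q = q := by
    by_contra hcon
    push Not at hcon
    have hlt := Fintype.card_subtype_lt (p := fun q : G ⧸ H => h • q = q) hcon.choose_spec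
    rw [Nat.card_eq_fintype_card, Subgroup.index, Nat.card_eq_fintype_card] at h3
    omega
  intro b
  have := hall ((b⁻¹ : G) : G ⧸ H)
  rw [MulAction.Quotient.smul_mk, QuotientGroup.eq, smul_eq_mul] at this
  have h5 := H.inv_mem this
  convert h5 using 1
  group

end Cfsg.Agent.Lib.Helper21.BG
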