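import Mathlib

/-!
# Schmidt groups (minimal non-`p`-nilpotent groups of order `p^t q^r`): frames  (S4395)

`K` is a finite field of characteristic `p`, `ω : K` an element of multiplicative order `q`.
A *frame* on a group `X` is a subgroup `P`, an element `y` normalizing it and a surjective
homomorphism `π : P → (K,+)` with `π (y x y⁻¹) = ω * π x`, whose kernel is central in `P`, of exponent `p`,
and centralized by `y`.
-/

set_option autoImplicit false

namespace Cfsg.Agent.Lib.Helper21.Sch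

/-- a frame on `X` -/
structure Frame (p : ℕ) {K : Type*} [Field K] (ω : K) (X : Type*) [Group X] where
  /-- the normal `p`-subgroup -/
  P : Subgroup X
  /-- the acting element -/
  y : X
  /-- the projection to `(K,+)` -/
  π : ↥P →* Multiplicative K
  y_norm : ∀ x ∈ P, y * x * y⁻¹ ∈ P
  π_conj : ∀ (x : X) (hx : x ∈ P),
    Multiplicative.toAdd (π ⟨y * x * y⁻¹, y_norm x hx⟩) = ω * Multiplicative.toAdd (π ⟨x, hx⟩)
  π_surj : Function.Surjective π
  ker_central : ∀ z : ↥P, π z = 1 → ∀ x : ↥P, z * x = x * z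
  ker_exp : ∀ z : ↥P, π z = 1 → z ^ p = 1
  ker_fixed : ∀ z : ↥P, π z = 1 → y * (z : X) * y⁻¹ = z

variable {p : ℕ} {K : Type*} [Field K] {ω : K} {X : Type*} [Group X]

/-- the subgroup generated by the commutators and the `p`-th powers of `P` -/
def Frame.Phi (𝔣 : Frame p ω X) : Subgroup X :=
  Subgroup.closure ({c : X | ∃ x ∈ 𝔣.P, ∃ x' ∈ 𝔣.P, c = x * x' * x⁻¹ * x'⁻¹} ∪
    {c : X | ∃ x ∈ 𝔣.P, c = x ^ p})

/-- `P = [P, y]` -/
def Frame.IsComm (𝔣 : Frame p ω X) : Prop :=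
  ∀ x ∈ 𝔣.P, x ∈ Subgroup.closure {c : X | ∃ x' ∈ 𝔣.P, c = x'⁻¹ * (𝔣.y * x' * 𝔣.y⁻¹)}

/-- `X = ⟨P, y⟩` -/
def Frame.IsGen (𝔣 : Frame p ω X) : Prop :=
  Subgroup.closure ((𝔣.P : Set X) ∪ {𝔣.y}) = ⊤

/-- the kernel of `π` lies in `Phi` -/
def Frame.IsTight (𝔣 : Frame p ω X) : Prop :=
  ∀ z : ↥𝔣.P, 𝔣.π z = 1 → (z : X) ∈ 𝔣.Phi

/-- the restriction of a frame to a `y`-invariant subgroup of `P` that still maps onto `K` -/
def Frame.restrict (𝔣 : Frame p ω X) (P₁ : Subgroup X) (h₁ : P₁ ≤ 𝔣.P)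
    (hy : ∀ x ∈ P₁, 𝔣.y * x * 𝔣.y⁻¹ ∈ P₁)
    (hs : ∀ u : K, ∃ x : ↥P₁, Multiplicative.toAdd (𝔣.π (Subgroup.inclusion h₁ x)) = u) :
    Frame p ω X where
  P := P₁
  y := 𝔣.y
  π := 𝔣.π.comp (Subgroup.inclusion h₁)
  y_norm := hy
  π_conj := fun x hx => 𝔣.π_conj x (h₁ hx)
  π_surj := fun u => by
    obtain ⟨x, hx⟩ := hs (Multiplicative.toAdd u)
    exact ⟨x, by simpa using congrArg Multiplicative.ofAdd hx⟩
  ker_central := fun z hz x => by
    have h := 𝔣.ker_central (Subgroup.inclusion h₁ z) hz (Subgroup.inclusion h₁ x)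
    apply Subtype.ext
    have h' := congrArg Subtype.val h
    simpa using h'
  ker_exp := fun z hz => by
    have h := 𝔣.ker_exp (Subgroup.inclusion h₁ z) hz
    apply Subtype.ext
    have h' := congrArg Subtype.val h
    simpa using h'
  ker_fixed := fun z hz => 𝔣.ker_fixed (Subgroup.inclusion h₁ z) hz

/-- `a₀ - a`: `0` for odd `a`, `a / 2` for even `a` -/
def bb (a : ℕ) : ℕ := if a % 2 = 1 then 0 else a / 2

theorem add_bb (a : ℕ) : a + bb a = if a % 2 = 1 then a else 3 * a / 2 := by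
  unfold bb
  split_ifs with h
  · rfl
  · omega

end Cfsg.Agent.Lib.Helper21.Sch
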