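import Mathlib

/-!
# The normal Sylow `p`-subgroup of a Schmidt group, abstractly (S4394)

`SchType p S`: what is used of the normal Sylow `p`-subgroup `S` of a minimal non-nilpotent group.
-/

set_option autoImplicit false

namespace Cfsg.Agent.Lib.Helper21.SchP

/-- class at most two, `S / Z(S)` of exponent `p`, and `[R, S₁] = Z(S)` whenever `R ≤ S₁ ≤ S`, `|S : S₁| = p`,
`C_S(R) ≤ R`. -/
def BigType (p : ℕ) (S : Type*) [Group S] : Prop :=
  (∀ x y : S, x * y * x⁻¹ * y⁻¹ ∈ Subgroup.center S) ∧ (∀ x : S, x ^ p ∈ Subgroup.center S) ∧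
  ∀ R S₁ : Subgroup S, R ≤ S₁ → S₁.index = p → Subgroup.centralizer (R : Set S) ≤ R →
    Subgroup.closure {c : S | ∃ r ∈ R, ∃ s ∈ S₁, c = r * s * r⁻¹ * s⁻¹} = Subgroup.center S

/-- nonabelian of order `8` with all involutions central (the quaternion group) -/
def Q8Type (S : Type*) [Group S] : Prop :=
  Nat.card S = 8 ∧ (∃ x y : S, x * y ≠ y * x) ∧ ∀ x : S, x ∉ Subgroup.center S → x ^ 2 ≠ 1

/-- class at most two -/
def ClassTwo (S : Type*) [Group S] : Prop :=
  ∀ x y : S, x * y * x⁻¹ * y⁻¹ ∈ Subgroup.center S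

/-- the four cases -/
def SchType (p : ℕ) (S : Type*) [Group S] : Prop :=
  (∀ x y : S, x * y = y * x) ∨ BigType p S ∨ (p = 2 ∧ Q8Type S) ∨ (5 ≤ p ∧ ClassTwo S)

end Cfsg.Agent.Lib.Helper21.SchP
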