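/-
helper21: S4503 (Brauer: `p ∥ |G|`, no normal subgroup of order `p` ⇒ every faithful character has
degree at least `(p-1)/2`), PART R: the reduction to the CORE case of an irreducible faithful character
of a group generated by the conjugates of a Sylow `p`-subgroup.  Pure group / character theory.
-/
import Mathlib
import Cfsg.Prelude.Def_Characters
import Cfsg.Prelude.Def_Blocks
import Cfsg.Agent.Lib.Lead.CharDecomp
import Cfsg.Agent.Lib.Lead.ItoB
import Cfsg.Agent.Lib.Helper24.Deflation

set_option autoImplicit false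

namespace Cfsg.Agent.Lib.Helper21.S4503R

open Cfsg Cfsg.Agent.CharLib

universe u

/-- The hypotheses of S4503 with the negated conclusion. -/
def Small (p : ℕ) (G : Type u) [Group G] : Prop :=
  p ∣ Nat.card G ∧ ¬ p ^ 2 ∣ Nat.card G ∧
    ∃ χ : G → ℂ, IsCharacter G χ ∧ (∀ g : G, χ g = χ 1 → g = 1) ∧ 2 * charDegree χ + 1 < p

/-- The CORE statement: irreducible faithful character of small degree of a group generated by the
conjugates of a Sylow `p`-subgroup of order `p`. -/
def Core (p : ℕ) : Prop :=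
  ∀ (G : Type u) [Group G] [Finite G], p ∣ Nat.card G → ¬ p ^ 2 ∣ Nat.card G →
    ∀ P : Sylow p G, Subgroup.normalClosure ((P : Subgroup G) : Set G) = ⊤ →
    ∀ ψ : G → ℂ, IsIrrCharacter G ψ → (∀ g : G, ψ g = ψ 1 → g = 1) →
      2 * charDegree ψ + 1 < p → (P : Subgroup G).Normal

theorem factorization_eq_one {p n : ℕ} (hp : p.Prime) (hdiv : p ∣ n) (hsq : ¬ p ^ 2 ∣ n) (hn : n ≠ 0) :
    n.factorization p = 1 := by
  have h1 : 1 ≤ n.factorization p := (hp.dvd_iff_one_le_factorization hn).mp hdiv
  have h2 : ¬ 2 ≤ n.factorization p := fun h => hsq ((hp.pow_dvd_iff_le_factorization hn).mpr h)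
  omega

theorem card_sylow_eq {p : ℕ} [hp : Fact p.Prime] {G : Type u} [Group G] [Finite G]
    (hdiv : p ∣ Nat.card G) (hsq : ¬ p ^ 2 ∣ Nat.card G) (P : Sylow p G) :
    Nat.card (P : Subgroup G) = p := by
  rw [Sylow.card_eq_multiplicity, factorization_eq_one hp.out hdiv hsq Nat.card_pos.ne', pow_one]

theorem charDegree_restrict {G : Type u} [Group G] (H : Subgroup G) (χ : G → ℂ) :
    charDegree (fun h : H => χ h) = charDegree χ := by
  unfold charDegree
  simp

/-- An irreducible character is faithful, or it deflates to a faithful irreducible character of a proper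
quotient. -/
theorem quotient_data {G : Type u} [Group G] [Finite G] {ψ : G → ℂ} (hψ : IsIrrCharacter G ψ) :
    (∀ g : G, ψ g = ψ 1 → g = 1) ∨
    ∃ (K : Subgroup G) (_ : K.Normal) (β : G ⧸ K → ℂ), K ≠ ⊥ ∧ IsCharacter (G ⧸ K) β ∧
      (∀ x : G ⧸ K, β x = β 1 → x = 1) ∧ (∀ g : G, β (g : G ⧸ K) = ψ g) ∧
      (∀ g : G, g ∈ K → ψ g = ψ 1) := by
  obtain ⟨n, ρ, hirr, rfl⟩ := hψ
  have h1 : ρ.character 1 = (Module.finrank ℂ (Fin n → ℂ) : ℂ) := Representation.char_one ρ
  have hker : ∀ g : G, ρ.character g = ρ.character 1 → ρ g = 1 := by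
    intro g hg
    exact Cfsg.Agent.Lib.Helper24.rep_eq_one_of_char_eq_finrank ρ g (hg.trans h1)
  by_cases hK : MonoidHom.ker ρ = ⊥
  · left
    intro g hg
    have : g ∈ MonoidHom.ker ρ := (MonoidHom.mem_ker).mpr (hker g hg)
    rw [hK] at this
    exact Subgroup.mem_bot.mp this
  · right
    have hN' : ∀ x ∈ MonoidHom.ker ρ, ρ x = 1 := fun x hx => MonoidHom.mem_ker.mp hx
    have : ρ.IsIrreducible := hirr
    have hirr' := Cfsg.Agent.Lib.Helper24.deflate_isIrreducible (MonoidHom.ker ρ) ρ hN'
    refine ⟨MonoidHom.ker ρ, MonoidHom.normal_ker ρ,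
      (Cfsg.Agent.Lib.Helper24.deflate (MonoidHom.ker ρ) ρ hN').character, hK,
      ⟨n, Cfsg.Agent.Lib.Helper24.deflate (MonoidHom.ker ρ) ρ hN', rfl⟩, ?_, ?_, ?_⟩
    · intro x hx
      obtain ⟨g, rfl⟩ := QuotientGroup.mk_surjective x
      have e1 : (Cfsg.Agent.Lib.Helper24.deflate (MonoidHom.ker ρ) ρ hN').character
          ((g : G) : G ⧸ MonoidHom.ker ρ) = ρ.character g := rfl
      have e2 : (Cfsg.Agent.Lib.Helper24.deflate (MonoidHom.ker ρ) ρ hN').character
          (1 : G ⧸ MonoidHom.ker ρ) = ρ.character 1 := rfl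
      rw [e1, e2] at hx
      have : g ∈ MonoidHom.ker ρ := MonoidHom.mem_ker.mpr (hker g hx)
      exact (QuotientGroup.eq_one_iff g).mpr this
    · intro g
      rfl
    · intro g hg
      have : ρ g = 1 := MonoidHom.mem_ker.mp hg
      show LinearMap.trace ℂ (Fin n → ℂ) (ρ g) = LinearMap.trace ℂ (Fin n → ℂ) (ρ 1)
      rw [this, map_one ρ]

theorem charDegree_eq {G : Type u} [Group G] {χ : G → ℂ} {d : ℕ} (h : χ 1 = d) :
    charDegree χ = d := by
  unfold charDegree
  rw [h]
  simp

/-- If the Sylow `p`-subgroups of the normal closure of `P` are normal in it, then `P` is normal. -/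
theorem normal_of_sylow_normal_in_closure {p : ℕ} [Fact p.Prime] {G : Type u} [Group G] [Finite G]
    (P : Sylow p G)
    (h : ∀ Q : Sylow p (Subgroup.normalClosure ((P : Subgroup G) : Set G)),
      (Q : Subgroup (Subgroup.normalClosure ((P : Subgroup G) : Set G))).Normal) :
    (P : Subgroup G).Normal := by
  have hle : (P : Subgroup G) ≤ Subgroup.normalClosure ((P : Subgroup G) : Set G) :=
    Subgroup.le_normalClosure
  have hQ := h (P.subtype hle)
  have hchar : ((P.subtype hle : Sylow p (Subgroup.normalClosure ((P : Subgroup G) : Set G))) :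
      Subgroup (Subgroup.normalClosure ((P : Subgroup G) : Set G))).Characteristic :=
    Sylow.characteristic_of_normal _ hQ
  have hn : (((P.subtype hle : Sylow p (Subgroup.normalClosure ((P : Subgroup G) : Set G))) :
      Subgroup (Subgroup.normalClosure ((P : Subgroup G) : Set G))).map
        (Subgroup.normalClosure ((P : Subgroup G) : Set G)).subtype).Normal :=
    ConjAct.normal_of_characteristic_of_normal
  have heq : ((P.subtype hle : Sylow p (Subgroup.normalClosure ((P : Subgroup G) : Set G))) :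
      Subgroup (Subgroup.normalClosure ((P : Subgroup G) : Set G))).map
        (Subgroup.normalClosure ((P : Subgroup G) : Set G)).subtype = P := by
    rw [Sylow.coe_subtype, Subgroup.subgroupOf_map_subtype, inf_eq_left.mpr hle]
  rwa [heq] at hn

/-- The case where the conjugates of `P` generate `G`. -/
theorem top_case {p : ℕ} [hp : Fact p.Prime] (hcore : Core.{u} p) {G : Type u} [Group G] [Finite G]
    (ih : ∀ (H : Type u) [Group H] [Finite H], Nat.card H < Nat.card G → Small p H →
      ∀ Q : Sylow p H, (Q : Subgroup H).Normal)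
    (hdiv : p ∣ Nat.card G) (hsq : ¬ p ^ 2 ∣ Nat.card G) (χ : G → ℂ) (hχ : IsCharacter G χ)
    (hfaith : ∀ g : G, χ g = χ 1 → g = 1) (hdeg : 2 * charDegree χ + 1 < p) (P : Sylow p G)
    (htop : Subgroup.normalClosure ((P : Subgroup G) : Set G) = ⊤) : (P : Subgroup G).Normal := by
  classical
  let _ : Fintype G := Fintype.ofFinite G
  by_contra hPn
  obtain ⟨d, hd⟩ := IsCharacter.apply_one hχ
  have hdd : charDegree χ = d := charDegree_eq hd
  have key : ∀ ψ : G → ℂ, IsIrrCharacter G ψ → classInner χ ψ ≠ 0 → ∀ g : G, ψ (g ^ p) = ψ 1 := by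
    intro ψ hψ hc g
    obtain ⟨e, he0, he⟩ := IsIrrCharacter.apply_one_pos hψ
    have hed : e ≤ d := Ito.constituent_degree_le hχ hψ hc hd he
    rcases quotient_data hψ with hf | ⟨K, hKn, β, hK, hβ, hβf, hβψ, hKψ⟩
    · exfalso
      apply hPn
      exact hcore G hdiv hsq P htop ψ hψ hf (by rw [charDegree_eq he]; omega)
    · have := hKn
      have hcardeq : Nat.card G = Nat.card (G ⧸ K) * Nat.card K :=
        Subgroup.card_eq_card_quotient_mul_card_subgroup K
      have hK1 : 1 < Nat.card K := K.one_lt_card_iff_ne_bot.mpr hK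
      have hqpos : 0 < Nat.card (G ⧸ K) := Nat.card_pos
      have hlt : Nat.card (G ⧸ K) < Nat.card G := by
        rw [hcardeq]
        nlinarith
      have hdvdq : Nat.card (G ⧸ K) ∣ Nat.card G := ⟨Nat.card K, hcardeq⟩
      have hsq' : ¬ p ^ 2 ∣ Nat.card (G ⧸ K) := fun h => hsq (h.trans hdvdq)
      have hβ1 : β 1 = e := by
        rw [← QuotientGroup.mk_one, hβψ, he]
      have hβdeg : charDegree β = e := charDegree_eq hβ1
      obtain ⟨Q, hQ⟩ := IsPGroup.exists_le_sylow (P.isPGroup'.map (QuotientGroup.mk' K))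
      have hQn : (Q : Subgroup (G ⧸ K)).Normal := by
        by_cases hpd : p ∣ Nat.card (G ⧸ K)
        · exact ih (G ⧸ K) hlt ⟨hpd, hsq', β, hβ, hβf, by rw [hβdeg]; omega⟩ Q
        · have hbot : (Q : Subgroup (G ⧸ K)) = ⊥ := by
            rw [← Subgroup.card_eq_one, Sylow.card_eq_multiplicity,
              Nat.factorization_eq_zero_of_not_dvd hpd, pow_zero]
          rw [hbot]
          infer_instance
      have hQcard : Nat.card (Q : Subgroup (G ⧸ K)) ∣ p := by
        rw [Sylow.card_eq_multiplicity]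
        by_cases hpd : p ∣ Nat.card (G ⧸ K)
        · rw [factorization_eq_one hp.out hpd hsq' Nat.card_pos.ne', pow_one]
        · rw [Nat.factorization_eq_zero_of_not_dvd hpd, pow_zero]
          exact one_dvd _
      have hL : ((Q : Subgroup (G ⧸ K)).comap (QuotientGroup.mk' K)) = ⊤ := by
        have hLn : ((Q : Subgroup (G ⧸ K)).comap (QuotientGroup.mk' K)).Normal := hQn.comap _
        have hPL : (P : Subgroup G) ≤ (Q : Subgroup (G ⧸ K)).comap (QuotientGroup.mk' K) :=
          Subgroup.map_le_iff_le_comap.mp hQ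
        have h3 := Subgroup.normalClosure_le_normal hPL
        rw [htop] at h3
        exact top_le_iff.mp h3
      have hgQ : ((g : G) : G ⧸ K) ∈ (Q : Subgroup (G ⧸ K)) := by
        have h4 : g ∈ ((Q : Subgroup (G ⧸ K)).comap (QuotientGroup.mk' K)) := by
          rw [hL]
          trivial
        exact h4
      have hpow : ((g : G) : G ⧸ K) ^ p = 1 := by
        have h1 : orderOf (⟨(g : G ⧸ K), hgQ⟩ : (Q : Subgroup (G ⧸ K))) ∣
            Nat.card (Q : Subgroup (G ⧸ K)) := orderOf_dvd_natCard _
        have h2 : (⟨(g : G ⧸ K), hgQ⟩ : (Q : Subgroup (G ⧸ K))) ^ p = 1 :=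
          orderOf_dvd_iff_pow_eq_one.mp (h1.trans hQcard)
        have h5 := congrArg Subtype.val h2
        simpa using h5
      have hgK : g ^ p ∈ K := by
        rw [← QuotientGroup.eq_one_iff, QuotientGroup.mk_pow]
        exact hpow
      exact hKψ _ hgK
  have hpow : ∀ g : G, g ^ p = 1 := by
    intro g
    by_contra hg
    have hne : χ (g ^ p) ≠ χ 1 := fun h => hg (hfaith _ h)
    obtain ⟨ψ, hψ, hc, hne'⟩ := Ito.exists_constituent_ne hχ hne
    exact hne' (key ψ hψ hc g)
  have hGp : IsPGroup p G := fun g => ⟨1, by rw [pow_one]; exact hpow g⟩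
  have htopP : (⊤ : Subgroup G) = P := P.is_maximal' (hGp.to_subgroup ⊤) le_top
  apply hPn
  rw [← htopP]
  infer_instance

/-- Under CORE: a group with `p ∥ |G|` and a faithful character of degree `< (p-1)/2` has a normal
Sylow `p`-subgroup. -/
theorem sylow_normal_of_small {p : ℕ} [hp : Fact p.Prime] (hcore : Core.{u} p) :
    ∀ (n : ℕ) (G : Type u) [Group G] [Finite G], Nat.card G = n → Small p G →
      ∀ P : Sylow p G, (P : Subgroup G).Normal := by
  intro n
  induction n using Nat.strong_induction_on with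
  | _ n ih =>
    intro G _ _ hn hsmall P
    have ih' : ∀ (H : Type u) [Group H] [Finite H], Nat.card H < Nat.card G → Small p H →
        ∀ Q : Sylow p H, (Q : Subgroup H).Normal := by
      intro H _ _ hlt hs Q
      exact ih (Nat.card H) (hn ▸ hlt) H rfl hs Q
    obtain ⟨hdiv, hsq, χ, hχ, hfaith, hdeg⟩ := hsmall
    by_cases htop : Subgroup.normalClosure ((P : Subgroup G) : Set G) = ⊤
    · exact top_case hcore ih' hdiv hsq χ hχ hfaith hdeg P htop
    · apply normal_of_sylow_normal_in_closure P
      have hle : (P : Subgroup G) ≤ Subgroup.normalClosure ((P : Subgroup G) : Set G) :=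
        Subgroup.le_normalClosure
      have hlt : Nat.card (Subgroup.normalClosure ((P : Subgroup G) : Set G)) < Nat.card G := by
        refine lt_of_le_of_ne (Subgroup.card_le_card_group _) ?_
        intro h
        exact htop ((Subgroup.card_eq_iff_eq_top _).mp h)
      have hPcard : Nat.card (P : Subgroup G) = p := card_sylow_eq hdiv hsq P
      have hdiv' : p ∣ Nat.card (Subgroup.normalClosure ((P : Subgroup G) : Set G)) := by
        have := Subgroup.card_dvd_of_le hle
        rwa [hPcard] at this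
      have hsq' : ¬ p ^ 2 ∣ Nat.card (Subgroup.normalClosure ((P : Subgroup G) : Set G)) :=
        fun h => hsq (h.trans (Subgroup.card_subgroup_dvd_card _))
      refine ih' _ hlt ⟨hdiv', hsq', fun h => χ h, IsCharacter.restrict hχ _, ?_, ?_⟩
      · intro g hg
        have : (g : G) = 1 := hfaith g hg
        exact Subtype.ext this
      · rw [charDegree_restrict]
        exact hdeg

/-- S4503 from CORE. -/
theorem s4503_of_core (hcore : ∀ p : ℕ, p.Prime → Core.{u} p) {G : Type u} [Group G] [Finite G]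
    (p : ℕ) (hp : p.Prime) (hdiv : p ∣ Nat.card G) (hsq : ¬ p ^ 2 ∣ Nat.card G)
    (hnn : ∀ H : Subgroup G, H.Normal → Nat.card H ≠ p) (χ : G → ℂ) (hχ : Cfsg.IsCharacter G χ)
    (hfaith : ∀ g : G, χ g = χ 1 → g = 1) : p ≤ 2 * Cfsg.charDegree χ + 1 := by
  by_contra hlt
  push Not at hlt
  have : Fact p.Prime := ⟨hp⟩
  have P : Sylow p G := default
  have hPn := sylow_normal_of_small (hcore p hp) (Nat.card G) G rfl ⟨hdiv, hsq, χ, hχ, hfaith, hlt⟩ P
  exact hnn P hPn (card_sylow_eq hdiv hsq P)

end Cfsg.Agent.Lib.Helper21.S4503R
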