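import Mathlib
import Cfsg.Prelude.Def_Blocks
import Cfsg.Agent.Lib.Lead.CharMore
import Cfsg.Agent.Lib.Helper6.CliffordCorr
import Cfsg.Agent.Lib.Helper24.IrrFacts
import Cfsg.Agent.Lib.Helper25.Inflate

set_option autoImplicit false

namespace Cfsg.Agent.Lib.Helper21.Isaacs

open Cfsg Cfsg.Agent.CharLib Cfsg.Agent.Lib.Helper6 Cfsg.Agent.Lib.Helper24 Cfsg.Agent.Lib.Helper25
open scoped ComplexConjugate

universe u

/-- the degree of an irreducible character is at most the index of any abelian subgroup -/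
theorem charDegree_le_index_of_comm {G : Type u} [Group G] [Finite G] (H : Subgroup G)
    (hH : ∀ a ∈ H, ∀ b ∈ H, a * b = b * a) (χ : IrrCharacter G) :
    charDegree (χ : G → ℂ) ≤ H.index := by
  classical
  let _ : Fintype G := Fintype.ofFinite G
  let _ : Fintype H := Fintype.ofFinite H
  have hχc : IsCharacter G χ.1 := IsIrrCharacter.isCharacter χ.2
  have hres : IsCharacter H (resFun H χ.1) := isCharacter_resFun H hχc
  have hne : resFun H χ.1 ≠ 0 := by
    intro h
    have := congrFun h 1
    rw [resFun_apply] at this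
    exact irr_apply_one_ne_zero χ this
  obtain ⟨lam, hlam, hc⟩ := IsCharacter.exists_constituent hres hne
  have hlam1 : lam 1 = 1 := by
    have hcomm : ∀ a b : H, a * b = b * a := fun a b => Subtype.ext (hH a a.2 b b.2)
    exact (comm_iff_forall_irr_apply_one.mp hcomm) ⟨lam, hlam⟩
  have hfr := frobenius_reciprocity H lam (IsCharacter.isClassFunction hχc)
  have hc2 : classInner (indFun H lam) χ.1 ≠ 0 := by
    rw [hfr]
    have : classInner lam (fun h : H => χ.1 h) = conj (classInner (resFun H χ.1) lam) := by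
      rw [classInner_conj_symm]; rfl
    rw [this]
    exact (map_ne_zero _).mpr hc
  have hind : IsCharacter G (indFun H lam) := IsCharacter.indFun H (IsIrrCharacter.isCharacter hlam)
  obtain ⟨k, hk⟩ := IsCharacter.apply_one (IsCharacter.sub_constituent hind χ.2 hc2)
  rw [Pi.sub_apply, indFun_apply_one, hlam1, mul_one, irr_apply_one] at hk
  have hidx : (Nat.card H : ℂ)⁻¹ * (Nat.card G : ℂ) = (H.index : ℂ) := by
    have h1 := Subgroup.card_mul_index H
    have hH0 : (Nat.card H : ℂ) ≠ 0 := by exact_mod_cast (Nat.card_pos (α := H)).ne'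
    rw [← h1, Nat.cast_mul, ← mul_assoc, inv_mul_cancel₀ hH0, one_mul]
  rw [hidx] at hk
  have : (H.index : ℂ) = ((charDegree χ.1 + k : ℕ) : ℂ) := by
    rw [Nat.cast_add, ← hk]; ring
  have h2 : H.index = charDegree χ.1 + k := by exact_mod_cast this
  omega

/-- if every irreducible character of `P` has degree `1` or `q`, and `P / C` has an abelian subgroup
of index `< q`, then `P / C` is abelian -/
theorem comm_quotient_of_small_index {P : Type u} [Group P] [Finite P] (q : ℕ)
    (hcd : ∀ χ : IrrCharacter P, charDegree (χ : P → ℂ) = 1 ∨ charDegree (χ : P → ℂ) = q)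
    (C A : Subgroup P) (hC : C.Normal) (hCA : C ≤ A)
    (hA : ∀ a ∈ A, ∀ b ∈ A, a * b * a⁻¹ * b⁻¹ ∈ C) (hidx : A.index < q) :
    ∀ a b : P, a * b * a⁻¹ * b⁻¹ ∈ C := by
  classical
  have hAbar : ∀ a ∈ A.map (QuotientGroup.mk' C), ∀ b ∈ A.map (QuotientGroup.mk' C), a * b = b * a := by
    rintro _ ⟨a, ha, rfl⟩ _ ⟨b, hb, rfl⟩
    have h1 := hA a ha b hb
    rw [← QuotientGroup.eq_one_iff, ← QuotientGroup.mk'_apply, map_mul, map_mul, map_mul, map_inv,
      map_inv] at h1
    calc QuotientGroup.mk' C a * QuotientGroup.mk' C b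
        = (QuotientGroup.mk' C a * QuotientGroup.mk' C b * (QuotientGroup.mk' C a)⁻¹ *
            (QuotientGroup.mk' C b)⁻¹) * (QuotientGroup.mk' C b * QuotientGroup.mk' C a) := by group
      _ = _ := by rw [h1, one_mul]
  have hidx' : (A.map (QuotientGroup.mk' C)).index = A.index :=
    Subgroup.index_map_eq A (QuotientGroup.mk'_surjective C) (by rw [QuotientGroup.ker_mk']; exact hCA)
  have hlin : ∀ χ : IrrCharacter (P ⧸ C), (χ : P ⧸ C → ℂ) 1 = 1 := by
    intro χ
    have h1 := charDegree_le_index_of_comm _ hAbar χ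
    rw [hidx'] at h1
    have h2 : charDegree ((inflateIrr C χ : IrrCharacter P) : P → ℂ) = charDegree (χ : P ⧸ C → ℂ) := by
      unfold charDegree
      rw [inflateIrr_apply, QuotientGroup.mk_one]
    rcases hcd (inflateIrr C χ) with h | h
    · rw [irr_apply_one, ← h2, h]; simp
    · rw [h2] at h; omega
  have hcomm := (comm_iff_forall_irr_apply_one (G := P ⧸ C)).mpr hlin
  intro a b
  rw [← QuotientGroup.eq_one_iff, ← QuotientGroup.mk'_apply, map_mul, map_mul, map_mul, map_inv,
    map_inv, hcomm (QuotientGroup.mk' C a) (QuotientGroup.mk' C b)]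
  group

end Cfsg.Agent.Lib.Helper21.Isaacs
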