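import Mathlib

set_option autoImplicit false

namespace Cfsg.Agent.Lib.Helper21.Isaacs

open MulAction
open scoped Pointwise

/-- Counting lemma: a finite group `S` acts on a finite nonempty set `X`; a subgroup `N` acts
trivially; every point is fixed by some element outside `N`, and every element outside `N` fixes
at most one point.  Then the action is transitive, so `|X|` divides `|S : N|`. -/
theorem card_dvd_index_of_frobLike {S X : Type*} [Group S] [Finite S] [MulAction S X] [Finite X]
    [Nonempty X] (N : Subgroup S)
    (hN : ∀ n ∈ N, ∀ x : X, n • x = x)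
    (h1 : ∀ x : X, ∃ g, g ∉ N ∧ g • x = x)
    (h2 : ∀ g, g ∉ N → ∀ x y : X, g • x = x → g • y = y → x = y) :
    Nat.card X ∣ N.index := by
  classical
  let _ : Fintype S := Fintype.ofFinite S
  let _ : Fintype X := Fintype.ofFinite X
  have hB := MulAction.sum_card_fixedBy_eq_card_orbits_mul_card_group S X
  set r := Fintype.card (Quotient (MulAction.orbitRel S X)) with hr
  -- double counting
  have hdc : ∑ g : S, Fintype.card (MulAction.fixedBy X g) =
      ∑ x : X, Fintype.card (MulAction.stabilizer S x) := by
    have e1 : ∀ g : S, Fintype.card (MulAction.fixedBy X g) =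
        ∑ x : X, if g • x = x then 1 else 0 := by
      intro g
      rw [Fintype.card_subtype, Finset.card_filter]
      rfl
    have e2 : ∀ x : X, Fintype.card (MulAction.stabilizer S x) =
        ∑ g : S, if g • x = x then 1 else 0 := by
      intro x
      rw [Fintype.card_subtype, Finset.card_filter]
      rfl
    simp_rw [e1, e2]
    exact Finset.sum_comm
  -- lower bound
  have hNpos : 0 < Nat.card N := Nat.card_pos
  have hlow : Nat.card X * (2 * Nat.card N) ≤ ∑ x : X, Fintype.card (MulAction.stabilizer S x) := by
    have : ∀ x : X, 2 * Nat.card N ≤ Fintype.card (MulAction.stabilizer S x) := by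
      intro x
      have hle : N ≤ MulAction.stabilizer S x := fun n hn => hN n hn x
      obtain ⟨g, hgN, hgx⟩ := h1 x
      have hdvd : Nat.card N ∣ Nat.card (MulAction.stabilizer S x) := Subgroup.card_dvd_of_le hle
      have hne : Nat.card N ≠ Nat.card (MulAction.stabilizer S x) := by
        intro heq
        have := Subgroup.eq_of_le_of_card_ge hle (le_of_eq heq.symm)
        exact hgN (this ▸ hgx)
      rw [← Nat.card_eq_fintype_card]
      obtain ⟨k, hk⟩ := hdvd
      have hpos : 0 < Nat.card (MulAction.stabilizer S x) := Nat.card_pos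
      rcases k with _ | _ | k
      · rw [hk] at hpos; simp at hpos
      · rw [hk] at hne; simp at hne
      · rw [hk]; nlinarith
    calc Nat.card X * (2 * Nat.card N) = ∑ _x : X, 2 * Nat.card N := by
          rw [Finset.sum_const, Finset.card_univ, Nat.card_eq_fintype_card, smul_eq_mul]
      _ ≤ _ := Finset.sum_le_sum (fun x _ => this x)
  -- upper bound
  have hup : ∑ g : S, Fintype.card (MulAction.fixedBy X g) + Nat.card N ≤
      Nat.card N * Nat.card X + Nat.card S := by
    have hsplit : ∑ g : S, Fintype.card (MulAction.fixedBy X g) =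
        ∑ g ∈ Finset.univ.filter (fun g : S => g ∈ N), Fintype.card (MulAction.fixedBy X g) +
        ∑ g ∈ Finset.univ.filter (fun g : S => g ∉ N), Fintype.card (MulAction.fixedBy X g) :=
      (Finset.sum_filter_add_sum_filter_not _ _ _).symm
    have hA : ∑ g ∈ Finset.univ.filter (fun g : S => g ∈ N), Fintype.card (MulAction.fixedBy X g) ≤
        Nat.card N * Nat.card X := by
      have hc : (Finset.univ.filter (fun g : S => g ∈ N)).card = Nat.card N := by
        rw [Nat.card_eq_fintype_card, Fintype.card_subtype]
      calc _ ≤ ∑ _g ∈ Finset.univ.filter (fun g : S => g ∈ N), Nat.card X := by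
            apply Finset.sum_le_sum
            intro g _
            rw [Nat.card_eq_fintype_card]
            exact Fintype.card_subtype_le _
        _ = Nat.card N * Nat.card X := by rw [Finset.sum_const, hc, smul_eq_mul]
    have hBd : ∑ g ∈ Finset.univ.filter (fun g : S => g ∉ N), Fintype.card (MulAction.fixedBy X g) ≤
        (Finset.univ.filter (fun g : S => g ∉ N)).card := by
      calc _ ≤ ∑ _g ∈ Finset.univ.filter (fun g : S => g ∉ N), 1 := by
            apply Finset.sum_le_sum
            intro g hg
            rw [Finset.mem_filter] at hg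
            rw [Fintype.card_le_one_iff_subsingleton]
            constructor
            rintro ⟨x, hx⟩ ⟨y, hy⟩
            exact Subtype.ext (h2 g hg.2 x y hx hy)
        _ = _ := by rw [Finset.sum_const, smul_eq_mul, mul_one]
    have hcc : (Finset.univ.filter (fun g : S => g ∉ N)).card + Nat.card N = Nat.card S := by
      have hc : (Finset.univ.filter (fun g : S => g ∈ N)).card = Nat.card N := by
        rw [Nat.card_eq_fintype_card, Fintype.card_subtype]
      rw [← hc, add_comm, Finset.card_filter_add_card_filter_not, Finset.card_univ, Nat.card_eq_fintype_card]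
    rw [hsplit]
    omega
  rw [hdc] at hB
  rw [hdc] at hup
  have hScard : Fintype.card S = Nat.card S := (Nat.card_eq_fintype_card).symm
  rw [hScard] at hB
  -- r ≤ 1
  have hSpos : 0 < Nat.card S := Nat.card_pos
  have hr1 : r ≤ 1 := by
    by_contra hcon
    push Not at hcon
    have : 2 * Nat.card S ≤ r * Nat.card S := Nat.mul_le_mul_right _ hcon
    nlinarith
  have hsub : Subsingleton (Quotient (MulAction.orbitRel S X)) :=
    Fintype.card_le_one_iff_subsingleton.mp hr1
  have : MulAction.IsPretransitive S X := (MulAction.pretransitive_iff_subsingleton_quotient S X).mpr hsub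
  obtain ⟨x⟩ := ‹Nonempty X›
  have hidx := MulAction.index_stabilizer_of_transitive S x
  rw [← hidx]
  exact Subgroup.index_dvd_of_le (fun n hn => hN n hn x)

/-- Version for a finite subset `X` of a `G`-set which behaves like a block. -/
theorem subsingleton_of_frobLike {G Y : Type*} [Group G] [Finite G] [MulAction G Y]
    (N : Subgroup G) (X : Set Y) (hXfin : X.Finite) (p : ℕ)
    (hN : ∀ n ∈ N, ∀ x ∈ X, n • x = x)
    (h1 : ∀ x ∈ X, ∃ g, g ∉ N ∧ g • x = x)
    (h2 : ∀ g, g ∉ N → ∀ x ∈ X, ∀ y ∈ X, g • x = x → g • y = y → x = y)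
    (h3 : ∀ g : G, ∀ x ∈ X, g • x ∈ X → ∀ y ∈ X, g • y ∈ X)
    (hcard : ∃ a, Nat.card X = p ^ a) (hcop : (N.index).Coprime p) :
    X.Subsingleton := by
  classical
  rcases X.eq_empty_or_nonempty with hXe | ⟨x₀, hx₀⟩
  · rw [hXe]; exact Set.subsingleton_empty
  set S : Subgroup G := MulAction.stabilizer G X with hS
  have hmemS : ∀ g : G, g ∈ S ↔ ∀ ⦃b⦄, b ∈ X → g • b ∈ X := fun g =>
    MulAction.mem_stabilizer_set' hXfin
  have hNS : N ≤ S := by
    intro n hn
    rw [hmemS]
    intro b hb
    rw [hN n hn b hb]
    exact hb
  letI : MulAction S X :=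
    { smul := fun g x => ⟨(g : G) • (x : Y), (hmemS g).mp g.2 x.2⟩
      one_smul := fun x => Subtype.ext (one_smul G (x : Y))
      mul_smul := fun a b x => Subtype.ext (mul_smul (a : G) (b : G) (x : Y)) }
  have hsmul : ∀ (g : S) (x : X), ((g • x : X) : Y) = (g : G) • (x : Y) := fun _ _ => rfl
  haveI : Finite X := hXfin
  haveI : Nonempty X := ⟨⟨x₀, hx₀⟩⟩
  have hdvd : Nat.card X ∣ (N.subgroupOf S).index := by
    apply card_dvd_index_of_frobLike (N.subgroupOf S)
    · intro n hn x
      apply Subtype.ext
      rw [hsmul]
      exact hN n (Subgroup.mem_subgroupOf.mp hn) x x.2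
    · intro x
      obtain ⟨g, hgN, hgx⟩ := h1 x x.2
      have hgS : g ∈ S := by
        rw [hmemS]
        intro b hb
        exact h3 g x x.2 (by rw [hgx]; exact x.2) b hb
      refine ⟨⟨g, hgS⟩, ?_, ?_⟩
      · intro h
        exact hgN (Subgroup.mem_subgroupOf.mp h)
      · apply Subtype.ext
        rw [hsmul]
        exact hgx
    · intro g hg x y hx hy
      apply Subtype.ext
      apply h2 (g : G) (fun h => hg (Subgroup.mem_subgroupOf.mpr h)) x x.2 y y.2
      · have := congrArg Subtype.val hx
        rwa [hsmul] at this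
      · have := congrArg Subtype.val hy
        rwa [hsmul] at this
  have hdvd2 : Nat.card X ∣ N.index := hdvd.trans (Subgroup.relIndex_dvd_index_of_le hNS)
  obtain ⟨a, ha⟩ := hcard
  have hone : Nat.card X = 1 := by
    rw [ha] at hdvd2 ⊢
    have hc : (p ^ a).Coprime N.index := (Nat.Coprime.pow_left a hcop.symm)
    exact Nat.Coprime.eq_one_of_dvd hc hdvd2
  intro x hx y hy
  have hsub : Subsingleton X := (Nat.card_eq_one_iff_unique.mp hone).1
  have := hsub.elim ⟨x, hx⟩ ⟨y, hy⟩
  exact congrArg Subtype.val this

end Cfsg.Agent.Lib.Helper21.Isaacs
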