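import Mathlib
import Cfsg.Prelude.Def_Blocks
import Cfsg.Agent.Lib.Helper6.AbelianQuot
import Cfsg.Agent.Lib.Helper6.LinChar
import Cfsg.Agent.Lib.Helper23.Thompson
import Cfsg.Agent.Lib.Helper21.IsaacsFrobLike

set_option autoImplicit false

namespace Cfsg.Agent.Lib.Helper21.Isaacs

open Cfsg Cfsg.Agent.CharLib Cfsg.Agent.Lib.Helper6 Cfsg.Agent.Lib.Helper23
open scoped ComplexConjugate

universe u

variable {G : Type u} [Group G] [Finite G]

section twist
variable (N : Subgroup G)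

/-- multiplication of irreducible characters of `N` by linear characters -/
@[reducible] noncomputable def twistAction : MulAction (N →* ℂˣ) (IrrCharacter N) where
  smul f θ := ⟨fun n => ((f n : ℂˣ) : ℂ) * θ.1 n, by
    classical
    letI : Fintype N := Fintype.ofFinite N
    exact isIrrCharacter_linear_mul (isCharacter_of_hom f) (by simp) θ.2⟩
  one_smul θ := Subtype.ext (by
    funext n
    show (((1 : N →* ℂˣ) n : ℂˣ) : ℂ) * θ.1 n = θ.1 n
    simp)
  mul_smul f f' θ := Subtype.ext (by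
    funext n
    show (((f * f') n : ℂˣ) : ℂ) * θ.1 n = ((f n : ℂˣ) : ℂ) * (((f' n : ℂˣ) : ℂ) * θ.1 n)
    simp [mul_assoc])

variable [hN : N.Normal]

/-- conjugation of linear characters of a normal subgroup: `(cjHom g f) n = f (g⁻¹ n g)` -/
noncomputable def cjHom (g : G) : (N →* ℂˣ) →* (N →* ℂˣ) where
  toFun f := f.comp (MulAut.conjNormal g⁻¹ : MulAut N).toMonoidHom
  map_one' := rfl
  map_mul' _ _ := rfl

theorem cjHom_apply (g : G) (f : N →* ℂˣ) (n : N) :
    cjHom N g f n = f ⟨g⁻¹ * n * g, by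
      have := hN.conj_mem n n.2 g⁻¹
      simpa using this⟩ := by
  show f ((MulAut.conjNormal g⁻¹ : MulAut N) n) = _
  congr 1
  apply Subtype.ext
  simp [MulAut.conjNormal_apply]

end twist

section thm124
variable (K N : Subgroup G) [hK : K.Normal] [hN : N.Normal]

/-- linear characters of `N` trivial on `K` -/
def Lam : Subgroup (N →* ℂˣ) where
  carrier := {f | ∀ n : N, (n : G) ∈ K → f n = 1}
  one_mem' := fun _ _ => rfl
  mul_mem' := fun {a b} ha hb n hn => by rw [MonoidHom.mul_apply, ha n hn, hb n hn, one_mul]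
  inv_mem' := fun {a} ha n hn => by rw [MonoidHom.inv_apply, ha n hn, inv_one]

theorem mem_Lam {f : N →* ℂˣ} : f ∈ Lam K N ↔ ∀ n : N, (n : G) ∈ K → f n = 1 := Iff.rfl

theorem cjHom_mem_Lam (g : G) {f : N →* ℂˣ} (hf : f ∈ Lam K N) : cjHom N g f ∈ Lam K N := by
  intro n hn
  rw [cjHom_apply]
  apply hf
  have := hK.conj_mem (n : G) hn g⁻¹
  simpa using this

/-- a linear character trivial on `K` and fixed by an element acting without fixed points on
`N / K` is trivial -/
theorem eq_one_of_cjHom_eq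
    (hF : ∀ g, g ∉ N → ∀ n ∈ N, g * n * g⁻¹ * n⁻¹ ∈ K → n ∈ K)
    {f : N →* ℂˣ} (hf : f ∈ Lam K N) {g : G} (hg : g ∉ N) (hfix : cjHom N g f = f) : f = 1 := by
  classical
  set K' : Subgroup N := K.subgroupOf N with hK'
  haveI : K'.Normal := Subgroup.Normal.subgroupOf hK N
  let φ : N →* N := (MulAut.conjNormal g⁻¹ : MulAut N).toMonoidHom
  have hφ : ∀ n : N, ((φ n : N) : G) = g⁻¹ * n * g := by
    intro n
    show (((MulAut.conjNormal g⁻¹ : MulAut N) n : N) : G) = _
    simp [MulAut.conjNormal_apply]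
  have hφK : K' ≤ K'.comap φ := by
    intro n hn
    rw [Subgroup.mem_comap, hK', Subgroup.mem_subgroupOf, hφ]
    have := hK.conj_mem (n : G) (Subgroup.mem_subgroupOf.mp hn) g⁻¹
    simpa using this
  let α : N ⧸ K' →* N ⧸ K' := QuotientGroup.map K' K' φ hφK
  let fb : N ⧸ K' →* ℂˣ := QuotientGroup.lift K' f (fun n hn => hf n (Subgroup.mem_subgroupOf.mp hn))
  have hα1 : ∀ z : N ⧸ K', α z = z → z = 1 := by
    intro z hz
    obtain ⟨n, rfl⟩ := QuotientGroup.mk_surjective z
    have h1 : α (QuotientGroup.mk n) = QuotientGroup.mk (φ n) := QuotientGroup.map_mk K' K' φ hφK n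
    rw [h1] at hz
    have h2 : (φ n)⁻¹ * n ∈ K' := QuotientGroup.eq.mp hz
    rw [hK', Subgroup.mem_subgroupOf] at h2
    have h3 : ((φ n)⁻¹ * n : N) = ((g⁻¹ * (n : G) * g)⁻¹ * (n : G) : G) := by
      rw [Subgroup.coe_mul, Subgroup.coe_inv, hφ]
    rw [h3] at h2
    have h4 : g⁻¹ * (n : G) * (g⁻¹)⁻¹ * (n : G)⁻¹ ∈ K := by
      have h5 := K.inv_mem h2
      have h6 := hK.conj_mem _ h5 (n : G)
      have h7 : (n : G) * ((g⁻¹ * (n : G) * g)⁻¹ * (n : G))⁻¹ * (n : G)⁻¹ =
          g⁻¹ * (n : G) * (g⁻¹)⁻¹ * (n : G)⁻¹ := by group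
      rw [h7] at h6
      exact h6
    have hg' : g⁻¹ ∉ N := fun h => hg (by simpa using N.inv_mem h)
    have h8 := hF g⁻¹ hg' (n : G) n.2 h4
    exact (QuotientGroup.eq_one_iff n).mpr (Subgroup.mem_subgroupOf.mpr h8)
  let δ : N ⧸ K' → N ⧸ K' := fun x => α x * x⁻¹
  have hδinj : Function.Injective δ := by
    intro x y hxy
    have h1 : α x * x⁻¹ = α y * y⁻¹ := hxy
    have h2 : α (y⁻¹ * x) = y⁻¹ * x := by
      rw [map_mul, map_inv]
      have : (α y)⁻¹ * (α x * x⁻¹) * x = (α y)⁻¹ * (α y * y⁻¹) * x := by rw [h1]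
      calc (α y)⁻¹ * α x = (α y)⁻¹ * (α x * x⁻¹) * x := by group
        _ = (α y)⁻¹ * (α y * y⁻¹) * x := this
        _ = y⁻¹ * x := by group
    have h3 := hα1 _ h2
    exact (inv_mul_eq_one.mp h3).symm
  have hδsurj : Function.Surjective δ := Finite.surjective_of_injective hδinj
  have hfb : ∀ z : N ⧸ K', fb (α z) = fb z := by
    intro z
    obtain ⟨n, rfl⟩ := QuotientGroup.mk_surjective z
    have h1 : α (QuotientGroup.mk n) = QuotientGroup.mk (φ n) := QuotientGroup.map_mk K' K' φ hφK n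
    rw [h1]
    show f (φ n) = f n
    have := congrArg (fun F : N →* ℂˣ => F n) hfix
    exact this
  apply MonoidHom.ext
  intro n
  obtain ⟨x, hx⟩ := hδsurj (QuotientGroup.mk n)
  have h1 : fb (QuotientGroup.mk n) = 1 := by
    rw [← hx]
    show fb (α x * x⁻¹) = 1
    rw [map_mul, map_inv, hfb, mul_inv_cancel]
  exact h1

theorem isPGroup_Lam (p : ℕ) [Fact p.Prime] (hP : ∃ a, K.relIndex N = p ^ a) :
    IsPGroup p (Lam K N) := by
  obtain ⟨a, ha⟩ := hP
  intro f
  refine ⟨a, ?_⟩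
  apply Subtype.ext
  apply MonoidHom.ext
  intro n
  show ((f : N →* ℂˣ) ^ p ^ a) n = 1
  rw [MonoidHom.pow_apply, ← map_pow]
  apply f.2
  haveI : (K.subgroupOf N).Normal := Subgroup.Normal.subgroupOf hK N
  have := Subgroup.pow_index_mem (K.subgroupOf N) n
  rw [show (K.subgroupOf N).index = K.relIndex N from rfl, ha] at this
  exact Subgroup.mem_subgroupOf.mp this

/-- **Isaacs, Theorem 12.4** (core): `G/K` "Frobenius" with kernel `N/K` a `p`-group, `ψ ∈ Irr(N)`;
if every twist `fψ` (`f` a linear character of `N/K`) is fixed by some element outside `N`, then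
all twists are equal to `ψ`. -/
theorem twist_eq_of_inertia (p : ℕ) [Fact p.Prime]
    (hF : ∀ g, g ∉ N → ∀ n ∈ N, g * n * g⁻¹ * n⁻¹ ∈ K → n ∈ K)
    (hP : ∃ a, K.relIndex N = p ^ a) (hcop : (N.index).Coprime p)
    (ψ : IrrCharacter N)
    (hH : ∀ f ∈ Lam K N, ∃ g, g ∉ N ∧
      conjFun N g (fun n => ((f n : ℂˣ) : ℂ) * ψ.1 n) = fun n => ((f n : ℂˣ) : ℂ) * ψ.1 n) :
    ∀ f ∈ Lam K N, ∀ n : N, ((f n : ℂˣ) : ℂ) * ψ.1 n = ψ.1 n := by
  classical
  letI actG : MulAction G (IrrCharacter N) := irrConjMulAction N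
  letI actL : MulAction (N →* ℂˣ) (IrrCharacter N) := twistAction N
  have hsmulG : ∀ (g : G) (θ : IrrCharacter N), (g • θ : IrrCharacter N).1 = conjFun N g⁻¹ θ.1 :=
    fun _ _ => rfl
  have hsmulL : ∀ (f : N →* ℂˣ) (θ : IrrCharacter N),
      (f • θ : IrrCharacter N).1 = fun n => ((f n : ℂˣ) : ℂ) * θ.1 n := fun _ _ => rfl
  have hcompat : ∀ (g : G) (f : N →* ℂˣ) (θ : IrrCharacter N),
      g • (f • θ) = (cjHom N g f) • (g • θ) := by
    intro g f θ
    apply Subtype.ext
    rw [hsmulG, hsmulL, hsmulL, hsmulG]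
    funext n
    rw [conjFun_apply, conjFun_apply, cjHom_apply]
    simp only [inv_inv]
  set X : Set (IrrCharacter N) := {θ | ∃ f ∈ Lam K N, θ = f • ψ} with hX
  have hψX : ψ ∈ X := ⟨1, Subgroup.one_mem _, (one_smul (N →* ℂˣ) ψ).symm⟩
  have hXorb : X = MulAction.orbit (Lam K N) ψ := by
    ext θ
    constructor
    · rintro ⟨f, hf, rfl⟩
      exact ⟨⟨f, hf⟩, rfl⟩
    · rintro ⟨f, rfl⟩
      exact ⟨f.1, f.2, rfl⟩
  have hcard : ∃ a, Nat.card X = p ^ a := by
    rw [hXorb]
    exact (isPGroup_Lam K N p hP).card_orbit ψ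
  have hsub : X.Subsingleton := by
    apply subsingleton_of_frobLike N X (Set.toFinite X) p
    · -- N acts trivially
      intro n hn x _
      apply Subtype.ext
      rw [hsmulG]
      exact conjFun_of_mem N (IsCharacter.isClassFunction (IsIrrCharacter.isCharacter x.2))
        (N.inv_mem hn)
    · -- nontrivial stabilizers
      rintro x ⟨f, hf, rfl⟩
      obtain ⟨g, hg, hfix⟩ := hH f hf
      refine ⟨g⁻¹, fun h => hg (by simpa using N.inv_mem h), ?_⟩
      apply Subtype.ext
      rw [hsmulG, inv_inv, hsmulL]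
      exact hfix
    · -- two-point stabilizers trivial
      rintro g hg x ⟨f₂, hf₂, rfl⟩ y ⟨f₁, hf₁, rfl⟩ hx hy
      set x := f₂ • ψ with hxdef
      set f := f₁ * f₂⁻¹ with hfdef
      have hfL : f ∈ Lam K N := Subgroup.mul_mem _ hf₁ (Subgroup.inv_mem _ hf₂)
      have hyx : f₁ • ψ = f • x := by
        rw [hxdef, hfdef, ← mul_smul, inv_mul_cancel_right f₁ f₂]
      rw [hyx] at hy ⊢
      -- (cjHom g f) • x = f • x
      have h1 : (cjHom N g f) • x = f • x := by
        rw [hcompat, hx] at hy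
        exact hy
      -- the endomorphism
      let φ : (N →* ℂˣ) →* (N →* ℂˣ) := cjHom N g * (MonoidHom.id _)⁻¹
      have hφ : ∀ u : N →* ℂˣ, φ u = cjHom N g u * u⁻¹ := fun u => rfl
      have hφinj : ∀ u ∈ Lam K N, ∀ v ∈ Lam K N, φ u = φ v → u = v := by
        intro u hu v hv huv
        have hw : u * v⁻¹ ∈ Lam K N := Subgroup.mul_mem _ hu (Subgroup.inv_mem _ hv)
        have h2 : φ (u * v⁻¹) = 1 := by
          rw [map_mul φ u v⁻¹, map_inv φ v, huv]
          exact mul_inv_cancel (φ v)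
        have h3 : cjHom N g (u * v⁻¹) = u * v⁻¹ := by
          rw [hφ] at h2
          exact mul_inv_eq_one.mp h2
        have h4 := eq_one_of_cjHom_eq K N hF hw hg h3
        exact mul_inv_eq_one.mp h4
      let St : Subgroup (N →* ℂˣ) := MulAction.stabilizer (N →* ℂˣ) x
      have hStmem : ∀ u : N →* ℂˣ, u ∈ St ↔ u • x = x := fun u => MulAction.mem_stabilizer_iff
      let T : Set (N →* ℂˣ) := {u | u ∈ Lam K N ∧ u ∈ St}
      have hφT : ∀ u : T, φ u.1 ∈ T := by
        rintro ⟨u, huL, huS⟩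
        refine ⟨Subgroup.mul_mem _ (cjHom_mem_Lam K N g huL) (Subgroup.inv_mem _ huL), ?_⟩
        show cjHom N g u * u⁻¹ ∈ St
        apply Subgroup.mul_mem _ _ (Subgroup.inv_mem _ huS)
        apply (hStmem _).mpr
        have : cjHom N g u • g • x = g • (u • x) := (hcompat g u x).symm
        rw [hx] at this
        rw [this, (hStmem u).mp huS, hx]
      let φT : T → T := fun u => ⟨φ u.1, hφT u⟩
      have hφTinj : Function.Injective φT := by
        intro u v huv
        apply Subtype.ext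
        exact hφinj u.1 u.2.1 v.1 v.2.1 (congrArg Subtype.val huv)
      have hφTsurj : Function.Surjective φT := Finite.surjective_of_injective hφTinj
      have hφfT : φ f ∈ T := by
        refine ⟨Subgroup.mul_mem _ (cjHom_mem_Lam K N g hfL) (Subgroup.inv_mem _ hfL), ?_⟩
        apply (hStmem _).mpr
        rw [hφ, mul_comm (cjHom N g f) f⁻¹, mul_smul, h1, ← mul_smul, inv_mul_cancel f, one_smul]
      obtain ⟨u, hu⟩ := hφTsurj ⟨φ f, hφfT⟩
      have hu' : φ u.1 = φ f := congrArg Subtype.val hu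
      have huf : u.1 = f := hφinj u.1 u.2.1 f hfL hu'
      have hfS : f ∈ St := huf ▸ u.2.2
      exact ((hStmem f).mp hfS).symm
    · -- block property
      rintro g x ⟨f₂, hf₂, rfl⟩ ⟨f', hf', hgx⟩ y ⟨f₁, hf₁, rfl⟩
      have hyx : f₁ • ψ = (f₁ * f₂⁻¹) • (f₂ • ψ) := by
        rw [← mul_smul, inv_mul_cancel_right f₁ f₂]
      refine ⟨cjHom N g (f₁ * f₂⁻¹) * f', ?_, ?_⟩
      · exact Subgroup.mul_mem _ (cjHom_mem_Lam K N g
          (Subgroup.mul_mem _ hf₁ (Subgroup.inv_mem _ hf₂))) hf'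
      · rw [hyx, hcompat, hgx]
        exact (mul_smul (cjHom N g (f₁ * f₂⁻¹)) f' ψ).symm
    · exact hcard
    · exact hcop
  intro f hf n
  have hfX : f • ψ ∈ X := ⟨f, hf, rfl⟩
  have := hsub hfX hψX
  have h2 := congrArg Subtype.val this
  rw [hsmulL] at h2
  exact congrFun h2 n

end thm124

section vanish

/-- if all twists by linear characters of the abelian group `N / K` fix `ψ`, then `ψ` vanishes
off `K` -/
theorem vanish_off_of_twist_eq (K N : Subgroup G) [hK : K.Normal] [hN : N.Normal]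
    (hA : ∀ a ∈ N, ∀ b ∈ N, a * b * a⁻¹ * b⁻¹ ∈ K)
    (ψ : N → ℂ) (h : ∀ f ∈ Lam K N, ∀ n : N, ((f n : ℂˣ) : ℂ) * ψ n = ψ n) :
    ∀ n : N, (n : G) ∉ K → ψ n = 0 := by
  classical
  intro n hn
  set K' : Subgroup N := K.subgroupOf N with hK'
  haveI : K'.Normal := Subgroup.Normal.subgroupOf hK N
  have hcomm : ∀ x y : N ⧸ K', x * y = y * x := by
    intro x y
    obtain ⟨a, rfl⟩ := QuotientGroup.mk_surjective x
    obtain ⟨b, rfl⟩ := QuotientGroup.mk_surjective y
    have h1 : a * b * a⁻¹ * b⁻¹ ∈ K' := by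
      rw [hK', Subgroup.mem_subgroupOf]
      have := hA a a.2 b b.2
      simpa using this
    have h2 : (QuotientGroup.mk (a * b * a⁻¹ * b⁻¹) : N ⧸ K') = 1 :=
      (QuotientGroup.eq_one_iff _).mpr h1
    rw [QuotientGroup.mk_mul, QuotientGroup.mk_mul, QuotientGroup.mk_mul, QuotientGroup.mk_inv,
      QuotientGroup.mk_inv] at h2
    calc (QuotientGroup.mk a : N ⧸ K') * QuotientGroup.mk b
        = (QuotientGroup.mk a * QuotientGroup.mk b * (QuotientGroup.mk a)⁻¹ *
            (QuotientGroup.mk b)⁻¹) * (QuotientGroup.mk b * QuotientGroup.mk a) := by group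
      _ = _ := by rw [h2, one_mul]
  letI : CommGroup (N ⧸ K') := { (inferInstance : Group (N ⧸ K')) with mul_comm := hcomm }
  have hne : NeZero ((Monoid.exponent (N ⧸ K') : ℕ) : ℂ) :=
    ⟨by exact_mod_cast Monoid.exponent_ne_zero_of_finite⟩
  have hn1 : (QuotientGroup.mk n : N ⧸ K') ≠ 1 := by
    intro h1
    apply hn
    have := (QuotientGroup.eq_one_iff n).mp h1
    exact Subgroup.mem_subgroupOf.mp this
  obtain ⟨φ, hφ⟩ := CommGroup.exists_apply_ne_one_of_hasEnoughRootsOfUnity (N ⧸ K') ℂ hn1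
  let f : N →* ℂˣ := φ.comp (QuotientGroup.mk' K')
  have hf : f ∈ Lam K N := by
    intro m hm
    show φ (QuotientGroup.mk' K' m) = 1
    have : QuotientGroup.mk' K' m = 1 :=
      (QuotientGroup.eq_one_iff m).mpr (Subgroup.mem_subgroupOf.mpr hm)
    rw [this, map_one]
  have h1 := h f hf n
  have h2 : ((f n : ℂˣ) : ℂ) ≠ 1 := by
    intro h3
    apply hφ
    apply Units.ext
    exact h3
  have h3 : (((f n : ℂˣ) : ℂ) - 1) * ψ n = 0 := by
    rw [sub_mul, h1, one_mul, sub_self]
  rcases mul_eq_zero.mp h3 with h4 | h4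
  · exact absurd (sub_eq_zero.mp h4) h2
  · exact h4


/-- an irreducible character vanishing off a normal subgroup `B`: Clifford data `e, t, d` with
`e² t = |A : B|` and `χ(1) = e t d`. -/
theorem exists_clifford_data_of_vanish {A : Type u} [Group A] [Finite A] (B : Subgroup A)
    [hB : B.Normal] {χ : A → ℂ} (hχ : IsIrrCharacter A χ) (hvan : ∀ a : A, a ∉ B → χ a = 0) :
    ∃ e t d : ℕ, e * e * t = B.index ∧ χ 1 = ((e * t * d : ℕ) : ℂ) := by
  classical
  letI : Fintype A := Fintype.ofFinite A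
  letI : Fintype B := Fintype.ofFinite B
  have hχc : IsCharacter A χ := IsIrrCharacter.isCharacter hχ
  have hres : IsCharacter B (resFun B χ) := isCharacter_resFun B hχc
  have hχ1 : χ 1 ≠ 0 := by
    obtain ⟨n, hn, h1⟩ := IsIrrCharacter.apply_one_pos hχ
    rw [h1]
    exact_mod_cast hn.ne'
  have hne : resFun B χ ≠ 0 := by
    intro h
    have := congrFun h 1
    rw [resFun_apply] at this
    exact hχ1 this
  obtain ⟨θ, hθ, hc⟩ := IsCharacter.exists_constituent hres hne
  obtain ⟨e, he⟩ := IsCharacter.classInner_nat hres (IsIrrCharacter.isCharacter hθ)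
  obtain ⟨d, hd⟩ := IsCharacter.apply_one (IsIrrCharacter.isCharacter hθ)
  have hcl := clifford B hχ hθ hc
  have hdeg := clifford_degree B hχ hθ hc
  set t := (conjOrbit B θ).card with ht
  refine ⟨e, t, d, ?_, ?_⟩
  · -- inner product of the restriction
    have h1 : classInner (resFun B χ) (resFun B χ) = ((e * e * t : ℕ) : ℂ) := by
      conv_lhs => rw [hcl]
      rw [classInner_smul_left, classInner_smul_right, classInner_sum_left]
      have h2 : ∀ ψ ∈ conjOrbit B θ, classInner ψ (∑ ψ' ∈ conjOrbit B θ, ψ') = 1 := by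
        intro ψ hψ
        rw [classInner_sum_right]
        have hψirr : IsIrrCharacter B ψ := by
          obtain ⟨g, rfl⟩ := (mem_conjOrbit B).mp hψ
          exact isIrrCharacter_conjFun B hθ g
        have h3 : ∀ ψ' ∈ conjOrbit B θ, classInner ψ ψ' = if ψ = ψ' then 1 else 0 := by
          intro ψ' hψ'
          obtain ⟨g, rfl⟩ := (mem_conjOrbit B).mp hψ'
          exact classInner_irr hψirr (isIrrCharacter_conjFun B hθ g)
        rw [Finset.sum_congr rfl h3, Finset.sum_ite_eq, if_pos hψ]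
      rw [Finset.sum_congr rfl h2, Finset.sum_const, he]
      simp only [Complex.conj_natCast, nsmul_eq_mul, mul_one]
      push_cast
      ring
    have h4 : classInner (resFun B χ) (resFun B χ) = (B.index : ℂ) := by
      have hself : classInner χ χ = 1 := by rw [classInner_irr hχ hχ, if_pos rfl]
      have hext : extendByZero B (resFun B χ) = χ := by
        funext a
        by_cases ha : a ∈ B
        · rw [extendByZero_mem B _ ha, resFun_apply]
        · rw [extendByZero_not_mem B _ ha, hvan a ha]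
      have hsum := sum_extendByZero_mul B (resFun B χ) (fun a => conj (χ a))
      rw [hext] at hsum
      unfold classInner at hself ⊢
      have hA0 : (Nat.card A : ℂ) ≠ 0 := by exact_mod_cast (Nat.card_pos (α := A)).ne'
      have hB0 : (Nat.card B : ℂ) ≠ 0 := by exact_mod_cast (Nat.card_pos (α := B)).ne'
      have h5 : ∑ a : A, χ a * conj (χ a) = (Nat.card A : ℂ) := by
        field_simp at hself
        exact hself
      have h6 : ∑ b : B, resFun B χ b * conj (resFun B χ b) = (Nat.card A : ℂ) := by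
        rw [← h5, hsum]
        rfl
      rw [h6]
      have h7 := Subgroup.card_mul_index B
      rw [← h7, Nat.cast_mul, ← mul_assoc, inv_mul_cancel₀ hB0, one_mul]
    rw [h1] at h4
    exact_mod_cast h4
  · rw [hdeg, he, hd]
    push_cast
    ring

/-- **Isaacs, Theorem 12.4.** -/
theorem isaacs_12_4 (K N : Subgroup G) [hK : K.Normal] [hN : N.Normal] (p : ℕ) [Fact p.Prime]
    (hA : ∀ a ∈ N, ∀ b ∈ N, a * b * a⁻¹ * b⁻¹ ∈ K)
    (hF : ∀ g, g ∉ N → ∀ n ∈ N, g * n * g⁻¹ * n⁻¹ ∈ K → n ∈ K)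
    (hP : ∃ a, K.relIndex N = p ^ a) (hcop : (N.index).Coprime p)
    (ψ : IrrCharacter N) :
    (∃ χ : IrrCharacter G, (χ : G → ℂ) 1 = (N.index : ℂ) * ψ.1 1) ∨
    ((∀ n : N, (n : G) ∉ K → ψ.1 n = 0) ∧
      ∃ e t d : ℕ, e * e * t = K.relIndex N ∧ ψ.1 1 = ((e * t * d : ℕ) : ℂ)) := by
  classical
  letI : Fintype G := Fintype.ofFinite G
  letI : Fintype N := Fintype.ofFinite N
  by_cases hH : ∀ f ∈ Lam K N, ∃ g, g ∉ N ∧
      conjFun N g (fun n => ((f n : ℂˣ) : ℂ) * ψ.1 n) = fun n => ((f n : ℂˣ) : ℂ) * ψ.1 n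
  · right
    have h1 := twist_eq_of_inertia K N p hF hP hcop ψ hH
    have h2 := vanish_off_of_twist_eq K N hA ψ.1 h1
    refine ⟨h2, ?_⟩
    haveI : (K.subgroupOf N).Normal := Subgroup.Normal.subgroupOf hK N
    exact exists_clifford_data_of_vanish (K.subgroupOf N) ψ.2
      (fun a ha => h2 a (fun h => ha (Subgroup.mem_subgroupOf.mpr h)))
  · left
    push Not at hH
    obtain ⟨f, hf, hfix⟩ := hH
    set θ : N → ℂ := fun n => ((f n : ℂˣ) : ℂ) * ψ.1 n with hθ
    have hθirr : IsIrrCharacter N θ :=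
      isIrrCharacter_linear_mul (isCharacter_of_hom f) (by simp) ψ.2
    have hT : ∀ g : G, g ∈ N ↔ conjFun N g θ = θ := by
      intro g
      constructor
      · intro hg
        exact conjFun_of_mem N (IsCharacter.isClassFunction (IsIrrCharacter.isCharacter hθirr)) hg
      · intro hg
        by_contra hgN
        exact hfix g hgN hg
    have hres : resLE (le_refl N) θ = θ := rfl
    have hf0 : classInner (resLE (le_refl N) θ) θ ≠ 0 := by
      rw [hres, classInner_irr hθirr hθirr, if_pos rfl]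
      exact one_ne_zero
    obtain ⟨hirr, -⟩ := isIrrCharacter_indFun_inertia (le_refl N) hθirr hT hθirr hf0
    refine ⟨⟨indFun N θ, hirr⟩, ?_⟩
    show indFun N θ 1 = _
    rw [indFun_apply_one]
    have hidx : (Nat.card N : ℂ)⁻¹ * (Nat.card G : ℂ) = (N.index : ℂ) := by
      have h1 := Subgroup.card_mul_index N
      have hH0 : (Nat.card N : ℂ) ≠ 0 := by exact_mod_cast (Nat.card_pos (α := N)).ne'
      rw [← h1, Nat.cast_mul, ← mul_assoc, inv_mul_cancel₀ hH0, one_mul]
    rw [hidx, hθ]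
    simp

end vanish

end Cfsg.Agent.Lib.Helper21.Isaacs
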