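import Mathlib

set_option autoImplicit false

namespace Cfsg.Agent.Lib.Helper21.Isaacs

open MulAction

section
variable (P : Type*) {V : Type*} [Group P] [CommGroup V] [MulDistribMulAction P V]

/-- pointwise centralizer in `P` of a subgroup `W` of `V` -/
def cent (W : Subgroup V) : Subgroup P where
  carrier := {g | ∀ w ∈ W, g • w = w}
  one_mem' := fun w _ => one_smul P w
  mul_mem' := fun {a b} ha hb w hw => by rw [mul_smul, hb w hw, ha w hw]
  inv_mem' := fun {a} ha w hw => by
    have h := ha w hw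
    calc a⁻¹ • w = a⁻¹ • (a • w) := by rw [h]
      _ = w := inv_smul_smul a w

variable {P}

theorem mem_cent {W : Subgroup V} {g : P} : g ∈ cent P W ↔ ∀ w ∈ W, g • w = w := Iff.rfl

theorem cent_normal {W : Subgroup V} (hW : ∀ g : P, ∀ w ∈ W, g • w ∈ W) : (cent P W).Normal := by
  constructor
  intro c hc g w hw
  have h1 : g⁻¹ • w ∈ W := hW g⁻¹ w hw
  rw [mul_smul, mul_smul, hc _ h1, smul_inv_smul]

theorem cent_anti {W₁ W₂ : Subgroup V} (h : W₁ ≤ W₂) : cent P W₂ ≤ cent P W₁ :=
  fun _ hg w hw => hg w (h hw)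

end

theorem eq_of_le_of_index_eq {P : Type*} [Group P] [Finite P] {H K : Subgroup P} (h : H ≤ K)
    (hi : H.index = K.index) : H = K := by
  apply Subgroup.eq_of_le_of_card_ge h
  have h1 := Subgroup.card_mul_index H
  have h2 := Subgroup.card_mul_index K
  rw [hi] at h1
  have hpos : 0 < K.index := Nat.pos_of_ne_zero (Subgroup.index_ne_zero_of_finite)
  have : Nat.card H * K.index = Nat.card K * K.index := by rw [h1, h2]
  exact le_of_eq (Nat.eq_of_mul_eq_mul_right hpos this).symm

section norm
variable {P V : Type*} [Group P] [CommGroup V] [MulDistribMulAction P V]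

/-- the norm map of `z` (product over the first `n` powers) -/
def nu (z : P) (n : ℕ) (w : V) : V := ∏ i ∈ Finset.range n, (z ^ i) • w

theorem nu_mul (z : P) (n : ℕ) (w w' : V) : nu z n (w * w') = nu z n w * nu z n w' := by
  unfold nu
  rw [← Finset.prod_mul_distrib]
  exact Finset.prod_congr rfl (fun i _ => smul_mul' _ _ _)

theorem nu_one (z : P) (n : ℕ) : nu z n (1 : V) = 1 := by
  unfold nu
  exact Finset.prod_eq_one (fun i _ => smul_one _)

/-- `nu` as a monoid homomorphism -/
def nuHom (z : P) (n : ℕ) : V →* V where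
  toFun := nu z n
  map_one' := nu_one z n
  map_mul' := nu_mul z n

theorem nuHom_apply (z : P) (n : ℕ) (w : V) : nuHom z n w = nu z n w := rfl

theorem smul_nu (z : P) (n : ℕ) (w : V) (h : (z ^ n) • w = w) : z • nu z n w = nu z n w := by
  unfold nu
  rw [Finset.smul_prod']
  have h1 : ∏ i ∈ Finset.range n, z • (z ^ i) • w = ∏ i ∈ Finset.range n, (z ^ (i + 1)) • w := by
    apply Finset.prod_congr rfl
    intro i _
    rw [← mul_smul, ← pow_succ']
  rw [h1]
  have h2 := Finset.prod_range_succ (fun i => (z ^ i) • w) n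
  have h3 := Finset.prod_range_succ' (fun i => (z ^ i) • w) n
  rw [h2] at h3
  simp only [pow_zero, one_smul] at h3
  rw [h] at h3
  exact (mul_right_cancel h3).symm

theorem pow_smul_of_fixed (z : P) (w : V) (h : z • w = w) (i : ℕ) : (z ^ i) • w = w := by
  induction i with
  | zero => rw [pow_zero, one_smul]
  | succ i ih => rw [pow_succ, mul_smul, h, ih]

theorem nu_of_fixed (z : P) (n : ℕ) (w : V) (h : z • w = w) : nu z n w = w ^ n := by
  unfold nu
  rw [Finset.prod_congr rfl (fun i _ => pow_smul_of_fixed z w h i), Finset.prod_const,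
    Finset.card_range]

end norm

section main
variable {P V : Type*} [Group P] [Finite P] [CommGroup V] [Finite V] [MulDistribMulAction P V]

theorem halfTransitive_aux (p e : ℕ) [hp : Fact p.Prime] (hP : IsPGroup p P)
    (hV : (Nat.card V).Coprime p)
    (horb : ∀ v : V, (∀ g : P, g • v = v) ∨
      ((∀ a ∈ stabilizer P v, ∀ b ∈ stabilizer P v, a * b = b * a) ∧
        (stabilizer P v).index = p ^ e))
    (hchr : ∀ C A : Subgroup P, C.Normal → C ≤ A →
      (∀ a ∈ A, ∀ b ∈ A, a * b * a⁻¹ * b⁻¹ ∈ C) → A.index < p ^ e →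
      ∀ a b : P, a * b * a⁻¹ * b⁻¹ ∈ C) :
    ∀ (n : ℕ) (W : Subgroup V), Nat.card W = n → (∀ g : P, ∀ w ∈ W, g • w ∈ W) →
      (cent P W).index = 1 ∨ (cent P W).index = p ^ e := by
  intro n
  induction n using Nat.strong_induction_on with
  | _ n ih =>
  intro W hn hW
  by_cases hCtop : cent P W = ⊤
  · left; rw [hCtop, Subgroup.index_top]
  set C := cent P W with hCdef
  haveI hCn : C.Normal := cent_normal hW
  set Zt : Subgroup P := Subgroup.comap (QuotientGroup.mk' C) (Subgroup.center (P ⧸ C)) with hZt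
  -- operators commute on W
  have hcomm : ∀ z ∈ Zt, ∀ g : P, ∀ w ∈ W, z • g • w = g • z • w := by
    intro z hz g w hw
    rw [hZt, Subgroup.mem_comap, Subgroup.mem_center_iff] at hz
    have h1 := hz (QuotientGroup.mk' C g)
    rw [← map_mul, ← map_mul] at h1
    have h2 : (g * z)⁻¹ * (z * g) ∈ C := by
      have := QuotientGroup.eq.mp h1
      exact this
    have h3 : z * g = g * z * ((g * z)⁻¹ * (z * g)) := by group
    rw [← mul_smul, h3, mul_smul, mul_smul, h2 w hw]
  have hCZ : C ≤ Zt := by
    intro c hc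
    rw [hZt, Subgroup.mem_comap]
    have : QuotientGroup.mk' C c = 1 := (QuotientGroup.eq_one_iff c).mpr hc
    rw [this]
    exact Subgroup.one_mem _
  -- an element of Zt outside C
  obtain ⟨z₀, hz₀Z, hz₀C⟩ : ∃ z₀ ∈ Zt, z₀ ∉ C := by
    haveI : Nontrivial (P ⧸ C) := by
      rw [← not_subsingleton_iff_nontrivial]
      intro hsub
      apply hCtop
      exact QuotientGroup.subgroup_eq_top_of_subsingleton C hsub
    have hPq : IsPGroup p (P ⧸ C) := hP.to_quotient C
    have hnt := hPq.center_nontrivial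
    obtain ⟨q, hq⟩ := exists_ne (1 : Subgroup.center (P ⧸ C))
    obtain ⟨z, hz⟩ := QuotientGroup.mk'_surjective C (q : P ⧸ C)
    refine ⟨z, ?_, ?_⟩
    · rw [hZt, Subgroup.mem_comap, hz]; exact q.2
    · intro hzC
      apply hq
      apply Subtype.ext
      rw [← hz]
      exact (QuotientGroup.eq_one_iff z).mpr hzC
  by_cases hA : ∃ z ∈ Zt, z ∉ C ∧ ∃ w ∈ W, w ≠ 1 ∧ z • w = w
  · -- Case A
    obtain ⟨z, hzZ, hzC, w₀, hw₀W, hw₀1, hzw₀⟩ := hA
    set m := orderOf z with hm
    have hzm : ∀ w : V, (z ^ m) • w = w := by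
      intro w; rw [hm, pow_orderOf_eq_one, one_smul]
    obtain ⟨k, hk⟩ := (IsPGroup.iff_orderOf.mp hP) z
    have hmcop : (Nat.card V).Coprime m := by
      rw [hm, hk]; exact Nat.Coprime.pow_right k hV
    set W₁ : Subgroup V := W ⊓ (MonoidHom.eqLocus (MulDistribMulAction.toMonoidHom V z)
      (MonoidHom.id V)) with hW₁
    set W₂ : Subgroup V := W ⊓ (nuHom z m).ker with hW₂
    have hmem₁ : ∀ w : V, w ∈ W₁ ↔ w ∈ W ∧ z • w = w := by
      intro w
      rw [hW₁, Subgroup.mem_inf]
      exact Iff.rfl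
    have hmem₂ : ∀ w : V, w ∈ W₂ ↔ w ∈ W ∧ nu z m w = 1 := by
      intro w
      rw [hW₂, Subgroup.mem_inf, MonoidHom.mem_ker]
      exact Iff.rfl
    have hnuW : ∀ w ∈ W, nu z m w ∈ W := by
      intro w hw
      unfold nu
      exact Subgroup.prod_mem _ (fun i _ => hW _ w hw)
    have hdisj : ∀ w : V, w ∈ W₁ → w ∈ W₂ → w = 1 := by
      intro w h1 h2
      rw [hmem₁] at h1
      rw [hmem₂] at h2
      have h3 : w ^ m = 1 := by rw [← nu_of_fixed z m w h1.2]; exact h2.2
      have h4 : orderOf w ∣ m := orderOf_dvd_of_pow_eq_one h3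
      have h5 : orderOf w ∣ Nat.card V := orderOf_dvd_natCard w
      have h6 : orderOf w = 1 := Nat.eq_one_of_dvd_coprimes hmcop h5 h4
      exact orderOf_eq_one_iff.mp h6
    have hdecomp : ∀ w ∈ W, ∃ w₁ ∈ W₁, ∃ w₂ ∈ W₂, w = w₁ * w₂ := by
      intro w hw
      have hcopW : (Nat.card W).Coprime m :=
        Nat.Coprime.coprime_dvd_left (Subgroup.card_subgroup_dvd_card W) hmcop
      obtain ⟨u, hu⟩ := (powCoprime hcopW).surjective ⟨w, hw⟩
      have hu' : (u : V) ^ m = w := by
        have := congrArg Subtype.val hu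
        simpa using this
      have hfix : z • nu z m (u : V) = nu z m (u : V) := smul_nu z m _ (hzm _)
      refine ⟨nu z m (u : V), (hmem₁ _).mpr ⟨hnuW _ u.2, hfix⟩,
        (u : V) ^ m * (nu z m (u : V))⁻¹, (hmem₂ _).mpr ⟨?_, ?_⟩, ?_⟩
      · exact Subgroup.mul_mem _ (Subgroup.pow_mem _ u.2 _) (Subgroup.inv_mem _ (hnuW _ u.2))
      · rw [← nuHom_apply, map_mul, map_pow, map_inv, nuHom_apply, nuHom_apply,
          nu_of_fixed z m _ hfix, mul_inv_cancel]
      · rw [← hu', mul_comm, inv_mul_cancel_right]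
    -- invariance
    have hzpow : ∀ i : ℕ, ∀ g : P, ∀ w ∈ W, (z ^ i) • g • w = g • (z ^ i) • w := by
      intro i
      induction i with
      | zero => intro g w _; rw [pow_zero, one_smul, one_smul]
      | succ i ih =>
        intro g w hw
        rw [pow_succ, mul_smul, mul_smul, hcomm z hzZ g w hw, ih g (z • w) (hW z w hw)]
    have hW₁inv : ∀ g : P, ∀ w ∈ W₁, g • w ∈ W₁ := by
      intro g w hw
      rw [hmem₁] at hw ⊢
      exact ⟨hW g w hw.1, by rw [hcomm z hzZ g w hw.1, hw.2]⟩
    have hW₂inv : ∀ g : P, ∀ w ∈ W₂, g • w ∈ W₂ := by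
      intro g w hw
      rw [hmem₂] at hw ⊢
      refine ⟨hW g w hw.1, ?_⟩
      have : nu z m (g • w) = g • nu z m w := by
        unfold nu
        rw [Finset.smul_prod']
        exact Finset.prod_congr rfl (fun i _ => hzpow i g w hw.1)
      rw [this, hw.2, smul_one]
    have hW₁le : W₁ ≤ W := inf_le_left
    have hW₂le : W₂ ≤ W := inf_le_left
    have hW₁ne : W₁ ≠ ⊥ := by
      intro h
      have : w₀ ∈ W₁ := (hmem₁ _).mpr ⟨hw₀W, hzw₀⟩
      rw [h, Subgroup.mem_bot] at this
      exact hw₀1 this
    have hW₂ne : W₂ ≠ ⊥ := by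
      intro h
      apply hzC
      intro w hw
      obtain ⟨w₁, hw₁, w₂, hw₂, rfl⟩ := hdecomp w hw
      rw [h, Subgroup.mem_bot] at hw₂
      rw [hw₂, mul_one]
      exact ((hmem₁ _).mp hw₁).2
    have hcard₁ : Nat.card W₁ < Nat.card W := by
      by_contra hcon
      push Not at hcon
      have heq := Subgroup.eq_of_le_of_card_ge hW₁le hcon
      apply hW₂ne
      rw [eq_bot_iff]
      intro w hw
      rw [Subgroup.mem_bot]
      exact hdisj w (heq ▸ hW₂le hw) hw
    have hcard₂ : Nat.card W₂ < Nat.card W := by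
      by_contra hcon
      push Not at hcon
      have heq := Subgroup.eq_of_le_of_card_ge hW₂le hcon
      apply hW₁ne
      rw [eq_bot_iff]
      intro w hw
      rw [Subgroup.mem_bot]
      exact hdisj w hw (heq ▸ hW₁le hw)
    have ih₁ := ih (Nat.card W₁) (hn ▸ hcard₁) W₁ rfl hW₁inv
    have ih₂ := ih (Nat.card W₂) (hn ▸ hcard₂) W₂ rfl hW₂inv
    set D₁ := cent P W₁ with hD₁
    set D₂ := cent P W₂ with hD₂
    have hCeq : C = D₁ ⊓ D₂ := by
      apply le_antisymm
      · exact le_inf (cent_anti hW₁le) (cent_anti hW₂le)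
      · intro g hg w hw
        obtain ⟨w₁, hw₁, w₂, hw₂, rfl⟩ := hdecomp w hw
        rw [smul_mul', hg.1 w₁ hw₁, hg.2 w₂ hw₂]
    have hzD₂ : z ∉ D₂ := by
      intro hz
      apply hW₂ne
      rw [eq_bot_iff]
      intro w hw
      rw [Subgroup.mem_bot]
      exact hdisj w ((hmem₁ _).mpr ⟨hW₂le hw, hz w hw⟩) hw
    have hD₂top : D₂ ≠ ⊤ := fun h => hzD₂ (h ▸ Subgroup.mem_top z)
    have hD₂idx : D₂.index = p ^ e := by
      rcases ih₂ with h | h
      · exact absurd (Subgroup.index_eq_one.mp h) hD₂top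
      · exact h
    by_cases hD₁top : D₁ = ⊤
    · right
      rw [hCeq, hD₁top, top_inf_eq]
      exact hD₂idx
    have hD₁idx : D₁.index = p ^ e := by
      rcases ih₁ with h | h
      · exact absurd (Subgroup.index_eq_one.mp h) hD₁top
      · exact h
    -- non-fixed points
    have hnf : ∀ (U : Subgroup V), cent P U ≠ ⊤ → (cent P U).index = p ^ e →
        ∃ v ∈ U, stabilizer P v = cent P U := by
      intro U hU hUidx
      have : ∃ g : P, g ∉ cent P U := by
        by_contra hcon
        push Not at hcon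
        exact hU (eq_top_iff.mpr (fun g _ => hcon g))
      obtain ⟨g, hg⟩ := this
      rw [mem_cent] at hg
      push Not at hg
      obtain ⟨v, hvU, hgv⟩ := hg
      refine ⟨v, hvU, ?_⟩
      rcases horb v with h | h
      · exact absurd (h g) hgv
      · symm
        apply eq_of_le_of_index_eq
        · intro c hc
          exact hc v hvU
        · rw [hUidx, h.2]
    obtain ⟨v₁, hv₁, hs₁⟩ := hnf W₁ hD₁top hD₁idx
    obtain ⟨v₂, hv₂, hs₂⟩ := hnf W₂ hD₂top hD₂idx
    have hstab : stabilizer P (v₁ * v₂) = C := by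
      apply le_antisymm
      · intro g hg
        rw [mem_stabilizer_iff, smul_mul'] at hg
        have h1 : v₁⁻¹ * g • v₁ = v₂ * (g • v₂)⁻¹ := by
          rw [inv_mul_eq_iff_eq_mul, ← mul_assoc, eq_mul_inv_iff_mul_eq]
          exact hg
        have h2 : v₁⁻¹ * g • v₁ ∈ W₁ := Subgroup.mul_mem _ (Subgroup.inv_mem _ hv₁) (hW₁inv g v₁ hv₁)
        have h3 : v₁⁻¹ * g • v₁ ∈ W₂ := by
          rw [h1]
          exact Subgroup.mul_mem _ hv₂ (Subgroup.inv_mem _ (hW₂inv g v₂ hv₂))
        have h4 := hdisj _ h2 h3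
        have h5 : g • v₁ = v₁ := by
          rw [inv_mul_eq_one] at h4; exact h4.symm
        have h6 : g • v₂ = v₂ := by
          rw [h4] at h1
          have := h1.symm
          rw [mul_inv_eq_one] at this
          exact this.symm
        rw [hCeq]
        refine ⟨?_, ?_⟩
        · rw [hD₁, ← hs₁]; exact h5
        · rw [hD₂, ← hs₂]; exact h6
      · intro c hc
        exact hc _ (Subgroup.mul_mem _ (hW₁le hv₁) (hW₂le hv₂))
    right
    rcases horb (v₁ * v₂) with h | h
    · exfalso
      apply hCtop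
      rw [← hstab, eq_top_iff]
      intro g _
      exact h g
    · rw [← hstab]; exact h.2
  · -- Case B
    push Not at hA
    have hWne : ∃ v ∈ W, v ≠ 1 := by
      by_contra hcon
      push Not at hcon
      apply hCtop
      rw [eq_top_iff]
      intro g _ w hw
      rw [hcon w hw, smul_one]
    obtain ⟨v, hvW, hv1⟩ := hWne
    have hz₀v : z₀ • v ≠ v := hA z₀ hz₀Z hz₀C v hvW hv1
    rcases horb v with h | ⟨hab, hidx⟩
    · exact absurd (h z₀) hz₀v
    set Sv := stabilizer P v with hSv
    have hCSv : C ≤ Sv := fun c hc => hc v hvW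
    have hSZ : Sv ⊓ Zt ≤ C := by
      intro g hg
      by_contra hgC
      exact hA g hg.2 hgC v hvW hv1 hg.1
    set A := Sv ⊔ Zt with hAdef
    have hCA : C ≤ A := hCSv.trans le_sup_left
    set π := QuotientGroup.mk' C with hπ
    have hcen : ∀ z ∈ Zt, ∀ g : P, π g * π z = π z * π g := by
      intro z hz g
      rw [hZt, Subgroup.mem_comap, Subgroup.mem_center_iff] at hz
      exact hz (π g)
    have step1 : ∀ b ∈ Sv, ∀ a ∈ A, π a * π b = π b * π a := by
      intro b hb a ha
      have hle : A ≤ Subgroup.comap π (Subgroup.centralizer {π b}) := by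
        rw [hAdef]
        apply sup_le
        · intro x hx
          rw [Subgroup.mem_comap, Subgroup.mem_centralizer_singleton_iff]
          rw [← map_mul, ← map_mul, hab x hx b hb]
        · intro x hx
          rw [Subgroup.mem_comap, Subgroup.mem_centralizer_singleton_iff]
          exact (hcen x hx b).symm
      have := hle ha
      rw [Subgroup.mem_comap, Subgroup.mem_centralizer_singleton_iff] at this
      exact this
    have step2 : ∀ a ∈ A, ∀ b ∈ A, π a * π b = π b * π a := by
      intro a ha b hb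
      have hle : A ≤ Subgroup.comap π (Subgroup.centralizer {π a}) := by
        rw [hAdef]
        apply sup_le
        · intro x hx
          rw [Subgroup.mem_comap, Subgroup.mem_centralizer_singleton_iff]
          exact (step1 x hx a ha).symm
        · intro x hx
          rw [Subgroup.mem_comap, Subgroup.mem_centralizer_singleton_iff]
          exact (hcen x hx a).symm
      have := hle hb
      rw [Subgroup.mem_comap, Subgroup.mem_centralizer_singleton_iff] at this
      exact this.symm
    have hAcomm : ∀ a ∈ A, ∀ b ∈ A, a * b * a⁻¹ * b⁻¹ ∈ C := by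
      intro a ha b hb
      rw [← QuotientGroup.eq_one_iff, ← QuotientGroup.mk'_apply, ← hπ]
      rw [map_mul, map_mul, map_mul, map_inv, map_inv, step2 a ha b hb]
      group
    have hAidx : A.index < p ^ e := by
      rw [← hidx]
      have hle : Sv ≤ A := le_sup_left
      have hdvd : A.index ∣ Sv.index := Subgroup.index_dvd_of_le hle
      have hne : Sv.index ≠ A.index := by
        intro heq
        have := eq_of_le_of_index_eq hle heq
        apply hz₀C
        apply hSZ
        refine ⟨?_, hz₀Z⟩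
        rw [this]
        exact (le_sup_right : Zt ≤ A) hz₀Z
      have hpos : 0 < Sv.index := Nat.pos_of_ne_zero Subgroup.index_ne_zero_of_finite
      exact lt_of_le_of_ne (Nat.le_of_dvd hpos hdvd) (Ne.symm hne)
    have hall := hchr C A hCn hCA hAcomm hAidx
    have hZtop : Zt = ⊤ := by
      rw [eq_top_iff]
      intro z _
      rw [hZt, Subgroup.mem_comap, Subgroup.mem_center_iff]
      intro q
      obtain ⟨g, rfl⟩ := QuotientGroup.mk'_surjective C q
      have h1 := hall g z
      rw [← QuotientGroup.eq_one_iff, ← QuotientGroup.mk'_apply] at h1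
      rw [map_mul, map_mul, map_mul, map_inv, map_inv] at h1
      have h2 : QuotientGroup.mk' C g * QuotientGroup.mk' C z =
          (QuotientGroup.mk' C g * QuotientGroup.mk' C z * (QuotientGroup.mk' C g)⁻¹ *
            (QuotientGroup.mk' C z)⁻¹) * (QuotientGroup.mk' C z * QuotientGroup.mk' C g) := by
        group
      rw [h2, h1, one_mul]
    right
    have : Sv = C := by
      apply le_antisymm _ hCSv
      intro g hg
      apply hSZ
      exact ⟨hg, hZtop ▸ Subgroup.mem_top g⟩
    rw [← this]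
    exact hidx

/-- **Half-transitivity lemma.** A finite `p`-group `P` acts on a finite abelian `p'`-group `V` such
that every point is either fixed or has an abelian stabilizer of index `p ^ e`; if moreover no
nonabelian quotient `P / C` has an abelian subgroup of index `< p ^ e`, then the kernel of the action
has index `1` or `p ^ e`. -/
theorem halfTransitive (p e : ℕ) [hp : Fact p.Prime] (hP : IsPGroup p P)
    (hV : (Nat.card V).Coprime p)
    (horb : ∀ v : V, (∀ g : P, g • v = v) ∨
      ((∀ a ∈ stabilizer P v, ∀ b ∈ stabilizer P v, a * b = b * a) ∧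
        (stabilizer P v).index = p ^ e))
    (hchr : ∀ C A : Subgroup P, C.Normal → C ≤ A →
      (∀ a ∈ A, ∀ b ∈ A, a * b * a⁻¹ * b⁻¹ ∈ C) → A.index < p ^ e →
      ∀ a b : P, a * b * a⁻¹ * b⁻¹ ∈ C) :
    (cent P (⊤ : Subgroup V)).index = 1 ∨ (cent P (⊤ : Subgroup V)).index = p ^ e :=
  halfTransitive_aux p e hP hV horb hchr _ ⊤ rfl (fun _ _ _ => Subgroup.mem_top _)

end main

end Cfsg.Agent.Lib.Helper21.Isaacs
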