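import Mathlib
import Cfsg.Prelude.Def_Blocks
import Cfsg.Agent.Lib.Helper6.AbelianQuot
import Cfsg.Agent.Lib.Helper6.LinChar
import Cfsg.Agent.Lib.Helper6.CliffordCorr
import Cfsg.Agent.Lib.Helper24.IrrFacts
import Cfsg.Agent.Lib.Helper25.Inflate
import Cfsg.Agent.Lib.Helper21.IsaacsHalfTrans
import Cfsg.Agent.Lib.Helper21.IsaacsCharA
import Cfsg.Agent.Lib.Helper21.IsaacsCharB

set_option autoImplicit false

namespace Cfsg.Agent.Lib.Helper21.Isaacs

open Cfsg Cfsg.Agent.CharLib Cfsg.Agent.Lib.Helper6 Cfsg.Agent.Lib.Helper24 Cfsg.Agent.Lib.Helper25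
open scoped ComplexConjugate

universe u

variable {G : Type u} [Group G] [Finite G]

section complement
variable (N₀ P T : Subgroup G) [hN₀ : N₀.Normal]

omit [Finite G] in
theorem eq_of_mul_eq_mul_of_disjoint (hNP : N₀ ⊓ P = ⊥) {n n' x x' : G} (hn : n ∈ N₀)
    (hn' : n' ∈ N₀) (hx : x ∈ P) (hx' : x' ∈ P) (h : n * x = n' * x') : n = n' ∧ x = x' := by
  have h1 : n'⁻¹ * n = x' * x⁻¹ := by
    rw [inv_mul_eq_iff_eq_mul, ← mul_assoc, eq_mul_inv_iff_mul_eq]
    exact h
  have h2 : n'⁻¹ * n ∈ N₀ ⊓ P :=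
    ⟨N₀.mul_mem (N₀.inv_mem hn') hn, h1 ▸ P.mul_mem hx' (P.inv_mem hx)⟩
  rw [hNP, Subgroup.mem_bot] at h2
  have h3 : n = n' := (inv_mul_eq_one.mp h2).symm
  refine ⟨h3, ?_⟩
  rw [h3] at h
  exact mul_left_cancel h

omit [Finite G] in
theorem sup_inf_eq_of_complement (hsup : N₀ ⊔ P = ⊤) (hNT : N₀ ≤ T) : N₀ ⊔ (T ⊓ P) = T := by
  apply le_antisymm (sup_le hNT inf_le_left)
  intro t ht
  have ht' : t ∈ N₀ ⊔ P := hsup ▸ Subgroup.mem_top t
  obtain ⟨n, hn, x, hx, rfl⟩ := Subgroup.mem_sup_of_normal_left.mp ht'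
  have hxT : x ∈ T := by
    have : x = n⁻¹ * (n * x) := by group
    rw [this]
    exact T.mul_mem (T.inv_mem (hNT hn)) ht
  exact Subgroup.mul_mem_sup hn ⟨hxT, hx⟩

theorem relIndex_eq_index_of_complement (hNP : N₀ ⊓ P = ⊥) (hsup : N₀ ⊔ P = ⊤) (hNT : N₀ ≤ T) :
    T.relIndex P = T.index := by
  have key : ∀ H : Subgroup G, N₀ ⊓ H = ⊥ → N₀.relIndex (N₀ ⊔ H) = Nat.card H := by
    intro H hH
    rw [Subgroup.relIndex_sup_left, ← Subgroup.inf_relIndex_right, hH, Subgroup.relIndex_bot_left]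
  have h1 : N₀.index = Nat.card P := by
    rw [← key P hNP, hsup, Subgroup.relIndex_top_right]
  have h2 : N₀ ⊔ (T ⊓ P) = T := by
    apply le_antisymm (sup_le hNT inf_le_left)
    intro t ht
    have ht' : t ∈ N₀ ⊔ P := hsup ▸ Subgroup.mem_top t
    obtain ⟨n, hn, x, hx, rfl⟩ := Subgroup.mem_sup_of_normal_left.mp ht'
    have hxT : x ∈ T := by
      have : x = n⁻¹ * (n * x) := by group
      rw [this]
      exact T.mul_mem (T.inv_mem (hNT hn)) ht
    exact Subgroup.mul_mem_sup hn ⟨hxT, hx⟩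
  have h3 : N₀.relIndex T = Nat.card (T ⊓ P : Subgroup G) := by
    have := key (T ⊓ P) (by
      rw [eq_bot_iff, ← hNP]
      exact inf_le_inf_left _ inf_le_right)
    rw [h2] at this
    exact this
  have h4 : Nat.card (T ⊓ P : Subgroup G) * T.index = Nat.card P := by
    rw [← h3, ← h1]
    exact Subgroup.relIndex_mul_index hNT
  have h5 : Nat.card (T ⊓ P : Subgroup G) * T.relIndex P = Nat.card P := by
    rw [← Subgroup.inf_relIndex_right, ← Subgroup.relIndex_bot_left, ← Subgroup.relIndex_bot_left]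
    exact Subgroup.relIndex_mul_relIndex ⊥ (T ⊓ P) P bot_le inf_le_right
  have hpos : 0 < Nat.card (T ⊓ P : Subgroup G) := Nat.card_pos
  exact Nat.eq_of_mul_eq_mul_left hpos (h5.trans h4.symm)

omit [Finite G] in
/-- an invariant linear character of a complemented normal subgroup extends -/
theorem exists_extension_of_complement (hNP : N₀ ⊓ P = ⊥) (hsup : N₀ ⊔ P = ⊤) (hNT : N₀ ≤ T)
    (f : N₀ →* ℂˣ)
    (hinv : ∀ t ∈ T, ∀ n : N₀, f ⟨t * n * t⁻¹, hN₀.conj_mem n n.2 t⟩ = f n) :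
    ∃ μ : T →* ℂˣ, ∀ n : N₀, μ ⟨n, hNT n.2⟩ = f n := by
  classical
  have hdec : ∀ t : G, ∃ n : N₀, ∃ x : P, (n : G) * x = t := by
    intro t
    have ht' : t ∈ N₀ ⊔ P := hsup ▸ Subgroup.mem_top t
    obtain ⟨n, hn, x, hx, rfl⟩ := Subgroup.mem_sup_of_normal_left.mp ht'
    exact ⟨⟨n, hn⟩, ⟨x, hx⟩, rfl⟩
  choose nn xx hnx using hdec
  have hxT : ∀ t : T, ((xx t : P) : G) ∈ T := by
    intro t
    have : ((xx t : P) : G) = ((nn t : N₀) : G)⁻¹ * t := by
      rw [eq_inv_mul_iff_mul_eq]; exact hnx t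
    rw [this]
    exact T.mul_mem (T.inv_mem (hNT (nn t).2)) t.2
  have hmul : ∀ t t' : T, nn ((t * t' : T) : G) =
      nn t * ⟨(xx t : G) * nn t' * (xx t : G)⁻¹, hN₀.conj_mem _ (nn t').2 _⟩ := by
    intro t t'
    have h1 : ((nn ((t * t' : T) : G) : N₀) : G) * (xx ((t * t' : T) : G) : G) =
        ((nn t : G) * ((xx t : G) * nn t' * (xx t : G)⁻¹)) * ((xx t : G) * (xx t' : G)) := by
      rw [hnx]
      have e1 := hnx t
      have e2 := hnx t'
      calc ((t * t' : T) : G) = (t : G) * (t' : G) := rfl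
        _ = ((nn t : G) * (xx t : G)) * ((nn t' : G) * (xx t' : G)) := by rw [e1, e2]
        _ = _ := by group
    have h2 := eq_of_mul_eq_mul_of_disjoint N₀ P hNP (nn ((t * t' : T) : G)).2
      (N₀.mul_mem (nn t).2 (hN₀.conj_mem _ (nn t').2 _)) (xx ((t * t' : T) : G)).2
      (P.mul_mem (xx t).2 (xx t').2) h1
    exact Subtype.ext h2.1
  refine ⟨MonoidHom.mk' (fun t : T => f (nn t)) ?_, ?_⟩
  · intro t t'
    show f (nn ((t * t' : T) : G)) = f (nn t) * f (nn t')
    rw [hmul, map_mul, hinv _ (hxT t)]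
  · intro n
    show f (nn ((⟨n, hNT n.2⟩ : T) : G)) = f n
    have h1 : ((nn ((⟨n, hNT n.2⟩ : T) : G) : N₀) : G) * (xx ((⟨n, hNT n.2⟩ : T) : G) : G) =
        (n : G) * 1 := by
      rw [hnx, mul_one]
    have h2 := eq_of_mul_eq_mul_of_disjoint N₀ P hNP (nn ((⟨n, hNT n.2⟩ : T) : G)).2 n.2
      (xx ((⟨n, hNT n.2⟩ : T) : G)).2 P.one_mem h1
    congr 1
    exact Subtype.ext h2.1

end complement

section inertia
variable (N₀ P : Subgroup G) [hN₀ : N₀.Normal]

theorem index_cast_eq (T : Subgroup G) :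
    (Nat.card T : ℂ)⁻¹ * (Nat.card G : ℂ) = (T.index : ℂ) := by
  have h1 := Subgroup.card_mul_index T
  have hH0 : (Nat.card T : ℂ) ≠ 0 := by exact_mod_cast (Nat.card_pos (α := T)).ne'
  rw [← h1, Nat.cast_mul, ← mul_assoc, inv_mul_cancel₀ hH0, one_mul]

/-- Case I of Theorem 12.5: structure of the inertia group of a non-invariant linear character of
the abelian normal complemented subgroup `N₀`, when `cd(G) ⊆ {1, q}`. -/
theorem inertia_data (hNP : N₀ ⊓ P = ⊥) (hsup : N₀ ⊔ P = ⊤)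
    (q : ℕ) (hq : 1 < q)
    (hcd : ∀ χ : IrrCharacter G, charDegree (χ : G → ℂ) = 1 ∨ charDegree (χ : G → ℂ) = q)
    (f : N₀ →* ℂˣ) (T : Subgroup G)
    (hT : ∀ g : G, g ∈ T ↔ conjFun N₀ g (fun n => ((f n : ℂˣ) : ℂ)) = fun n => ((f n : ℂˣ) : ℂ))
    (hTtop : T ≠ ⊤) :
    T.index = q ∧ ∀ a ∈ T ⊓ P, ∀ b ∈ T ⊓ P, a * b = b * a := by
  classical
  letI : Fintype G := Fintype.ofFinite G
  letI : Fintype N₀ := Fintype.ofFinite N₀
  letI : Fintype T := Fintype.ofFinite T
  set lam : N₀ → ℂ := fun n => ((f n : ℂˣ) : ℂ) with hlam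
  have hlamirr : IsIrrCharacter N₀ lam := isIrrCharacter_of_hom f
  have hNT : N₀ ≤ T := by
    intro n hn
    rw [hT]
    exact conjFun_of_mem N₀ (IsCharacter.isClassFunction (IsIrrCharacter.isCharacter hlamirr)) hn
  have hinv : ∀ t ∈ T, ∀ n : N₀, f ⟨t * n * t⁻¹, hN₀.conj_mem n n.2 t⟩ = f n := by
    intro t ht n
    have h1 := congrFun ((hT t).mp ht) n
    rw [conjFun_apply] at h1
    exact Units.ext h1
  obtain ⟨μ, hμ⟩ := exists_extension_of_complement N₀ P T hNP hsup hNT f hinv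
  set ψ : T → ℂ := fun t => ((μ t : ℂˣ) : ℂ) with hψ
  have hψirr : IsIrrCharacter T ψ := isIrrCharacter_of_hom μ
  have hres : resLE hNT ψ = lam := by
    funext n
    rw [resLE_apply, hψ, hlam]
    simp only
    rw [hμ n]
  have hlamself : classInner lam lam = 1 := by rw [classInner_irr hlamirr hlamirr, if_pos rfl]
  -- degrees of induced characters
  have hdeg : ∀ ψ' : T → ℂ, IsIrrCharacter T ψ' → classInner (resLE hNT ψ') lam ≠ 0 →
      ∀ d : ℕ, ψ' 1 = d → T.index * d = 1 ∨ T.index * d = q := by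
    intro ψ' hψ' hne d hd
    obtain ⟨hirr, -⟩ := isIrrCharacter_indFun_inertia hNT hlamirr hT hψ' hne
    have h1 := irr_apply_one ⟨indFun T ψ', hirr⟩
    have h2 : indFun T ψ' 1 = ((T.index * d : ℕ) : ℂ) := by
      rw [indFun_apply_one, index_cast_eq, hd, Nat.cast_mul]
    have h3 : T.index * d = charDegree (indFun T ψ') := by
      have : ((T.index * d : ℕ) : ℂ) = (charDegree (indFun T ψ') : ℂ) := by
        rw [← h2]; exact h1
      exact_mod_cast this
    rw [h3]
    exact hcd ⟨indFun T ψ', hirr⟩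
  have hTidx1 : T.index ≠ 1 := fun h => hTtop (Subgroup.index_eq_one.mp h)
  have hTidx : T.index = q := by
    have h1 := hdeg ψ hψirr (by rw [hres, hlamself]; exact one_ne_zero) 1 (by rw [hψ]; simp)
    rw [mul_one] at h1
    rcases h1 with h | h
    · exact absurd h hTidx1
    · exact h
  refine ⟨hTidx, ?_⟩
  -- T / N₀ is abelian
  set N' : Subgroup T := N₀.subgroupOf T with hN'
  haveI : N'.Normal := Subgroup.Normal.subgroupOf hN₀ T
  have hlin : ∀ β : IrrCharacter (T ⧸ N'), (β : T ⧸ N' → ℂ) 1 = 1 := by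
    intro β
    set βt : IrrCharacter T := inflateIrr N' β with hβt
    obtain ⟨d, hdpos, hd⟩ := IsIrrCharacter.apply_one_pos βt.2
    set ψ' : T → ℂ := ψ * βt.1 with hψ'
    have hψ'irr : IsIrrCharacter T ψ' :=
      isIrrCharacter_linear_mul (isCharacter_of_hom μ)
        (show ((μ 1 : ℂˣ) : ℂ) = 1 by rw [map_one]; rfl) βt.2
    have hres' : resLE hNT ψ' = (d : ℂ) • lam := by
      funext n
      rw [resLE_apply, hψ', Pi.mul_apply, Pi.smul_apply, smul_eq_mul]
      have h1 : βt.1 ⟨n, hNT n.2⟩ = βt.1 1 :=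
        inflateIrr_mem_ker N' β ⟨n, hNT n.2⟩ (Subgroup.mem_subgroupOf.mpr n.2)
      have h2 : ψ ⟨n, hNT n.2⟩ = lam n := by
        have := congrFun hres n
        rw [resLE_apply] at this
        exact this
      rw [h1, h2, hd, mul_comm]
    have hne : classInner (resLE hNT ψ') lam ≠ 0 := by
      rw [hres', classInner_smul_left, hlamself, mul_one]
      exact_mod_cast hdpos.ne'
    have hψ'1 : ψ' 1 = d := by
      rw [hψ', Pi.mul_apply, hd, hψ]
      simp
    have h1 := hdeg ψ' hψ'irr hne d hψ'1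
    rw [hTidx] at h1
    have hd1 : d = 1 := by
      rcases h1 with h | h
      · have := Nat.eq_one_of_mul_eq_one_right h
        omega
      · have hqpos : 0 < q := by omega
        exact Nat.eq_of_mul_eq_mul_left hqpos (by rw [h, mul_one])
    have h2 : βt.1 1 = (β : T ⧸ N' → ℂ) 1 := by
      rw [hβt, inflateIrr_apply, QuotientGroup.mk_one]
    rw [← h2, hd, hd1, Nat.cast_one]
  have hcomm := (comm_iff_forall_irr_apply_one (G := T ⧸ N')).mpr hlin
  intro a ha b hb
  have h1 : (QuotientGroup.mk' N' (⟨a, ha.1⟩ * ⟨b, hb.1⟩ * ⟨a, ha.1⟩⁻¹ * ⟨b, hb.1⟩⁻¹ : T)) = 1 := by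
    rw [map_mul, map_mul, map_mul, map_inv, map_inv,
      hcomm (QuotientGroup.mk' N' ⟨a, ha.1⟩) (QuotientGroup.mk' N' ⟨b, hb.1⟩)]
    group
  have h2 := (QuotientGroup.eq_one_iff _).mp h1
  rw [hN', Subgroup.mem_subgroupOf] at h2
  have h3 : a * b * a⁻¹ * b⁻¹ ∈ N₀ ⊓ P := by
    refine ⟨?_, P.mul_mem (P.mul_mem (P.mul_mem ha.2 hb.2) (P.inv_mem ha.2)) (P.inv_mem hb.2)⟩
    simpa using h2
  rw [hNP, Subgroup.mem_bot] at h3
  have h4 : a * b = (a * b * a⁻¹ * b⁻¹) * (b * a) := by group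
  rw [h4, h3, one_mul]

end inertia

section caseI
variable (N₀ P : Subgroup G) [hN₀ : N₀.Normal]

/-- conjugation action of `G` on the linear characters of a normal subgroup -/
@[reducible] noncomputable def cjMDMA : MulDistribMulAction G (N₀ →* ℂˣ) where
  smul g f := cjHom N₀ g f
  one_smul f := by
    apply MonoidHom.ext
    intro n
    show cjHom N₀ 1 f n = f n
    rw [cjHom_apply]
    congr 1
    apply Subtype.ext
    simp
  mul_smul g h f := by
    apply MonoidHom.ext
    intro n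
    show cjHom N₀ (g * h) f n = cjHom N₀ g (cjHom N₀ h f) n
    rw [cjHom_apply, cjHom_apply, cjHom_apply]
    congr 1
    apply Subtype.ext
    simp [mul_assoc]
  smul_mul g f f' := map_mul (cjHom N₀ g) f f'
  smul_one g := map_one (cjHom N₀ g)

/-- **Case I of Isaacs 12.5**: `G = N₀ ⋊ P` with `N₀` an abelian `p'`-group, `P` a `p`-group,
`cd(G) ⊆ {1, p^e}`.  Then `P` centralizes `N₀`, or `C_G(N₀)` is abelian of index `p^e`. -/
theorem caseI (hNP : N₀ ⊓ P = ⊥) (hsup : N₀ ⊔ P = ⊤)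
    (hab : ∀ a ∈ N₀, ∀ b ∈ N₀, a * b = b * a)
    (p e : ℕ) [hp : Fact p.Prime] (hP : IsPGroup p P) (hcop : (Nat.card N₀).Coprime p)
    (he : 1 < p ^ e)
    (hcd : ∀ χ : IrrCharacter G, charDegree (χ : G → ℂ) = 1 ∨ charDegree (χ : G → ℂ) = p ^ e) :
    P ≤ Subgroup.centralizer (N₀ : Set G) ∨
    ((Subgroup.centralizer (N₀ : Set G)).index = p ^ e ∧
      ∀ a ∈ Subgroup.centralizer (N₀ : Set G), ∀ b ∈ Subgroup.centralizer (N₀ : Set G),
        a * b = b * a) := by
  classical
  letI : Fintype G := Fintype.ofFinite G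
  letI : Fintype N₀ := Fintype.ofFinite N₀
  letI actG : MulDistribMulAction G (N₀ →* ℂˣ) := cjMDMA N₀
  have hsmul : ∀ (x : P) (f : N₀ →* ℂˣ), x • f = cjHom N₀ (x : G) f := fun _ _ => rfl
  letI : CommGroup N₀ :=
    { (inferInstance : Group N₀) with mul_comm := fun a b => Subtype.ext (hab a a.2 b b.2) }
  -- characters of P
  have hcdP : ∀ χ : IrrCharacter P, charDegree (χ : P → ℂ) = 1 ∨ charDegree (χ : P → ℂ) = p ^ e := by
    intro χ
    -- P ≃* G ⧸ N₀
    have hcompl : Subgroup.IsComplement' P N₀ :=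
      Subgroup.isComplement'_of_disjoint_and_mul_eq_univ
        (disjoint_iff.mpr (by rw [inf_comm]; exact hNP))
        (by rw [← Subgroup.mul_normal, sup_comm, hsup]; rfl)
    let ε : G ⧸ N₀ ≃* P := hcompl.QuotientMulEquiv
    let χ' : IrrCharacter (G ⧸ N₀) := ⟨χ.1 ∘ ε, IsIrrCharacter.comp_mulEquiv χ.2 ε⟩
    have h1 : charDegree ((inflateIrr N₀ χ' : IrrCharacter G) : G → ℂ) = charDegree (χ : P → ℂ) := by
      unfold charDegree
      rw [inflateIrr_apply, QuotientGroup.mk_one]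
      show ⌊(χ.1 (ε 1)).re⌋₊ = _
      rw [map_one]
    rw [← h1]
    exact hcd _
  have hne : NeZero ((Monoid.exponent N₀ : ℕ) : ℂ) :=
    ⟨by exact_mod_cast Monoid.exponent_ne_zero_of_finite⟩
  have hV : (Nat.card (N₀ →* ℂˣ)).Coprime p := by
    rw [CommGroup.card_monoidHom_of_hasEnoughRootsOfUnity N₀ ℂ]
    exact hcop
  have hchr : ∀ C A : Subgroup P, C.Normal → C ≤ A →
      (∀ a ∈ A, ∀ b ∈ A, a * b * a⁻¹ * b⁻¹ ∈ C) → A.index < p ^ e →
      ∀ a b : P, a * b * a⁻¹ * b⁻¹ ∈ C :=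
    fun C A hC hCA hA hidx => comm_quotient_of_small_index (p ^ e) hcdP C A hC hCA hA hidx
  -- the inertia subgroup of a linear character
  have hfixiff : ∀ (f : N₀ →* ℂˣ) (g : G),
      cjHom N₀ g f = f ↔ conjFun N₀ g⁻¹ (fun n => ((f n : ℂˣ) : ℂ)) = fun n => ((f n : ℂˣ) : ℂ) := by
    intro f g
    constructor
    · intro h
      funext n
      rw [conjFun_apply]
      have h1 : ((cjHom N₀ g f n : ℂˣ) : ℂ) = ((f n : ℂˣ) : ℂ) := by rw [h]
      rw [cjHom_apply] at h1
      simp only [inv_inv]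
      exact h1
    · intro h
      apply MonoidHom.ext
      intro n
      apply Units.ext
      have h1 := congrFun h n
      rw [conjFun_apply] at h1
      rw [cjHom_apply]
      simp only [inv_inv] at h1
      exact h1
  have horbT : ∀ f : N₀ →* ℂˣ, ¬ (∀ x : P, x • f = f) →
      ∃ T : Subgroup G, (∀ x : P, x • f = f ↔ (x : G) ∈ T) ∧ T.index = p ^ e ∧ N₀ ≤ T ∧
        ∀ a ∈ T ⊓ P, ∀ b ∈ T ⊓ P, a * b = b * a := by
    intro f hnf
    set lam : N₀ → ℂ := fun n => ((f n : ℂˣ) : ℂ) with hlam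
    have hlamirr : IsIrrCharacter N₀ lam := isIrrCharacter_of_hom f
    let T : Subgroup G :=
      { carrier := {g | conjFun N₀ g lam = lam}
        one_mem' := conjFun_one N₀ lam
        mul_mem' := by
          intro a b ha hb
          show conjFun N₀ (a * b) lam = lam
          rw [conjFun_mul]
          have ha' : conjFun N₀ a lam = lam := ha
          rw [ha']
          exact hb
        inv_mem' := by
          intro a ha
          show conjFun N₀ a⁻¹ lam = lam
          have ha' : conjFun N₀ a lam = lam := ha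
          rw [← ha', conjFun_inv_conjFun, ha'] }
    have hT : ∀ g : G, g ∈ T ↔ conjFun N₀ g lam = lam := fun g => Iff.rfl
    have hstab : ∀ x : P, x • f = f ↔ (x : G) ∈ T := by
      intro x
      rw [hsmul, hfixiff, ← hT]
      exact ⟨fun h => by simpa using T.inv_mem h, fun h => T.inv_mem h⟩
    have hTtop : T ≠ ⊤ := by
      intro h
      apply hnf
      intro x
      rw [hstab, h]
      exact Subgroup.mem_top _
    obtain ⟨h1, h2⟩ := inertia_data N₀ P hNP hsup (p ^ e) he hcd f T hT hTtop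
    have hNT : N₀ ≤ T := by
      intro n hn
      rw [hT]
      exact conjFun_of_mem N₀ (IsCharacter.isClassFunction (IsIrrCharacter.isCharacter hlamirr)) hn
    exact ⟨T, hstab, h1, hNT, h2⟩
  have horb : ∀ f : N₀ →* ℂˣ, (∀ x : P, x • f = f) ∨
      ((∀ a ∈ MulAction.stabilizer P f, ∀ b ∈ MulAction.stabilizer P f, a * b = b * a) ∧
        (MulAction.stabilizer P f).index = p ^ e) := by
    intro f
    by_cases hfix : ∀ x : P, x • f = f
    · left; exact hfix
    · right
      obtain ⟨T, hstab, hidx, hNT, hTab⟩ := horbT f hfix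
      have hst : MulAction.stabilizer P f = T.subgroupOf P := by
        ext x
        rw [MulAction.mem_stabilizer_iff, Subgroup.mem_subgroupOf]
        exact hstab x
      refine ⟨?_, ?_⟩
      · intro a ha b hb
        rw [hst, Subgroup.mem_subgroupOf] at ha hb
        exact Subtype.ext (hTab a ⟨ha, a.2⟩ b ⟨hb, b.2⟩)
      · rw [hst]
        show T.relIndex P = p ^ e
        rw [relIndex_eq_index_of_complement N₀ P T hNP hsup hNT, hidx]
  have hHT := halfTransitive p e hP hV horb hchr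
  -- the kernel of the action is the centralizer
  set Cn : Subgroup G := Subgroup.centralizer (N₀ : Set G) with hCn
  have hNCn : N₀ ≤ Cn := by
    intro n hn
    rw [hCn, Subgroup.mem_centralizer_iff]
    intro m hm
    exact hab m hm n hn
  have hcent : cent P (⊤ : Subgroup (N₀ →* ℂˣ)) = Cn.subgroupOf P := by
    ext x
    rw [mem_cent, Subgroup.mem_subgroupOf, hCn, Subgroup.mem_centralizer_iff]
    constructor
    · intro h m hm
      have h1 : ∀ f : N₀ →* ℂˣ, f ⟨(x : G)⁻¹ * m * x, by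
          have := hN₀.conj_mem m hm (x : G)⁻¹
          simpa using this⟩ = f ⟨m, hm⟩ := by
        intro f
        have h2 := h f (Subgroup.mem_top f)
        rw [hsmul] at h2
        have h3 : cjHom N₀ (x : G) f ⟨m, hm⟩ = f ⟨m, hm⟩ := by rw [h2]
        rw [cjHom_apply] at h3
        exact h3
      have h4 := (CommGroup.forall_apply_eq_apply_iff (G := N₀) (M := ℂ)).mp h1
      have h5 := congrArg Subtype.val h4
      simp only at h5
      calc m * (x : G) = (x : G) * ((x : G)⁻¹ * m * x) := by group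
        _ = x * m := by rw [h5]
    · intro h f _
      rw [hsmul]
      apply MonoidHom.ext
      intro n
      rw [cjHom_apply]
      congr 1
      apply Subtype.ext
      show (x : G)⁻¹ * n * x = n
      have := h n n.2
      calc (x : G)⁻¹ * n * x = (x : G)⁻¹ * (n * x) := by group
        _ = (x : G)⁻¹ * (x * n) := by rw [this]
        _ = n := by group
  have hidxC : (cent P (⊤ : Subgroup (N₀ →* ℂˣ))).index = Cn.index := by
    rw [hcent]
    show Cn.relIndex P = Cn.index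
    exact relIndex_eq_index_of_complement N₀ P Cn hNP hsup hNCn
  rw [hidxC] at hHT
  rcases hHT with h1 | h1
  · left
    have : Cn.relIndex P = 1 := by
      rw [relIndex_eq_index_of_complement N₀ P Cn hNP hsup hNCn, h1]
    exact Subgroup.relIndex_eq_one.mp this
  · right
    refine ⟨h1, ?_⟩
    -- a non-fixed linear character
    have hex : ∃ f : N₀ →* ℂˣ, ¬ (∀ x : P, x • f = f) := by
      by_contra hcon
      push Not at hcon
      have htop : cent P (⊤ : Subgroup (N₀ →* ℂˣ)) = ⊤ := by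
        rw [eq_top_iff]
        intro x _ f _
        exact hcon f x
      rw [← hidxC, htop, Subgroup.index_top] at h1
      omega
    obtain ⟨f, hf⟩ := hex
    obtain ⟨T, hstab, -, hNT, hTab⟩ := horbT f hf
    have hCT : Cn ⊓ P ≤ T ⊓ P := by
      intro x hx
      refine ⟨?_, hx.2⟩
      have h2 : (⟨x, hx.2⟩ : P) ∈ cent P (⊤ : Subgroup (N₀ →* ℂˣ)) := by
        rw [hcent, Subgroup.mem_subgroupOf]
        exact hx.1
      exact (hstab ⟨x, hx.2⟩).mp (h2 f (Subgroup.mem_top f))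
    have hdecC := sup_inf_eq_of_complement N₀ P Cn hsup hNCn
    intro a ha b hb
    rw [← hdecC] at ha hb
    obtain ⟨n, hn, x, hx, rfl⟩ := Subgroup.mem_sup_of_normal_left.mp ha
    obtain ⟨n', hn', x', hx', rfl⟩ := Subgroup.mem_sup_of_normal_left.mp hb
    have e1 : x * n' = n' * x := by
      have : x ∈ Cn := hx.1
      rw [hCn, Subgroup.mem_centralizer_iff] at this
      exact (this n' hn').symm
    have e2 : x' * n = n * x' := by
      have : x' ∈ Cn := hx'.1
      rw [hCn, Subgroup.mem_centralizer_iff] at this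
      exact (this n hn).symm
    have e3 : x * x' = x' * x := hTab x (hCT hx) x' (hCT hx')
    have e4 : n * n' = n' * n := hab n hn n' hn'
    calc n * x * (n' * x') = n * (x * n') * x' := by group
      _ = n * (n' * x) * x' := by rw [e1]
      _ = (n * n') * (x * x') := by group
      _ = (n' * n) * (x' * x) := by rw [e3, e4]
      _ = n' * (n * x') * x := by group
      _ = n' * (x' * n) * x := by rw [e2]
      _ = n' * x' * (n * x) := by group

end caseI

end Cfsg.Agent.Lib.Helper21.Isaacs
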