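import Mathlib
import Cfsg.Prelude.Def_Blocks
import Cfsg.Agent.Lib.Lead.CharMore
import Cfsg.Agent.Lib.Helper6.CliffordCorr
import Cfsg.Agent.Lib.Helper24.IrrFacts

set_option autoImplicit false

namespace Cfsg.Agent.Lib.Helper21.Isaacs

open Cfsg Cfsg.Agent.CharLib Cfsg.Agent.Lib.Helper6 Cfsg.Agent.Lib.Helper24
open scoped ComplexConjugate

universe u

variable {G : Type u} [Group G] [Finite G]

/-- every irreducible character of a normal subgroup lies under an irreducible character of `G`
whose degree it divides -/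
theorem exists_irr_over (N : Subgroup G) [hN : N.Normal] (θ : IrrCharacter N) :
    ∃ χ : IrrCharacter G, charDegree (θ : N → ℂ) ∣ charDegree (χ : G → ℂ) := by
  classical
  letI : Fintype G := Fintype.ofFinite G
  letI : Fintype N := Fintype.ofFinite N
  have hθc : IsCharacter N θ.1 := IsIrrCharacter.isCharacter θ.2
  have hind : IsCharacter G (indFun N θ.1) := IsCharacter.indFun N hθc
  have hne : indFun N θ.1 ≠ 0 := by
    intro h
    have h1 := congrFun h 1
    rw [indFun_apply_one, Pi.zero_apply] at h1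
    have hN0 : (Nat.card N : ℂ)⁻¹ ≠ 0 := by
      apply inv_ne_zero
      exact_mod_cast (Nat.card_pos (α := N)).ne'
    have hG0 : (Nat.card G : ℂ) ≠ 0 := by exact_mod_cast (Nat.card_pos (α := G)).ne'
    exact mul_ne_zero (mul_ne_zero hN0 hG0) (irr_apply_one_ne_zero θ) h1
  obtain ⟨χ, hχ, hc⟩ := IsCharacter.exists_constituent hind hne
  have hχc : IsCharacter G χ := IsIrrCharacter.isCharacter hχ
  have hfr := frobenius_reciprocity N θ.1 (IsCharacter.isClassFunction hχc)
  have hc2 : classInner (resFun N χ) θ.1 ≠ 0 := by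
    rw [hfr] at hc
    have : classInner (resFun N χ) θ.1 = conj (classInner θ.1 (fun h : N => χ h)) := by
      rw [classInner_conj_symm]; rfl
    rw [this]
    exact (map_ne_zero _).mpr hc
  obtain ⟨e, he⟩ := IsCharacter.classInner_nat (isCharacter_resFun N hχc) hθc
  have hdeg := clifford_degree N hχ θ.2 hc2
  refine ⟨⟨χ, hχ⟩, ?_⟩
  have h1 := irr_apply_one ⟨χ, hχ⟩
  have h2 := irr_apply_one θ
  rw [he, h2] at hdeg
  have h3 : (charDegree χ : ℂ) = ((e * (conjOrbit N θ.1).card * charDegree θ.1 : ℕ) : ℂ) := by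
    rw [← h1]
    show χ 1 = _
    rw [hdeg]
    push_cast
    ring
  have h4 : charDegree χ = e * (conjOrbit N θ.1).card * charDegree θ.1 := by exact_mod_cast h3
  exact ⟨e * (conjOrbit N θ.1).card, by rw [h4]; ring⟩

/-- a normal subgroup whose order is prime to `m` is abelian when `cd(G) ⊆ {1, m}` -/
theorem comm_of_coprime_degrees (N : Subgroup G) [hN : N.Normal] (m : ℕ)
    (hcd : ∀ χ : IrrCharacter G, charDegree (χ : G → ℂ) = 1 ∨ charDegree (χ : G → ℂ) = m)
    (hcop : (Nat.card N).Coprime m) : ∀ a ∈ N, ∀ b ∈ N, a * b = b * a := by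
  have hlin : ∀ θ : IrrCharacter N, (θ : N → ℂ) 1 = 1 := by
    intro θ
    obtain ⟨χ, hχ⟩ := exists_irr_over N θ
    have h1 : charDegree (θ : N → ℂ) ∣ Nat.card N := irr_charDegree_dvd_card θ
    have h2 : charDegree (θ : N → ℂ) = 1 := by
      rcases hcd χ with h | h
      · rw [h] at hχ
        exact Nat.dvd_one.mp hχ
      · rw [h] at hχ
        exact Nat.eq_one_of_dvd_coprimes hcop h1 hχ
    rw [irr_apply_one, h2, Nat.cast_one]
  have hcomm := (comm_iff_forall_irr_apply_one (G := N)).mpr hlin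
  intro a ha b hb
  exact congrArg Subtype.val (hcomm ⟨a, ha⟩ ⟨b, hb⟩)

end Cfsg.Agent.Lib.Helper21.Isaacs
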