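import Mathlib

set_option autoImplicit false

namespace Cfsg.Agent.Lib.Helper21.Isaacs

open scoped Pointwise commutatorElement

variable {Q : Type*} [Group Q] [Finite Q]

/-- a subgroup containing the commutator subgroup is normal -/
theorem normal_of_commutator_le (H : Subgroup Q) (h : commutator Q ≤ H) : H.Normal := by
  constructor
  intro x hx g
  have h1 : g * x * g⁻¹ * x⁻¹ ∈ commutator Q := by
    rw [commutator_def]
    exact Subgroup.commutator_mem_commutator (Subgroup.mem_top g) (Subgroup.mem_top x)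
  have h2 : g * x * g⁻¹ = (g * x * g⁻¹ * x⁻¹) * x := by group
  rw [h2]
  exact H.mul_mem (h h1) hx

/-- an abelian minimal-type normal subgroup is a `p`-group -/
theorem exists_prime_isPGroup_of_min (M : Subgroup Q) [hMn : M.Normal]
    (hmin : ∀ L : Subgroup Q, L.Normal → L ≠ ⊥ → M ≤ L)
    (hab : ∀ a ∈ M, ∀ b ∈ M, a * b = b * a) (hne : M ≠ ⊥) :
    ∃ p : ℕ, p.Prime ∧ IsPGroup p M ∧ p ∣ Nat.card M := by
  have hcard : Nat.card M ≠ 1 := by
    intro h
    exact hne (Subgroup.card_eq_one.mp h)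
  obtain ⟨p, hp, hpd⟩ := Nat.exists_prime_and_dvd hcard
  haveI : Fact p.Prime := ⟨hp⟩
  refine ⟨p, hp, ?_, hpd⟩
  let Ω : Subgroup Q :=
    { carrier := {x | x ∈ M ∧ x ^ p = 1}
      one_mem' := ⟨M.one_mem, one_pow p⟩
      mul_mem' := by
        rintro a b ⟨ha, ha'⟩ ⟨hb, hb'⟩
        refine ⟨M.mul_mem ha hb, ?_⟩
        have hc : Commute a b := hab a ha b hb
        rw [hc.mul_pow, ha', hb', one_mul]
      inv_mem' := by
        rintro a ⟨ha, ha'⟩
        exact ⟨M.inv_mem ha, by rw [inv_pow, ha', inv_one]⟩ }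
  have hΩn : Ω.Normal := by
    constructor
    rintro x ⟨hx, hx'⟩ g
    refine ⟨hMn.conj_mem x hx g, ?_⟩
    rw [conj_pow, hx', mul_one, mul_inv_cancel]
  have hΩne : Ω ≠ ⊥ := by
    obtain ⟨x, hx⟩ := exists_prime_orderOf_dvd_card' (G := M) p hpd
    intro h
    have hmem : (x : Q) ∈ Ω := by
      refine ⟨x.2, ?_⟩
      have : x ^ p = 1 := by rw [← hx]; exact pow_orderOf_eq_one x
      have := congrArg Subtype.val this
      simpa using this
    rw [h, Subgroup.mem_bot] at hmem
    have hx1 : x = 1 := Subtype.ext hmem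
    rw [hx1, orderOf_one] at hx
    exact hp.one_lt.ne hx
  have hle := hmin Ω hΩn hΩne
  intro x
  refine ⟨1, ?_⟩
  have := (hle x.2).2
  apply Subtype.ext
  simpa using this

/-- nontrivial `p`-subgroup inside a `q`-subgroup forces `p = q` -/
theorem prime_eq_of_le {p q : ℕ} (hp : p.Prime) (hq : q.Prime) {M S : Subgroup Q}
    (hM : IsPGroup p M) (hS : IsPGroup q S) (hne : M ≠ ⊥) (hle : M ≤ S) : p = q := by
  haveI : Fact p.Prime := ⟨hp⟩
  haveI : Fact q.Prime := ⟨hq⟩
  have hMq : IsPGroup q M := hS.to_le hle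
  obtain ⟨a, ha⟩ := hM.exists_card_eq
  obtain ⟨b, hb⟩ := hMq.exists_card_eq
  have ha0 : a ≠ 0 := by
    intro h
    rw [h, pow_zero] at ha
    exact hne (Subgroup.card_eq_one.mp ha)
  have h1 : p ∣ q ^ b := by
    rw [← hb, ha]
    exact dvd_pow_self p ha0
  exact (Nat.prime_dvd_prime_iff_eq hp hq).mp (hp.dvd_of_dvd_pow h1)

/-- the central case of Lemma 12.3 -/
theorem isPGroup_of_center_ne_bot (M : Subgroup Q) [hMn : M.Normal]
    (hM : M = commutator Q)
    (hmin : ∀ L : Subgroup Q, L.Normal → L ≠ ⊥ → M ≤ L)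
    (hne : M ≠ ⊥) (p : ℕ) (hp : p.Prime) (hMp : IsPGroup p M)
    (hZ : Subgroup.center Q ≠ ⊥) : IsPGroup p Q := by
  haveI : Fact p.Prime := ⟨hp⟩
  have hMZ : M ≤ Subgroup.center Q := hmin _ inferInstance hZ
  -- Q is nilpotent
  have hcomm : ∀ a b : Q ⧸ Subgroup.center Q, a * b = b * a := by
    intro a b
    obtain ⟨x, rfl⟩ := QuotientGroup.mk'_surjective _ a
    obtain ⟨y, rfl⟩ := QuotientGroup.mk'_surjective _ b
    rw [← map_mul, ← map_mul]
    apply QuotientGroup.eq.mpr
    apply hMZ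
    rw [hM, commutator_def]
    have : (x * y)⁻¹ * (y * x) = ⁅y⁻¹, x⁻¹⁆ := by
      rw [commutatorElement_def]; group
    rw [this]
    exact Subgroup.commutator_mem_commutator (Subgroup.mem_top _) (Subgroup.mem_top _)
  haveI hnilq : Group.IsNilpotent (Q ⧸ Subgroup.center Q) := by
    letI : CommGroup (Q ⧸ Subgroup.center Q) :=
      { (inferInstance : Group (Q ⧸ Subgroup.center Q)) with mul_comm := hcomm }
    exact CommGroup.isNilpotent
  haveI hnil : Group.IsNilpotent Q := by
    apply Subgroup.isNilpotent_of_ker_le_center (QuotientGroup.mk' (Subgroup.center Q))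
    rw [QuotientGroup.ker_mk']
  have hcardQ : Nat.card Q ≠ 0 := Nat.card_pos.ne'
  have hpow := Nat.eq_prime_pow_of_unique_prime_dvd (p := p) hcardQ (by
    intro q hq hqd
    haveI : Fact q.Prime := ⟨hq⟩
    obtain ⟨S⟩ : Nonempty (Sylow q Q) := inferInstance
    have hSn : (S : Subgroup Q).Normal := inferInstance
    have hSne : (S : Subgroup Q) ≠ ⊥ := by
      intro h
      have hc := S.card_eq_multiplicity
      rw [h, Subgroup.card_bot] at hc
      have : q ∣ q ^ (Nat.card Q).factorization q :=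
        dvd_pow_self q (by
          intro h0
          have := (Nat.Prime.factorization_pos_of_dvd hq hcardQ hqd)
          omega)
      rw [← hc] at this
      exact hq.one_lt.ne' (Nat.dvd_one.mp this)
    have hle := hmin _ hSn hSne
    exact (prime_eq_of_le hp hq hMp S.isPGroup' hne hle).symm)
  exact IsPGroup.of_card hpow

/-- the centerless case of Lemma 12.3: Frobenius structure -/
theorem frobenius_of_center_eq_bot (M : Subgroup Q) [hMn : M.Normal]
    (hM : M = commutator Q)
    (hmin : ∀ L : Subgroup Q, L.Normal → L ≠ ⊥ → M ≤ L)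
    (hab : ∀ a ∈ M, ∀ b ∈ M, a * b = b * a)
    (hne : M ≠ ⊥) (p : ℕ) (hp : p.Prime) (hMp : IsPGroup p M) (hpd : p ∣ Nat.card M)
    (hZ : Subgroup.center Q = ⊥) :
    (M.index).Coprime p ∧ ∀ g, g ∉ M → ∀ n ∈ M, g * n = n * g → n = 1 := by
  haveI : Fact p.Prime := ⟨hp⟩
  have hcardQ : Nat.card Q ≠ 0 := Nat.card_pos.ne'
  -- Q is not a p-group
  have hQnp : ¬ IsPGroup p Q := by
    intro hQ
    haveI : Nontrivial Q := by
      obtain ⟨a, ha⟩ := Subgroup.ne_bot_iff_exists_ne_one.mp hne
      exact ⟨⟨(a : Q), 1, fun h => ha (Subtype.ext h)⟩⟩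
    have := hQ.center_nontrivial
    rw [hZ] at this
    exact not_nontrivial _ this
  obtain ⟨q, hq, hqd, hqp⟩ : ∃ q : ℕ, q.Prime ∧ q ∣ Nat.card Q ∧ q ≠ p := by
    by_contra hcon
    push Not at hcon
    exact hQnp (IsPGroup.of_card (Nat.eq_prime_pow_of_unique_prime_dvd hcardQ
      (fun {d} hd hdd => hcon d hd hdd)))
  haveI : Fact q.Prime := ⟨hq⟩
  obtain ⟨S⟩ : Nonempty (Sylow q Q) := inferInstance
  have hSne : (S : Subgroup Q) ≠ ⊥ := by
    intro h
    have hc := S.card_eq_multiplicity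
    rw [h, Subgroup.card_bot] at hc
    have : q ∣ q ^ (Nat.card Q).factorization q :=
      dvd_pow_self q (by
        intro h0
        have := (Nat.Prime.factorization_pos_of_dvd hq hcardQ hqd)
        omega)
    rw [← hc] at this
    exact hq.one_lt.ne' (Nat.dvd_one.mp this)
  set N' : Subgroup Q := (S : Subgroup Q) ⊔ M with hN'
  haveI hN'n : N'.Normal := normal_of_commutator_le N' (hM ▸ le_sup_right)
  have hfr : Subgroup.normalizer ((S : Subgroup Q) : Set Q) ⊔ N' = ⊤ :=
    Sylow.normalizer_sup_eq_top' S le_sup_left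
  set H : Subgroup Q := Subgroup.normalizer ((S : Subgroup Q) : Set Q) with hH
  have hHM : H ⊔ M = ⊤ := by
    rw [← hfr, hN', ← sup_assoc]
    congr 1
    exact (sup_eq_left.mpr Subgroup.le_normalizer).symm
  have hdec : ∀ g : Q, ∃ h ∈ H, ∃ m ∈ M, h * m = g := by
    intro g
    have : g ∈ H ⊔ M := hHM ▸ Subgroup.mem_top g
    exact Subgroup.mem_sup_of_normal_right.mp this
  -- H ⊓ M is normal
  have hHMn : (H ⊓ M).Normal := by
    constructor
    intro x hx g
    obtain ⟨h, hh, m, hm, rfl⟩ := hdec g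
    have h1 : m * x * m⁻¹ = x := by
      rw [hab m hm x hx.2, mul_inv_cancel_right]
    have h2 : h * m * x * (h * m)⁻¹ = h * (m * x * m⁻¹) * h⁻¹ := by group
    rw [h2, h1]
    exact ⟨H.mul_mem (H.mul_mem hh hx.1) (H.inv_mem hh), hMn.conj_mem x hx.2 h⟩
  have hHMbot : H ⊓ M = ⊥ := by
    by_contra hcon
    have hle := hmin _ hHMn hcon
    have hMH : M ≤ H := hle.trans inf_le_left
    have hHtop : H = ⊤ := by rw [← hHM]; exact (sup_eq_left.mpr hMH).symm
    have hSn : (S : Subgroup Q).Normal := Subgroup.normalizer_eq_top_iff.mp hHtop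
    have := hmin _ hSn hSne
    exact hqp (prime_eq_of_le hp hq hMp S.isPGroup' hne this).symm
  -- H is abelian
  have hHab : ∀ a ∈ H, ∀ b ∈ H, a * b = b * a := by
    intro a ha b hb
    have h1 : a * b * a⁻¹ * b⁻¹ ∈ H ⊓ M := by
      refine ⟨H.mul_mem (H.mul_mem (H.mul_mem ha hb) (H.inv_mem ha)) (H.inv_mem hb), ?_⟩
      rw [hM, commutator_def]
      have : a * b * a⁻¹ * b⁻¹ = ⁅a, b⁆ := by rw [commutatorElement_def]
      rw [this]
      exact Subgroup.commutator_mem_commutator (Subgroup.mem_top _) (Subgroup.mem_top _)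
    rw [hHMbot, Subgroup.mem_bot] at h1
    have h2 : a * b = (a * b * a⁻¹ * b⁻¹) * (b * a) := by group
    rw [h2, h1, one_mul]
  -- elements of H centralizing M are trivial
  have hCH : ∀ h ∈ H, (∀ m ∈ M, h * m = m * h) → h = 1 := by
    intro h hh hcen
    by_contra hh1
    have hn : (Subgroup.zpowers h).Normal := by
      constructor
      intro x hx g
      obtain ⟨h', hh', m, hm, rfl⟩ := hdec g
      obtain ⟨k, rfl⟩ := Subgroup.mem_zpowers_iff.mp hx
      have hc1 : m * h ^ k * m⁻¹ = h ^ k := by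
        have : Commute m (h ^ k) := (Commute.zpow_right (hcen m hm).symm k)
        rw [this.eq, mul_inv_cancel_right]
      have hc2 : h' * h ^ k * h'⁻¹ = h ^ k := by
        have : Commute h' (h ^ k) := Commute.zpow_right (hHab h' hh' h hh) k
        rw [this.eq, mul_inv_cancel_right]
      have h2 : h' * m * h ^ k * (h' * m)⁻¹ = h' * (m * h ^ k * m⁻¹) * h'⁻¹ := by group
      rw [h2, hc1, hc2]
      exact Subgroup.zpow_mem_zpowers h k
    have hne' : Subgroup.zpowers h ≠ ⊥ := by
      intro hb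
      exact hh1 (Subgroup.zpowers_eq_bot.mp hb)
    have hle := hmin _ hn hne'
    have hMH : M ≤ H := hle.trans (Subgroup.zpowers_le.mpr hh)
    have : M ≤ H ⊓ M := le_inf hMH le_rfl
    rw [hHMbot] at this
    exact hne (le_bot_iff.mp this)
  -- fixed points of a nontrivial element of H in M
  have hfpfH : ∀ h ∈ H, h ≠ 1 → ∀ n ∈ M, h * n = n * h → n = 1 := by
    intro h hh hh1 n hn hcomm
    by_contra hn1
    set CM : Subgroup Q := M ⊓ Subgroup.centralizer {h} with hCM
    have hmemCM : ∀ x : Q, x ∈ CM ↔ x ∈ M ∧ x * h = h * x := by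
      intro x
      rw [hCM, Subgroup.mem_inf, Subgroup.mem_centralizer_singleton_iff]
    have hCMn : CM.Normal := by
      constructor
      intro x hx g
      rw [hmemCM] at hx ⊢
      obtain ⟨h', hh', m, hm, rfl⟩ := hdec g
      have hx2 : x * h = h * x := hx.2
      have h1 : m * x * m⁻¹ = x := by
        rw [hab m hm x hx.1, mul_inv_cancel_right]
      have h2 : h' * m * x * (h' * m)⁻¹ = h' * (m * x * m⁻¹) * h'⁻¹ := by group
      rw [h2, h1]
      refine ⟨hMn.conj_mem x hx.1 h', ?_⟩
      have hc : h' * h = h * h' := hHab h' hh' h hh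
      calc h' * x * h'⁻¹ * h = h' * x * (h'⁻¹ * h) := by group
        _ = h' * x * (h * h'⁻¹) := by
            congr 1
            rw [inv_mul_eq_iff_eq_mul, ← mul_assoc, hc, mul_inv_cancel_right]
        _ = h' * (x * h) * h'⁻¹ := by group
        _ = h' * (h * x) * h'⁻¹ := by rw [hx2]
        _ = (h' * h) * x * h'⁻¹ := by group
        _ = h * (h' * x * h'⁻¹) := by rw [hc]; group
    have hCMne : CM ≠ ⊥ := by
      intro hb
      have : n ∈ CM := (hmemCM n).mpr ⟨hn, hcomm.symm⟩
      rw [hb, Subgroup.mem_bot] at this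
      exact hn1 this
    have hle := hmin _ hCMn hCMne
    apply hh1
    apply hCH h hh
    intro m hm
    have := ((hmemCM m).mp (hle hm)).2
    exact this.symm
  have hfpf : ∀ g, g ∉ M → ∀ n ∈ M, g * n = n * g → n = 1 := by
    intro g hg n hn hcomm
    obtain ⟨h, hh, m, hm, rfl⟩ := hdec g
    have hh1 : h ≠ 1 := by
      intro h1
      apply hg
      rw [h1, one_mul]
      exact hm
    apply hfpfH h hh hh1 n hn
    have h1 : m * n = n * m := hab m hm n hn
    have h2 : h * m * n = h * n * m := by rw [mul_assoc, h1, ← mul_assoc]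
    rw [h2] at hcomm
    have h3 : h * n * m = n * h * m := by rw [hcomm, mul_assoc]
    exact mul_right_cancel h3
  refine ⟨?_, hfpf⟩
  -- coprimality
  rw [Nat.coprime_comm, Nat.Prime.coprime_iff_not_dvd hp]
  intro hpidx
  -- an element of order p outside M
  have hcardH : Nat.card H = M.index := by
    have hcompl : Subgroup.IsComplement' H M :=
      Subgroup.isComplement'_of_disjoint_and_mul_eq_univ (disjoint_iff.mpr hHMbot) (by
        rw [← Subgroup.mul_normal, hHM]; rfl)
    have h1 := hcompl.card_mul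
    have h2 := Subgroup.card_mul_index M
    have hMpos : 0 < Nat.card M := Nat.card_pos
    apply Nat.eq_of_mul_eq_mul_right hMpos
    rw [h1, ← h2, mul_comm]
  rw [← hcardH] at hpidx
  obtain ⟨h, hh⟩ := exists_prime_orderOf_dvd_card' (G := H) p hpidx
  have hh1 : (h : Q) ≠ 1 := by
    intro h1
    have : h = 1 := Subtype.ext h1
    rw [this, orderOf_one] at hh
    exact hp.one_lt.ne hh
  -- action of zpowers h on M
  let φ : Subgroup.zpowers (h : Q) →* MulAut M :=
    (MulAut.conjNormal (H := M)).comp (Subgroup.zpowers (h : Q)).subtype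
  letI : MulAction (Subgroup.zpowers (h : Q)) M := MulAction.compHom M φ
  have hsmul : ∀ (z : Subgroup.zpowers (h : Q)) (m : M), ((z • m : M) : Q) = z * m * (z : Q)⁻¹ := by
    intro z m
    rfl
  have hzp : IsPGroup p (Subgroup.zpowers (h : Q)) := by
    apply IsPGroup.of_card (n := 1)
    rw [Nat.card_zpowers, pow_one]
    rw [← hh]
    exact (Subgroup.orderOf_coe h)
  have hfix1 : (1 : M) ∈ MulAction.fixedPoints (Subgroup.zpowers (h : Q)) M := by
    intro z
    apply Subtype.ext
    rw [hsmul]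
    simp
  obtain ⟨b, hb, hb1⟩ := hzp.exists_fixed_point_of_prime_dvd_card_of_fixed_point (α := M) hpd hfix1
  have hbfix := hb ⟨(h : Q), Subgroup.mem_zpowers _⟩
  have hbfix' : (h : Q) * b * (h : Q)⁻¹ = b := by
    have := congrArg Subtype.val hbfix
    rw [hsmul] at this
    exact this
  have hcomm : (h : Q) * (b : Q) = b * h := by
    calc (h : Q) * (b : Q) = ((h : Q) * b * (h : Q)⁻¹) * h := by group
      _ = b * h := by rw [hbfix']
  have := hfpfH h h.2 hh1 b b.2 hcomm
  exact hb1 (Subtype.ext this.symm)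

/-- **Isaacs, Lemma 12.3** (in the form needed): if `Q' ≠ 1` is abelian and contained in every
nontrivial normal subgroup of `Q`, then `Q` is a `p`-group, or `Q'` is a `p`-group of index prime
to `p` on which every element outside `Q'` acts without nontrivial fixed points. -/
theorem lemma_12_3
    (hmin : ∀ L : Subgroup Q, L.Normal → L ≠ ⊥ → commutator Q ≤ L)
    (hab : ∀ a ∈ commutator Q, ∀ b ∈ commutator Q, a * b = b * a)
    (hne : commutator Q ≠ ⊥) :
    ∃ p : ℕ, p.Prime ∧ (IsPGroup p Q ∨ (IsPGroup p (commutator Q) ∧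
      ((commutator Q).index).Coprime p ∧
      ∀ g, g ∉ commutator Q → ∀ n ∈ commutator Q, g * n = n * g → n = 1)) := by
  haveI : (commutator Q).Normal := inferInstance
  obtain ⟨p, hp, hMp, hpd⟩ := exists_prime_isPGroup_of_min (commutator Q) hmin hab hne
  refine ⟨p, hp, ?_⟩
  by_cases hZ : Subgroup.center Q = ⊥
  · right
    obtain ⟨h1, h2⟩ := frobenius_of_center_eq_bot (commutator Q) rfl hmin hab hne p hp hMp hpd hZ
    exact ⟨hMp, h1, h2⟩
  · left
    exact isPGroup_of_center_ne_bot (commutator Q) rfl hmin hne p hp hMp hZ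

end Cfsg.Agent.Lib.Helper21.Isaacs
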