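import Mathlib
import Cfsg.Prelude.Def_Blocks
import Cfsg.Agent.Lib.Helper23.Thompson
import Cfsg.Agent.Lib.Helper21.IsaacsLemma123
import Cfsg.Agent.Lib.Helper21.IsaacsCharA
import Cfsg.Agent.Lib.Helper21.IsaacsCharB
import Cfsg.Agent.Lib.Helper21.IsaacsCharC
import Cfsg.Agent.Lib.Helper21.IsaacsCharD

set_option autoImplicit false

namespace Cfsg.Agent.Lib.Helper21.Isaacs

open Cfsg Cfsg.Agent.CharLib Cfsg.Agent.Lib.Helper6 Cfsg.Agent.Lib.Helper24 Cfsg.Agent.Lib.Helper25
open Cfsg.Agent.Lib.Helper23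
open scoped ComplexConjugate

universe u

variable {G : Type u} [Group G] [Finite G]

/-- a normal subgroup maximal with nonabelian quotient -/
theorem exists_max_nonabelian_quotient (hna : ¬ ∀ a b : G, a * b = b * a) :
    ∃ K : Subgroup G, K.Normal ∧ ¬ commutator G ≤ K ∧
      ∀ L : Subgroup G, L.Normal → K ≤ L → L ≠ K → commutator G ≤ L := by
  let S : Set (Subgroup G) := {K | K.Normal ∧ ¬ commutator G ≤ K}
  have hfin : S.Finite := Set.toFinite S
  have hne : S.Nonempty := by
    refine ⟨⊥, inferInstance, ?_⟩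
    intro h
    apply hna
    intro a b
    have h1 : a * b * a⁻¹ * b⁻¹ ∈ commutator G := by
      rw [commutator_def]
      exact Subgroup.commutator_mem_commutator (Subgroup.mem_top a) (Subgroup.mem_top b)
    have h2 := h h1
    rw [Subgroup.mem_bot] at h2
    have h3 : a * b = (a * b * a⁻¹ * b⁻¹) * (b * a) := by group
    rw [h3, h2, one_mul]
  obtain ⟨K, hK⟩ := hfin.exists_maximal hne
  refine ⟨K, hK.prop.1, hK.prop.2, ?_⟩
  intro L hLn hKL hLK
  by_contra hcon
  exact hLK (le_antisymm (hK.le_of_ge ⟨hLn, hcon⟩ hKL) hKL)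

section quotient
variable (K : Subgroup G) [hK : K.Normal]

omit [Finite G] in
theorem commutator_quotient_le_iff (L : Subgroup (G ⧸ K)) :
    commutator (G ⧸ K) ≤ L ↔ commutator G ≤ L.comap (QuotientGroup.mk' K) := by
  have h1 : commutator (G ⧸ K) = (commutator G).map (QuotientGroup.mk' K) := by
    rw [commutator_def, commutator_def, Subgroup.map_commutator,
      Subgroup.map_top_of_surjective _ (QuotientGroup.mk'_surjective K)]
  rw [h1, Subgroup.map_le_iff_le_comap]

omit [Finite G] in
theorem quotient_min (hne : ¬ commutator G ≤ K)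
    (hmax : ∀ L : Subgroup G, L.Normal → K ≤ L → L ≠ K → commutator G ≤ L) :
    (∀ L : Subgroup (G ⧸ K), L.Normal → L ≠ ⊥ → commutator (G ⧸ K) ≤ L) ∧
      commutator (G ⧸ K) ≠ ⊥ := by
  constructor
  · intro L hLn hLne
    rw [commutator_quotient_le_iff]
    apply hmax _ (Subgroup.Normal.comap hLn _)
    · intro k hk
      rw [Subgroup.mem_comap]
      have : QuotientGroup.mk' K k = 1 := (QuotientGroup.eq_one_iff k).mpr hk
      rw [this]
      exact L.one_mem
    · intro h
      apply hLne
      rw [eq_bot_iff]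
      intro x hx
      obtain ⟨g, rfl⟩ := QuotientGroup.mk'_surjective K x
      have hg : g ∈ L.comap (QuotientGroup.mk' K) := hx
      rw [h] at hg
      rw [Subgroup.mem_bot]
      exact (QuotientGroup.eq_one_iff g).mpr hg
  · intro h
    apply hne
    have := (commutator_quotient_le_iff K ⊥).mp (le_of_eq h)
    intro x hx
    have h2 := this hx
    rw [Subgroup.mem_comap, Subgroup.mem_bot] at h2
    exact (QuotientGroup.eq_one_iff x).mp h2

/-- character degrees of a quotient -/
theorem cd_quotient (m : ℕ)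
    (hcd : ∀ χ : IrrCharacter G, charDegree (χ : G → ℂ) = 1 ∨ charDegree (χ : G → ℂ) = m)
    (χ : IrrCharacter (G ⧸ K)) :
    charDegree (χ : G ⧸ K → ℂ) = 1 ∨ charDegree (χ : G ⧸ K → ℂ) = m := by
  have h2 : charDegree ((inflateIrr K χ : IrrCharacter G) : G → ℂ) = charDegree (χ : G ⧸ K → ℂ) := by
    unfold charDegree
    rw [inflateIrr_apply, QuotientGroup.mk_one]
  rw [← h2]
  exact hcd _

end quotient

/-- **Case II of Isaacs 12.5**: `G/K` a Frobenius group with kernel `(G/K)'`. -/
theorem caseII (K : Subgroup G) [hK : K.Normal] (m : ℕ) (hm1 : m ≠ 1)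
    (hcd : ∀ χ : IrrCharacter G, charDegree (χ : G → ℂ) = 1 ∨ charDegree (χ : G → ℂ) = m)
    (hne : commutator (G ⧸ K) ≠ ⊥)
    (hab : ∀ a ∈ commutator (G ⧸ K), ∀ b ∈ commutator (G ⧸ K), a * b = b * a)
    (p : ℕ) (hp : p.Prime) (hMp : IsPGroup p (commutator (G ⧸ K)))
    (hcop : ((commutator (G ⧸ K)).index).Coprime p)
    (hfpf : ∀ g, g ∉ commutator (G ⧸ K) → ∀ n ∈ commutator (G ⧸ K), g * n = n * g → n = 1) :
    ∃ A : Subgroup G, A.Normal ∧ (∀ a ∈ A, ∀ b ∈ A, a * b = b * a) ∧ A.index = m := by
  classical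
  haveI : Fact p.Prime := ⟨hp⟩
  set M : Subgroup (G ⧸ K) := commutator (G ⧸ K) with hM
  set π : G →* G ⧸ K := QuotientGroup.mk' K with hπ
  have hπs : Function.Surjective π := QuotientGroup.mk'_surjective K
  set L : Subgroup G := M.comap π with hL
  haveI hLn : L.Normal := Subgroup.Normal.comap inferInstance π
  have hmemL : ∀ g : G, g ∈ L ↔ π g ∈ M := fun g => Iff.rfl
  have hmemK : ∀ g : G, g ∈ K ↔ π g = 1 := fun g => (QuotientGroup.eq_one_iff g).symm
  have hKL : K ≤ L := by
    intro k hk
    rw [hmemL, (hmemK k).mp hk]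
    exact M.one_mem
  have hA : ∀ a ∈ L, ∀ b ∈ L, a * b * a⁻¹ * b⁻¹ ∈ K := by
    intro a ha b hb
    rw [hmemK, map_mul, map_mul, map_mul, map_inv, map_inv, hab (π a) ha (π b) hb]
    group
  have hF : ∀ g, g ∉ L → ∀ n ∈ L, g * n * g⁻¹ * n⁻¹ ∈ K → n ∈ K := by
    intro g hg n hn h
    rw [hmemK, map_mul, map_mul, map_mul, map_inv, map_inv] at h
    rw [hmemK]
    apply hfpf (π g) hg (π n) hn
    calc π g * π n = (π g * π n * (π g)⁻¹ * (π n)⁻¹) * (π n * π g) := by group
      _ = π n * π g := by rw [h, one_mul]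
  have hrel : K.relIndex L = Nat.card M := by
    have h1 : K = (⊥ : Subgroup (G ⧸ K)).comap π := by
      rw [MonoidHom.comap_bot, hπ, QuotientGroup.ker_mk']
    conv_lhs => rw [h1]
    rw [Subgroup.relIndex_comap, hL, Subgroup.map_comap_eq_self_of_surjective hπs,
      Subgroup.relIndex_bot_left]
  obtain ⟨a, ha⟩ := hMp.exists_card_eq
  have hP : ∃ a, K.relIndex L = p ^ a := ⟨a, by rw [hrel, ha]⟩
  have hLidx : L.index = M.index := Subgroup.index_comap_of_surjective M hπs
  have hcopL : (L.index).Coprime p := by rw [hLidx]; exact hcop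
  have ha0 : a ≠ 0 := by
    intro h0
    rw [h0, pow_zero] at ha
    exact hne (Subgroup.card_eq_one.mp ha)
  obtain ⟨n₀, hn₀L, hn₀K⟩ : ∃ n₀ ∈ L, n₀ ∉ K := by
    by_contra hcon
    push Not at hcon
    have : K.relIndex L = 1 := Subgroup.relIndex_eq_one.mpr hcon
    rw [hrel, ha] at this
    have h2 : p ∣ p ^ a := dvd_pow_self p ha0
    rw [this] at h2
    exact hp.one_lt.ne' (Nat.dvd_one.mp h2)
  -- step 1: the index of L is m
  have hLm : L.index = m := by
    have hone : L.index ≠ 1 := by
      intro h1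
      rw [hLidx] at h1
      have hMtop : M = ⊤ := Subgroup.index_eq_one.mp h1
      apply hne
      rw [eq_bot_iff]
      intro x hx
      rw [Subgroup.mem_bot]
      -- Q is abelian, so its commutator subgroup is trivial
      have hcommQ : ∀ u v : G ⧸ K, u * v = v * u := fun u v =>
        hab u (hMtop ▸ Subgroup.mem_top u) v (hMtop ▸ Subgroup.mem_top v)
      have hle : commutator (G ⧸ K) ≤ ⊥ := by
        rw [commutator_def, Subgroup.commutator_le]
        intro u _ v _
        rw [Subgroup.mem_bot, commutatorElement_def, hcommQ u v]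
        group
      exact (Subgroup.mem_bot.mp (hle hx))
    letI : Fintype L := Fintype.ofFinite L
    rcases isaacs_12_4 K L p hA hF hP hcopL ⟨1, isIrrCharacter_one L⟩ with ⟨χ, hχ⟩ | ⟨hvan, -⟩
    · have h1 := irr_apply_one χ
      rw [hχ] at h1
      simp only [Pi.one_apply, mul_one] at h1
      have h2 : L.index = charDegree (χ : G → ℂ) := by exact_mod_cast h1
      rcases hcd χ with h | h
      · rw [h] at h2; exact absurd h2 hone
      · rw [h] at h2; exact h2
    · have := hvan ⟨n₀, hn₀L⟩ hn₀K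
      simp at this
  -- step 2: every irreducible character of L is linear
  have hlin : ∀ ψ : IrrCharacter L, (ψ : L → ℂ) 1 = 1 := by
    intro ψ
    have hdpos := irr_charDegree_pos ψ
    have hψ1 := irr_apply_one ψ
    rcases isaacs_12_4 K L p hA hF hP hcopL ψ with ⟨χ, hχ⟩ | ⟨-, e, t, d, het, hψd⟩
    · have h1 := irr_apply_one χ
      rw [hχ, hψ1, hLm] at h1
      have h2 : m * charDegree (ψ : L → ℂ) = charDegree (χ : G → ℂ) := by exact_mod_cast h1
      have hd1 : charDegree (ψ : L → ℂ) = 1 := by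
        rcases hcd χ with h | h
        · rw [h] at h2
          exact absurd (Nat.eq_one_of_mul_eq_one_right h2) hm1
        · rw [h] at h2
          have hmpos : 0 < m := by
            rcases Nat.eq_zero_or_pos m with h0 | h0
            · rw [h0, zero_mul] at h2
              have := irr_charDegree_pos χ
              omega
            · exact h0
          exact Nat.eq_of_mul_eq_mul_left hmpos (by rw [h2, mul_one])
      rw [hψ1, hd1, Nat.cast_one]
    · exfalso
      rw [hψ1] at hψd
      have h1 : charDegree (ψ : L → ℂ) = e * t * d := by exact_mod_cast hψd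
      have h2 : p ∣ e * e * t := by
        rw [het, hrel, ha]
        exact dvd_pow_self p ha0
      have h3 : p ∣ e * t := by
        rcases (Nat.Prime.dvd_mul hp).mp h2 with h | h
        · rcases (Nat.Prime.dvd_mul hp).mp h with h' | h'
          · exact dvd_mul_of_dvd_left h' t
          · exact dvd_mul_of_dvd_left h' t
        · exact dvd_mul_of_dvd_right h e
      have h4 : p ∣ charDegree (ψ : L → ℂ) := by
        rw [h1]
        exact dvd_mul_of_dvd_left h3 d
      obtain ⟨χ, hχ⟩ := exists_irr_over L ψ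
      have h5 : p ∣ charDegree (χ : G → ℂ) := h4.trans hχ
      rcases hcd χ with h | h
      · rw [h] at h5
        exact hp.one_lt.ne' (Nat.dvd_one.mp h5)
      · rw [h, ← hLm] at h5
        have := Nat.Coprime.eq_one_of_dvd hcopL.symm h5
        exact hp.one_lt.ne' this
  have hcomm := (comm_iff_forall_irr_apply_one (G := L)).mpr hlin
  refine ⟨L, hLn, ?_, hLm⟩
  intro a ha b hb
  exact congrArg Subtype.val (hcomm ⟨a, ha⟩ ⟨b, hb⟩)

/-- **Isaacs, Theorem 12.5.** -/
theorem isaacs_12_5 (m : ℕ)
    (hcd : ∀ χ : IrrCharacter G, charDegree (χ : G → ℂ) = 1 ∨ charDegree (χ : G → ℂ) = m)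
    (hm : ∃ χ : IrrCharacter G, charDegree (χ : G → ℂ) = m) (hm1 : m ≠ 1) :
    (∃ A : Subgroup G, A.Normal ∧ (∀ a ∈ A, ∀ b ∈ A, a * b = b * a) ∧ A.index = m) ∨
    ∃ p e : ℕ, p.Prime ∧ m = p ^ e ∧ ∃ P A : Subgroup G, P.Normal ∧ A.Normal ∧ IsPGroup p P ∧
      (∀ a ∈ A, ∀ b ∈ A, a * b = b * a) ∧ P ⊓ A = ⊥ ∧ P ⊔ A = ⊤ := by
  classical
  have hna : ¬ ∀ a b : G, a * b = b * a := by
    intro h
    obtain ⟨χ, hχ⟩ := hm
    have h1 := (comm_iff_forall_irr_apply_one (G := G)).mp h χ
    have h2 := irr_apply_one χ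
    rw [h1] at h2
    have h3 : charDegree (χ : G → ℂ) = 1 := by exact_mod_cast h2.symm
    rw [hχ] at h3
    exact hm1 h3
  obtain ⟨K, hKn, hKne, hKmax⟩ := exists_max_nonabelian_quotient hna
  haveI := hKn
  obtain ⟨hmin, hQne⟩ := quotient_min K hKne hKmax
  have hcdQ := cd_quotient K m hcd
  have hQna : ¬ ∀ a b : G ⧸ K, a * b = b * a := by
    intro h
    apply hQne
    rw [eq_bot_iff, commutator_def, Subgroup.commutator_le]
    intro u _ v _
    rw [Subgroup.mem_bot, commutatorElement_def, h u v]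
    group
  obtain ⟨χ₀, hχ₀⟩ : ∃ χ : IrrCharacter (G ⧸ K), charDegree (χ : G ⧸ K → ℂ) = m := by
    by_contra hcon
    push Not at hcon
    apply hQna
    apply (comm_iff_forall_irr_apply_one (G := G ⧸ K)).mpr
    intro χ
    rcases hcdQ χ with h | h
    · rw [irr_apply_one, h, Nat.cast_one]
    · exact absurd h (hcon χ)
  by_cases hpg : ∃ p : ℕ, p.Prime ∧ IsPGroup p (G ⧸ K)
  · -- Case I
    obtain ⟨p, hp, hQp⟩ := hpg
    haveI : Fact p.Prime := ⟨hp⟩
    obtain ⟨k, hk⟩ := hQp.exists_card_eq
    have hmdvd : m ∣ p ^ k := by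
      rw [← hk, ← hχ₀]
      exact irr_charDegree_dvd_card χ₀
    obtain ⟨e, -, he⟩ := (Nat.dvd_prime_pow hp).mp hmdvd
    subst he
    have he0 : e ≠ 0 := by
      rintro rfl
      exact hm1 (pow_zero p)
    have he1 : 1 < p ^ e := Nat.one_lt_pow he0 hp.one_lt
    have hdeg : ∀ χ : IrrCharacter G, charDegree (χ : G → ℂ) ≠ 1 → p ∣ charDegree (χ : G → ℂ) := by
      intro χ hχ
      rcases hcd χ with h | h
      · exact absurd h hχ
      · rw [h]
        exact dvd_pow_self p he0
    obtain ⟨N₀, hN₀n, hN₀cop, k', hk'⟩ := thompson_normal_p_complement p hp hdeg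
    haveI := hN₀n
    have hN₀ab := comm_of_coprime_degrees N₀ (p ^ e) hcd (Nat.Coprime.pow_right e hN₀cop)
    obtain ⟨P⟩ : Nonempty (Sylow p G) := inferInstance
    have hPp : IsPGroup p (P : Subgroup G) := P.2
    have hNP : N₀ ⊓ (P : Subgroup G) = ⊥ := by
      apply Subgroup.inf_eq_bot_of_coprime
      obtain ⟨j, hj⟩ := hPp.exists_card_eq
      rw [hj]
      exact Nat.Coprime.pow_right j hN₀cop
    have hsup : N₀ ⊔ (P : Subgroup G) = ⊤ := by
      rw [← Subgroup.index_eq_one]
      have h1 : (N₀ ⊔ (P : Subgroup G)).index ∣ p ^ k' :=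
        hk' ▸ Subgroup.index_dvd_of_le le_sup_left
      have h2 : (N₀ ⊔ (P : Subgroup G)).index ∣ (P : Subgroup G).index :=
        Subgroup.index_dvd_of_le le_sup_right
      obtain ⟨j, _, hj⟩ := (Nat.dvd_prime_pow hp).mp h1
      rcases Nat.eq_zero_or_pos j with rfl | hjpos
      · rw [hj, pow_zero]
      · exfalso
        apply P.not_dvd_index
        refine dvd_trans ?_ h2
        rw [hj]
        exact dvd_pow_self p hjpos.ne'
    rcases caseI (N₀ := N₀) (P := (P : Subgroup G)) hNP hsup hN₀ab p e hPp hN₀cop he1 hcd with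
      hcent | ⟨hidx, hab⟩
    · right
      refine ⟨p, e, hp, rfl, (P : Subgroup G), N₀, ?_, hN₀n, hPp, hN₀ab, ?_, ?_⟩
      · rw [← Subgroup.normalizer_eq_top_iff, eq_top_iff, ← hsup]
        apply sup_le
        · intro n hn
          rw [Subgroup.mem_normalizer_iff]
          intro x
          have key : ∀ y ∈ (P : Subgroup G), n * y * n⁻¹ = y := by
            intro y hy
            have := (Subgroup.mem_centralizer_iff.mp (hcent hy)) n hn
            rw [this]
            group
          constructor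
          · intro hx
            rw [key x hx]
            exact hx
          · intro hx
            have h2 : n⁻¹ * (n * x * n⁻¹) * n = x := by group
            have h3 : n⁻¹ * (n * x * n⁻¹) * n = n * x * n⁻¹ := by
              have := (Subgroup.mem_centralizer_iff.mp (hcent hx)) n hn
              rw [mul_assoc, ← this]
              group
            rw [h2] at h3
            rw [h3]
            exact hx
        · exact Subgroup.le_normalizer
      · rw [inf_comm]
        exact hNP
      · rw [sup_comm]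
        exact hsup
    · left
      exact ⟨Subgroup.centralizer (N₀ : Set G), Subgroup.normal_centralizer, hab, hidx⟩
  · -- Case II
    left
    push Not at hpg
    have hmpos : 0 < m := by
      rw [← hχ₀]
      exact irr_charDegree_pos χ₀
    have hQ'cop : (Nat.card (commutator (G ⧸ K))).Coprime m := by
      apply Nat.Coprime.symm
      apply Nat.coprime_of_dvd
      intro p hp hpm hpc
      have hdeg : ∀ χ : IrrCharacter (G ⧸ K), charDegree (χ : G ⧸ K → ℂ) ≠ 1 →
          p ∣ charDegree (χ : G ⧸ K → ℂ) := by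
        intro χ hχ
        rcases hcdQ χ with h | h
        · exact absurd h hχ
        · rw [h]
          exact hpm
      obtain ⟨Np, hNpn, hNpcop, k', hk'⟩ := thompson_normal_p_complement p hp hdeg
      have hNpne : Np ≠ ⊥ := by
        rintro rfl
        apply hpg p hp
        haveI : Fact p.Prime := ⟨hp⟩
        apply IsPGroup.of_card (n := k')
        rw [← hk', Subgroup.index_bot]
      have hle := hmin Np hNpn hNpne
      have h1 : Nat.card (commutator (G ⧸ K)) ∣ Nat.card Np := Subgroup.card_dvd_of_le hle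
      have h2 : p ∣ Nat.card Np := hpc.trans h1
      have h3 := Nat.Coprime.eq_one_of_dvd hNpcop.symm h2
      exact hp.one_lt.ne' h3
    have hQ'ab := comm_of_coprime_degrees (commutator (G ⧸ K)) m hcdQ hQ'cop
    obtain ⟨p, hp, hQp | ⟨hMp, hcop, hfpf⟩⟩ := lemma_12_3 hmin hQ'ab hQne
    · exact absurd hQp (hpg p hp)
    · exact caseII K m hm1 hcd hQne hQ'ab p hp hMp hcop hfpf

end Cfsg.Agent.Lib.Helper21.Isaacs
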