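import Mathlib
import Cfsg.Prelude.Def_Blocks
import Cfsg.Agent.Lib.Lead.CharInd
import Cfsg.Agent.Lib.Lead.CharMain
import Cfsg.Agent.Lib.Lead.CharEquiv
import Cfsg.Agent.Lib.Helper6.IndFun
import Cfsg.Agent.Lib.Helper6.LinChar
import Cfsg.Agent.Lib.Helper10.SeqInd
import Cfsg.Agent.Lib.Helper24.IrrFacts
import Cfsg.Agent.Lib.Helper24.PerfectLemmas
import Cfsg.Agent.Lib.Helper2.MGroup
import Cfsg.Agent.Lib.Helper21.IsaacsMain

set_option autoImplicit false

namespace Cfsg.Agent.Lib.Helper21.Isaacs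

open Cfsg Cfsg.Agent.CharLib Cfsg.Agent.Lib.Helper6 Cfsg.Agent.Lib.Helper24 Cfsg.Agent.Lib.Helper25
open scoped ComplexConjugate

universe u

section fin
variable {G : Type u} [Group G] [Fintype G]

/-- a linear irreducible character is trivial on the commutator subgroup -/
theorem irr_apply_commutator_of_linear (χ : IrrCharacter G) (h1 : (χ : G → ℂ) 1 = 1)
    (x : G) (hx : x ∈ commutator G) : (χ : G → ℂ) x = 1 := by
  have hc := IsIrrCharacter.isCharacter χ.2
  have hker : commutator G ≤ (linCharUnitsHom hc h1).ker :=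
    Abelianization.commutator_subset_ker _
  have h2 := hker hx
  rw [MonoidHom.mem_ker] at h2
  have h3 := linCharUnitsHom_apply hc h1 x
  rw [h2] at h3
  rw [← h3]
  rfl

/-- if all irreducible characters agree at `c` and `1`, then `c = 1` -/
theorem eq_one_of_forall_irr (c : G) (h : ∀ χ : IrrCharacter G, (χ : G → ℂ) c = (χ : G → ℂ) 1) :
    c = 1 := by
  classical
  letI : Fintype (IrrCharacter G) := fintypeIrr G
  by_contra hc
  have h1 := sum_irr_degree_mul (G := G) c
  rw [if_neg hc] at h1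
  have h2 := sum_irr_degree_mul (G := G) 1
  rw [if_pos rfl] at h2
  have h3 : ∑ χ : IrrCharacter G, (χ : G → ℂ) 1 * (χ : G → ℂ) c =
      ∑ χ : IrrCharacter G, (χ : G → ℂ) 1 * (χ : G → ℂ) 1 := by
    apply Finset.sum_congr rfl
    intro χ _
    rw [h χ]
  rw [h1, h2] at h3
  have h4 : (Fintype.card G : ℂ) ≠ 0 := by
    have : 0 < Fintype.card G := Fintype.card_pos
    exact_mod_cast this.ne'
  exact h4 h3.symm

/-- The key step of Isaacs 12.6: an irreducible monomial character of degree `m` in a group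
with `cd ⊆ {1, m}` is trivial on the second derived subgroup. -/
theorem apply_commutator_of_induced (m : ℕ) (hm1 : m ≠ 1)
    (hcd : ∀ χ : IrrCharacter G, charDegree (χ : G → ℂ) = 1 ∨ charDegree (χ : G → ℂ) = m)
    (χ : IrrCharacter G) (hχm : charDegree (χ : G → ℂ) = m)
    (H : Subgroup G) (lam : H →* ℂˣ)
    (hχ : (χ : G → ℂ) = indFun H (fun h => ((lam h : ℂˣ) : ℂ))) :
    ∀ a ∈ commutator G, ∀ b ∈ commutator G,
      (χ : G → ℂ) (a * b * a⁻¹ * b⁻¹) = (χ : G → ℂ) 1 := by
  classical
  letI : Fintype (IrrCharacter G) := fintypeIrr G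
  letI : Fintype H := Fintype.ofFinite H
  -- the index of H
  have hidx : H.index = m := by
    have h1 := irr_apply_one χ
    rw [hχm, hχ, Cfsg.Agent.Lib.Helper10.indFun_apply_one_index] at h1
    simp only [map_one, Units.val_one, mul_one] at h1
    exact_mod_cast h1
  -- the permutation character
  set θ : G → ℂ := indFun H (fun _ => (1 : ℂ)) with hθ
  have hθc : IsCharacter G θ := IsCharacter.indFun H (isCharacter_one (G := H))
  have hθ1 : θ 1 = (m : ℂ) := by
    rw [hθ, Cfsg.Agent.Lib.Helper10.indFun_apply_one_index, hidx, mul_one]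
  have hθcf : IsClassFunction G θ := IsCharacter.isClassFunction hθc
  -- multiplicities
  have hn : ∀ ψ : IrrCharacter G, ∃ n : ℕ, classInner θ (ψ : G → ℂ) = n := fun ψ =>
    IsCharacter.classInner_nat hθc (IsIrrCharacter.isCharacter ψ.2)
  choose n hn using hn
  have hexp : ∀ g : G, θ g = ∑ ψ : IrrCharacter G, (n ψ : ℂ) * (ψ : G → ℂ) g := by
    intro g
    have h := congrFun (classFunction_eq_sum hθcf) g
    rw [Finset.sum_apply] at h
    rw [h]
    apply Finset.sum_congr rfl
    intro ψ _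
    rw [Pi.smul_apply, smul_eq_mul, hn ψ]
  -- the trivial character has multiplicity one
  set triv : IrrCharacter G := ⟨1, isIrrCharacter_one G⟩ with htriv
  have hntriv : n triv = 1 := by
    have h1 : classInner θ (triv : G → ℂ) = 1 := by
      rw [hθ, frobenius_reciprocity H _ (IsCharacter.isClassFunction
        (IsIrrCharacter.isCharacter triv.2))]
      unfold classInner
      simp only [htriv, Pi.one_apply, map_one, mul_one, Finset.sum_const, Finset.card_univ,
        nsmul_eq_mul]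
      rw [← Nat.card_eq_fintype_card]
      have : (Nat.card H : ℂ) ≠ 0 := by
        have : 0 < Nat.card H := Nat.card_pos
        exact_mod_cast this.ne'
      field_simp
    rw [hn] at h1
    exact_mod_cast h1
  have htrivdeg : charDegree (triv : G → ℂ) = 1 := by
    have := irr_apply_one triv
    simp only [htriv, Pi.one_apply] at this
    exact_mod_cast this.symm
  -- degree count
  have hsum : m = ∑ ψ : IrrCharacter G, n ψ * charDegree (ψ : G → ℂ) := by
    have h := hexp 1
    rw [hθ1] at h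
    have h2 : ∑ ψ : IrrCharacter G, (n ψ : ℂ) * (ψ : G → ℂ) 1 =
        ((∑ ψ : IrrCharacter G, n ψ * charDegree (ψ : G → ℂ) : ℕ) : ℂ) := by
      rw [Nat.cast_sum]
      apply Finset.sum_congr rfl
      intro ψ _
      rw [irr_apply_one ψ, Nat.cast_mul]
    rw [h2] at h
    exact_mod_cast h
  have hmpos : 0 < m := by
    rw [← hχm]
    exact irr_charDegree_pos χ
  -- constituents are linear
  have hlin : ∀ ψ : IrrCharacter G, n ψ ≠ 0 → charDegree (ψ : G → ℂ) = 1 := by
    intro ψ hψ
    rcases hcd ψ with h | h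
    · exact h
    · exfalso
      have hne : ψ ≠ triv := by
        intro he
        rw [he, htrivdeg] at h
        exact hm1 h.symm
      have h1 : n triv * charDegree (triv : G → ℂ) + n ψ * charDegree (ψ : G → ℂ) ≤
          ∑ ψ : IrrCharacter G, n ψ * charDegree (ψ : G → ℂ) := by
        rw [← Finset.add_sum_erase Finset.univ _ (Finset.mem_univ triv)]
        apply Nat.add_le_add_left
        exact Finset.single_le_sum (f := fun ψ : IrrCharacter G => n ψ * charDegree (ψ : G → ℂ))
          (fun _ _ => Nat.zero_le _) (Finset.mem_erase.mpr ⟨hne, Finset.mem_univ ψ⟩)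
      rw [← hsum, hntriv, htrivdeg, h] at h1
      have h2 : 1 ≤ n ψ := Nat.one_le_iff_ne_zero.mpr hψ
      nlinarith
  -- θ is constant on the commutator subgroup
  have hθcomm : ∀ x ∈ commutator G, θ x = (m : ℂ) := by
    intro x hx
    rw [hexp x, ← hθ1, hexp 1]
    apply Finset.sum_congr rfl
    intro ψ _
    by_cases h0 : n ψ = 0
    · rw [h0, Nat.cast_zero, zero_mul, zero_mul]
    · have h1 : (ψ : G → ℂ) 1 = 1 := by
        rw [irr_apply_one, hlin ψ h0, Nat.cast_one]
      rw [irr_apply_commutator_of_linear ψ h1 x hx, h1]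
  -- hence the commutator subgroup lies in H
  have hle : commutator G ≤ H := by
    intro x hx
    have h1 := hθcomm x hx
    rw [hθ, indFun_one_eq_card_fixed] at h1
    have h2 : Nat.card {q : G ⧸ H // x • q = q} = Nat.card (G ⧸ H) := by
      rw [← Subgroup.index_eq_card, hidx]
      exact_mod_cast h1
    have h3 : ∀ q : G ⧸ H, x • q = q := by
      by_contra hcon
      push Not at hcon
      obtain ⟨q, hq⟩ := hcon
      letI : Fintype (G ⧸ H) := Fintype.ofFinite _
      have := Fintype.card_subtype_lt (p := fun q : G ⧸ H => x • q = q) hq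
      rw [Nat.card_eq_fintype_card, Nat.card_eq_fintype_card] at h2
      omega
    have h4 := h3 ((1 : G) : G ⧸ H)
    rw [MulAction.Quotient.smul_mk, QuotientGroup.eq] at h4
    have h5 : x⁻¹ ∈ H := by simpa using h4
    exact inv_inv x ▸ H.inv_mem h5
  -- evaluate χ
  intro a ha b hb
  have hnorm : ∀ (g y : G), y ∈ commutator G → g⁻¹ * y * g ∈ commutator G := by
    intro g y hy
    have := (inferInstance : (commutator G).Normal).conj_mem y hy g⁻¹
    rwa [inv_inv] at this
  have hval : ∀ g : G, extendByZero H (fun h => ((lam h : ℂˣ) : ℂ))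
      (g⁻¹ * (a * b * a⁻¹ * b⁻¹) * g) = 1 := by
    intro g
    have ha' : g⁻¹ * a * g ∈ H := hle (hnorm g a ha)
    have hb' : g⁻¹ * b * g ∈ H := hle (hnorm g b hb)
    have h1 : g⁻¹ * (a * b * a⁻¹ * b⁻¹) * g =
        ((⟨g⁻¹ * a * g, ha'⟩ * ⟨g⁻¹ * b * g, hb'⟩ * ⟨g⁻¹ * a * g, ha'⟩⁻¹ *
          ⟨g⁻¹ * b * g, hb'⟩⁻¹ : H) : G) := by
      simp only [Subgroup.coe_mul, Subgroup.coe_inv]
      group
    rw [h1, extendByZero_coe]
    have h2 : lam (⟨g⁻¹ * a * g, ha'⟩ * ⟨g⁻¹ * b * g, hb'⟩ * ⟨g⁻¹ * a * g, ha'⟩⁻¹ *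
          ⟨g⁻¹ * b * g, hb'⟩⁻¹) = 1 := by
      rw [map_mul, map_mul, map_mul, map_inv, map_inv]
      rw [mul_comm (lam ⟨g⁻¹ * a * g, ha'⟩) (lam ⟨g⁻¹ * b * g, hb'⟩)]
      rw [mul_inv_cancel_right, mul_inv_cancel]
    rw [h2]
    rfl
  have h1 : (χ : G → ℂ) (a * b * a⁻¹ * b⁻¹) = (Nat.card H : ℂ)⁻¹ * (Nat.card G : ℂ) := by
    rw [hχ, indFun_apply]
    congr 1
    rw [Finset.sum_congr rfl (fun g _ => hval g), Finset.sum_const, Finset.card_univ,
      nsmul_eq_mul, mul_one, Nat.card_eq_fintype_card]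
  have h2 : (χ : G → ℂ) 1 = (Nat.card H : ℂ)⁻¹ * (Nat.card G : ℂ) := by
    rw [hχ, Cfsg.Agent.Lib.Helper6.indFun_apply_one]
    simp
  rw [h1, h2]

/-- **Isaacs 12.6 for M-groups.** -/
theorem comm_commutator_of_mgroup (m : ℕ) (hm1 : m ≠ 1)
    (hcd : ∀ χ : IrrCharacter G, charDegree (χ : G → ℂ) = 1 ∨ charDegree (χ : G → ℂ) = m)
    (hM : ∀ χ : IrrCharacter G, ∃ (H : Subgroup G) (lam : H →* ℂˣ),
      (χ : G → ℂ) = indFun H (fun h => ((lam h : ℂˣ) : ℂ))) :
    ∀ a ∈ commutator G, ∀ b ∈ commutator G, a * b = b * a := by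
  intro a ha b hb
  have hc : a * b * a⁻¹ * b⁻¹ = 1 := by
    apply eq_one_of_forall_irr
    intro χ
    rcases hcd χ with h | h
    · have h1 : (χ : G → ℂ) 1 = 1 := by rw [irr_apply_one, h, Nat.cast_one]
      rw [h1]
      apply irr_apply_commutator_of_linear χ h1
      rw [commutator_def]
      have := Subgroup.commutator_mem_commutator (Subgroup.mem_top a) (Subgroup.mem_top b)
      rwa [commutatorElement_def] at this
    · obtain ⟨H, lam, hχ⟩ := hM χ
      exact apply_commutator_of_induced m hm1 hcd χ h H lam hχ a ha b hb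
  calc a * b = (a * b * a⁻¹ * b⁻¹) * (b * a) := by group
    _ = b * a := by rw [hc, one_mul]

end fin

section main
variable {G : Type u} [Group G] [Finite G]

/-- an abelian normal subgroup of index `m` contains the commutator subgroup when
`cd(G) ⊆ {1, m}`, `m ≠ 1` -/
theorem commutator_le_of_index_eq (m : ℕ) (hm1 : m ≠ 1)
    (hcd : ∀ χ : IrrCharacter G, charDegree (χ : G → ℂ) = 1 ∨ charDegree (χ : G → ℂ) = m)
    (A : Subgroup G) [hA : A.Normal] (hidx : A.index = m) : commutator G ≤ A := by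
  classical
  letI : Fintype (G ⧸ A) := Fintype.ofFinite _
  letI : Fintype (IrrCharacter (G ⧸ A)) := fintypeIrr (G ⧸ A)
  have hcdQ := cd_quotient A m hcd
  have hsum := sum_charDegree_sq (G := G ⧸ A)
  have hcard : Fintype.card (G ⧸ A) = m := by
    rw [← Nat.card_eq_fintype_card, ← Subgroup.index_eq_card, hidx]
  rw [hcard] at hsum
  have hmpos : 0 < m := by
    rw [← hidx]
    exact Nat.pos_of_ne_zero Subgroup.index_ne_zero_of_finite
  have hlin : ∀ χ : IrrCharacter (G ⧸ A), (χ : G ⧸ A → ℂ) 1 = 1 := by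
    intro χ
    rcases hcdQ χ with h | h
    · rw [irr_apply_one, h, Nat.cast_one]
    · exfalso
      have h1 : charDegree (χ : G ⧸ A → ℂ) ^ 2 ≤
          ∑ χ : IrrCharacter (G ⧸ A), charDegree (χ : G ⧸ A → ℂ) ^ 2 :=
        Finset.single_le_sum (f := fun χ : IrrCharacter (G ⧸ A) => charDegree (χ : G ⧸ A → ℂ) ^ 2)
          (fun _ _ => Nat.zero_le _) (Finset.mem_univ χ)
      rw [hsum, h] at h1
      have h2 : m ≤ 1 := by nlinarith
      omega
  have hcomm := (comm_iff_forall_irr_apply_one (G := G ⧸ A)).mpr hlin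
  have hbot : commutator (G ⧸ A) ≤ ⊥ := by
    rw [commutator_def, Subgroup.commutator_le]
    intro u _ v _
    rw [Subgroup.mem_bot, commutatorElement_def, hcomm u v]
    group
  have h1 := (commutator_quotient_le_iff A ⊥).mp hbot
  intro x hx
  have h2 := h1 hx
  rw [Subgroup.mem_comap, Subgroup.mem_bot] at h2
  exact (QuotientGroup.eq_one_iff x).mp h2

/-- `G = P × A` with `P` a `p`-group and `A` abelian is nilpotent -/
theorem isNilpotent_of_pgroup_mul_abelian (p : ℕ) (hp : p.Prime) (P A : Subgroup G)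
    (hPn : P.Normal) (hAn : A.Normal) (hP : IsPGroup p P)
    (hab : ∀ a ∈ A, ∀ b ∈ A, a * b = b * a) (hinf : P ⊓ A = ⊥) (hsup : P ⊔ A = ⊤) :
    Group.IsNilpotent G := by
  haveI : Fact p.Prime := ⟨hp⟩
  haveI := hAn
  have hdec : ∀ g : G, ∃ u ∈ P, ∃ a ∈ A, g = u * a := by
    intro g
    have hg : g ∈ ((P ⊔ A : Subgroup G) : Set G) := by
      rw [hsup]
      exact Subgroup.mem_top g
    rw [Subgroup.mul_normal] at hg
    obtain ⟨u, hu, a, ha, h⟩ := Set.mem_mul.mp hg
    exact ⟨u, hu, a, ha, h.symm⟩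
  have hdis : Disjoint P A := disjoint_iff.mpr hinf
  have hcent : A ≤ Subgroup.center G := by
    intro a ha
    rw [Subgroup.mem_center_iff]
    intro g
    obtain ⟨u, hu, a', ha', rfl⟩ := hdec g
    have h1 : u * a = a * u :=
      (Subgroup.commute_of_normal_of_disjoint P A hPn hAn hdis u a hu ha).eq
    have h2 := hab a ha a' ha'
    calc u * a' * a = u * (a' * a) := by group
      _ = u * (a * a') := by rw [h2]
      _ = (u * a) * a' := by group
      _ = a * u * a' := by rw [h1]
      _ = a * (u * a') := by group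
  have hQ : IsPGroup p (G ⧸ A) := by
    apply IsPGroup.of_surjective hP ((QuotientGroup.mk' A).comp P.subtype)
    intro q
    obtain ⟨g, rfl⟩ := QuotientGroup.mk'_surjective A q
    obtain ⟨u, hu, a, ha, rfl⟩ := hdec g
    refine ⟨⟨u, hu⟩, ?_⟩
    show QuotientGroup.mk' A u = QuotientGroup.mk' A (u * a)
    rw [map_mul]
    have : QuotientGroup.mk' A a = 1 := (QuotientGroup.eq_one_iff a).mpr ha
    rw [this, mul_one]
  haveI : Group.IsNilpotent (G ⧸ A) := hQ.isNilpotent
  apply isNilpotent_of_ker_le_center (QuotientGroup.mk' A)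
  rw [QuotientGroup.ker_mk']
  exact hcent

/-- **Isaacs, Corollary 12.6.** -/
theorem isaacs_12_6 (m : ℕ)
    (hcd : ∀ χ : IrrCharacter G, charDegree (χ : G → ℂ) = 1 ∨ charDegree (χ : G → ℂ) = m)
    (hm : ∃ χ : IrrCharacter G, charDegree (χ : G → ℂ) = m) (hm1 : m ≠ 1) :
    ∀ a ∈ commutator G, ∀ b ∈ commutator G, a * b = b * a := by
  classical
  rcases isaacs_12_5 m hcd hm hm1 with ⟨A, hAn, hAab, hAidx⟩ |
    ⟨p, e, hp, -, P, A, hPn, hAn, hP, hAab, hinf, hsup⟩
  · haveI := hAn
    have hle := commutator_le_of_index_eq m hm1 hcd A hAidx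
    intro a ha b hb
    exact hAab a (hle ha) b (hle hb)
  · haveI := isNilpotent_of_pgroup_mul_abelian p hp P A hPn hAn hP hAab hinf hsup
    letI : Fintype G := Fintype.ofFinite G
    apply comm_commutator_of_mgroup m hm1 hcd
    intro χ
    exact Cfsg.Agent.Lib.Helper2.mgroup_aux (Fintype.card G) G rfl χ.1 χ.2

end main

end Cfsg.Agent.Lib.Helper21.Isaacs
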