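import Mathlib
import Cfsg.Agent.Lib.Helper20.PGroupBasics
import Cfsg.Agent.Lib.Helper21.IsaacsHalfTrans

set_option autoImplicit false

namespace Cfsg.Agent.Lib.Helper21.Isaacs

open MulAction

section defs
variable {Q V : Type*} [Group Q] [CommGroup V] [MulDistribMulAction Q V]

/-- fixed points of one element, as a subgroup -/
def fixSub (x : Q) : Subgroup V where
  carrier := {v | x • v = v}
  one_mem' := smul_one x
  mul_mem' := fun {a b} ha hb => by
    have ha' : x • a = a := ha
    have hb' : x • b = b := hb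
    show x • (a * b) = a * b
    rw [smul_mul', ha', hb']
  inv_mem' := fun {a} ha => by
    have ha' : x • a = a := ha
    show x • a⁻¹ = a⁻¹
    rw [smul_inv', ha']

theorem mem_fixSub {x : Q} {v : V} : v ∈ fixSub x ↔ x • v = v := Iff.rfl

variable (Q) in
/-- global fixed points, as a subgroup -/
def fixAll : Subgroup V where
  carrier := {v | ∀ x : Q, x • v = v}
  one_mem' := fun x => smul_one x
  mul_mem' := fun {a b} ha hb x => by
    rw [smul_mul', ha x, hb x]
  inv_mem' := fun {a} ha x => by
    rw [smul_inv', ha x]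

theorem mem_fixAll {v : V} : v ∈ fixAll Q ↔ ∀ x : Q, x • v = v := Iff.rfl

theorem fixAll_le (x : Q) : fixAll Q ≤ (fixSub x : Subgroup V) := fun _ hv => hv x

/-- the commutator endomorphism `v ↦ (x • v) * v⁻¹` -/
def comHom (x : Q) : V →* V where
  toFun v := (x • v) * v⁻¹
  map_one' := by rw [smul_one, inv_one, mul_one]
  map_mul' a b := by
    rw [smul_mul', mul_inv]
    exact mul_mul_mul_comm _ _ _ _

theorem comHom_apply (x : Q) (v : V) : comHom x v = (x • v) * v⁻¹ := rfl

theorem comHom_ker (x : Q) : (comHom x : V →* V).ker = fixSub x := by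
  ext v
  rw [MonoidHom.mem_ker, comHom_apply, mem_fixSub, mul_inv_eq_one]

theorem card_fixSub_mul_card_range [Finite V] (x : Q) :
    Nat.card (fixSub x : Subgroup V) * Nat.card (comHom x : V →* V).range = Nat.card V := by
  rw [← comHom_ker, ← Subgroup.index_ker]
  exact Subgroup.card_mul_index _

theorem mem_cent_top {g : Q} : g ∈ cent Q (⊤ : Subgroup V) ↔ ∀ v : V, g • v = v :=
  ⟨fun h v => h v (Subgroup.mem_top v), fun h v _ => h v⟩

theorem fixSub_eq_top_iff {g : Q} : (fixSub g : Subgroup V) = ⊤ ↔ g ∈ cent Q (⊤ : Subgroup V) := by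
  rw [mem_cent_top, eq_top_iff]
  constructor
  · intro h v
    exact h (Subgroup.mem_top v)
  · intro h v _
    exact h v

theorem stabilizer_eq_top_iff {v : V} : stabilizer Q v = ⊤ ↔ v ∈ fixAll Q := by
  rw [eq_top_iff, mem_fixAll]
  constructor
  · intro h x
    exact mem_stabilizer_iff.mp (h (Subgroup.mem_top x))
  · intro h x _
    exact mem_stabilizer_iff.mpr (h x)

end defs

section count
variable {Q V : Type*} [Group Q] [CommGroup V] [MulDistribMulAction Q V] [Finite Q] [Finite V]

/-- double counting of fixed pairs -/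
theorem sum_card_fixSub [Fintype Q] [Fintype V] :
    ∑ x : Q, Nat.card (fixSub x : Subgroup V) = ∑ v : V, Nat.card (stabilizer Q v) := by
  classical
  have h1 : ∀ x : Q, Nat.card (fixSub x : Subgroup V) = ∑ v : V, if x • v = v then 1 else 0 := by
    intro x
    show Nat.card {v : V // x • v = v} = _
    rw [Nat.card_eq_fintype_card, Fintype.card_subtype, Finset.card_filter]
  have h2 : ∀ v : V, Nat.card (stabilizer Q v) = ∑ x : Q, if x • v = v then 1 else 0 := by
    intro v
    show Nat.card {x : Q // x ∈ stabilizer Q v} = _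
    have : Nat.card {x : Q // x ∈ stabilizer Q v} = Nat.card {x : Q // x • v = v} := rfl
    rw [this, Nat.card_eq_fintype_card, Fintype.card_subtype, Finset.card_filter]
  rw [Finset.sum_congr rfl (fun x _ => h1 x), Finset.sum_congr rfl (fun v _ => h2 v)]
  exact Finset.sum_comm

theorem card_mul_card_le (A A' : Subgroup V) :
    Nat.card A * Nat.card A' ≤ Nat.card V * Nat.card (A ⊓ A' : Subgroup V) := by
  have h1 : Nat.card (A ⊓ A' : Subgroup V) * (A ⊓ A').relIndex A' = Nat.card A' := by
    rw [← Subgroup.card_mul_index ((A ⊓ A').subgroupOf A')]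
    congr 1
    exact (Nat.card_congr (Subgroup.subgroupOfEquivOfLe inf_le_right).toEquiv).symm
  have h2 : (A ⊓ A').relIndex A' = A.relIndex A' := Subgroup.inf_relIndex_right A A'
  have h3 : A.relIndex A' ≤ A.index :=
    Nat.le_of_dvd (Nat.pos_of_ne_zero Subgroup.index_ne_zero_of_finite)
      (Subgroup.relIndex_dvd_index_of_normal A A')
  have h4 : Nat.card A * A.index = Nat.card V := Subgroup.card_mul_index A
  calc Nat.card A * Nat.card A' = Nat.card A * (Nat.card (A ⊓ A' : Subgroup V) * A.relIndex A') := by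
        rw [← h2, h1]
    _ ≤ Nat.card A * (Nat.card (A ⊓ A' : Subgroup V) * A.index) := by
        apply Nat.mul_le_mul_left
        exact Nat.mul_le_mul_left _ h3
    _ = Nat.card V * Nat.card (A ⊓ A' : Subgroup V) := by
        rw [← h4]; ring

end count

section helpers

theorem sum_ite_mem_int {X : Type*} [Group X] [Fintype X] (H : Subgroup X) [DecidablePred (· ∈ H)]
    (a : ℤ) : ∑ x : X, (if x ∈ H then a else 0) = (Nat.card H : ℤ) * a := by
  classical
  rw [Finset.sum_ite, Finset.sum_const_zero, add_zero, Finset.sum_const, nsmul_eq_mul]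
  congr 2
  show _ = Nat.card {x : X // x ∈ H}
  rw [Nat.card_eq_fintype_card, Fintype.card_subtype]

theorem card_eq_card_mul_relIndex {X : Type*} [Group X] {H K : Subgroup X} (h : H ≤ K) :
    Nat.card K = Nat.card H * H.relIndex K := by
  rw [← Subgroup.card_mul_index (H.subgroupOf K)]
  congr 1
  exact Nat.card_congr (Subgroup.subgroupOfEquivOfLe h).toEquiv

end helpers

section rank2
variable {Q V : Type*} [Group Q] [CommGroup V] [MulDistribMulAction Q V] [Finite Q] [Finite V]

set_option maxHeartbeats 1000000 in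
/-- the rank two counting lemma -/
theorem rank_two_count (p : ℕ) [hp : Fact p.Prime] (hV : IsPGroup p V)
    (hidx : (cent Q (⊤ : Subgroup V)).index = p ^ 2)
    (horb : ∀ v : V, (stabilizer Q v).index = 1 ∨ (stabilizer Q v).index = p) :
    (∀ x : Q, x ∉ cent Q (⊤ : Subgroup V) → Nat.card (fixSub x : Subgroup V) * p = Nat.card V) ∧
      Nat.card (fixAll Q : Subgroup V) * p ^ 2 = Nat.card V := by
  classical
  letI : Fintype Q := Fintype.ofFinite Q
  letI : Fintype V := Fintype.ofFinite V
  set C : Subgroup Q := cent Q (⊤ : Subgroup V) with hC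
  have hp2 : (2 : ℤ) ≤ (p : ℤ) := by exact_mod_cast hp.out.two_le
  set n : ℤ := (Nat.card V : ℤ) with hn
  set F : ℤ := (Nat.card (fixAll Q : Subgroup V) : ℤ) with hF
  set c : ℤ := (Nat.card C : ℤ) with hc
  set u : Q → ℤ := fun x => (Nat.card (fixSub x : Subgroup V) : ℤ) with hu
  have hcpos : 0 < c := by
    have : 0 < Nat.card C := Nat.card_pos
    rw [hc]
    exact_mod_cast this
  have hFpos : 0 < F := by
    have : 0 < Nat.card (fixAll Q : Subgroup V) := Nat.card_pos
    rw [hF]
    exact_mod_cast this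
  have hcardQ : (Nat.card Q : ℤ) = c * (p : ℤ) ^ 2 := by
    have := Subgroup.card_mul_index C
    rw [hidx] at this
    rw [hc]
    exact_mod_cast this.symm
  have hFu : ∀ x : Q, F ≤ u x := by
    intro x
    have := Nat.le_of_dvd Nat.card_pos (Subgroup.card_dvd_of_le (fixAll_le (V := V) x))
    show (Nat.card (fixAll Q : Subgroup V) : ℤ) ≤ (Nat.card (fixSub x : Subgroup V) : ℤ)
    exact_mod_cast this
  have huC : ∀ x : Q, x ∈ C → u x = n := by
    intro x hx
    have h1 : (fixSub x : Subgroup V) = ⊤ := fixSub_eq_top_iff.mpr hx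
    show (Nat.card (fixSub x : Subgroup V) : ℤ) = n
    rw [h1, Subgroup.card_top]
  have hupn : ∀ x : Q, x ∉ C → (p : ℤ) * u x ≤ n := by
    intro x hx
    have h1 : (fixSub x : Subgroup V) ≠ ⊤ := fun h => hx (fixSub_eq_top_iff.mp h)
    obtain ⟨j, hj⟩ := hV.index (fixSub x : Subgroup V)
    have hj0 : j ≠ 0 := by
      rintro rfl
      rw [pow_zero] at hj
      exact h1 (Subgroup.index_eq_one.mp hj)
    have h2 : p ∣ (fixSub x : Subgroup V).index := by
      rw [hj]; exact dvd_pow_self p hj0
    have h3 := Subgroup.card_mul_index (fixSub x : Subgroup V)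
    obtain ⟨t, ht⟩ := h2
    have htpos : 0 < t := by
      rcases Nat.eq_zero_or_pos t with h0 | h0
      · rw [h0, mul_zero] at ht
        exact absurd ht Subgroup.index_ne_zero_of_finite
      · exact h0
    have h4 : p * Nat.card (fixSub x : Subgroup V) ≤ Nat.card V := by
      rw [← h3, ht]
      calc p * Nat.card (fixSub x : Subgroup V) = Nat.card (fixSub x : Subgroup V) * (p * 1) := by ring
        _ ≤ Nat.card (fixSub x : Subgroup V) * (p * t) :=
          Nat.mul_le_mul_left _ (Nat.mul_le_mul_left _ htpos)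
    show (p : ℤ) * (Nat.card (fixSub x : Subgroup V) : ℤ) ≤ (Nat.card V : ℤ)
    exact_mod_cast h4
  -- stabilizer sizes
  have hstab : ∀ v : V, (p : ℤ) * (Nat.card (stabilizer Q v) : ℤ) =
      (Nat.card Q : ℤ) + if v ∈ fixAll Q then ((p : ℤ) - 1) * (Nat.card Q : ℤ) else 0 := by
    intro v
    have h1 := Subgroup.card_mul_index (stabilizer Q v)
    by_cases hv : v ∈ fixAll Q
    · rw [if_pos hv]
      have h2 : stabilizer Q v = ⊤ := stabilizer_eq_top_iff.mpr hv
      rw [h2, Subgroup.card_top]
      ring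
    · rw [if_neg hv, add_zero]
      have h2 : (stabilizer Q v).index = p := by
        rcases horb v with h | h
        · exact absurd (stabilizer_eq_top_iff.mp (Subgroup.index_eq_one.mp h)) hv
        · exact h
      rw [h2] at h1
      have h3 : ((Nat.card (stabilizer Q v) * p : ℕ) : ℤ) = (Nat.card Q : ℤ) := by exact_mod_cast h1
      push_cast at h3
      linarith
  have hsum : (p : ℤ) * ∑ x : Q, u x = (Nat.card Q : ℤ) * (n + ((p : ℤ) - 1) * F) := by
    have h1 : ∑ x : Q, u x = ∑ v : V, (Nat.card (stabilizer Q v) : ℤ) := by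
      have := sum_card_fixSub (Q := Q) (V := V)
      show ∑ x : Q, (Nat.card (fixSub x : Subgroup V) : ℤ) = _
      exact_mod_cast this
    rw [h1, Finset.mul_sum, Finset.sum_congr rfl (fun v _ => hstab v), Finset.sum_add_distrib,
      Finset.sum_const, Finset.card_univ, sum_ite_mem_int, nsmul_eq_mul,
      ← Nat.card_eq_fintype_card]
    ring
  -- indicator of C
  set iC : Q → ℤ := fun x => if x ∈ C then 1 else 0 with hiC
  have hiCsum : ∑ x : Q, iC x = c := by
    rw [hiC, sum_ite_mem_int, mul_one]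
  set S : ℤ := ∑ x : Q, (1 - iC x) * u x with hS
  have hsplit : ∑ x : Q, u x = c * n + S := by
    have h1 : ∀ x : Q, u x = iC x * n + (1 - iC x) * u x := by
      intro x
      by_cases hx : x ∈ C
      · simp only [hiC, if_pos hx, huC x hx]; ring
      · simp only [hiC, if_neg hx]; ring
    rw [Finset.sum_congr rfl (fun x _ => h1 x), Finset.sum_add_distrib, ← Finset.sum_mul, hiCsum]
  have hSval : S = c * ((p : ℤ) - 1) * (n + (p : ℤ) * F) := by
    have h1 : (p : ℤ) * (c * n + S) = c * (p : ℤ) ^ 2 * (n + ((p : ℤ) - 1) * F) := by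
      rw [← hsplit, hsum, hcardQ]
    have hp0 : (p : ℤ) ≠ 0 := by linarith
    apply mul_left_cancel₀ hp0
    linear_combination h1
  -- C is proper
  have hCne : C ≠ ⊤ := by
    intro h
    rw [h, Subgroup.index_top] at hidx
    have : 1 < p ^ 2 := Nat.one_lt_pow (by norm_num) hp.out.one_lt
    omega
  have hne : (Finset.univ.filter (fun x : Q => x ∉ C)).Nonempty := by
    by_contra hcon
    rw [Finset.not_nonempty_iff_eq_empty] at hcon
    apply hCne
    rw [eq_top_iff]
    intro x _
    by_contra hx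
    have : x ∈ Finset.univ.filter (fun x : Q => x ∉ C) := by simp [hx]
    rw [hcon] at this
    simp at this
  obtain ⟨x₀, hx₀mem, hx₀max⟩ := Finset.exists_max_image _ u hne
  have hx₀C : x₀ ∉ C := by simpa using hx₀mem
  have hmax : ∀ y : Q, y ∉ C → u y ≤ u x₀ := fun y hy => hx₀max y (by simp [hy])
  set m : ℤ := u x₀ with hm
  have hmn : m < n := by
    have := hupn x₀ hx₀C
    have hmpos : 0 < m := lt_of_lt_of_le hFpos (hFu x₀)
    nlinarith
  have hmpos : 0 < m := lt_of_lt_of_le hFpos (hFu x₀)
  set M₀ : Subgroup Q := cent Q (fixSub x₀ : Subgroup V) with hM₀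
  have hCM : C ≤ M₀ := cent_anti le_top
  have hx₀M : x₀ ∈ M₀ := fun w hw => hw
  have huM : ∀ x : Q, x ∈ M₀ → x ∉ C → u x = m := by
    intro x hx hxC
    have hle : (fixSub x₀ : Subgroup V) ≤ fixSub x := fun w hw => hx w hw
    have h1 := Nat.le_of_dvd Nat.card_pos (Subgroup.card_dvd_of_le hle)
    have h2 : m ≤ u x := by
      show (Nat.card (fixSub x₀ : Subgroup V) : ℤ) ≤ (Nat.card (fixSub x : Subgroup V) : ℤ)
      exact_mod_cast h1
    exact le_antisymm (hmax x hxC) h2
  set k : ℕ := C.relIndex M₀ with hk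
  have hkidx : k * M₀.index = p ^ 2 := by
    rw [hk, Subgroup.relIndex_mul_index hCM, hidx]
  have hk1 : k ≠ 1 := by
    intro h
    exact hx₀C (Subgroup.relIndex_eq_one.mp h hx₀M)
  have hcardM : (Nat.card M₀ : ℤ) = c * k := by
    have := card_eq_card_mul_relIndex hCM
    show (Nat.card M₀ : ℤ) = (Nat.card C : ℤ) * ((C.relIndex M₀ : ℕ) : ℤ)
    exact_mod_cast this
  set iM : Q → ℤ := fun x => if x ∈ M₀ then 1 else 0 with hiM
  have hiMsum : ∑ x : Q, iM x = c * k := by
    rw [hiM, sum_ite_mem_int, mul_one, hcardM]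
  set S₂ : ℤ := ∑ x : Q, (1 - iM x) * u x with hS₂
  have hSsplit : S = (c * k - c) * m + S₂ := by
    have h1 : ∀ x : Q, (1 - iC x) * u x = (iM x - iC x) * m + (1 - iM x) * u x := by
      intro x
      by_cases hxM : x ∈ M₀
      · by_cases hxC : x ∈ C
        · simp only [hiC, hiM, if_pos hxM, if_pos hxC]; ring
        · simp only [hiC, hiM, if_pos hxM, if_neg hxC, huM x hxM hxC]; ring
      · have hxC : x ∉ C := fun h => hxM (hCM h)
        simp only [hiC, hiM, if_neg hxM, if_neg hxC]; ring
    rw [hS, Finset.sum_congr rfl (fun x _ => h1 x), Finset.sum_add_distrib, ← Finset.sum_mul,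
      Finset.sum_sub_distrib, hiMsum, hiCsum]
  have hone : ∑ _x : Q, (1 : ℤ) = c * (p : ℤ) ^ 2 := by
    rw [Finset.sum_const, Finset.card_univ, nsmul_eq_mul, mul_one, ← Nat.card_eq_fintype_card,
      hcardQ]
  obtain ⟨j, hj2, hj⟩ := (Nat.dvd_prime_pow hp.out).mp (Dvd.intro _ hkidx)
  have hj0 : j ≠ 0 := by
    rintro rfl
    exact hk1 (by rw [hj, pow_zero])
  have hj12 : j = 1 ∨ j = 2 := by omega
  rcases hj12 with rfl | rfl
  · -- the main case: M₀ has index p
    rw [pow_one] at hj
    have hMidx : M₀.index = p := by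
      rw [hj] at hkidx
      have : p * M₀.index = p * p := by rw [hkidx]; ring
      exact Nat.eq_of_mul_eq_mul_left hp.out.pos this
    have hkz : (k : ℤ) = p := by exact_mod_cast hj
    have hinf : ∀ y : Q, y ∉ M₀ → (fixSub x₀ ⊓ fixSub y : Subgroup V) ≤ fixAll Q := by
      intro y hy v hv
      rw [← stabilizer_eq_top_iff]
      apply Cfsg.Agent.Lib.Helper20.eq_top_of_index_prime hp.out hMidx
      · intro z hz
        exact mem_stabilizer_iff.mpr (hz v hv.1)
      · intro hle
        exact hy (hle (mem_stabilizer_iff.mpr hv.2))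
    have hbound : ∀ y : Q, m * ((1 - iM y) * u y) ≤ (1 - iM y) * (n * F) := by
      intro y
      by_cases hy : y ∈ M₀
      · simp only [hiM, if_pos hy]; simp
      · simp only [hiM, if_neg hy]
        have h1 := card_mul_card_le (fixSub x₀ : Subgroup V) (fixSub y)
        have h2 := Nat.le_of_dvd Nat.card_pos (Subgroup.card_dvd_of_le (hinf y hy))
        have h3 : Nat.card (fixSub x₀ : Subgroup V) * Nat.card (fixSub y : Subgroup V) ≤
            Nat.card V * Nat.card (fixAll Q : Subgroup V) :=
          h1.trans (Nat.mul_le_mul_left _ h2)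
        have h4 : m * u y ≤ n * F := by
          show (Nat.card (fixSub x₀ : Subgroup V) : ℤ) * (Nat.card (fixSub y : Subgroup V) : ℤ) ≤
            (Nat.card V : ℤ) * (Nat.card (fixAll Q : Subgroup V) : ℤ)
          exact_mod_cast h3
        linarith
    have hS₂bound : m * S₂ ≤ (c * (p : ℤ) ^ 2 - c * k) * (n * F) := by
      rw [hS₂, Finset.mul_sum]
      calc ∑ y : Q, m * ((1 - iM y) * u y) ≤ ∑ y : Q, (1 - iM y) * (n * F) :=
            Finset.sum_le_sum (fun y _ => hbound y)
        _ = (c * (p : ℤ) ^ 2 - c * k) * (n * F) := by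
            rw [← Finset.sum_mul, Finset.sum_sub_distrib, hone, hiMsum]
    rw [hkz] at hSsplit hS₂bound
    have hS₂val : S₂ = c * ((p : ℤ) - 1) * (n + p * F - m) := by
      have := hSsplit
      rw [hSval] at this
      linear_combination -this
    have hkey : c * ((p : ℤ) - 1) * ((m - p * F) * (n - m)) ≤ 0 := by
      have h1 : c * ((p : ℤ) - 1) * ((m - p * F) * (n - m)) =
          m * S₂ - (c * (p : ℤ) ^ 2 - c * p) * (n * F) := by
        rw [hS₂val]; ring
      rw [h1]
      linarith
    have hcp : 0 < c * ((p : ℤ) - 1) := mul_pos hcpos (by linarith)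
    have hmpF : m ≤ p * F := by
      by_contra hcon
      push Not at hcon
      have h1 : 0 < (m - p * F) * (n - m) := mul_pos (by linarith) (by linarith)
      have h2 := mul_pos hcp h1
      linarith
    -- all fixed-point subgroups are small
    have hule : ∀ y : Q, (1 - iC y) * u y ≤ (1 - iC y) * (p * F) := by
      intro y
      by_cases hy : y ∈ C
      · simp only [hiC, if_pos hy]; simp
      · simp only [hiC, if_neg hy]
        have := hmax y hy
        linarith
    have hSle : S ≤ (c * (p : ℤ) ^ 2 - c) * (p * F) := by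
      calc S ≤ ∑ y : Q, (1 - iC y) * (p * F) := Finset.sum_le_sum (fun y _ => hule y)
        _ = (c * (p : ℤ) ^ 2 - c) * (p * F) := by
            rw [← Finset.sum_mul, Finset.sum_sub_distrib, hone, hiCsum]
    have hnle : n ≤ (p : ℤ) ^ 2 * F := by
      rw [hSval] at hSle
      have h1 : c * ((p : ℤ) - 1) * (n + p * F) ≤ c * ((p : ℤ) - 1) * ((p + 1) * (p * F)) := by
        calc c * ((p : ℤ) - 1) * (n + p * F) ≤ (c * (p : ℤ) ^ 2 - c) * (p * F) := hSle
          _ = c * ((p : ℤ) - 1) * ((p + 1) * (p * F)) := by ring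
      have h2 := le_of_mul_le_mul_left h1 hcp
      linarith
    have hule2 : ∀ y : Q, (p : ℤ) * ((1 - iC y) * u y) ≤ (1 - iC y) * n := by
      intro y
      by_cases hy : y ∈ C
      · simp only [hiC, if_pos hy]; simp
      · simp only [hiC, if_neg hy]
        have := hupn y hy
        linarith
    have hSle2 : (p : ℤ) * S ≤ (c * (p : ℤ) ^ 2 - c) * n := by
      rw [hS, Finset.mul_sum]
      calc ∑ y : Q, (p : ℤ) * ((1 - iC y) * u y) ≤ ∑ y : Q, (1 - iC y) * n :=
            Finset.sum_le_sum (fun y _ => hule2 y)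
        _ = (c * (p : ℤ) ^ 2 - c) * n := by
            rw [← Finset.sum_mul, Finset.sum_sub_distrib, hone, hiCsum]
    have hnge : (p : ℤ) ^ 2 * F ≤ n := by
      rw [hSval] at hSle2
      have h1 : c * ((p : ℤ) - 1) * (p * (n + p * F)) ≤ c * ((p : ℤ) - 1) * ((p + 1) * n) := by
        calc c * ((p : ℤ) - 1) * (p * (n + p * F)) = p * (c * ((p : ℤ) - 1) * (n + p * F)) := by ring
          _ ≤ (c * (p : ℤ) ^ 2 - c) * n := hSle2
          _ = c * ((p : ℤ) - 1) * ((p + 1) * n) := by ring
      have h2 := le_of_mul_le_mul_left h1 hcp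
      nlinarith
    have hnF : n = (p : ℤ) ^ 2 * F := le_antisymm hnle hnge
    have hzero : ∑ y : Q, ((1 - iC y) * (p * F) - (1 - iC y) * u y) = 0 := by
      rw [Finset.sum_sub_distrib, ← Finset.sum_mul, Finset.sum_sub_distrib, hone, hiCsum, ← hS,
        hSval, hnF]
      ring
    have hterm := (Finset.sum_eq_zero_iff_of_nonneg (fun y _ => by
      have := hule y; linarith)).mp hzero
    constructor
    · intro x hx
      have h1 := hterm x (Finset.mem_univ x)
      simp only [hiC, if_neg hx] at h1
      have h2 : u x = p * F := by linarith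
      have h3 : u x * p = n := by rw [h2, hnF]; ring
      have h3' : (Nat.card (fixSub x : Subgroup V) : ℤ) * (p : ℤ) = (Nat.card V : ℤ) := h3
      exact_mod_cast h3'
    · have h3 : F * (p : ℤ) ^ 2 = n := by rw [hnF]; ring
      have h3' : (Nat.card (fixAll Q : Subgroup V) : ℤ) * (p : ℤ) ^ 2 = (Nat.card V : ℤ) := h3
      exact_mod_cast h3'
  · -- M₀ = ⊤ : impossible
    exfalso
    have hMidx : M₀.index = 1 := by
      rw [hj] at hkidx
      have : p ^ 2 * M₀.index = p ^ 2 * 1 := by rw [hkidx]; ring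
      exact Nat.eq_of_mul_eq_mul_left (pow_pos hp.out.pos 2) this
    have hMtop : M₀ = ⊤ := Subgroup.index_eq_one.mp hMidx
    have hmF : m = F := by
      have hle : (fixSub x₀ : Subgroup V) ≤ fixAll Q := by
        intro v hv x
        have hx : x ∈ M₀ := hMtop ▸ Subgroup.mem_top x
        exact hx v hv
      have h1 : (fixSub x₀ : Subgroup V) = fixAll Q := le_antisymm hle (fixAll_le x₀)
      show (Nat.card (fixSub x₀ : Subgroup V) : ℤ) = F
      rw [h1]
    have hkz : (k : ℤ) = (p : ℤ) ^ 2 := by exact_mod_cast hj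
    have hS₂0 : S₂ = 0 := by
      rw [hS₂]
      apply Finset.sum_eq_zero
      intro x _
      have hx : x ∈ M₀ := hMtop ▸ Subgroup.mem_top x
      simp only [hiM, if_pos hx]; simp
    rw [hS₂0, hkz, hSval, hmF, add_zero] at hSsplit
    have hcp : 0 < c * ((p : ℤ) - 1) := mul_pos hcpos (by linarith)
    have h1 : c * ((p : ℤ) - 1) * (n + p * F) = c * ((p : ℤ) - 1) * ((p + 1) * F) := by
      rw [hSsplit]; ring
    have h2 := mul_left_cancel₀ hcp.ne' h1
    have h3 : n = F := by linarith
    have h4 : (fixAll Q : Subgroup V) = ⊤ := by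
      apply Subgroup.eq_top_of_card_eq
      have : (Nat.card (fixAll Q : Subgroup V) : ℤ) = (Nat.card V : ℤ) := h3.symm
      exact_mod_cast this
    apply hCne
    rw [eq_top_iff]
    intro x _
    rw [hC, mem_cent_top]
    intro v
    have : v ∈ fixAll Q := h4 ▸ Subgroup.mem_top v
    exact this x

end rank2

end Cfsg.Agent.Lib.Helper21.Isaacs
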