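import Mathlib
import Cfsg.Agent.Lib.Helper20.PGroupBasics
import Cfsg.Agent.Lib.Helper21.IsaacsHalfTrans
import Cfsg.Agent.Lib.Helper21.IsaacsOrbitA

set_option autoImplicit false

namespace Cfsg.Agent.Lib.Helper21.Isaacs

open MulAction

section lemmaL
variable {P : Type*} [Group P]

/-- adjoining an element of order `p` modulo a normal subgroup -/
theorem relIndex_sup_zpowers (p : ℕ) [Fact p.Prime] (N : Subgroup P) [hN : N.Normal] (z : P)
    (hz : z ∉ N) (hzp : z ^ p ∈ N) : N.relIndex (N ⊔ Subgroup.zpowers z) = p := by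
  have h1 : (⊥ : Subgroup (P ⧸ N)).comap (QuotientGroup.mk' N) = N := by
    rw [MonoidHom.comap_bot, QuotientGroup.ker_mk']
  have h2 := Subgroup.relIndex_comap (⊥ : Subgroup (P ⧸ N)) (QuotientGroup.mk' N)
    (N ⊔ Subgroup.zpowers z)
  rw [h1] at h2
  rw [h2, Subgroup.relIndex_bot_left, Subgroup.map_sup, QuotientGroup.map_mk'_self, bot_sup_eq,
    MonoidHom.map_zpowers, Nat.card_zpowers]
  apply orderOf_eq_prime
  · rw [← map_pow]
    exact (QuotientGroup.eq_one_iff _).mpr hzp
  · intro h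
    exact hz ((QuotientGroup.eq_one_iff z).mp h)

/-- commutators lie in a normal subgroup of prime index -/
theorem commutator_mem_of_index_prime (p : ℕ) [Fact p.Prime] (N : Subgroup P) [hN : N.Normal]
    (hidx : N.index = p) (g h : P) : g * h * g⁻¹ * h⁻¹ ∈ N := by
  have hcard : Nat.card (P ⧸ N) = p := by rw [← Subgroup.index_eq_card, hidx]
  haveI : IsCyclic (P ⧸ N) := isCyclic_of_prime_card hcard
  rw [← QuotientGroup.eq_one_iff]
  have h1 : ((g * h * g⁻¹ * h⁻¹ : P) : P ⧸ N) =
      (g : P ⧸ N) * (h : P ⧸ N) * (g : P ⧸ N)⁻¹ * (h : P ⧸ N)⁻¹ := rfl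
  rw [h1, mul_comm' (g : P ⧸ N) (h : P ⧸ N)]
  group

end lemmaL

section general
variable {P V : Type*} [Group P] [CommGroup V] [MulDistribMulAction P V] [Finite P] [Finite V]

/-- the quotient by the kernel is elementary abelian when all orbits have size `1` or `p` -/
theorem quotient_elementary (p : ℕ) [hp : Fact p.Prime] (hP : IsPGroup p P)
    (horb : ∀ v : V, (stabilizer P v).index = 1 ∨ (stabilizer P v).index = p) :
    (∀ g h : P, g * h * g⁻¹ * h⁻¹ ∈ cent P (⊤ : Subgroup V)) ∧
      ∀ g : P, g ^ p ∈ cent P (⊤ : Subgroup V) := by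
  have hstab : ∀ v : V, (∀ g h : P, g * h * g⁻¹ * h⁻¹ ∈ stabilizer P v) ∧
      ∀ g : P, g ^ p ∈ stabilizer P v := by
    intro v
    rcases horb v with h1 | h1
    · have : stabilizer P v = ⊤ := Subgroup.index_eq_one.mp h1
      rw [this]
      exact ⟨fun _ _ => Subgroup.mem_top _, fun _ => Subgroup.mem_top _⟩
    · haveI : (stabilizer P v).Normal :=
        Cfsg.Agent.Lib.Helper20.normal_of_index_eq_prime_of_isPGroup hp.out hP _ h1
      refine ⟨fun g h => commutator_mem_of_index_prime p _ h1 g h, fun g => ?_⟩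
      have := Subgroup.pow_index_mem (stabilizer P v) g
      rwa [h1] at this
  constructor
  · intro g h
    rw [mem_cent_top]
    intro v
    exact mem_stabilizer_iff.mp ((hstab v).1 g h)
  · intro g
    rw [mem_cent_top]
    intro v
    exact mem_stabilizer_iff.mp ((hstab v).2 g)

theorem cent_top_normal : (cent P (⊤ : Subgroup V)).Normal :=
  cent_normal (fun _ _ _ => Subgroup.mem_top _)

/-- two subgroups of prime order sharing a nontrivial element coincide -/
theorem eq_of_card_prime_of_mem {X : Type*} [Group X] (p : ℕ) [hp : Fact p.Prime]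
    {H K : Subgroup X} (hH : Nat.card H = p) (hK : Nat.card K = p) {g : X} (hgH : g ∈ H)
    (hgK : g ∈ K) (hg : g ≠ 1) : H = K := by
  haveI : Finite H := Nat.finite_of_card_ne_zero (by rw [hH]; exact hp.out.ne_zero)
  haveI : Finite K := Nat.finite_of_card_ne_zero (by rw [hK]; exact hp.out.ne_zero)
  have key : ∀ {A B : Subgroup X}, Nat.card A = p → Finite A → g ∈ A → g ∈ B → A ≤ B := by
    intro A B hA hAf hgA hgB
    have h1 : Subgroup.zpowers (⟨g, hgA⟩ : A) = ⊤ :=
      zpowers_eq_top_of_prime_card hA (fun h => hg (congrArg Subtype.val h))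
    intro a ha
    have h2 : (⟨a, ha⟩ : A) ∈ Subgroup.zpowers (⟨g, hgA⟩ : A) := h1 ▸ Subgroup.mem_top _
    obtain ⟨k, hk⟩ := Subgroup.mem_zpowers_iff.mp h2
    have h3 : a = g ^ k := by
      have := congrArg Subtype.val hk
      simpa using this.symm
    rw [h3]
    exact B.zpow_mem hgB k
  exact le_antisymm (key hH inferInstance hgH hgK) (key hK inferInstance hgK hgH)

set_option maxHeartbeats 1000000 in
/-- the general counting statement, reduced to rank two -/
theorem fixSub_card_general (p : ℕ) [hp : Fact p.Prime] (hP : IsPGroup p P) (hV : IsPGroup p V)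
    (horb : ∀ v : V, (stabilizer P v).index = 1 ∨ (stabilizer P v).index = p)
    (x y : P) (hx : x ∉ cent P (⊤ : Subgroup V))
    (hy : y ∉ cent P (⊤ : Subgroup V) ⊔ Subgroup.zpowers x) :
    Nat.card (fixSub x : Subgroup V) * p = Nat.card V ∧
      Nat.card (fixSub y : Subgroup V) * p = Nat.card V ∧
      (y * x ∉ cent P (⊤ : Subgroup V) ∧ Nat.card (fixSub (y * x) : Subgroup V) * p = Nat.card V) ∧
      (fixSub x : Subgroup V) ≠ fixSub y := by
  classical
  set C : Subgroup P := cent P (⊤ : Subgroup V) with hC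
  haveI hCn : C.Normal := cent_top_normal
  obtain ⟨hcomm, hpow⟩ := quotient_elementary p hP horb
  set M : Subgroup P := C ⊔ Subgroup.zpowers x with hM
  have hMn : M.Normal := by
    constructor
    intro n hn g
    have h1 : g * n * g⁻¹ = (g * n * g⁻¹ * n⁻¹) * n := by group
    rw [h1]
    exact M.mul_mem (le_sup_left (a := C) (hcomm g n)) hn
  haveI := hMn
  set Q₂ : Subgroup P := M ⊔ Subgroup.zpowers y with hQ₂
  have hCM : C ≤ M := le_sup_left
  have hMQ : M ≤ Q₂ := le_sup_left
  have hxM : x ∈ M := le_sup_right (a := C) (Subgroup.mem_zpowers x)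
  have hxQ : x ∈ Q₂ := hMQ hxM
  have hyQ : y ∈ Q₂ := le_sup_right (a := M) (Subgroup.mem_zpowers y)
  have hyC : y ∉ C := fun h => hy (hCM h)
  have hr1 : C.relIndex M = p := relIndex_sup_zpowers p C x hx (hpow x)
  have hr2 : M.relIndex Q₂ = p := relIndex_sup_zpowers p M y hy (hCM (hpow y))
  have hr : C.relIndex Q₂ = p ^ 2 := by
    rw [← Subgroup.relIndex_mul_relIndex C M Q₂ hCM hMQ, hr1, hr2]; ring
  -- the action of Q₂
  have hcent : cent Q₂ (⊤ : Subgroup V) = C.subgroupOf Q₂ := by
    ext g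
    rw [mem_cent_top, Subgroup.mem_subgroupOf, hC, mem_cent_top]
    rfl
  have hidx : (cent Q₂ (⊤ : Subgroup V)).index = p ^ 2 := by
    rw [hcent]; exact hr
  have hQP : IsPGroup p Q₂ := hP.to_subgroup Q₂
  have horb₂ : ∀ v : V, (stabilizer Q₂ v).index = 1 ∨ (stabilizer Q₂ v).index = p := by
    intro v
    have h1 : stabilizer Q₂ v = (stabilizer P v).subgroupOf Q₂ := by
      ext g
      rw [mem_stabilizer_iff, Subgroup.mem_subgroupOf, mem_stabilizer_iff]
      rfl
    rw [h1]
    show (stabilizer P v).relIndex Q₂ = 1 ∨ (stabilizer P v).relIndex Q₂ = p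
    rcases horb v with h2 | h2
    · left
      have : stabilizer P v = ⊤ := Subgroup.index_eq_one.mp h2
      rw [this, Subgroup.relIndex_top_left]
    · haveI : (stabilizer P v).Normal :=
        Cfsg.Agent.Lib.Helper20.normal_of_index_eq_prime_of_isPGroup hp.out hP _ h2
      have h3 := Subgroup.relIndex_dvd_index_of_normal (stabilizer P v) Q₂
      rw [h2] at h3
      exact (Nat.dvd_prime hp.out).mp h3
  obtain ⟨hA, hB⟩ := rank_two_count (Q := Q₂) (V := V) p hV hidx horb₂
  have hfs : ∀ (z : P) (hz : z ∈ Q₂), (fixSub (⟨z, hz⟩ : Q₂) : Subgroup V) = fixSub z := by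
    intro z hz
    ext v
    rfl
  have hnot : ∀ (z : P) (hz : z ∈ Q₂), z ∉ C → (⟨z, hz⟩ : Q₂) ∉ cent Q₂ (⊤ : Subgroup V) := by
    intro z hz hzC h
    rw [hcent, Subgroup.mem_subgroupOf] at h
    exact hzC h
  have hyxC : y * x ∉ C := by
    intro h
    apply hy
    have h1 : y = (y * x) * x⁻¹ := by group
    rw [h1]
    exact M.mul_mem (hCM h) (M.inv_mem hxM)
  have h1 := hA ⟨x, hxQ⟩ (hnot x hxQ hx)
  have h2 := hA ⟨y, hyQ⟩ (hnot y hyQ hyC)
  have h3 := hA ⟨y * x, Q₂.mul_mem hyQ hxQ⟩ (hnot (y * x) _ hyxC)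
  rw [hfs] at h1 h2 h3
  refine ⟨h1, h2, ⟨hyxC, h3⟩, ?_⟩
  intro heq
  -- then `fixSub x` would be fixed by all of `Q₂`
  have hle : (fixSub x : Subgroup V) ≤ fixAll Q₂ := by
    intro v hv g
    have hstab : Q₂ ≤ stabilizer P v := by
      apply sup_le
      · apply sup_le
        · intro c hc
          exact mem_stabilizer_iff.mpr (mem_cent_top.mp hc v)
        · rw [Subgroup.zpowers_le]
          exact mem_stabilizer_iff.mpr hv
      · rw [Subgroup.zpowers_le]
        have : v ∈ (fixSub y : Subgroup V) := heq ▸ hv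
        exact mem_stabilizer_iff.mpr this
    exact mem_stabilizer_iff.mp (hstab g.2)
  have h4 := Nat.le_of_dvd Nat.card_pos (Subgroup.card_dvd_of_le hle)
  have hpos : 0 < Nat.card (fixAll Q₂ : Subgroup V) := Nat.card_pos
  have hp2 := hp.out.two_le
  have h5 : Nat.card (fixAll Q₂ : Subgroup V) * p ^ 2 = Nat.card (fixSub x : Subgroup V) * p := by
    rw [hB, h1]
  nlinarith

/-- for independent `x`, `y` the commutator endomorphisms have the same image, of order `p` -/
theorem range_comHom_eq (p : ℕ) [hp : Fact p.Prime] (hP : IsPGroup p P) (hV : IsPGroup p V)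
    (horb : ∀ v : V, (stabilizer P v).index = 1 ∨ (stabilizer P v).index = p)
    (x y : P) (hx : x ∉ cent P (⊤ : Subgroup V))
    (hy : y ∉ cent P (⊤ : Subgroup V) ⊔ Subgroup.zpowers x) :
    Nat.card (comHom x : V →* V).range = p ∧
      (comHom x : V →* V).range = (comHom y : V →* V).range := by
  obtain ⟨h1, h2, ⟨hyxC, h3⟩, hne⟩ := fixSub_card_general p hP hV horb x y hx hy
  obtain ⟨hcomm, -⟩ := quotient_elementary p hP horb
  have hcard : ∀ z : P, Nat.card (fixSub z : Subgroup V) * p = Nat.card V →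
      Nat.card (comHom z : V →* V).range = p := by
    intro z hz
    have h := card_fixSub_mul_card_range (V := V) z
    rw [← hz] at h
    exact Nat.eq_of_mul_eq_mul_left Nat.card_pos h
  have hcx := hcard x h1
  have hcy := hcard y h2
  have hcyx := hcard (y * x) h3
  -- elements distinguishing the two fixed-point subgroups
  have hex : ∀ {A A' : Subgroup V}, Nat.card A = Nat.card A' → A ≠ A' → ∃ a ∈ A, a ∉ A' := by
    intro A A' hc hne'
    by_contra hcon
    push Not at hcon
    exact hne' (Subgroup.eq_of_le_of_card_ge hcon (le_of_eq hc.symm))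
  have hcc : Nat.card (fixSub x : Subgroup V) = Nat.card (fixSub y : Subgroup V) :=
    Nat.eq_of_mul_eq_mul_right hp.out.pos (h1.trans h2.symm)
  obtain ⟨a, hax, hay⟩ := hex hcc hne
  obtain ⟨b, hby, hbx⟩ := hex hcc.symm hne.symm
  -- the value at `a`
  have ha1 : comHom (y * x) a = comHom y a := by
    rw [comHom_apply, comHom_apply, mul_smul, mem_fixSub.mp hax]
  have ha2 : comHom y a ≠ 1 := by
    intro h
    apply hay
    rw [← comHom_ker]
    exact MonoidHom.mem_ker.mpr h
  have hb1 : comHom (y * x) b = comHom x b := by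
    rw [comHom_apply, comHom_apply]
    congr 1
    have hc : y⁻¹ * x⁻¹ * (y⁻¹)⁻¹ * (x⁻¹)⁻¹ ∈ cent P (⊤ : Subgroup V) := hcomm y⁻¹ x⁻¹
    have h4 : y * x = (x * y) * (y⁻¹ * x⁻¹ * (y⁻¹)⁻¹ * (x⁻¹)⁻¹) := by group
    rw [h4, mul_smul, mem_cent_top.mp hc b, mul_smul, mem_fixSub.mp hby]
  have hb2 : comHom x b ≠ 1 := by
    intro h
    apply hbx
    rw [← comHom_ker]
    exact MonoidHom.mem_ker.mpr h
  have e1 : (comHom (y * x) : V →* V).range = (comHom y : V →* V).range :=
    eq_of_card_prime_of_mem p hcyx hcy ⟨a, ha1⟩ ⟨a, rfl⟩ ha2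
  have e2 : (comHom (y * x) : V →* V).range = (comHom x : V →* V).range :=
    eq_of_card_prime_of_mem p hcyx hcx ⟨b, hb1⟩ ⟨b, rfl⟩ hb2
  exact ⟨hcx, e2.symm.trans e1⟩

/-- **The orbit lemma.**  A `p`-group acting on an abelian `p`-group with all orbits of size at
most `p` and kernel of index at least `p ^ 2` acts by "transvections with a common centre". -/
theorem orbit_p_main (p : ℕ) [hp : Fact p.Prime] (hP : IsPGroup p P) (hV : IsPGroup p V)
    (hidx1 : (cent P (⊤ : Subgroup V)).index ≠ 1) (hidxp : (cent P (⊤ : Subgroup V)).index ≠ p)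
    (horb : ∀ v : V, (stabilizer P v).index = 1 ∨ (stabilizer P v).index = p) :
    ∃ V₁ : Subgroup V, Nat.card V₁ = p ∧ (∀ g : P, ∀ v : V, (g • v) * v⁻¹ ∈ V₁) ∧
      (∃ x₀ : P, ∀ w ∈ V₁, ∃ v : V, w = (x₀ • v) * v⁻¹) ∧ ∀ g : P, ∀ w ∈ V₁, g • w = w := by
  classical
  set C : Subgroup P := cent P (⊤ : Subgroup V) with hC
  haveI hCn : C.Normal := cent_top_normal
  obtain ⟨hcomm, hpow⟩ := quotient_elementary p hP horb
  have hCtop : C ≠ ⊤ := fun h => hidx1 (by rw [h, Subgroup.index_top])
  obtain ⟨x₀, hx₀⟩ : ∃ x₀ : P, x₀ ∉ C := by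
    by_contra hcon
    push Not at hcon
    exact hCtop (eq_top_iff.mpr (fun x _ => hcon x))
  set M : Subgroup P := C ⊔ Subgroup.zpowers x₀ with hM
  have hr1 : C.relIndex M = p := relIndex_sup_zpowers p C x₀ hx₀ (hpow x₀)
  have hMtop : M ≠ ⊤ := by
    intro h
    rw [h, Subgroup.relIndex_top_right] at hr1
    exact hidxp hr1
  obtain ⟨y₀, hy₀⟩ : ∃ y₀ : P, y₀ ∉ M := by
    by_contra hcon
    push Not at hcon
    exact hMtop (eq_top_iff.mpr (fun x _ => hcon x))
  obtain ⟨hc0, he0⟩ := range_comHom_eq p hP hV horb x₀ y₀ hx₀ hy₀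
  have hle : ∀ g : P, (comHom g : V →* V).range ≤ (comHom x₀ : V →* V).range := by
    intro g
    by_cases hgC : g ∈ C
    · rintro w ⟨v, rfl⟩
      rw [comHom_apply, mem_cent_top.mp hgC v, mul_inv_cancel]
      exact Subgroup.one_mem _
    · by_cases hgM : g ∈ M
      · have hy₀g : y₀ ∉ C ⊔ Subgroup.zpowers g := by
          intro h
          apply hy₀
          have : C ⊔ Subgroup.zpowers g ≤ M :=
            sup_le le_sup_left (Subgroup.zpowers_le.mpr hgM)
          exact this h
        obtain ⟨-, he1⟩ := range_comHom_eq p hP hV horb g y₀ hgC hy₀g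
        rw [he1, he0]
      · obtain ⟨-, he1⟩ := range_comHom_eq p hP hV horb x₀ g hx₀ hgM
        rw [he1]
  set V₁ : Subgroup V := (comHom x₀ : V →* V).range with hV₁
  have hmem : ∀ g : P, ∀ v : V, (g • v) * v⁻¹ ∈ V₁ := fun g v => hle g ⟨v, rfl⟩
  refine ⟨V₁, hc0, hmem, ⟨x₀, ?_⟩, ?_⟩
  · rintro w ⟨v, rfl⟩
    exact ⟨v, rfl⟩
  · intro g w hw
    by_cases hw1 : w = 1
    · rw [hw1, smul_one]
    · -- the orbit of `w` lies in `V₁ \ {1}`
      have hsub : orbit P w ⊆ (V₁ : Set V) \ {1} := by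
        rintro _ ⟨h, rfl⟩
        refine ⟨?_, ?_⟩
        · have h1 := hmem h w
          have h2 : h • w = ((h • w) * w⁻¹) * w := by group
          show h • w ∈ V₁
          rw [h2]
          exact V₁.mul_mem h1 hw
        · intro h1
          apply hw1
          have h2 : h • w = 1 := h1
          have h3 : h⁻¹ • (h • w) = w := inv_smul_smul h w
          rw [h2, smul_one] at h3
          exact h3.symm
      have hfin : ((V₁ : Set V) \ {1}).Finite := Set.toFinite _
      have h1 := Set.ncard_le_ncard hsub hfin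
      have h2 : ((V₁ : Set V) \ {1}).ncard = p - 1 := by
        rw [Set.ncard_diff_singleton_of_mem (Subgroup.one_mem V₁)]
        congr 1
      rw [h2, ← index_stabilizer] at h1
      have hp2 := hp.out.two_le
      rcases horb w with h3 | h3
      · have : stabilizer P w = ⊤ := Subgroup.index_eq_one.mp h3
        exact mem_stabilizer_iff.mp (this ▸ Subgroup.mem_top g)
      · omega

end general

end Cfsg.Agent.Lib.Helper21.Isaacs
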