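import Mathlib
import Cfsg.Prelude.Def_Blocks
import Cfsg.Agent.Lib.Helper21.IsaacsMain
import Cfsg.Agent.Lib.Helper21.IsaacsOrbitB

set_option autoImplicit false

namespace Cfsg.Agent.Lib.Helper21.Isaacs

open Cfsg Cfsg.Agent.CharLib Cfsg.Agent.Lib.Helper6 Cfsg.Agent.Lib.Helper24 Cfsg.Agent.Lib.Helper25
open scoped ComplexConjugate

universe u

section clifford
variable {G : Type u} [Group G] [Finite G]

/-- some irreducible character of `G` lies over a given irreducible character of a normal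
subgroup -/
theorem exists_irr_over' (N : Subgroup G) [hN : N.Normal] [Fintype G] [Fintype N]
    {θ : N → ℂ} (hθ : IsIrrCharacter N θ) :
    ∃ χ : G → ℂ, IsIrrCharacter G χ ∧ classInner (resFun N χ) θ ≠ 0 := by
  classical
  have hθc : IsCharacter N θ := IsIrrCharacter.isCharacter hθ
  have hind : IsCharacter G (indFun N θ) := IsCharacter.indFun N hθc
  have hne : indFun N θ ≠ 0 := by
    intro h
    have h1 := congrFun h 1
    rw [Cfsg.Agent.Lib.Helper6.indFun_apply_one, Pi.zero_apply] at h1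
    have hN0 : (Nat.card N : ℂ)⁻¹ ≠ 0 := by
      apply inv_ne_zero
      exact_mod_cast (Nat.card_pos (α := N)).ne'
    have hG0 : (Nat.card G : ℂ) ≠ 0 := by exact_mod_cast (Nat.card_pos (α := G)).ne'
    exact mul_ne_zero (mul_ne_zero hN0 hG0) (irr_apply_one_ne_zero ⟨θ, hθ⟩) h1
  obtain ⟨χ, hχ, hc⟩ := IsCharacter.exists_constituent hind hne
  have hχc : IsCharacter G χ := IsIrrCharacter.isCharacter hχ
  have hfr := frobenius_reciprocity N θ (IsCharacter.isClassFunction hχc)
  refine ⟨χ, hχ, ?_⟩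
  rw [hfr] at hc
  have : classInner (resFun N χ) θ = conj (classInner θ (fun h : N => χ h)) := by
    rw [classInner_conj_symm]; rfl
  rw [this]
  exact (map_ne_zero _).mpr hc

/-- **Clifford analysis of a linear character** of a normal subgroup when `cd(G) ⊆ {1, p}`. -/
theorem inertia_of_linear (p : ℕ) (hp : p.Prime)
    (hcd : ∀ χ : IrrCharacter G, charDegree (χ : G → ℂ) = 1 ∨ charDegree (χ : G → ℂ) = p)
    (B : Subgroup G) [hB : B.Normal] (f : B →* ℂˣ) :
    ∃ T : Subgroup G, (∀ g, g ∈ T ↔ cjHom B g f = f) ∧ (T.index = 1 ∨ T.index = p) ∧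
      (T.index = p → ∀ g ∈ T, ∀ h ∈ T, ∀ hc : g * h * g⁻¹ * h⁻¹ ∈ B, f ⟨_, hc⟩ = 1) := by
  classical
  letI : Fintype G := Fintype.ofFinite G
  letI : Fintype B := Fintype.ofFinite B
  set lam : B → ℂ := fun n => ((f n : ℂˣ) : ℂ) with hlam
  have hlamirr : IsIrrCharacter B lam := isIrrCharacter_of_hom f
  let T : Subgroup G :=
    { carrier := {g | conjFun B g lam = lam}
      one_mem' := conjFun_one B lam
      mul_mem' := by
        intro a b ha hb
        show conjFun B (a * b) lam = lam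
        rw [conjFun_mul]
        have ha' : conjFun B a lam = lam := ha
        rw [ha']
        exact hb
      inv_mem' := by
        intro a ha
        show conjFun B a⁻¹ lam = lam
        have ha' : conjFun B a lam = lam := ha
        rw [← ha', conjFun_inv_conjFun, ha'] }
  letI : Fintype T := Fintype.ofFinite T
  have hT : ∀ g : G, g ∈ T ↔ conjFun B g lam = lam := fun g => Iff.rfl
  have hfixiff : ∀ g : G, cjHom B g f = f ↔ conjFun B g⁻¹ lam = lam := by
    intro g
    constructor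
    · intro h
      funext n
      rw [conjFun_apply]
      have h1 : ((cjHom B g f n : ℂˣ) : ℂ) = ((f n : ℂˣ) : ℂ) := by rw [h]
      rw [cjHom_apply] at h1
      simp only [inv_inv]
      exact h1
    · intro h
      apply MonoidHom.ext
      intro n
      apply Units.ext
      have h1 := congrFun h n
      rw [conjFun_apply] at h1
      rw [cjHom_apply]
      simp only [inv_inv] at h1
      exact h1
  have hTiff : ∀ g, g ∈ T ↔ cjHom B g f = f := by
    intro g
    rw [hfixiff, ← hT]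
    exact ⟨fun h => T.inv_mem h, fun h => by simpa using T.inv_mem h⟩
  have hNT : B ≤ T := by
    intro n hn
    rw [hT]
    exact conjFun_of_mem B (IsCharacter.isClassFunction (IsIrrCharacter.isCharacter hlamirr)) hn
  obtain ⟨χ, hχ, hχne⟩ := exists_irr_over' B hlamirr
  obtain ⟨ψ, hψ, hind, hψne⟩ := exists_indFun_inertia_eq hNT hlamirr hT hχ hχne
  obtain ⟨d, hdpos, hd⟩ := IsIrrCharacter.apply_one_pos hψ
  have hdeg : T.index * d = charDegree χ := by
    have h1 := irr_apply_one ⟨χ, hχ⟩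
    have h2 : χ 1 = ((T.index * d : ℕ) : ℂ) := by
      rw [← hind, Cfsg.Agent.Lib.Helper6.indFun_apply_one, index_cast_eq, hd, Nat.cast_mul]
    have : ((T.index * d : ℕ) : ℂ) = (charDegree χ : ℂ) := by
      rw [← h2]; exact h1
    exact_mod_cast this
  have hTidx : T.index = 1 ∨ T.index = p := by
    rcases hcd ⟨χ, hχ⟩ with h | h
    · left
      rw [← hdeg] at h
      exact Nat.eq_one_of_mul_eq_one_right h
    · have h1 : T.index ∣ p := ⟨d, by rw [hdeg]; exact h.symm⟩
      exact (Nat.dvd_prime hp).mp h1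
  refine ⟨T, hTiff, hTidx, ?_⟩
  intro hTp g hg h hh hc
  have hd1 : d = 1 := by
    rcases hcd ⟨χ, hχ⟩ with h1 | h1
    · rw [← hdeg, hTp] at h1
      have := Nat.eq_one_of_mul_eq_one_right h1
      exact absurd this hp.one_lt.ne'
    · rw [← hdeg, hTp] at h1
      exact Nat.eq_of_mul_eq_mul_left hp.pos (by rw [h1, mul_one])
  have hψ1 : ψ 1 = 1 := by rw [hd, hd1, Nat.cast_one]
  have hψc : IsCharacter T ψ := IsIrrCharacter.isCharacter hψ
  set μ : T →* ℂˣ := linCharUnitsHom hψc hψ1 with hμ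
  have hμapp : ∀ t : T, ((μ t : ℂˣ) : ℂ) = ψ t := fun t => linCharUnitsHom_apply hψc hψ1 t
  -- restriction of ψ to B is lam
  let ι : B →* T := Subgroup.inclusion hNT
  have hresirr : IsIrrCharacter B (resLE hNT ψ) := by
    have h1 : resLE hNT ψ = fun n : B => (((μ.comp ι) n : ℂˣ) : ℂ) := by
      funext n
      rw [resLE_apply]
      show ψ ⟨n, hNT n.2⟩ = ((μ (ι n) : ℂˣ) : ℂ)
      rw [hμapp]
      rfl
    rw [h1]
    exact isIrrCharacter_of_hom (μ.comp ι)
  have hres : resLE hNT ψ = lam := by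
    by_contra hne
    have h1 := classInner_irr hresirr hlamirr
    rw [if_neg hne] at h1
    rw [hψne] at h1
    exact hχne h1
  -- evaluate at the commutator
  have h1 : lam ⟨g * h * g⁻¹ * h⁻¹, hc⟩ = ψ ⟨g * h * g⁻¹ * h⁻¹, hNT hc⟩ := by
    rw [← hres, resLE_apply]
  have h2 : (⟨g * h * g⁻¹ * h⁻¹, hNT hc⟩ : T) = ⟨g, hg⟩ * ⟨h, hh⟩ * ⟨g, hg⟩⁻¹ * ⟨h, hh⟩⁻¹ := rfl
  have h3 : μ (⟨g, hg⟩ * ⟨h, hh⟩ * ⟨g, hg⟩⁻¹ * ⟨h, hh⟩⁻¹) = 1 := by
    rw [map_mul, map_mul, map_mul, map_inv, map_inv]
    rw [mul_comm (μ ⟨g, hg⟩) (μ ⟨h, hh⟩)]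
    rw [mul_inv_cancel_right, mul_inv_cancel]
  have h4 : ψ ⟨g * h * g⁻¹ * h⁻¹, hNT hc⟩ = 1 := by
    rw [h2, ← hμapp, h3]
    rfl
  apply Units.ext
  show lam ⟨g * h * g⁻¹ * h⁻¹, hc⟩ = 1
  rw [h1, h4]

end clifford

section keylemma
variable {P : Type u} [Group P] [Finite P]

set_option maxHeartbeats 1000000 in
/-- **Key lemma**: in a `p`-group with `cd ⊆ {1, p}`, a self-centralizing normal abelian subgroup
of index at least `p ^ 2` contains the centre with index `p`. -/
theorem key_lemma (p : ℕ) [hp : Fact p.Prime] (hP : IsPGroup p P)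
    (hcd : ∀ χ : IrrCharacter P, charDegree (χ : P → ℂ) = 1 ∨ charDegree (χ : P → ℂ) = p)
    (B : Subgroup P) [hB : B.Normal] (hab : ∀ a ∈ B, ∀ b ∈ B, a * b = b * a)
    (hcent : Subgroup.centralizer (B : Set P) ≤ B)
    (hidx1 : B.index ≠ 1) (hidxp : B.index ≠ p) :
    (∀ g h : P, g * h * g⁻¹ * h⁻¹ ∈ B) ∧ (∀ g : P, g ^ p ∈ B) ∧
      (Subgroup.center P).relIndex B = p ∧
      (∀ g : P, ∀ b ∈ B, g⁻¹ * b * g * b⁻¹ ∈ Subgroup.center P) := by
  classical
  letI : Fintype P := Fintype.ofFinite P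
  letI : Fintype B := Fintype.ofFinite B
  letI actP : MulDistribMulAction P (B →* ℂˣ) := cjMDMA B
  have hsmul : ∀ (x : P) (f : B →* ℂˣ), x • f = cjHom B x f := fun _ _ => rfl
  letI : CommGroup B :=
    { (inferInstance : Group B) with mul_comm := fun a b => Subtype.ext (hab a a.2 b b.2) }
  have hne : NeZero ((Monoid.exponent B : ℕ) : ℂ) :=
    ⟨by exact_mod_cast Monoid.exponent_ne_zero_of_finite⟩
  have hcardV : Nat.card (B →* ℂˣ) = Nat.card B :=
    CommGroup.card_monoidHom_of_hasEnoughRootsOfUnity B ℂ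
  have hVp : IsPGroup p (B →* ℂˣ) := by
    obtain ⟨k, hk⟩ := (hP.to_subgroup B).exists_card_eq
    exact IsPGroup.of_card (n := k) (by rw [hcardV, hk])
  have hZB : Subgroup.center P ≤ B := by
    intro z hz
    apply hcent
    rw [Subgroup.mem_centralizer_iff]
    intro b _
    exact (Subgroup.mem_center_iff.mp hz b)
  -- the kernel of the action
  have hcentV : cent P (⊤ : Subgroup (B →* ℂˣ)) = B := by
    ext x
    rw [mem_cent_top]
    constructor
    · intro h
      apply hcent
      rw [Subgroup.mem_centralizer_iff]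
      intro m hm
      have h1 : ∀ f : B →* ℂˣ, f ⟨x⁻¹ * m * x, by
          have := hB.conj_mem m hm x⁻¹
          simpa using this⟩ = f ⟨m, hm⟩ := by
        intro f
        have h2 := h f
        rw [hsmul] at h2
        have h3 : cjHom B x f ⟨m, hm⟩ = f ⟨m, hm⟩ := by rw [h2]
        rw [cjHom_apply] at h3
        exact h3
      have h4 := (CommGroup.forall_apply_eq_apply_iff (G := B) (M := ℂ)).mp h1
      have h5 := congrArg Subtype.val h4
      simp only at h5
      calc m * x = x * (x⁻¹ * m * x) := by group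
        _ = x * m := by rw [h5]
    · intro hx f
      rw [hsmul]
      apply MonoidHom.ext
      intro n
      rw [cjHom_apply]
      congr 1
      apply Subtype.ext
      show x⁻¹ * n * x = n
      have := hab n n.2 x hx
      calc x⁻¹ * n * x = x⁻¹ * (n * x) := by group
        _ = x⁻¹ * (x * n) := by rw [this]
        _ = n := by group
  have horb : ∀ f : B →* ℂˣ, (MulAction.stabilizer P f).index = 1 ∨
      (MulAction.stabilizer P f).index = p := by
    intro f
    obtain ⟨T, hT, hTidx, -⟩ := inertia_of_linear p hp.out hcd B f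
    have : MulAction.stabilizer P f = T := by
      ext g
      rw [MulAction.mem_stabilizer_iff, hsmul, hT]
    rw [this]
    exact hTidx
  have hi1 : (cent P (⊤ : Subgroup (B →* ℂˣ))).index ≠ 1 := by rw [hcentV]; exact hidx1
  have hip : (cent P (⊤ : Subgroup (B →* ℂˣ))).index ≠ p := by rw [hcentV]; exact hidxp
  obtain ⟨V₁, hV₁card, hmem, ⟨x₀, hx₀⟩, hfix⟩ := orbit_p_main p hP hVp hi1 hip horb
  obtain ⟨hcomm, hpow⟩ := quotient_elementary (P := P) (V := B →* ℂˣ) p hP horb
  rw [hcentV] at hcomm hpow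
  -- a generator of V₁
  have hV₁ne : V₁ ≠ ⊥ := by
    intro h
    rw [h, Subgroup.card_bot] at hV₁card
    exact hp.out.one_lt.ne hV₁card
  obtain ⟨μ₀, hμ₀mem, hμ₀ne⟩ : ∃ μ₀ : B →* ℂˣ, μ₀ ∈ V₁ ∧ μ₀ ≠ 1 := by
    obtain ⟨a, ha⟩ := Subgroup.ne_bot_iff_exists_ne_one.mp hV₁ne
    exact ⟨(a : B →* ℂˣ), a.2, fun h => ha (Subtype.ext h)⟩
  -- evaluation
  have hconj : ∀ (g : P) (f : B →* ℂˣ) (b : B), (g • f) b = f ⟨g⁻¹ * b * g, by
      have := hB.conj_mem b b.2 g⁻¹
      simpa using this⟩ := by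
    intro g f b
    rw [hsmul, cjHom_apply]
  -- characterization of the centre
  have hVker : ∀ b : B, μ₀ b = 1 → ∀ w ∈ V₁, (w : B →* ℂˣ) b = 1 := by
    intro b hb
    set K : Subgroup (B →* ℂˣ) := V₁ ⊓ (MonoidHom.eval b).ker with hK
    have hμK : μ₀ ∈ K := ⟨hμ₀mem, MonoidHom.mem_ker.mpr hb⟩
    have hKle : K ≤ V₁ := inf_le_left
    have hKcard : Nat.card K = p := by
      have h1 : Nat.card K ∣ p := hV₁card ▸ Subgroup.card_dvd_of_le hKle
      rcases (Nat.dvd_prime hp.out).mp h1 with h | h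
      · exfalso
        have := Subgroup.card_eq_one.mp h
        rw [this, Subgroup.mem_bot] at hμK
        exact hμ₀ne hμK
      · exact h
    have hKV : K = V₁ := Subgroup.eq_of_le_of_card_ge hKle (by rw [hKcard, hV₁card])
    intro w hw
    have : w ∈ K := hKV ▸ hw
    exact MonoidHom.mem_ker.mp this.2
  have hcenter : ∀ b : B, (b : P) ∈ Subgroup.center P ↔ μ₀ b = 1 := by
    intro b
    constructor
    · intro hb
      obtain ⟨v, hv⟩ := hx₀ μ₀ hμ₀mem
      rw [hv, MonoidHom.mul_apply, MonoidHom.inv_apply, hconj]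
      have h1 : (⟨x₀⁻¹ * b * x₀, by
          have := hB.conj_mem b b.2 x₀⁻¹
          simpa using this⟩ : B) = b := by
        apply Subtype.ext
        show x₀⁻¹ * b * x₀ = b
        have := Subgroup.mem_center_iff.mp hb x₀
        calc x₀⁻¹ * b * x₀ = x₀⁻¹ * (b * x₀) := by group
          _ = x₀⁻¹ * (x₀ * b) := by rw [this]
          _ = b := by group
      rw [h1, mul_inv_cancel]
    · intro hb
      rw [Subgroup.mem_center_iff]
      intro g
      have h1 : ∀ f : B →* ℂˣ, f ⟨g⁻¹ * b * g, by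
          have := hB.conj_mem b b.2 g⁻¹
          simpa using this⟩ = f b := by
        intro f
        have h2 := hVker b hb _ (hmem g f)
        rw [MonoidHom.mul_apply, MonoidHom.inv_apply, hconj, mul_inv_eq_one] at h2
        exact h2
      have h4 := (CommGroup.forall_apply_eq_apply_iff (G := B) (M := ℂ)).mp h1
      have h5 := congrArg Subtype.val h4
      simp only at h5
      calc g * (b : P) = g * (g⁻¹ * b * g) := by rw [h5]
        _ = b * g := by group
  refine ⟨hcomm, hpow, ?_, ?_⟩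
  · -- the index
    have hker : (Subgroup.center P).subgroupOf B = μ₀.ker := by
      ext b
      rw [Subgroup.mem_subgroupOf, MonoidHom.mem_ker]
      exact hcenter b
    show ((Subgroup.center P).subgroupOf B).index = p
    rw [hker, Subgroup.index_ker]
    -- the range consists of p-th roots of unity
    have hμp : μ₀ ^ p = 1 := by
      have h1 : (⟨μ₀, hμ₀mem⟩ : V₁) ^ Nat.card V₁ = 1 := pow_card_eq_one'
      rw [hV₁card] at h1
      exact congrArg Subtype.val h1
    have hle : μ₀.range ≤ rootsOfUnity p ℂ := by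
      rintro z ⟨b, rfl⟩
      rw [mem_rootsOfUnity]
      have := congrArg (fun f : B →* ℂˣ => f b) hμp
      simpa using this
    haveI : NeZero p := ⟨hp.out.ne_zero⟩
    have hcr : Nat.card (rootsOfUnity p ℂ) = p := Complex.card_rootsOfUnity p
    have h1 : Nat.card μ₀.range ∣ p := hcr ▸ Subgroup.card_dvd_of_le hle
    rcases (Nat.dvd_prime hp.out).mp h1 with h | h
    · exfalso
      have h2 := Subgroup.card_eq_one.mp h
      apply hμ₀ne
      apply MonoidHom.ext
      intro b
      have : μ₀ b ∈ μ₀.range := ⟨b, rfl⟩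
      rw [h2, Subgroup.mem_bot] at this
      exact this
    · exact h
  · intro g b hb
    have hr : g⁻¹ * b * g * b⁻¹ ∈ B := by
      have := hB.conj_mem b hb g⁻¹
      rw [inv_inv] at this
      exact B.mul_mem this (B.inv_mem hb)
    have h1 := (hcenter ⟨g⁻¹ * b * g * b⁻¹, hr⟩).mpr
    apply h1
    have h2 : (⟨g⁻¹ * b * g * b⁻¹, hr⟩ : B) = ⟨g⁻¹ * b * g, by
        have := hB.conj_mem b hb g⁻¹
        simpa using this⟩ * (⟨b, hb⟩ : B)⁻¹ := rfl
    rw [h2, map_mul, map_inv, mul_inv_eq_one]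
    have h3 := hfix g μ₀ hμ₀mem
    have h4 : (g • μ₀) ⟨b, hb⟩ = μ₀ ⟨b, hb⟩ := by rw [h3]
    rw [hconj] at h4
    exact h4

end keylemma

end Cfsg.Agent.Lib.Helper21.Isaacs
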