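import Mathlib
import Cfsg.Prelude.Def_Blocks
import Cfsg.Agent.Lib.Helper21.IsaacsPGroupA

set_option autoImplicit false

namespace Cfsg.Agent.Lib.Helper21.Isaacs

open Cfsg Cfsg.Agent.CharLib Cfsg.Agent.Lib.Helper6 Cfsg.Agent.Lib.Helper24 Cfsg.Agent.Lib.Helper25
open scoped ComplexConjugate

universe u

section aux
variable {X : Type*} [Group X]

/-- a subgroup of prime relative index is generated by the smaller subgroup and any element
outside it -/
theorem le_sup_zpowers_of_relIndex_prime (p : ℕ) (hp : p.Prime) {Z B : Subgroup X} (hZB : Z ≤ B)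
    (hrel : Z.relIndex B = p) {b₀ : X} (hb₀ : b₀ ∈ B) (hb₀Z : b₀ ∉ Z) :
    B ≤ Z ⊔ Subgroup.zpowers b₀ := by
  set M : Subgroup X := Z ⊔ Subgroup.zpowers b₀ with hM
  have hZM : Z ≤ M := le_sup_left
  have hMB : M ≤ B := sup_le hZB (Subgroup.zpowers_le.mpr hb₀)
  have h1 := Subgroup.relIndex_mul_relIndex Z M B hZM hMB
  rw [hrel] at h1
  have h2 : Z.relIndex M ≠ 1 := by
    intro h
    have := Subgroup.relIndex_eq_one.mp h
    exact hb₀Z (this (le_sup_right (a := Z) (Subgroup.mem_zpowers b₀)))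
  have h3 : Z.relIndex M ∣ p := ⟨_, h1.symm⟩
  rcases (Nat.dvd_prime hp).mp h3 with h | h
  · exact absurd h h2
  · rw [h] at h1
    have h4 : M.relIndex B = 1 := by
      have : p * M.relIndex B = p * 1 := by rw [h1, mul_one]
      exact Nat.eq_of_mul_eq_mul_left hp.pos this
    exact Subgroup.relIndex_eq_one.mp h4

/-- adjoining one element of `p`-th power in a normal subgroup multiplies the index by `1` or `p` -/
theorem relIndex_sup_zpowers_cases (p : ℕ) [Fact p.Prime] (N : Subgroup X) [hN : N.Normal] (z : X)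
    (hzp : z ^ p ∈ N) :
    N.relIndex (N ⊔ Subgroup.zpowers z) = 1 ∨ N.relIndex (N ⊔ Subgroup.zpowers z) = p := by
  by_cases hz : z ∈ N
  · left
    rw [Subgroup.relIndex_eq_one]
    exact sup_le le_rfl (Subgroup.zpowers_le.mpr hz)
  · right
    exact relIndex_sup_zpowers p N z hz hzp

/-- separation of a point from a subgroup by a linear character, in an abelian group -/
theorem exists_hom_separating {A : Type*} [CommGroup A] [Finite A] (R : Subgroup A) {a : A}
    (ha : a ∉ R) : ∃ f : A →* ℂˣ, (∀ r ∈ R, f r = 1) ∧ f a ≠ 1 := by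
  have hne : NeZero ((Monoid.exponent (A ⧸ R) : ℕ) : ℂ) :=
    ⟨by exact_mod_cast Monoid.exponent_ne_zero_of_finite⟩
  have h1 : (QuotientGroup.mk' R a) ≠ 1 := by
    intro h
    exact ha ((QuotientGroup.eq_one_iff a).mp h)
  obtain ⟨φ, hφ⟩ := CommGroup.exists_apply_ne_one_of_hasEnoughRootsOfUnity (A ⧸ R) ℂ h1
  refine ⟨φ.comp (QuotientGroup.mk' R), ?_, hφ⟩
  intro r hr
  show φ ((r : A) : A ⧸ R) = 1
  rw [(QuotientGroup.eq_one_iff r).mpr hr, map_one]

end aux

section class2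
variable {P : Type u} [Group P] [Finite P]

set_option maxHeartbeats 1000000 in
/-- **Class two**: if moreover the index is at least `p ^ 3`, then `P' ≤ Z(P)`. -/
theorem class_two_of_large_index (p : ℕ) [hp : Fact p.Prime] (hP : IsPGroup p P)
    (hcd : ∀ χ : IrrCharacter P, charDegree (χ : P → ℂ) = 1 ∨ charDegree (χ : P → ℂ) = p)
    (B : Subgroup P) [hB : B.Normal] (hab : ∀ a ∈ B, ∀ b ∈ B, a * b = b * a)
    (hcent : Subgroup.centralizer (B : Set P) ≤ B)
    (hidx1 : B.index ≠ 1) (hidxp : B.index ≠ p) (hidxp2 : B.index ≠ p ^ 2) :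
    ∀ g h : P, g * h * g⁻¹ * h⁻¹ ∈ Subgroup.center P := by
  classical
  obtain ⟨hcomm, hpow, hrel, hrc⟩ := key_lemma p hP hcd B hab hcent hidx1 hidxp
  letI : CommGroup B :=
    { (inferInstance : Group B) with mul_comm := fun a b => Subtype.ext (hab a a.2 b b.2) }
  set Z : Subgroup P := Subgroup.center P with hZ
  have hZB : Z ≤ B := by
    intro z hz
    apply hcent
    rw [Subgroup.mem_centralizer_iff]
    intro b _
    exact (Subgroup.mem_center_iff.mp hz b)
  obtain ⟨b₀, hb₀B, hb₀Z⟩ : ∃ b₀ ∈ B, b₀ ∉ Z := by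
    by_contra hcon
    push Not at hcon
    have : Z.relIndex B = 1 := Subgroup.relIndex_eq_one.mpr hcon
    rw [hrel] at this
    exact hp.out.one_lt.ne' this
  have hBle : B ≤ Z ⊔ Subgroup.zpowers b₀ :=
    le_sup_zpowers_of_relIndex_prime p hp.out hZB hrel hb₀B hb₀Z
  -- the homomorphism ρ
  have hρZ : ∀ g : P, g⁻¹ * b₀ * g * b₀⁻¹ ∈ Z := fun g => hrc g b₀ hb₀B
  let ρ : P →* P := MonoidHom.mk' (fun g => g⁻¹ * b₀ * g * b₀⁻¹) (by
    intro a b
    have hc := Subgroup.mem_center_iff.mp (hρZ a)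
    calc (a * b)⁻¹ * b₀ * (a * b) * b₀⁻¹
        = b⁻¹ * ((a⁻¹ * b₀ * a * b₀⁻¹) * b₀) * b * b₀⁻¹ := by group
      _ = b⁻¹ * (a⁻¹ * b₀ * a * b₀⁻¹) * (b₀ * b * b₀⁻¹) := by group
      _ = (a⁻¹ * b₀ * a * b₀⁻¹) * b⁻¹ * (b₀ * b * b₀⁻¹) := by rw [hc b⁻¹]
      _ = (a⁻¹ * b₀ * a * b₀⁻¹) * (b⁻¹ * b₀ * b * b₀⁻¹) := by group)
  have hρapp : ∀ g : P, ρ g = g⁻¹ * b₀ * g * b₀⁻¹ := fun g => rfl
  have hρB : ∀ g : P, ρ g ∈ B := fun g => hZB (hρZ g)
  have hρker : ∀ g : P, ρ g = 1 → g ∈ B := by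
    intro g hg
    apply hcent
    rw [Subgroup.mem_centralizer_iff]
    intro n hn
    have hgb : g * b₀ = b₀ * g := by
      rw [hρapp] at hg
      have h1 : g⁻¹ * b₀ * g = b₀ := by
        calc g⁻¹ * b₀ * g = (g⁻¹ * b₀ * g * b₀⁻¹) * b₀ := by group
          _ = b₀ := by rw [hg, one_mul]
      calc g * b₀ = g * (g⁻¹ * b₀ * g) := by rw [h1]
        _ = b₀ * g := by group
    have hcen : Z ⊔ Subgroup.zpowers b₀ ≤ Subgroup.centralizer ({g} : Set P) := by
      apply sup_le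
      · intro z hz
        rw [Subgroup.mem_centralizer_singleton_iff]
        exact (Subgroup.mem_center_iff.mp hz g).symm
      · rw [Subgroup.zpowers_le, Subgroup.mem_centralizer_singleton_iff]
        exact hgb.symm
    have := hcen (hBle hn)
    rw [Subgroup.mem_centralizer_singleton_iff] at this
    exact this
  -- inertia groups in terms of ρ
  have hTρ : ∀ (f : B →* ℂˣ) (g : P), cjHom B g f = f ↔ f ⟨ρ g, hρB g⟩ = 1 := by
    intro f g
    have hcj : ∀ n : B, (⟨g⁻¹ * n * g, by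
        have := hB.conj_mem n n.2 g⁻¹
        simpa using this⟩ : B) = ⟨g⁻¹ * n * g * (n : P)⁻¹, by
          have := hB.conj_mem n n.2 g⁻¹
          rw [inv_inv] at this
          exact B.mul_mem this (B.inv_mem n.2)⟩ * n := by
      intro n
      apply Subtype.ext
      show g⁻¹ * n * g = g⁻¹ * n * g * (n : P)⁻¹ * n
      group
    constructor
    · intro h
      have h1 : cjHom B g f ⟨b₀, hb₀B⟩ = f ⟨b₀, hb₀B⟩ := by rw [h]
      rw [cjHom_apply, hcj ⟨b₀, hb₀B⟩, map_mul] at h1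
      have h2 : f ⟨g⁻¹ * b₀ * g * b₀⁻¹, hρB g⟩ * f ⟨b₀, hb₀B⟩ = 1 * f ⟨b₀, hb₀B⟩ := by
        rw [one_mul]; exact h1
      exact mul_right_cancel h2
    · intro h
      -- the homomorphism n ↦ f(g⁻¹ n g) f(n)⁻¹ is trivial on Z and at b₀
      set F : B →* ℂˣ := cjHom B g f * f⁻¹ with hF
      have hFZ : ∀ z : B, (z : P) ∈ Z → F z = 1 := by
        intro z hz
        rw [hF, MonoidHom.mul_apply, MonoidHom.inv_apply, cjHom_apply, mul_inv_eq_one]
        congr 1
        apply Subtype.ext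
        show g⁻¹ * z * g = z
        have := Subgroup.mem_center_iff.mp hz g
        calc g⁻¹ * (z : P) * g = g⁻¹ * ((z : P) * g) := by group
          _ = g⁻¹ * (g * z) := by rw [this]
          _ = z := by group
      have hFb : F ⟨b₀, hb₀B⟩ = 1 := by
        rw [hF, MonoidHom.mul_apply, MonoidHom.inv_apply, cjHom_apply, hcj ⟨b₀, hb₀B⟩, map_mul,
          mul_inv_eq_one]
        have : f ⟨g⁻¹ * b₀ * g * b₀⁻¹, hρB g⟩ = 1 := h
        rw [this, one_mul]
      have hF1 : ∀ n : B, F n = 1 := by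
        intro n
        have hn := hBle n.2
        have hset : (n : P) ∈ ((Z ⊔ Subgroup.zpowers b₀ : Subgroup P) : Set P) := hn
        rw [Subgroup.normal_mul] at hset
        obtain ⟨z, hz, y, hy, hzy⟩ := Set.mem_mul.mp hset
        obtain ⟨k, hk⟩ := Subgroup.mem_zpowers_iff.mp hy
        have h1 : n = (⟨z, hZB hz⟩ : B) * (⟨b₀, hb₀B⟩ : B) ^ k := by
          apply Subtype.ext
          rw [Subgroup.coe_mul, Subgroup.coe_zpow]
          show (n : P) = z * b₀ ^ k
          rw [hk, hzy]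
        rw [h1, map_mul, map_zpow, hFb, one_zpow, mul_one]
        exact hFZ ⟨z, hZB hz⟩ hz
      apply MonoidHom.ext
      intro n
      have := hF1 n
      rw [hF, MonoidHom.mul_apply, MonoidHom.inv_apply, mul_inv_eq_one] at this
      exact this
  intro g h
  by_contra hcZ
  have hcB : g * h * g⁻¹ * h⁻¹ ∈ B := hcomm g h
  -- the subgroup Q₂
  set M' : Subgroup P := B ⊔ Subgroup.zpowers g with hM'
  have hM'n : M'.Normal := by
    constructor
    intro n hn x
    have h1 : x * n * x⁻¹ = (x * n * x⁻¹ * n⁻¹) * n := by group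
    rw [h1]
    exact M'.mul_mem (le_sup_left (a := B) (hcomm x n)) hn
  haveI := hM'n
  set Q₂ : Subgroup P := M' ⊔ Subgroup.zpowers h with hQ₂
  have hBM' : B ≤ M' := le_sup_left
  have hM'Q : M' ≤ Q₂ := le_sup_left
  have hgQ : g ∈ Q₂ := hM'Q (le_sup_right (a := B) (Subgroup.mem_zpowers g))
  have hhQ : h ∈ Q₂ := le_sup_right (a := M') (Subgroup.mem_zpowers h)
  have hQ₂top : Q₂ ≠ ⊤ := by
    intro htop
    have h1 := relIndex_sup_zpowers_cases p B g (hpow g)
    have h2 := relIndex_sup_zpowers_cases p M' h (hBM' (hpow h))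
    have h3 := Subgroup.relIndex_mul_relIndex B M' Q₂ hBM' hM'Q
    rw [htop] at h3
    simp only [Subgroup.relIndex_top_right] at h3
    rw [← hM'] at h1
    rw [← hQ₂, htop, Subgroup.relIndex_top_right] at h2
    rcases h1 with h1 | h1 <;> rcases h2 with h2 | h2 <;> rw [h1, h2] at h3
    · exact hidx1 (by rw [← h3])
    · exact hidxp (by rw [← h3]; ring)
    · exact hidxp (by rw [← h3]; ring)
    · exact hidxp2 (by rw [← h3]; ring)
  obtain ⟨x, hx⟩ : ∃ x : P, x ∉ Q₂ := by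
    by_contra hcon
    push Not at hcon
    exact hQ₂top (eq_top_iff.mpr (fun y _ => hcon y))
  -- the subgroup R
  set R : Subgroup P := Q₂.map ρ with hR
  have hRZ : R ≤ Z := by
    rintro _ ⟨y, -, rfl⟩
    exact hρZ y
  have hxR : ρ x ∉ R := by
    rintro ⟨y, hy, hyx⟩
    apply hx
    have h1 : ρ (x * y⁻¹) = 1 := by rw [map_mul, map_inv, hyx, mul_inv_cancel]
    have h2 := hρker _ h1
    have h3 : x = (x * y⁻¹) * y := by group
    rw [h3]
    exact Q₂.mul_mem (hM'Q (hBM' h2)) hy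
  have hcR : g * h * g⁻¹ * h⁻¹ ∉ R := fun hc => hcZ (hRZ hc)
  set RB : Subgroup B := R.subgroupOf B with hRB
  -- characters killing R and not invariant kill the commutator
  have hkey : ∀ f : B →* ℂˣ, (∀ r ∈ RB, f r = 1) → (∃ y : P, f ⟨ρ y, hρB y⟩ ≠ 1) →
      f ⟨g * h * g⁻¹ * h⁻¹, hcB⟩ = 1 := by
    intro f hfR ⟨y, hy⟩
    obtain ⟨T, hT, hTidx, hF2⟩ := inertia_of_linear p hp.out hcd B f
    have hTp : T.index = p := by
      rcases hTidx with h1 | h1
      · exfalso
        have : T = ⊤ := Subgroup.index_eq_one.mp h1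
        have hyT : y ∈ T := this ▸ Subgroup.mem_top y
        exact hy ((hTρ f y).mp ((hT y).mp hyT))
      · exact h1
    have hmemT : ∀ z ∈ Q₂, z ∈ T := by
      intro z hz
      rw [hT, hTρ]
      apply hfR
      rw [hRB, Subgroup.mem_subgroupOf]
      exact ⟨z, hz, rfl⟩
    exact hF2 hTp g (hmemT g hgQ) h (hmemT h hhQ) hcB
  obtain ⟨f, hfR, hfc⟩ := exists_hom_separating RB (a := ⟨g * h * g⁻¹ * h⁻¹, hcB⟩) (by
    rw [hRB, Subgroup.mem_subgroupOf]; exact hcR)
  by_cases hinv : ∃ y : P, f ⟨ρ y, hρB y⟩ ≠ 1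
  · exact hfc (hkey f hfR hinv)
  · push Not at hinv
    obtain ⟨f', hf'R, hf'x⟩ := exists_hom_separating RB (a := ⟨ρ x, hρB x⟩) (by
      rw [hRB, Subgroup.mem_subgroupOf]; exact hxR)
    have h1 := hkey f' hf'R ⟨x, hf'x⟩
    have h2 := hkey (f * f') (by
      intro r hr
      rw [MonoidHom.mul_apply, hfR r hr, hf'R r hr, one_mul]) ⟨x, by
      rw [MonoidHom.mul_apply, hinv x, one_mul]
      exact hf'x⟩
    rw [MonoidHom.mul_apply, h1, mul_one] at h2
    exact hfc h2

end class2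

end Cfsg.Agent.Lib.Helper21.Isaacs
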