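import Mathlib
import Cfsg.Prelude.Def_Blocks
import Cfsg.Agent.Lib.Lead.CharMain
import Cfsg.Agent.Lib.Helper10.PGroupBasic
import Cfsg.Agent.Lib.Helper22.ConjCount
import Cfsg.Agent.Lib.Helper24.PerfectLemmas
import Cfsg.Agent.Lib.Helper21.IsaacsPGroupB

set_option autoImplicit false

namespace Cfsg.Agent.Lib.Helper21.Isaacs

open Cfsg Cfsg.Agent.CharLib Cfsg.Agent.Lib.Helper6 Cfsg.Agent.Lib.Helper24 Cfsg.Agent.Lib.Helper25
open scoped ComplexConjugate

universe u

section counting
variable {P : Type u} [Group P] [Finite P]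

/-- **Counting lemma**: small centralizers and small degrees bound the index of the centre. -/
theorem index_center_le (p : ℕ) (hp : p.Prime)
    (hcd : ∀ χ : IrrCharacter P, charDegree (χ : P → ℂ) = 1 ∨ charDegree (χ : P → ℂ) = p)
    (hC : ∀ g : P, g ∉ Subgroup.center P →
      Nat.card (Subgroup.centralizer ({g} : Set P)) ≤ p * Nat.card (Subgroup.center P)) :
    (Subgroup.center P).index ≤ p ^ 2 * (p + 1) := by
  classical
  letI : Fintype P := Fintype.ofFinite P
  letI : Fintype (IrrCharacter P) := fintypeIrr P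
  set z := Nat.card (Subgroup.center P) with hz
  set N := Nat.card P with hN
  set k := Nat.card (ConjClasses P) with hk
  have hzpos : 0 < z := Nat.card_pos
  have hNpos : 0 < N := Nat.card_pos
  -- class equation
  have h1 : k * N = ∑ g : P, Nat.card (Subgroup.centralizer ({g} : Set P)) := by
    rw [← Cfsg.Agent.Lib.Helper22.card_commute_eq_sum_card_centralizer,
      card_comm_eq_card_conjClasses_mul_card]
  have h2 : ∑ g : P, Nat.card (Subgroup.centralizer ({g} : Set P)) ≤
      ∑ g : P, ((if g ∈ Subgroup.center P then N else 0) + p * z) := by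
    apply Finset.sum_le_sum
    intro g _
    by_cases hg : g ∈ Subgroup.center P
    · rw [if_pos hg]
      have : Nat.card (Subgroup.centralizer ({g} : Set P)) ≤ N :=
        Nat.card_le_card_of_injective _ Subtype.val_injective
      omega
    · rw [if_neg hg, zero_add]
      exact hC g hg
  have h3 : ∑ g : P, ((if g ∈ Subgroup.center P then N else 0) + p * z) = z * N + N * (p * z) := by
    rw [Finset.sum_add_distrib, Finset.sum_const, Finset.card_univ, smul_eq_mul,
      ← Nat.card_eq_fintype_card, Finset.sum_ite, Finset.sum_const_zero, add_zero,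
      Finset.sum_const, smul_eq_mul]
    congr 2
    rw [hz]
    show _ = Nat.card {x : P // x ∈ Subgroup.center P}
    rw [Nat.card_eq_fintype_card, Fintype.card_subtype]
  have h4 : k * N ≤ z * N + N * (p * z) := by rw [h1]; exact h2.trans (le_of_eq h3)
  have h5 : k ≤ z * (p + 1) := by
    have : k * N ≤ (z * (p + 1)) * N := by
      calc k * N ≤ z * N + N * (p * z) := h4
        _ = (z * (p + 1)) * N := by ring
    exact Nat.le_of_mul_le_mul_right this hNpos
  -- degrees
  have h6 : N ≤ p ^ 2 * k := by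
    have hs := sum_charDegree_sq (G := P)
    have hle : ∑ χ : IrrCharacter P, charDegree (χ : P → ℂ) ^ 2 ≤
        ∑ _χ : IrrCharacter P, p ^ 2 := by
      apply Finset.sum_le_sum
      intro χ _
      rcases hcd χ with h | h
      · rw [h, one_pow]
        exact Nat.one_le_pow _ _ hp.pos
      · rw [h]
    rw [hs, Finset.sum_const, Finset.card_univ, smul_eq_mul, ← Nat.card_eq_fintype_card,
      ← Nat.card_eq_fintype_card, card_irrCharacter] at hle
    rw [hN, hk]
    calc Nat.card P ≤ Nat.card (ConjClasses P) * p ^ 2 := hle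
      _ = p ^ 2 * Nat.card (ConjClasses P) := by ring
  have h7 : N ≤ p ^ 2 * (z * (p + 1)) := h6.trans (Nat.mul_le_mul_left _ h5)
  have h8 : z * (Subgroup.center P).index = N := Subgroup.card_mul_index _
  have h9 : z * (Subgroup.center P).index ≤ z * (p ^ 2 * (p + 1)) := by
    rw [h8]
    calc N ≤ p ^ 2 * (z * (p + 1)) := h7
      _ = z * (p ^ 2 * (p + 1)) := by ring
  exact Nat.le_of_mul_le_mul_left h9 hzpos

end counting

section maxabelian
variable {R : Type*} [Group R]

open Cfsg.Agent.Lib.Helper10 in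
/-- In a finite `p`-group every normal abelian subgroup lies in a self-centralizing normal abelian
subgroup (adapted from `Helper10.exists_normal_abelian_self_centralizing`). -/
theorem exists_self_centralizing_ge [Finite R] (p : ℕ) [Fact p.Prime] (hR : IsPGroup p R)
    (A₀ : Subgroup R) (hA₀n : A₀.Normal) (hA₀c : IsMulCommutative A₀) :
    ∃ A : Subgroup R, A₀ ≤ A ∧ A.Normal ∧ IsMulCommutative A ∧
      Subgroup.centralizer (A : Set R) = A := by
  let S : Set (Subgroup R) := {A | A₀ ≤ A ∧ A.Normal ∧ IsMulCommutative A}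
  have hSne : S.Nonempty := ⟨A₀, le_rfl, hA₀n, hA₀c⟩
  obtain ⟨A, hAS, hAmax⟩ := (Set.toFinite S).exists_maximal hSne
  obtain ⟨hA₀A, hAn, hAc⟩ := hAS
  refine ⟨A, hA₀A, hAn, hAc, ?_⟩
  have hAle : A ≤ Subgroup.centralizer (A : Set R) := Subgroup.le_centralizer A
  apply le_antisymm _ hAle
  by_contra hCA
  have : A.Normal := hAn
  set C := Subgroup.centralizer (A : Set R) with hC
  have hCn : C.Normal := Subgroup.normal_centralizer
  let π := QuotientGroup.mk' A
  have hCbar_n : (C.map π).Normal := Subgroup.Normal.map hCn π (QuotientGroup.mk'_surjective A)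
  have hCbar_ne : C.map π ≠ ⊥ := by
    intro h
    apply hCA
    intro c hc
    have : π c ∈ C.map π := Subgroup.mem_map_of_mem π hc
    rw [h, Subgroup.mem_bot] at this
    exact (QuotientGroup.eq_one_iff c).mp this
  have := hCbar_n
  obtain ⟨xb, hxC, hxZ, hx1⟩ :=
    exists_mem_center_of_normal_ne_bot p (hR.to_quotient A) (C.map π) hCbar_ne
  obtain ⟨x, hxC', rfl⟩ := hxC
  have hxA : x ∉ A := fun h => hx1 ((QuotientGroup.eq_one_iff x).mpr h)
  have hB_S : A ⊔ Subgroup.zpowers x ∈ S := by
    refine ⟨le_trans hA₀A le_sup_left, ?_, ?_⟩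
    · have hzn : (Subgroup.zpowers (π x)).Normal := by
        constructor
        intro y hy g
        have hyZ : y ∈ Subgroup.center (R ⧸ A) :=
          (Subgroup.zpowers_le.mpr hxZ) hy
        have : g * y * g⁻¹ = y := by
          rw [(Subgroup.mem_center_iff.mp hyZ) g]; group
        rw [this]; exact hy
      have : A ⊔ Subgroup.zpowers x = (Subgroup.zpowers (π x)).comap π := by
        rw [← MonoidHom.map_zpowers, QuotientGroup.comap_map_mk']
      rw [this]
      exact hzn.comap π
    · rw [Subgroup.sup_eq_closure]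
      apply Subgroup.isMulCommutative_closure
      have hzC : Subgroup.zpowers x ≤ C := Subgroup.zpowers_le.mpr hxC'
      rintro a (ha | ha) b (hb | hb)
      · exact congrArg Subtype.val (hAc.is_comm.comm ⟨a, ha⟩ ⟨b, hb⟩)
      · exact (Subgroup.mem_centralizer_iff.mp (hzC hb)) a ha
      · exact ((Subgroup.mem_centralizer_iff.mp (hzC ha)) b hb).symm
      · obtain ⟨k, rfl⟩ := Subgroup.mem_zpowers_iff.mp ha
        obtain ⟨l, rfl⟩ := Subgroup.mem_zpowers_iff.mp hb
        exact (Commute.refl x).zpow_zpow k l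
  have hAB : A ≤ A ⊔ Subgroup.zpowers x := le_sup_left
  have := hAmax hB_S hAB
  exact hxA (this ((le_sup_right : Subgroup.zpowers x ≤ _) (Subgroup.mem_zpowers x)))

end maxabelian

section pgroup
variable {P : Type u} [Group P] [Finite P]

set_option maxHeartbeats 1000000 in
/-- **Isaacs 12.11 for `p`-groups**: a nonabelian `p`-group with `cd ⊆ {1, p}` has an abelian
subgroup of index `p` or a centre of index `p ^ 3`. -/
theorem pgroup_two_degrees (p : ℕ) [hp : Fact p.Prime] (hP : IsPGroup p P)
    (hcd : ∀ χ : IrrCharacter P, charDegree (χ : P → ℂ) = 1 ∨ charDegree (χ : P → ℂ) = p)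
    (hna : ¬ ∀ a b : P, a * b = b * a) :
    (∃ A : Subgroup P, A.Normal ∧ (∀ a ∈ A, ∀ b ∈ A, a * b = b * a) ∧ A.index = p) ∨
      (Subgroup.center P).index = p ^ 3 := by
  classical
  by_contra hcon
  push Not at hcon
  obtain ⟨hno, hZ3⟩ := hcon
  set Z : Subgroup P := Subgroup.center P with hZ
  have hp2 := hp.out.two_le
  -- general facts about self-centralizing normal abelian subgroups
  have hgen : ∀ B : Subgroup P, B.Normal → IsMulCommutative B →
      Subgroup.centralizer (B : Set P) = B →
      (∀ a ∈ B, ∀ b ∈ B, a * b = b * a) ∧ B.index ≠ 1 ∧ B.index ≠ p := by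
    intro B hBn hBc hBcent
    have hab : ∀ a ∈ B, ∀ b ∈ B, a * b = b * a := fun a ha b hb =>
      congrArg Subtype.val (hBc.is_comm.comm ⟨a, ha⟩ ⟨b, hb⟩)
    refine ⟨hab, ?_, fun h => hno B hBn hab h⟩
    intro h1
    have : B = ⊤ := Subgroup.index_eq_one.mp h1
    apply hna
    intro a b
    exact hab a (this ▸ Subgroup.mem_top a) b (this ▸ Subgroup.mem_top b)
  obtain ⟨B₀, -, hB₀n, hB₀c, hB₀cent⟩ :=
    exists_self_centralizing_ge p hP (⊥ : Subgroup P) inferInstance inferInstance
  obtain ⟨hab₀, hi1, hip⟩ := hgen B₀ hB₀n hB₀c hB₀cent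
  haveI := hB₀n
  obtain ⟨-, -, hrel₀, -⟩ := key_lemma p hP hcd B₀ hab₀ (le_of_eq hB₀cent) hi1 hip
  have hZB₀ : Z ≤ B₀ := by
    intro z hz
    rw [← hB₀cent, Subgroup.mem_centralizer_iff]
    intro b _
    exact (Subgroup.mem_center_iff.mp hz b)
  have hZidx : Z.index = p * B₀.index := by
    rw [← Subgroup.relIndex_mul_index hZB₀, hrel₀]
  obtain ⟨k, hk⟩ := hP.index B₀
  have hk0 : k ≠ 0 := by
    rintro rfl
    exact hi1 (by rw [hk, pow_zero])
  have hk1 : k ≠ 1 := by
    rintro rfl
    exact hip (by rw [hk, pow_one])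
  have hk2 : k ≠ 2 := by
    rintro rfl
    apply hZ3
    rw [hZidx, hk]; ring
  have hip2 : B₀.index ≠ p ^ 2 := by
    rw [hk]
    intro h
    exact hk2 (Nat.pow_right_injective hp2 h)
  have hclass2 := class_two_of_large_index p hP hcd B₀ hab₀ (le_of_eq hB₀cent) hi1 hip hip2
  -- centralizers of noncentral elements
  have hC : ∀ g : P, g ∉ Z →
      Nat.card (Subgroup.centralizer ({g} : Set P)) ≤ p * Nat.card Z := by
    intro g hg
    set A : Subgroup P := Z ⊔ Subgroup.zpowers g with hA
    have hAn : A.Normal := by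
      constructor
      intro n hn x
      have h1 : x * n * x⁻¹ = (x * n * x⁻¹ * n⁻¹) * n := by group
      rw [h1]
      exact A.mul_mem (le_sup_left (a := Z) (hclass2 x n)) hn
    have hAc : IsMulCommutative A := by
      rw [hA, Subgroup.sup_eq_closure]
      apply Subgroup.isMulCommutative_closure
      rintro a (ha | ha) b (hb | hb)
      · exact (Subgroup.mem_center_iff.mp hb a)
      · exact (Subgroup.mem_center_iff.mp ha b).symm
      · exact (Subgroup.mem_center_iff.mp hb a)
      · obtain ⟨i, rfl⟩ := Subgroup.mem_zpowers_iff.mp ha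
        obtain ⟨j, rfl⟩ := Subgroup.mem_zpowers_iff.mp hb
        exact (Commute.refl g).zpow_zpow i j
    obtain ⟨B, hAB, hBn, hBc, hBcent⟩ := exists_self_centralizing_ge p hP A hAn hAc
    obtain ⟨hab, hBi1, hBip⟩ := hgen B hBn hBc hBcent
    haveI := hBn
    obtain ⟨-, -, hrel, -⟩ := key_lemma p hP hcd B hab (le_of_eq hBcent) hBi1 hBip
    have hZB : Z ≤ B := le_trans le_sup_left hAB
    have hgB : g ∈ B := hAB (le_sup_right (a := Z) (Subgroup.mem_zpowers g))
    have hBA : B ≤ A := le_sup_zpowers_of_relIndex_prime p hp.out hZB hrel hgB hg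
    have hle : Subgroup.centralizer ({g} : Set P) ≤ B := by
      intro y hy
      rw [← hBcent, Subgroup.mem_centralizer_iff]
      intro b hb
      have hcen : A ≤ Subgroup.centralizer ({y} : Set P) := by
        apply sup_le
        · intro z hz
          rw [Subgroup.mem_centralizer_singleton_iff]
          exact (Subgroup.mem_center_iff.mp hz y).symm
        · rw [Subgroup.zpowers_le, Subgroup.mem_centralizer_singleton_iff]
          exact (Subgroup.mem_centralizer_singleton_iff.mp hy).symm
      have := hcen (hBA hb)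
      rw [Subgroup.mem_centralizer_singleton_iff] at this
      exact this
    have h1 := Nat.le_of_dvd Nat.card_pos (Subgroup.card_dvd_of_le hle)
    have h2 := card_eq_card_mul_relIndex hZB
    rw [hrel] at h2
    rw [h2] at h1
    calc Nat.card (Subgroup.centralizer ({g} : Set P)) ≤ Nat.card Z * p := h1
      _ = p * Nat.card Z := by ring
  have hle := index_center_le p hp.out hcd hC
  rw [← hZ, hZidx, hk] at hle
  have hk3 : 3 ≤ k := by omega
  have h1 : p ^ 3 ≤ p ^ k := Nat.pow_le_pow_right hp.out.pos hk3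
  have h2 : p * p ^ 3 ≤ p * p ^ k := Nat.mul_le_mul_left _ h1
  nlinarith [h2, hle, hp2]

end pgroup

end Cfsg.Agent.Lib.Helper21.Isaacs
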