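import Mathlib
import Cfsg.Prelude.Def_Blocks
import Cfsg.Agent.Lib.Lead.CharCenter
import Cfsg.Agent.Lib.Lead.CharOrtho
import Cfsg.Agent.Lib.Helper2.Ito
import Cfsg.Agent.Lib.Helper6.CentralHom
import Cfsg.Agent.Lib.Helper21.IsaacsCor126
import Cfsg.Agent.Lib.Helper21.IsaacsPGroupC

set_option autoImplicit false

namespace Cfsg.Agent.Lib.Helper21.Isaacs

open Cfsg Cfsg.Agent.CharLib Cfsg.Agent.Lib.Helper6 Cfsg.Agent.Lib.Helper24 Cfsg.Agent.Lib.Helper25
open scoped ComplexConjugate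

universe u

section converse
variable {G : Type u} [Group G] [Finite G]

/-- Ito: degrees divide the index of an abelian normal subgroup -/
theorem charDegree_dvd_index_of_abelian (A : Subgroup G) [hA : A.Normal]
    (hab : ∀ a ∈ A, ∀ b ∈ A, a * b = b * a) (χ : IrrCharacter G) :
    charDegree (χ : G → ℂ) ∣ A.index := by
  classical
  letI : Fintype G := Fintype.ofFinite G
  obtain ⟨d, hd1, hd2⟩ := Cfsg.Agent.Lib.Helper2.ito_aux (Fintype.card G) G rfl χ.1 χ.2 A hab
  have h1 := irr_apply_one χ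
  rw [hd1] at h1
  have : d = charDegree (χ : G → ℂ) := by exact_mod_cast h1
  rw [← this]
  exact hd2

/-- degrees divide the index of the centre -/
theorem charDegree_dvd_index_center (χ : IrrCharacter G) :
    charDegree (χ : G → ℂ) ∣ (Subgroup.center G).index := by
  have h1 := irr_apply_one χ
  obtain ⟨χf, n, ρ, hirr, rfl⟩ := χ
  haveI : ρ.IsIrreducible := hirr
  have h2 := finrank_dvd_index_center ρ
  have h3 : ρ.character 1 = (Module.finrank ℂ (Fin n → ℂ) : ℂ) := Representation.char_one ρ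
  change ρ.character 1 = (charDegree ρ.character : ℂ) at h1
  rw [h3] at h1
  have h4 : Module.finrank ℂ (Fin n → ℂ) = charDegree ρ.character := by exact_mod_cast h1
  rw [← h4]
  exact h2

/-- `χ(1)² ≤ |G : Z(G)|` -/
theorem charDegree_sq_le_index_center (χ : IrrCharacter G) :
    charDegree (χ : G → ℂ) ^ 2 ≤ (Subgroup.center G).index := by
  classical
  letI : Fintype G := Fintype.ofFinite G
  set d := charDegree (χ : G → ℂ) with hd
  have hχ1 : (χ : G → ℂ) 1 = (d : ℂ) := irr_apply_one χ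
  obtain ⟨c, hc1, hc2⟩ := IsIrrCharacter.exists_central_hom χ.2
  -- row orthogonality
  have h1 := classInner_irr χ.2 χ.2
  rw [if_pos rfl] at h1
  unfold classInner at h1
  have hG0 : (Nat.card G : ℂ) ≠ 0 := by exact_mod_cast (Nat.card_pos (α := G)).ne'
  have h2 : ∑ g : G, (χ : G → ℂ) g * conj ((χ : G → ℂ) g) = (Nat.card G : ℂ) := by
    have h1' : (Nat.card G : ℂ) * ((Nat.card G : ℂ)⁻¹ *
        ∑ g : G, (χ : G → ℂ) g * conj ((χ : G → ℂ) g)) = (Nat.card G : ℂ) * 1 := by rw [h1]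
    rw [← mul_assoc, mul_inv_cancel₀ hG0, one_mul, mul_one] at h1'
    exact h1'
  have h3 : ∑ g : G, Complex.normSq ((χ : G → ℂ) g) = (Nat.card G : ℝ) := by
    have h4 : ((∑ g : G, Complex.normSq ((χ : G → ℂ) g) : ℝ) : ℂ) = ((Nat.card G : ℝ) : ℂ) := by
      rw [Complex.ofReal_sum]
      simp only [← Complex.mul_conj]
      rw [h2]
      simp
    exact_mod_cast h4
  -- central elements
  have h5 : ∀ g : G, g ∈ Subgroup.center G → Complex.normSq ((χ : G → ℂ) g) = (d : ℝ) ^ 2 := by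
    intro g hg
    have h6 := hc1 ⟨g, hg⟩ 1
    rw [mul_one] at h6
    show Complex.normSq ((χ : G → ℂ) ((⟨g, hg⟩ : Subgroup.center G) : G)) = _
    rw [h6, Complex.normSq_mul, Complex.normSq_eq_norm_sq, hc2, hχ1, Complex.normSq_natCast]
    ring
  have h7 : ∑ g : G, (if g ∈ Subgroup.center G then (d : ℝ) ^ 2 else 0) ≤
      ∑ g : G, Complex.normSq ((χ : G → ℂ) g) := by
    apply Finset.sum_le_sum
    intro g _
    by_cases hg : g ∈ Subgroup.center G
    · rw [if_pos hg, h5 g hg]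
    · rw [if_neg hg]
      exact Complex.normSq_nonneg _
  have h8 : ∑ g : G, (if g ∈ Subgroup.center G then (d : ℝ) ^ 2 else 0) =
      (Nat.card (Subgroup.center G) : ℝ) * (d : ℝ) ^ 2 := by
    rw [Finset.sum_ite, Finset.sum_const_zero, add_zero, Finset.sum_const, nsmul_eq_mul]
    congr 2
    show _ = Nat.card {x : G // x ∈ Subgroup.center G}
    rw [Nat.card_eq_fintype_card, Fintype.card_subtype]
  rw [h8, h3] at h7
  have h9 : Nat.card (Subgroup.center G) * d ^ 2 ≤ Nat.card G := by exact_mod_cast h7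
  rw [← Subgroup.card_mul_index (Subgroup.center G)] at h9
  exact Nat.le_of_mul_le_mul_left h9 Nat.card_pos

/-- the "if" direction of Isaacs 12.11 -/
theorem cd_of_structure (p : ℕ) (hp : p.Prime)
    (h : (∃ A : Subgroup G, A.Normal ∧ (∀ a ∈ A, ∀ b ∈ A, a * b = b * a) ∧ A.index = p) ∨
      (Subgroup.center G).index = p ^ 3) (χ : IrrCharacter G) :
    charDegree (χ : G → ℂ) = 1 ∨ charDegree (χ : G → ℂ) = p := by
  rcases h with ⟨A, hAn, hab, hidx⟩ | hZ
  · haveI := hAn
    have := charDegree_dvd_index_of_abelian A hab χ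
    rw [hidx] at this
    exact (Nat.dvd_prime hp).mp this
  · have h1 := charDegree_dvd_index_center χ
    have h2 := charDegree_sq_le_index_center χ
    rw [hZ] at h1 h2
    obtain ⟨j, hj3, hj⟩ := (Nat.dvd_prime_pow hp).mp h1
    rw [hj] at h2 ⊢
    rw [← pow_mul] at h2
    have h3 : j * 2 ≤ 3 := (Nat.pow_le_pow_iff_right hp.one_lt).mp h2
    have hj01 : j = 0 ∨ j = 1 := by omega
    rcases hj01 with rfl | rfl
    · left; rw [pow_zero]
    · right; rw [pow_one]

end converse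

section forward
variable {G : Type u} [Group G] [Finite G]

set_option maxHeartbeats 1000000 in
/-- the "only if" direction of Isaacs 12.11 -/
theorem structure_of_cd (hG : ∃ a b : G, a * b ≠ b * a) (p : ℕ) (hp : p.Prime)
    (hcd : ∀ χ : IrrCharacter G, charDegree (χ : G → ℂ) = 1 ∨ charDegree (χ : G → ℂ) = p)
    (hm : ∃ χ : IrrCharacter G, charDegree (χ : G → ℂ) = p) :
    (∃ A : Subgroup G, A.Normal ∧ (∀ a ∈ A, ∀ b ∈ A, a * b = b * a) ∧ A.index = p) ∨
      (Subgroup.center G).index = p ^ 3 := by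
  classical
  haveI : Fact p.Prime := ⟨hp⟩
  rcases isaacs_12_5 p hcd hm hp.one_lt.ne' with hA | ⟨q, e, hq, hpe, P, A, hPn, hAn, hP, hAab, hinf, hsup⟩
  · left; exact hA
  obtain ⟨rfl, -⟩ := (Nat.Prime.pow_eq_iff hp).mp hpe.symm
  haveI := hAn
  haveI := hPn
  -- decomposition
  have hdec : ∀ g : G, ∃ u ∈ P, ∃ a ∈ A, g = u * a := by
    intro g
    have hg : g ∈ ((P ⊔ A : Subgroup G) : Set G) := by
      rw [hsup]
      exact Subgroup.mem_top g
    rw [Subgroup.mul_normal] at hg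
    obtain ⟨u, hu, a, ha, h⟩ := Set.mem_mul.mp hg
    exact ⟨u, hu, a, ha, h.symm⟩
  have hQ : IsPGroup q (G ⧸ A) := by
    apply IsPGroup.of_surjective hP ((QuotientGroup.mk' A).comp P.subtype)
    intro x
    obtain ⟨g, rfl⟩ := QuotientGroup.mk'_surjective A x
    obtain ⟨u, hu, a, ha, rfl⟩ := hdec g
    refine ⟨⟨u, hu⟩, ?_⟩
    show QuotientGroup.mk' A u = QuotientGroup.mk' A (u * a)
    rw [map_mul]
    have : QuotientGroup.mk' A a = 1 := (QuotientGroup.eq_one_iff a).mpr ha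
    rw [this, mul_one]
  -- commutators lie in P
  have hcommP : ∀ x y : G, x * y * x⁻¹ * y⁻¹ ∈ P := by
    intro x y
    obtain ⟨u, hu, a, ha, rfl⟩ := hdec x
    obtain ⟨u', hu', a', ha', rfl⟩ := hdec y
    rw [← QuotientGroup.eq_one_iff]
    have hmk : ∀ (v b : G), v ∈ P → ((v * b : G) : G ⧸ P) = (b : G ⧸ P) := by
      intro v b hv
      rw [QuotientGroup.mk_mul, (QuotientGroup.eq_one_iff v).mpr hv, one_mul]
    have h1 : (((u * a) * (u' * a') * (u * a)⁻¹ * (u' * a')⁻¹ : G) : G ⧸ P) =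
        ((u * a : G) : G ⧸ P) * ((u' * a' : G) : G ⧸ P) * ((u * a : G) : G ⧸ P)⁻¹ *
          ((u' * a' : G) : G ⧸ P)⁻¹ := rfl
    rw [h1, hmk u a hu, hmk u' a' hu']
    have h2 : (a : G ⧸ P) * (a' : G ⧸ P) = (a' : G ⧸ P) * (a : G ⧸ P) := by
      rw [← QuotientGroup.mk_mul, ← QuotientGroup.mk_mul, hAab a ha a' ha']
    rw [h2]
    group
  have htriv : ∀ c : G, c ∈ P → c ∈ A → c = 1 := by
    intro c hcP hcA
    have : c ∈ P ⊓ A := ⟨hcP, hcA⟩
    rw [hinf, Subgroup.mem_bot] at this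
    exact this
  -- the quotient is nonabelian
  have hQna : ¬ ∀ a b : G ⧸ A, a * b = b * a := by
    intro h
    obtain ⟨a, b, hab⟩ := hG
    apply hab
    have h1 : a * b * a⁻¹ * b⁻¹ ∈ A := by
      rw [← QuotientGroup.eq_one_iff]
      have h2 : ((a * b * a⁻¹ * b⁻¹ : G) : G ⧸ A) =
          (a : G ⧸ A) * (b : G ⧸ A) * (a : G ⧸ A)⁻¹ * (b : G ⧸ A)⁻¹ := rfl
      rw [h2, h (a : G ⧸ A) (b : G ⧸ A)]
      group
    have h3 := htriv _ (hcommP a b) h1
    calc a * b = (a * b * a⁻¹ * b⁻¹) * (b * a) := by group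
      _ = b * a := by rw [h3, one_mul]
  have hcdQ := cd_quotient A q hcd
  rcases pgroup_two_degrees q hQ hcdQ hQna with ⟨Ab, hAbn, hAbab, hAbidx⟩ | hZQ
  · left
    refine ⟨Ab.comap (QuotientGroup.mk' A), Subgroup.Normal.comap hAbn _, ?_, ?_⟩
    · intro x hx y hy
      have h1 : x * y * x⁻¹ * y⁻¹ ∈ A := by
        rw [← QuotientGroup.eq_one_iff]
        have h2 : ((x * y * x⁻¹ * y⁻¹ : G) : G ⧸ A) =
            (x : G ⧸ A) * (y : G ⧸ A) * (x : G ⧸ A)⁻¹ * (y : G ⧸ A)⁻¹ := rfl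
        rw [h2, hAbab (x : G ⧸ A) hx (y : G ⧸ A) hy]
        group
      have h3 := htriv _ (hcommP x y) h1
      calc x * y = (x * y * x⁻¹ * y⁻¹) * (y * x) := by group
        _ = y * x := by rw [h3, one_mul]
    · rw [Subgroup.index_comap_of_surjective Ab (QuotientGroup.mk'_surjective A), hAbidx]
  · right
    have hZ : Subgroup.center G = (Subgroup.center (G ⧸ A)).comap (QuotientGroup.mk' A) := by
      ext g
      rw [Subgroup.mem_comap, Subgroup.mem_center_iff, Subgroup.mem_center_iff]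
      constructor
      · intro h x
        obtain ⟨y, rfl⟩ := QuotientGroup.mk'_surjective A x
        rw [← map_mul, ← map_mul, h y]
      · intro h y
        have h1 : y * g * y⁻¹ * g⁻¹ ∈ A := by
          rw [← QuotientGroup.eq_one_iff]
          have h2 : ((y * g * y⁻¹ * g⁻¹ : G) : G ⧸ A) =
              (y : G ⧸ A) * (g : G ⧸ A) * (y : G ⧸ A)⁻¹ * (g : G ⧸ A)⁻¹ := rfl
          rw [h2]
          have h3 : (y : G ⧸ A) * (g : G ⧸ A) = (g : G ⧸ A) * (y : G ⧸ A) := h (y : G ⧸ A)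
          rw [h3]
          group
        have h3 := htriv _ (hcommP y g) h1
        calc y * g = (y * g * y⁻¹ * g⁻¹) * (g * y) := by group
          _ = g * y := by rw [h3, one_mul]
    rw [hZ, Subgroup.index_comap_of_surjective _ (QuotientGroup.mk'_surjective A), hZQ]

/-- **Isaacs, Theorem 12.11.** -/
theorem isaacs_12_11 (hG : ∃ a b : G, a * b ≠ b * a) (p : ℕ) (hp : p.Prime) :
    ((∀ χ : IrrCharacter G, charDegree (χ : G → ℂ) = 1 ∨ charDegree (χ : G → ℂ) = p) ∧
        ∃ χ : IrrCharacter G, charDegree (χ : G → ℂ) = p) ↔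
      ((∃ A : Subgroup G, A.Normal ∧ (∀ a ∈ A, ∀ b ∈ A, a * b = b * a) ∧ A.index = p) ∨
        (Subgroup.center G).index = p ^ 3) := by
  constructor
  · rintro ⟨hcd, hm⟩
    exact structure_of_cd hG p hp hcd hm
  · intro h
    have hcd := cd_of_structure p hp h
    refine ⟨hcd, ?_⟩
    by_contra hcon
    push Not at hcon
    obtain ⟨a, b, hab⟩ := hG
    apply hab
    apply (comm_iff_forall_irr_apply_one (G := G)).mpr
    intro χ
    rcases hcd χ with h1 | h1
    · rw [irr_apply_one, h1, Nat.cast_one]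
    · exact absurd h1 (hcon χ)

end forward

end Cfsg.Agent.Lib.Helper21.Isaacs
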