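import Mathlib

/-! Conjugating an element of prime order `p` of `GL(W)`, `W` of dimension `ord_p(q)` over `F_q`,
into one of its powers: the power is a Frobenius power (helper21, for helper13's S1158). -/

set_option autoImplicit false

namespace Cfsg.Agent.Lib.Helper21.FrobConjPow

open Polynomial

section
variable {K : Type*} [Field K] [Fintype K]

/-- Frobenius on roots: if `β` is a root of `f ∈ K[X]` in a `K`-algebra then so is `β ^ |K|`. -/
theorem aeval_pow_card {L : Type*} [CommRing L] [Algebra K L] (f : K[X]) (β : L)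
    (h : aeval β f = 0) : aeval (β ^ Fintype.card K) f = 0 := by
  rw [← expand_aeval, FiniteField.expand_card, map_pow, h, zero_pow Fintype.card_ne_zero]

theorem aeval_pow_card_pow {L : Type*} [CommRing L] [Algebra K L] (f : K[X]) (β : L)
    (h : aeval β f = 0) (j : ℕ) : aeval (β ^ (Fintype.card K ^ j)) f = 0 := by
  induction j with
  | zero => simpa using h
  | succ j ih => rw [pow_succ, pow_mul]; exact aeval_pow_card f _ ih

omit [Fintype K] in
/-- conjugation by a unit commutes with polynomial evaluation -/
theorem aeval_units_conj {A : Type*} [Ring A] [Algebra K A] (g : Aˣ) (a : A) (f : K[X]) :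
    aeval ((g : A) * a * ((g⁻¹ : Aˣ) : A)) f = (g : A) * aeval a f * ((g⁻¹ : Aˣ) : A) := by
  induction f using Polynomial.induction_on' with
  | add p q hp hq => rw [map_add, map_add, hp, hq, mul_add, add_mul]
  | monomial n c =>
    rw [aeval_monomial, aeval_monomial]
    have hpow : ((g : A) * a * ((g⁻¹ : Aˣ) : A)) ^ n = (g : A) * a ^ n * ((g⁻¹ : Aˣ) : A) := by
      induction n with
      | zero => simp
      | succ n ih =>
        rw [pow_succ, ih, pow_succ]
        simp only [mul_assoc, Units.inv_mul_cancel_left]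
    rw [hpow, ← mul_assoc, ← mul_assoc, Algebra.commutes c (g : A), mul_assoc (g : A)]

/-- an irreducible factor of `X ^ p - 1` over `F_q` is `X - 1` up to a unit, or its degree is a
multiple of the order of `q` modulo `p` -/
theorem dvd_natDegree_of_irreducible {p d : ℕ} [Fact p.Prime]
    (hord : orderOf ((Fintype.card K : ℕ) : ZMod p) = d)
    (f1 : K[X]) (hirr : Irreducible f1) (hdvd : f1 ∣ X ^ p - 1) :
    f1 ∣ X - 1 ∨ d ∣ f1.natDegree := by
  classical
  have hp : p.Prime := Fact.out
  have : Fact (Irreducible f1) := ⟨hirr⟩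
  by_cases h1 : f1 ∣ X - 1
  · exact Or.inl h1
  right
  have hα1 : AdjoinRoot.root f1 ≠ 1 := by
    intro h
    apply h1
    rw [← AdjoinRoot.mk_eq_zero, map_sub, AdjoinRoot.mk_X, map_one, h, sub_self]
  have hαp : AdjoinRoot.root f1 ^ p = 1 := by
    have := AdjoinRoot.mk_eq_zero.mpr hdvd
    rw [map_sub, map_pow, AdjoinRoot.mk_X, map_one, sub_eq_zero] at this
    exact this
  have hne : f1 ≠ 0 := hirr.ne_zero
  have : Module.Finite K (AdjoinRoot f1) := (AdjoinRoot.powerBasis hne).finite
  have : Finite (AdjoinRoot f1) := Module.finite_of_finite K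
  have := Fintype.ofFinite (AdjoinRoot f1)
  have hcard : Fintype.card (AdjoinRoot f1) = Fintype.card K ^ f1.natDegree := by
    rw [Module.card_eq_pow_finrank (K := K), (AdjoinRoot.powerBasis hne).finrank,
      AdjoinRoot.powerBasis_dim]
  have hα0 : AdjoinRoot.root f1 ≠ 0 := by
    intro h
    rw [h, zero_pow hp.ne_zero] at hαp
    exact zero_ne_one hαp
  have h2 := FiniteField.pow_card_sub_one_eq_one (AdjoinRoot.root f1) hα0
  have hord_α : orderOf (AdjoinRoot.root f1) = p := orderOf_eq_prime hαp hα1
  have hp_dvd : p ∣ Fintype.card (AdjoinRoot f1) - 1 := by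
    rw [← hord_α]; exact orderOf_dvd_of_pow_eq_one h2
  rw [← hord, orderOf_dvd_iff_pow_eq_one]
  rw [hcard] at hp_dvd
  have hpos : 1 ≤ Fintype.card K ^ f1.natDegree := Nat.one_le_pow _ _ Fintype.card_pos
  have h3 : ((Fintype.card K ^ f1.natDegree - 1 : ℕ) : ZMod p) = 0 :=
    (ZMod.natCast_eq_zero_iff _ _).mpr hp_dvd
  rw [Nat.cast_sub hpos, sub_eq_zero] at h3
  simpa using h3

end

/-- **Task L1 (helper13).** `W` of dimension `d = ord_p(q)` over `K = F_q`, `z ∈ GL(W)` of order `p`
conjugate to `z ^ k`: then `z ^ k = z ^ (q ^ j)` for some `j`. -/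
theorem exists_pow_frobenius {K W : Type*} [Field K] [Fintype K] [AddCommGroup W] [Module K W]
    [Module.Finite K W] {p d : ℕ} [Fact p.Prime] (hd : Module.finrank K W = d) (hd0 : 0 < d)
    (hord : orderOf ((Fintype.card K : ℕ) : ZMod p) = d) (z g : (Module.End K W)ˣ)
    (hz : orderOf z = p) (k : ℕ) (hconj : g * z * g⁻¹ = z ^ k) :
    ∃ j : ℕ, z ^ k = z ^ (Fintype.card K ^ j) := by
  classical
  have hp : p.Prime := Fact.out
  have hap : (z : Module.End K W) ^ p = 1 := by
    rw [← Units.val_pow_eq_pow_val, ← hz, pow_orderOf_eq_one]; rfl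
  have ha1 : (z : Module.End K W) ≠ 1 := by
    intro h
    have h1 : z = 1 := Units.ext h
    rw [h1, orderOf_one] at hz
    exact hp.one_lt.ne hz
  have hint : IsIntegral K (z : Module.End K W) := Algebra.IsIntegral.isIntegral _
  have hmonic : (minpoly K (z : Module.End K W)).Monic := minpoly.monic hint
  have hfdvd : minpoly K (z : Module.End K W) ∣ X ^ p - 1 :=
    minpoly.dvd K _ (by rw [map_sub, map_pow, aeval_X, map_one, hap, sub_self])
  have hfdeg : (minpoly K (z : Module.End K W)).natDegree ≤ d := by
    have h1 := LinearMap.minpoly_dvd_charpoly (z : Module.End K W)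
    have h2 := Polynomial.natDegree_le_of_dvd h1 (LinearMap.charpoly_monic _).ne_zero
    rwa [LinearMap.charpoly_natDegree, hd] at h2
  have hpK : (p : K) ≠ 0 := by
    intro h
    obtain ⟨n, hℓ, hcard⟩ := FiniteField.card K (ringChar K)
    have h1 : ringChar K ∣ p := (CharP.cast_eq_zero_iff K (ringChar K) p).mp h
    have h2 : ringChar K = p := (Nat.prime_dvd_prime_iff_eq hℓ hp).mp h1
    have h3 : ((Fintype.card K : ℕ) : ZMod p) = 0 := by
      rw [ZMod.natCast_eq_zero_iff, hcard, h2]; exact dvd_pow_self p n.ne_zero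
    rw [h3] at hord
    have h4 : orderOf (0 : ZMod p) = 0 := by
      rw [orderOf_eq_zero_iff']
      intro n hn
      rw [zero_pow hn.ne']
      exact zero_ne_one
    omega
  have hsq : Squarefree (X ^ p - 1 : K[X]) := by
    have h := (separable_X_pow_sub_C (1 : K) hpK one_ne_zero).squarefree
    simpa using h
  have hnotdvd : ¬ minpoly K (z : Module.End K W) ∣ X - 1 := by
    rintro ⟨c, hc⟩
    have h : aeval (z : Module.End K W) (X - 1 : K[X]) = 0 := by
      rw [hc, map_mul, minpoly.aeval, zero_mul]
    rw [map_sub, aeval_X, map_one, sub_eq_zero] at h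
    exact ha1 h
  -- irreducibility of the minimal polynomial
  have : Nontrivial (Module.End K W) := nontrivial_of_ne _ _ ha1
  have hfirr : Irreducible (minpoly K (z : Module.End K W)) := by
    have hnu : ¬ IsUnit (minpoly K (z : Module.End K W)) := minpoly.not_isUnit K _
    obtain ⟨f1, hf1m, hf1i, hf1d⟩ := exists_monic_irreducible_factor _ hnu
    rcases dvd_natDegree_of_irreducible hord f1 hf1i (hf1d.trans hfdvd) with h | h
    · exfalso
      have hf1 : (X - C (1 : K)) = f1 :=
        eq_of_monic_of_dvd_of_natDegree_le hf1m (monic_X_sub_C 1) (by simpa using h)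
          (by rw [natDegree_X_sub_C]; exact hf1i.natDegree_pos)
      obtain ⟨h2, hh⟩ := hf1d
      have hh2m : h2.Monic := by
        have := hmonic
        rw [hh] at this
        exact hf1m.of_mul_monic_left this
      by_cases hu : IsUnit h2
      · have h21 : h2 = 1 := hh2m.eq_one_of_isUnit hu
        apply hnotdvd
        rw [hh, h21, mul_one, ← hf1]
        simp
      · obtain ⟨f2, hf2m, hf2i, hf2d⟩ := exists_monic_irreducible_factor h2 hu
        have hf2f : f2 ∣ minpoly K (z : Module.End K W) := hh ▸ Dvd.dvd.mul_left hf2d f1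
        rcases dvd_natDegree_of_irreducible hord f2 hf2i (hf2f.trans hfdvd) with h' | h'
        · have hf2 : (X - C (1 : K)) = f2 :=
            eq_of_monic_of_dvd_of_natDegree_le hf2m (monic_X_sub_C 1) (by simpa using h')
              (by rw [natDegree_X_sub_C]; exact hf2i.natDegree_pos)
          have hsqdvd : (X - C (1 : K)) * (X - C (1 : K)) ∣ X ^ p - 1 := by
            refine Dvd.dvd.trans ?_ hfdvd
            rw [hh]
            exact mul_dvd_mul (by rw [hf1]) (by rw [hf2]; exact hf2d)
          exact not_isUnit_X_sub_C 1 (hsq _ hsqdvd)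
        · have hpos := hf2i.natDegree_pos
          have hle : d ≤ f2.natDegree := Nat.le_of_dvd hpos h'
          have hle2 : f2.natDegree ≤ h2.natDegree :=
            Polynomial.natDegree_le_of_dvd hf2d hh2m.ne_zero
          have hdeg : (minpoly K (z : Module.End K W)).natDegree = f1.natDegree + h2.natDegree := by
            rw [hh, hf1m.natDegree_mul hh2m]
          have := hf1i.natDegree_pos
          omega
    · have hpos := hf1i.natDegree_pos
      have hle : d ≤ f1.natDegree := Nat.le_of_dvd hpos h
      have : minpoly K (z : Module.End K W) = f1 :=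
        eq_of_monic_of_dvd_of_natDegree_le hf1m hmonic hf1d (hfdeg.trans hle)
      rw [this]; exact hf1i
  have : Fact (Irreducible (minpoly K (z : Module.End K W))) := ⟨hfirr⟩
  -- the root `α` of the minimal polynomial in the field `K[X]/(f)`
  have hα1 : AdjoinRoot.root (minpoly K (z : Module.End K W)) ≠ 1 := by
    intro h
    apply hnotdvd
    rw [← AdjoinRoot.mk_eq_zero, map_sub, AdjoinRoot.mk_X, map_one, h, sub_self]
  have hαp : AdjoinRoot.root (minpoly K (z : Module.End K W)) ^ p = 1 := by
    have := AdjoinRoot.mk_eq_zero.mpr hfdvd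
    rw [map_sub, map_pow, AdjoinRoot.mk_X, map_one, sub_eq_zero] at this
    exact this
  have hordα : orderOf (AdjoinRoot.root (minpoly K (z : Module.End K W))) = p :=
    orderOf_eq_prime hαp hα1
  have hroot0 : aeval (AdjoinRoot.root (minpoly K (z : Module.End K W)))
      (minpoly K (z : Module.End K W)) = 0 := by
    rw [AdjoinRoot.aeval_eq, AdjoinRoot.mk_self]
  have hrootj : ∀ j, aeval (AdjoinRoot.root (minpoly K (z : Module.End K W)) ^ (Fintype.card K ^ j))
      (minpoly K (z : Module.End K W)) = 0 := fun j => aeval_pow_card_pow _ _ hroot0 j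
  have hak : aeval ((z : Module.End K W) ^ k) (minpoly K (z : Module.End K W)) = 0 := by
    have h1 : ((z : Module.End K W)) ^ k
        = (g : Module.End K W) * (z : Module.End K W) * ((g⁻¹ : (Module.End K W)ˣ) : Module.End K W) := by
      rw [← Units.val_pow_eq_pow_val, ← hconj]; rfl
    rw [h1, aeval_units_conj, minpoly.aeval, mul_zero, zero_mul]
  have hrootk : aeval (AdjoinRoot.root (minpoly K (z : Module.End K W)) ^ k)
      (minpoly K (z : Module.End K W)) = 0 := by
    have h1 : minpoly K (z : Module.End K W) ∣ (minpoly K (z : Module.End K W)).comp (X ^ k) :=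
      minpoly.dvd K _ (by rw [aeval_comp, map_pow, aeval_X]; exact hak)
    have h2 := AdjoinRoot.mk_eq_zero.mpr h1
    rw [← AdjoinRoot.aeval_eq, aeval_comp, map_pow, aeval_X] at h2
    exact h2
  have hinj : Set.InjOn (fun j => AdjoinRoot.root (minpoly K (z : Module.End K W)) ^ (Fintype.card K ^ j))
      (Finset.range d : Set ℕ) := by
    intro i hi j hj hij
    simp only at hij
    have hα0 : AdjoinRoot.root (minpoly K (z : Module.End K W)) ≠ 0 := by
      intro h
      rw [h, zero_pow hp.ne_zero] at hαp
      exact zero_ne_one hαp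
    have hij' : (Units.mk0 _ hα0) ^ (Fintype.card K ^ i) = (Units.mk0 _ hα0) ^ (Fintype.card K ^ j) := by
      apply Units.ext
      rw [Units.val_pow_eq_pow_val, Units.val_pow_eq_pow_val]
      exact hij
    rw [pow_eq_pow_iff_modEq, ← orderOf_units, Units.val_mk0, hordα] at hij'
    replace hij := hij'
    have h1 : ((Fintype.card K : ℕ) : ZMod p) ^ i = ((Fintype.card K : ℕ) : ZMod p) ^ j := by
      have := (ZMod.natCast_eq_natCast_iff _ _ _).mpr hij
      simpa using this
    exact pow_injOn_Iio_orderOf (by rw [hord]; simpa using hi) (by rw [hord]; simpa using hj) h1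
  have hfL0 : (minpoly K (z : Module.End K W)).map
      (algebraMap K (AdjoinRoot (minpoly K (z : Module.End K W)))) ≠ 0 := (hmonic.map _).ne_zero
  have hScard : ((Finset.range d).image
      (fun j => AdjoinRoot.root (minpoly K (z : Module.End K W)) ^ (Fintype.card K ^ j))).card = d := by
    rw [Finset.card_image_of_injOn hinj, Finset.card_range]
  have hSsub : (Finset.range d).image
      (fun j => AdjoinRoot.root (minpoly K (z : Module.End K W)) ^ (Fintype.card K ^ j))
      ⊆ ((minpoly K (z : Module.End K W)).map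
        (algebraMap K (AdjoinRoot (minpoly K (z : Module.End K W))))).roots.toFinset := by
    intro x hx
    obtain ⟨j, -, rfl⟩ := Finset.mem_image.mp hx
    rw [Multiset.mem_toFinset, mem_roots hfL0, IsRoot.def, eval_map_algebraMap]
    exact hrootj j
  have hcardle : ((minpoly K (z : Module.End K W)).map
      (algebraMap K (AdjoinRoot (minpoly K (z : Module.End K W))))).roots.toFinset.card ≤ d :=
    (Multiset.toFinset_card_le _).trans ((card_roots' _).trans (by rw [natDegree_map]; exact hfdeg))
  have hSeq := Finset.eq_of_subset_of_card_le hSsub (by rw [hScard]; exact hcardle)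
  have hk_mem : AdjoinRoot.root (minpoly K (z : Module.End K W)) ^ k ∈ (Finset.range d).image
      (fun j => AdjoinRoot.root (minpoly K (z : Module.End K W)) ^ (Fintype.card K ^ j)) := by
    rw [hSeq, Multiset.mem_toFinset, mem_roots hfL0, IsRoot.def, eval_map_algebraMap]
    exact hrootk
  obtain ⟨j, -, hj⟩ := Finset.mem_image.mp hk_mem
  refine ⟨j, ?_⟩
  have h1 : minpoly K (z : Module.End K W) ∣ X ^ k - X ^ (Fintype.card K ^ j) := by
    rw [← AdjoinRoot.mk_eq_zero, map_sub, map_pow, map_pow, AdjoinRoot.mk_X, hj, sub_self]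
  obtain ⟨c, hc⟩ := h1
  have h2 : (z : Module.End K W) ^ k = (z : Module.End K W) ^ (Fintype.card K ^ j) := by
    have h : aeval (z : Module.End K W) (X ^ k - X ^ (Fintype.card K ^ j) : K[X]) = 0 := by
      rw [hc, map_mul, minpoly.aeval, zero_mul]
    rw [map_sub, map_pow, map_pow, aeval_X, sub_eq_zero] at h
    exact h
  apply Units.ext
  rw [Units.val_pow_eq_pow_val, Units.val_pow_eq_pow_val]
  exact h2

end Cfsg.Agent.Lib.Helper21.FrobConjPow
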