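import Mathlib
import Cfsg.Agent.Lib.Helper13.PSL2KleinCount
import Cfsg.Agent.Lib.Helper13.SL2SylowOdd
import Cfsg.Agent.Lib.Helper13.SL2OrderFour

/-! The number of elements of odd order of `PSL₂(q)`, `q ≡ 3 mod 8`
(helper21, WP-D for helper13's S1158). -/

set_option autoImplicit false

namespace Cfsg.Agent.Lib.Helper21.PSL2OddCount


section abstract

variable {S : Type*} [Group S]

/-- the partition of a finite group according to `orderOf g` modulo `4` -/
theorem card_split [Finite S] :
    Nat.card S = Nat.card {g : S // Odd (orderOf g)} + Nat.card {g : S // orderOf g % 4 = 2} +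
      Nat.card {g : S // 4 ∣ orderOf g} := by
  classical
  have := Fintype.ofFinite S
  rw [Nat.card_eq_fintype_card, Nat.card_eq_fintype_card, Nat.card_eq_fintype_card,
    Nat.card_eq_fintype_card, Fintype.card_subtype, Fintype.card_subtype, Fintype.card_subtype,
    ← Finset.card_univ, Finset.card_eq_sum_ones, Finset.card_filter, Finset.card_filter,
    Finset.card_filter, ← Finset.sum_add_distrib, ← Finset.sum_add_distrib]
  apply Finset.sum_congr rfl
  intro g _
  have h4 : orderOf g % 4 < 4 := Nat.mod_lt _ (by norm_num)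
  simp only [Nat.odd_iff, Nat.dvd_iff_mod_eq_zero]
  split_ifs <;> omega

variable (z : S) (hz1 : z ≠ 1) (hzz : z * z = 1) (hzc : ∀ g : S, g * z = z * g)
  (hinv : ∀ g : S, g * g = 1 → g = 1 ∨ g = z)

include hz1 hzz in
theorem orderOf_z : orderOf z = 2 := by
  apply orderOf_eq_prime
  · rw [pow_two, hzz]
  · exact hz1

include hz1 hzz hzc in
theorem orderOf_z_mul (g : S) (hg : Odd (orderOf g)) : orderOf (z * g) = 2 * orderOf g := by
  have hc : Commute z g := (hzc g).symm
  have h := hc.orderOf_mul_eq_mul_orderOf_of_coprime (by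
    rw [orderOf_z z hz1 hzz]
    exact (Nat.coprime_two_left).mpr hg)
  rw [h, orderOf_z z hz1 hzz]

include hzz hzc in
theorem z_mul_pow (g : S) (n : ℕ) (hn : Odd n) : (z * g) ^ n = z * g ^ n := by
  have hc : Commute z g := (hzc g).symm
  rw [hc.mul_pow]
  congr 1
  obtain ⟨m, rfl⟩ := hn
  rw [pow_succ, pow_mul, pow_two, hzz, one_pow, one_mul]

include hz1 hzz hzc hinv in
/-- the elements of order `2` modulo `4` are the `z * g`, `g` of odd order -/
theorem card_two_mod_four :
    Nat.card {g : S // orderOf g % 4 = 2} = Nat.card {g : S // Odd (orderOf g)} := by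
  apply Nat.card_congr
  refine ⟨fun h => ⟨z * h.1, ?_⟩, fun g => ⟨z * g.1, ?_⟩, ?_, ?_⟩
  · -- `orderOf h = 2 m`, `m` odd
    have hh := h.2
    obtain ⟨m, hm⟩ : ∃ m, orderOf h.1 = 2 * m := ⟨orderOf h.1 / 2, by omega⟩
    have hmodd : Odd m := by
      rw [Nat.odd_iff]; omega
    have hm0 : 0 < m := hmodd.pos
    have h1 : (h.1 ^ m) * (h.1 ^ m) = 1 := by
      rw [← pow_add, ← two_mul, ← hm, pow_orderOf_eq_one]
    have h2 : h.1 ^ m ≠ 1 := by
      intro h3
      have := orderOf_dvd_of_pow_eq_one h3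
      rw [hm] at this
      have := Nat.le_of_dvd hm0 this
      omega
    have h3 : h.1 ^ m = z := (hinv _ h1).resolve_left h2
    have h4 : (z * h.1) ^ m = 1 := by
      rw [z_mul_pow z hzz hzc _ _ hmodd, h3, hzz]
    exact Odd.of_dvd_nat hmodd (orderOf_dvd_of_pow_eq_one h4)
  · rw [orderOf_z_mul z hz1 hzz hzc _ g.2]
    have := g.2
    rw [Nat.odd_iff] at this
    omega
  · intro h
    apply Subtype.ext
    change z * (z * h.1) = h.1
    rw [← mul_assoc, hzz, one_mul]
  · intro g
    apply Subtype.ext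
    change z * (z * g.1) = g.1
    rw [← mul_assoc, hzz, one_mul]

include hz1 hzz hzc in
/-- odd order elements of `S` and of `S / Z(S)`, when `Z(S) = {1, z}` -/
theorem card_odd_quotient (hcen : ∀ c ∈ Subgroup.center S, c = 1 ∨ c = z) :
    Nat.card {x : S ⧸ Subgroup.center S // Odd (orderOf x)} =
      Nat.card {g : S // Odd (orderOf g)} := by
  symm
  apply Nat.card_congr
  refine Equiv.ofBijective
    (fun g => ⟨(QuotientGroup.mk g.1 : S ⧸ Subgroup.center S), ?_⟩) ⟨?_, ?_⟩
  · exact Odd.of_dvd_nat g.2 (orderOf_map_dvd (QuotientGroup.mk' (Subgroup.center S)) g.1)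
  · intro g g' h
    have h1 : (QuotientGroup.mk g.1 : S ⧸ Subgroup.center S) = QuotientGroup.mk g'.1 :=
      congrArg Subtype.val h
    rw [QuotientGroup.eq] at h1
    apply Subtype.ext
    rcases hcen _ h1 with h2 | h2
    · exact (inv_mul_eq_one.mp h2)
    · exfalso
      have h3 : g'.1 = z * g.1 := by
        calc g'.1 = g.1 * (g.1⁻¹ * g'.1) := by rw [mul_inv_cancel_left]
          _ = g.1 * z := by rw [h2]
          _ = z * g.1 := hzc _
      have h4 := orderOf_z_mul z hz1 hzz hzc g.1 g.2
      rw [← h3] at h4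
      have := g'.2
      rw [h4, Nat.odd_iff] at this
      omega
  · rintro ⟨x, hx⟩
    obtain ⟨g, rfl⟩ := QuotientGroup.mk_surjective x
    have h1 : (QuotientGroup.mk (g ^ orderOf (QuotientGroup.mk g : S ⧸ Subgroup.center S)) :
        S ⧸ Subgroup.center S) = 1 := by
      rw [QuotientGroup.mk_pow, pow_orderOf_eq_one]
    rw [QuotientGroup.eq_one_iff] at h1
    rcases hcen _ h1 with h2 | h2
    · exact ⟨⟨g, Odd.of_dvd_nat hx (orderOf_dvd_of_pow_eq_one h2)⟩, rfl⟩
    · have h3 : (z * g) ^ orderOf (QuotientGroup.mk g : S ⧸ Subgroup.center S) = 1 := by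
        rw [z_mul_pow z hzz hzc _ _ hx, h2, hzz]
      refine ⟨⟨z * g, Odd.of_dvd_nat hx (orderOf_dvd_of_pow_eq_one h3)⟩, ?_⟩
      apply Subtype.ext
      change (QuotientGroup.mk (z * g) : S ⧸ Subgroup.center S) = QuotientGroup.mk g
      rw [QuotientGroup.eq]
      have hzmem : z ∈ Subgroup.center S := by
        rw [Subgroup.mem_center_iff]; exact hzc
      have : (z * g)⁻¹ * g = z⁻¹ := by
        rw [← hzc g, mul_inv_rev, inv_mul_cancel_right]
      rw [this]
      exact Subgroup.inv_mem _ hzmem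

end abstract



section abstractB

variable {S : Type*} [Group S]

theorem card_eq_mul_of_fibers' {A B : Type*} [Finite A] [Finite B] (φ : A → B) (n : ℕ)
    (h : ∀ b, Nat.card {a // φ a = b} = n) : Nat.card A = n * Nat.card B := by
  classical
  have : Fintype B := Fintype.ofFinite B
  rw [← Nat.card_congr (Equiv.sigmaFiberEquiv φ), Nat.card_sigma,
    Finset.sum_congr rfl (fun b _ => h b), Finset.sum_const, Finset.card_univ, smul_eq_mul,
    Nat.card_eq_fintype_card, mul_comm]

variable (z : S) (hz1 : z ≠ 1) (hzz : z * z = 1)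
  (hinv : ∀ g : S, g * g = 1 → g = 1 ∨ g = z)

include hzz in
theorem pow_four_of_sq (w : S) (hw : w * w = z) : w ^ 4 = 1 := by
  have : w ^ 4 = (w * w) * (w * w) := by
    rw [← pow_two w, ← pow_add]
  rw [this, hw, hzz]

include hzz in
theorem pow_sq_odd (w : S) (hw : w * w = z) (k : ℕ) (hk : Odd k) : w ^ (k * k) = w := by
  obtain ⟨m, rfl⟩ := hk
  have e : (2 * m + 1) * (2 * m + 1) = 4 * (m * m + m) + 1 := by ring
  rw [e, pow_succ, pow_mul, pow_four_of_sq z hzz w hw, one_pow, one_mul]

include hz1 hzz in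
theorem orderOf_of_sq (w : S) (hw : w * w = z) : orderOf w = 4 := by
  have h := orderOf_eq_prime_pow (x := w) (p := 2) (n := 1)
    (by rw [pow_one, pow_two, hw]; exact hz1)
    (by norm_num; exact pow_four_of_sq z hzz w hw)
  simpa using h

include hz1 hzz hinv in
/-- elements of order divisible by `4`, fibred over the square roots of `z` by `g ↦ g ^ k` -/
theorem card_four_dvd [Finite S] (k : ℕ) (hk : Odd k)
    (h4 : ∀ g : S, 4 ∣ orderOf g → g ^ (4 * k) = 1)
    (hC : ∀ w : S, w * w = z → Nat.card {x : S // x * w = w * x ∧ x ^ k = 1} = k) :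
    Nat.card {g : S // 4 ∣ orderOf g} = k * Nat.card {w : S // w * w = z} := by
  have hmap : ∀ g : S, 4 ∣ orderOf g → (g ^ k) * (g ^ k) = z := by
    intro g hg
    have h1 : (g ^ k * g ^ k) * (g ^ k * g ^ k) = 1 := by
      rw [← pow_add, ← pow_add]
      have : k + k + (k + k) = 4 * k := by ring
      rw [this]
      exact h4 g hg
    have h2 : g ^ k * g ^ k ≠ 1 := by
      intro h3
      rw [← pow_add] at h3
      have h5 := orderOf_dvd_of_pow_eq_one h3
      have h6 : 4 ∣ k + k := hg.trans h5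
      obtain ⟨m, rfl⟩ := hk
      omega
    exact (hinv _ h1).resolve_left h2
  apply card_eq_mul_of_fibers'
    (fun g : {g : S // 4 ∣ orderOf g} => (⟨g.1 ^ k, hmap g.1 g.2⟩ : {w : S // w * w = z})) k
  intro w
  refine (Nat.card_congr ?_).trans (hC w.1 w.2)
  have hwk : (w.1 ^ k) ^ k = w.1 := by rw [← pow_mul, pow_sq_odd z hzz w.1 w.2 k hk]
  refine ⟨fun a => ⟨a.1.1 * (w.1 ^ k)⁻¹, ?_, ?_⟩, fun x => ⟨⟨x.1 * w.1 ^ k, ?_⟩, ?_⟩, ?_, ?_⟩
  · -- commutes with `w`
    have ha : a.1.1 ^ k = w.1 := congrArg Subtype.val a.2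
    have h1 : Commute a.1.1 w.1 := by rw [← ha]; exact (Commute.refl _).pow_right k
    have h2 : Commute ((w.1 ^ k)⁻¹) w.1 := ((Commute.refl w.1).pow_left k).inv_left
    exact (h1.mul_left h2).eq
  · have ha : a.1.1 ^ k = w.1 := congrArg Subtype.val a.2
    have h1 : Commute a.1.1 w.1 := by rw [← ha]; exact (Commute.refl _).pow_right k
    have h2 : Commute a.1.1 ((w.1 ^ k)⁻¹) := (h1.pow_right k).inv_right
    rw [h2.mul_pow, ha, inv_pow, hwk, mul_inv_cancel]
  · -- `4 ∣ orderOf (x * w ^ k)`
    have hx := x.2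
    have h1 : Commute x.1 w.1 := hx.1
    have h2 : (x.1 * w.1 ^ k) ^ k = w.1 := by
      rw [(h1.pow_right k).mul_pow, hx.2, one_mul, hwk]
    have h3 := orderOf_pow_dvd (x := x.1 * w.1 ^ k) k
    rw [h2, orderOf_of_sq z hz1 hzz w.1 w.2] at h3
    exact h3
  · have hx := x.2
    have h1 : Commute x.1 w.1 := hx.1
    apply Subtype.ext
    change (x.1 * w.1 ^ k) ^ k = w.1
    rw [(h1.pow_right k).mul_pow, hx.2, one_mul, hwk]
  · intro a
    apply Subtype.ext
    apply Subtype.ext
    change a.1.1 * (w.1 ^ k)⁻¹ * w.1 ^ k = a.1.1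
    rw [inv_mul_cancel_right]
  · intro x
    apply Subtype.ext
    change x.1 * w.1 ^ k * (w.1 ^ k)⁻¹ = x.1
    rw [mul_inv_cancel_right]

/-- the `k`-torsion of a cyclic group of order divisible by `k` -/
theorem card_pow_eq_one_of_cyclic {C : Type*} [Group C] [Finite C] [IsCyclic C] (k : ℕ)
    (hk : k ∣ Nat.card C) : Nat.card {c : C // c ^ k = 1} = k := by
  let _ : CommGroup C := IsCyclic.commGroup
  have h := IsCyclic.card_powMonoidHom_ker C k
  rw [Nat.gcd_eq_right hk] at h
  refine (Nat.card_congr ?_).trans h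
  exact Equiv.subtypeEquivRight (fun c => by
    rw [MonoidHom.mem_ker, powMonoidHom_apply])

end abstractB


section sl2

open Matrix Cfsg.Agent.Lib.Helper13

variable {F : Type*} [Field F] [Fintype F]

/-- **WP-D (helper13).** the number of odd order elements of `PSL₂(q)`, `q ≡ 3 mod 8`, is
`3 q (q² - 1) / 8` -/
theorem card_odd_PSL2 (hq : Fintype.card F % 8 = 3) :
    8 * Nat.card {x : Matrix.ProjectiveSpecialLinearGroup (Fin 2) F // Odd (orderOf x)} =
      3 * Fintype.card F * (Fintype.card F ^ 2 - 1) := by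
  classical
  have hodd : Odd (Fintype.card F) := by rw [Nat.odd_iff]; omega
  have h2 : (2 : F) ≠ 0 := two_ne_zero_of_odd_card hodd
  have hns : ∀ a : F, a * (0 - a) ≠ 1 := by
    intro a ha
    have h1 : IsSquare (-1 : F) := ⟨a, by linear_combination ha⟩
    rw [FiniteField.isSquare_neg_one_iff] at h1
    omega
  obtain ⟨k, hk4⟩ : ∃ k, 4 * k = Fintype.card F + 1 := ⟨(Fintype.card F + 1) / 4, by omega⟩
  have hkodd : Odd k := by rw [Nat.odd_iff]; omega
  have hz1 := zSL_ne_one (F := F) h2
  have hzz := zSL_mul_self (F := F)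
  have hzc : ∀ g : SpecialLinearGroup (Fin 2) F, g * zSL F = zSL F * g :=
    fun g => Subgroup.mem_center_iff.mp zSL_mem_center g
  have hinv : ∀ g : SpecialLinearGroup (Fin 2) F, g * g = 1 → g = 1 ∨ g = zSL F :=
    sq_eq_one_cases h2
  -- elements of order divisible by `4` lie in nonsplit tori
  have h4 : ∀ g : SpecialLinearGroup (Fin 2) F, 4 ∣ orderOf g → g ^ (4 * k) = 1 := by
    intro g hg
    have hgmem : g ∈ Subgroup.centralizer ({g} : Set (SpecialLinearGroup (Fin 2) F)) :=
      self_mem_centralizer g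
    have hdvd : orderOf g ∣
        Nat.card (Subgroup.centralizer ({g} : Set (SpecialLinearGroup (Fin 2) F))) := by
      have := orderOf_dvd_natCard
        (⟨g, hgmem⟩ : Subgroup.centralizer ({g} : Set (SpecialLinearGroup (Fin 2) F)))
      rwa [Subgroup.orderOf_mk] at this
    by_cases htr : (g : Matrix (Fin 2) (Fin 2) F).trace ^ 2 = 4
    · exfalso
      obtain ⟨p, hp⟩ := CharP.exists F
      have := hp
      have : Fact p.Prime := ⟨CharP.char_is_prime F p⟩
      have h5 := pow_char_mul_two_of_trace_sq p g htr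
      have h6 : 4 ∣ p * 2 := hg.trans (orderOf_dvd_of_pow_eq_one h5)
      have h7 : 2 ∣ p := by omega
      have h8 : 2 = p := (Nat.prime_dvd_prime_iff_eq Nat.prime_two Fact.out).mp h7
      apply h2
      have h9 := CharP.cast_eq_zero F p
      rw [← h8] at h9
      exact_mod_cast h9
    · rcases card_centralizer_cases g htr with h5 | h5
      · exfalso
        rw [h5] at hdvd
        have : 4 ∣ Fintype.card F - 1 := hg.trans hdvd
        omega
      · rw [h5, ← hk4] at hdvd
        exact orderOf_dvd_iff_pow_eq_one.mp hdvd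
  -- the `k`-torsion of the centralizer of a square root of `z`
  have hC : ∀ w : SpecialLinearGroup (Fin 2) F, w * w = zSL F →
      Nat.card {x : SpecialLinearGroup (Fin 2) F // x * w = w * x ∧ x ^ k = 1} = k := by
    intro w hw
    have hw0 := trace_eq_zero_of_mul_self w hw
    have hg := trace_zero_sq_ne_four h2 w hw0
    have hcyc := isCyclic_centralizer w hg
    have hcard := card_centralizer_nonsplit w hg (by rw [hw0]; exact hns)
    have hkd : k ∣ Nat.card (Subgroup.centralizer ({w} : Set (SpecialLinearGroup (Fin 2) F))) := by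
      rw [hcard, ← hk4]; exact Dvd.intro_left 4 rfl
    refine (Nat.card_congr ?_).trans (card_pow_eq_one_of_cyclic
      (C := ↥(Subgroup.centralizer ({w} : Set (SpecialLinearGroup (Fin 2) F)))) k hkd)
    refine ⟨fun x => ⟨⟨x.1, (mem_centralizer_singleton_comm w x.1).mpr x.2.1⟩, ?_⟩,
      fun c => ⟨c.1.1, (mem_centralizer_singleton_comm w c.1.1).mp c.1.2, ?_⟩, ?_, ?_⟩
    · apply Subtype.ext
      exact x.2.2
    · exact congrArg Subtype.val c.2
    · intro x; rfl
    · intro c; rfl
  -- the square roots of `z` are the elements of trace `0`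
  have hT : Nat.card {w : SpecialLinearGroup (Fin 2) F // w * w = zSL F} * (Fintype.card F + 1) =
      Nat.card (SpecialLinearGroup (Fin 2) F) := by
    let w0 : SpecialLinearGroup (Fin 2) F := ⟨!![0, 1; -1, 0], by simp [Matrix.det_fin_two]⟩
    have hw0 : (w0 : Matrix (Fin 2) (Fin 2) F).trace = 0 := by
      simp [w0, Matrix.trace_fin_two]
    have h5 := card_trace_zero_mul_card_centralizer h2 w0 hw0
    have hg := trace_zero_sq_ne_four h2 w0 hw0
    rw [card_centralizer_nonsplit w0 hg (by rw [hw0]; exact hns)] at h5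
    rw [← h5]
    congr 1
    apply Nat.card_congr
    exact Equiv.subtypeEquivRight
      (fun w => ⟨trace_eq_zero_of_mul_self w, mul_self_of_trace_eq_zero w⟩)
  have e1 := card_split (S := SpecialLinearGroup (Fin 2) F)
  have e2 := card_two_mod_four (zSL F) hz1 hzz hzc hinv
  have e3 := card_four_dvd (zSL F) hz1 hzz hinv k hkodd h4 hC
  have e4 := card_odd_quotient (zSL F) hz1 hzz hzc (center_cases (F := F))
  have e5 := card_SL2 (F := F)
  have e6 : 4 * Nat.card {g : SpecialLinearGroup (Fin 2) F // 4 ∣ orderOf g} =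
      Nat.card (SpecialLinearGroup (Fin 2) F) := by
    rw [e3, ← hT, ← hk4]; ring
  have e7 : 3 * Fintype.card F * (Fintype.card F ^ 2 - 1) =
      3 * Nat.card (SpecialLinearGroup (Fin 2) F) := by
    rw [e5]; ring
  rw [e7]
  change 8 * Nat.card {x : SpecialLinearGroup (Fin 2) F ⧸
    Subgroup.center (SpecialLinearGroup (Fin 2) F) // Odd (orderOf x)} = _
  rw [e4]
  omega

end sl2

end Cfsg.Agent.Lib.Helper21.PSL2OddCount
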