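import Mathlib
import Cfsg.Agent.Lib.Helper19.SchurCyclic

/-!
# Lemma F (finishing lemma) for S3572, generic form

`H` a finite group with a transported point-stabiliser action `star` (helper19's `SchurCyclic.Ax`), primitive
(no non-trivial `star`-invariant subgroup).  `P` a normal subgroup of prime order `p`, `P ≠ ⊤`.
If `T` is a symmetric `star`-invariant set, `1 ∉ T`, and `T ∖ P` is a union of `P`-cosets, then `T = ∅` or `T = H ∖ 1`.
-/

set_option autoImplicit false
set_option linter.unusedSectionVars false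
set_option linter.unusedVariables false

namespace Cfsg.Agent.Lib.Helper21.WDLemF

open Cfsg.Agent.Lib.Helper19.SchurCyclic
open scoped Classical

variable {H U : Type*} [Group H] [Fintype H] [Group U] {star : U → H → H}

/-- primitivity of the transported action: no non-trivial invariant subgroup -/
def Prim (star : U → H → H) : Prop :=
  ∀ K : Subgroup H, (∀ u, ∀ x ∈ K, star u x ∈ K) → K = ⊥ ∨ K = ⊤

/-- a set closed under right multiplication by `P` has cardinality divisible by `|P|`. -/
theorem card_dvd_of_right_invariant (P : Subgroup H) (S : Finset H)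
    (hS : ∀ s ∈ S, ∀ g ∈ P, s * g ∈ S) : Nat.card P ∣ S.card := by
  have hfib := Finset.card_eq_sum_card_fiberwise (f := (QuotientGroup.mk : H → H ⧸ P)) (s := S)
    (t := Finset.univ) (fun x _ => Finset.mem_univ _)
  rw [hfib]
  apply Finset.dvd_sum
  intro q _
  by_cases hq : ∃ s₀ ∈ S, (QuotientGroup.mk s₀ : H ⧸ P) = q
  · obtain ⟨s₀, hs₀, rfl⟩ := hq
    have heq : S.filter (fun a => (QuotientGroup.mk a : H ⧸ P) = QuotientGroup.mk s₀) =
        (Finset.univ.filter (fun g : H => g ∈ P)).image (fun g => s₀ * g) := by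
      ext s
      rw [Finset.mem_filter, Finset.mem_image]
      constructor
      · rintro ⟨hs, hsq⟩
        refine ⟨s₀⁻¹ * s, ?_, mul_inv_cancel_left s₀ s⟩
        rw [Finset.mem_filter]
        exact ⟨Finset.mem_univ _, QuotientGroup.eq.1 hsq.symm⟩
      · rintro ⟨g, hg, rfl⟩
        rw [Finset.mem_filter] at hg
        refine ⟨hS s₀ hs₀ g hg.2, ?_⟩
        rw [QuotientGroup.eq]
        simpa using P.inv_mem hg.2
    rw [heq, Finset.card_image_of_injective _ (mul_right_injective s₀)]
    have : (Finset.univ.filter (fun g : H => g ∈ P)).card = Nat.card P := by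
      rw [Nat.card_eq_fintype_card, Fintype.card_subtype]
    rw [this]
  · have : S.filter (fun a => (QuotientGroup.mk a : H ⧸ P) = q) = ∅ := by
      rw [Finset.filter_eq_empty_iff]
      intro s hs hsq
      exact hq ⟨s, hs, hsq⟩
    rw [this, Finset.card_empty]
    exact dvd_zero _

/-- an invariant set inside a proper subgroup, not containing `1`, is empty. -/
theorem eq_empty_of_subset_subgroup (hax : Ax star) (hprim : Prim star) {T : Finset H}
    (hT : Inv star T) (h1 : (1 : H) ∉ T) (K : Subgroup H) (hK : K ≠ ⊤) (hTK : ∀ t ∈ T, t ∈ K) :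
    T = ∅ := by
  have hcl : ∀ u, ∀ x ∈ Subgroup.closure (T : Set H), star u x ∈ Subgroup.closure (T : Set H) :=
    fun u x hx => closure_inv hax _ (fun u e he => hT u e he) u x hx
  have hle : Subgroup.closure (T : Set H) ≤ K := (Subgroup.closure_le K).2 (fun t ht => hTK t ht)
  rcases hprim _ hcl with hb | ht
  · rw [Finset.eq_empty_iff_forall_notMem]
    intro t ht
    have : t ∈ Subgroup.closure (T : Set H) := Subgroup.subset_closure ht
    rw [hb, Subgroup.mem_bot] at this
    exact h1 (this ▸ ht)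
  · exfalso
    apply hK
    rw [eq_top_iff, ← ht]
    exact hle

/-- a non-trivial element in the left stabiliser forces `T = ∅` or `T = univ`. -/
theorem eq_of_mem_stab (hax : Ax star) (hprim : Prim star) {T : Finset H} (hT : Inv star T)
    (x : H) (hx1 : x ≠ 1) (hx : x ∈ stab T) : T = ∅ ∨ T = Finset.univ := by
  rcases hprim (stab T) (fun u y hy => hT.stab_inv hax u y hy) with hb | ht
  · rw [hb, Subgroup.mem_bot] at hx
    exact absurd hx hx1
  · by_cases hne : T.Nonempty
    · right
      obtain ⟨t₀, ht₀⟩ := hne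
      rw [Finset.eq_univ_iff_forall]
      intro h
      have hmem : h * t₀⁻¹ ∈ stab T := by rw [ht]; trivial
      have := (hmem t₀).2 ht₀
      rwa [inv_mul_cancel_right] at this
    · left
      exact Finset.not_nonempty_iff_eq_empty.1 hne

/-- the level sets of `cnt T` modulo `p`, off the identity, are invariant. -/
theorem level_inv (hax : Ax star) {T : Finset H} (hT : Inv star T) (p : ℕ) (c : ZMod p) :
    Inv star (Finset.univ.filter (fun h : H => h ≠ 1 ∧ ((cnt T h : ℕ) : ZMod p) = c)) := by
  intro u t ht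
  rw [Finset.mem_filter] at ht ⊢
  refine ⟨Finset.mem_univ _, ?_, ?_⟩
  · intro h
    exact ht.2.1 ((hax.eq_one_iff u t).1 h)
  · rw [hT.cnt_star hax]
    exact ht.2.2

theorem inv_inter {S T : Finset H} (hS : Inv star S) (hT : Inv star T) : Inv star (S ∩ T) := by
  intro u t ht
  rw [Finset.mem_inter] at ht ⊢
  exact ⟨hS u t ht.1, hT u t ht.2⟩

theorem inv_sdiff (hax : Ax star) {S T : Finset H} (hS : Inv star S) (hT : Inv star T) :
    Inv star (S \ T) := by
  intro u t ht
  rw [Finset.mem_sdiff] at ht ⊢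
  refine ⟨hS u t ht.1, fun h => ht.2 ?_⟩
  exact (hT.mem_iff hax u t).1 h

theorem inv_insert_one (hax : Ax star) {T : Finset H} (hT : Inv star T) : Inv star (insert 1 T) := by
  intro u t ht
  rw [Finset.mem_insert] at ht ⊢
  rcases ht with rfl | ht
  · left; exact hax.one_right u
  · right; exact hT u t ht

section main

variable (hax : Ax star) (hprim : Prim star) (P : Subgroup H) [hPn : P.Normal] (p : ℕ) (hp : p.Prime)
  (hP : Nat.card P = p) (hPtop : P ≠ ⊤) (T : Finset H) (hT : Inv star T)
  (hsym : ∀ t ∈ T, t⁻¹ ∈ T) (h1 : (1 : H) ∉ T)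
  (hcos : ∀ t ∈ T, t ∉ P → ∀ g ∈ P, t * g ∈ T)

include hcos in
/-- `T ∖ P` is closed under right multiplication by `P` (as a predicate on all of `H`, both directions). -/
theorem mem_off_iff (y g : H) (hy : y ∉ P) (hg : g ∈ P) : y * g ∈ T ↔ y ∈ T := by
  constructor
  · intro h
    have hyg : y * g ∉ P := fun hh => hy (by simpa using P.mul_mem hh (P.inv_mem hg))
    have := hcos _ h hyg g⁻¹ (P.inv_mem hg)
    rwa [mul_inv_cancel_right] at this
  · intro h
    exact hcos y h hy g hg

include hcos hsym in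
/-- the count off `P`. -/
theorem cnt_off (y : H) (hy : y ∉ P) :
    ∃ d : ℕ, cnt T y = 2 * (if y ∈ T then (T.filter (fun t => t ∈ P)).card else 0) + Nat.card P * d := by
  have hyi : y⁻¹ ∉ P := fun h => hy (by simpa using P.inv_mem h)
  obtain ⟨D, hD⟩ : ∃ D : Finset H, D = T.filter (fun t => t ∉ P ∧ y⁻¹ * t ∈ T ∧ y⁻¹ * t ∉ P) := ⟨_, rfl⟩
  have hDdvd : Nat.card P ∣ D.card := by
    apply card_dvd_of_right_invariant
    intro s hs g hg
    rw [hD, Finset.mem_filter] at hs ⊢
    obtain ⟨hsT, hsP, hysT, hysP⟩ := hs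
    have h1' : s * g ∉ P := fun hh => hsP (by simpa using P.mul_mem hh (P.inv_mem hg))
    have h2' : y⁻¹ * (s * g) ∉ P := by
      rw [← mul_assoc]
      exact fun hh => hysP (by simpa using P.mul_mem hh (P.inv_mem hg))
    refine ⟨hcos s hsT hsP g hg, h1', ?_, h2'⟩
    rw [← mul_assoc]
    exact hcos _ hysT hysP g hg
  obtain ⟨d, hd⟩ := hDdvd
  refine ⟨d, ?_⟩
  rw [← hd]
  -- split the filter
  obtain ⟨B, hB⟩ : ∃ B : Finset H, B = T.filter (fun t => t ∈ P ∧ y⁻¹ * t ∈ T) := ⟨_, rfl⟩
  obtain ⟨C, hC⟩ : ∃ C : Finset H, C = T.filter (fun t => t ∉ P ∧ y⁻¹ * t ∈ T ∧ y⁻¹ * t ∈ P) := ⟨_, rfl⟩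
  have hsplit : T.filter (fun t => y⁻¹ * t ∈ T) = B ∪ (C ∪ D) := by
    ext t
    rw [hB, hC, hD]
    simp only [Finset.mem_filter, Finset.mem_union]
    tauto
  have hdisj1 : Disjoint B (C ∪ D) := by
    rw [Finset.disjoint_left]
    intro t htB htCD
    rw [hB, Finset.mem_filter] at htB
    rw [hC, hD, Finset.mem_union, Finset.mem_filter, Finset.mem_filter] at htCD
    rcases htCD with h | h
    · exact h.2.1 htB.2.1
    · exact h.2.1 htB.2.1
  have hdisj2 : Disjoint C D := by
    rw [Finset.disjoint_left]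
    intro t htC htD
    rw [hC, Finset.mem_filter] at htC
    rw [hD, Finset.mem_filter] at htD
    exact htD.2.2.2 htC.2.2.2
  have hBcard : B.card = if y ∈ T then (T.filter (fun t => t ∈ P)).card else 0 := by
    by_cases hyT : y ∈ T
    · rw [if_pos hyT]
      congr 1
      rw [hB]
      ext t
      simp only [Finset.mem_filter]
      constructor
      · rintro ⟨h, h', -⟩; exact ⟨h, h'⟩
      · rintro ⟨h, h'⟩
        exact ⟨h, h', (mem_off_iff P T hcos y⁻¹ t hyi h').2 (hsym y hyT)⟩
    · rw [if_neg hyT, Finset.card_eq_zero, hB, Finset.filter_eq_empty_iff]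
      rintro t htT ⟨htP, hyt⟩
      have := (mem_off_iff P T hcos y⁻¹ t hyi htP).1 hyt
      have := hsym _ this
      rw [inv_inv] at this
      exact hyT this
  have hCcard : C.card = if y ∈ T then (T.filter (fun t => t ∈ P)).card else 0 := by
    by_cases hyT : y ∈ T
    · rw [if_pos hyT]
      have : C = (T.filter (fun t => t ∈ P)).image (fun g => y * g) := by
        rw [hC]
        ext t
        simp only [Finset.mem_filter, Finset.mem_image]
        constructor
        · rintro ⟨htT, htP, hytT, hytP⟩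
          exact ⟨y⁻¹ * t, ⟨hytT, hytP⟩, mul_inv_cancel_left y t⟩
        · rintro ⟨g, ⟨hgT, hgP⟩, rfl⟩
          refine ⟨hcos y hyT hy g hgP, ?_, ?_, ?_⟩
          · exact fun hh => hy (by simpa using P.mul_mem hh (P.inv_mem hgP))
          · rwa [inv_mul_cancel_left]
          · rwa [inv_mul_cancel_left]
      rw [this, Finset.card_image_of_injective _ (mul_right_injective y)]
    · rw [if_neg hyT, Finset.card_eq_zero, hC, Finset.filter_eq_empty_iff]
      rintro t htT ⟨htP, hytT, hytP⟩
      apply hyT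
      have : y * (y⁻¹ * t) ∈ T := by rwa [mul_inv_cancel_left]
      exact (mem_off_iff P T hcos y (y⁻¹ * t) hy hytP).1 this
  unfold cnt
  rw [hsplit, Finset.card_union_of_disjoint hdisj1, Finset.card_union_of_disjoint hdisj2, hBcard,
    hCcard]
  ring

include hcos in
/-- the count on `P`. -/
theorem cnt_on (y : H) (hy : y ∈ P) :
    ∃ d : ℕ, cnt T y =
      ((T.filter (fun t => t ∈ P)).filter (fun t => y⁻¹ * t ∈ T)).card + Nat.card P * d := by
  obtain ⟨D, hD⟩ : ∃ D : Finset H, D = T.filter (fun t => t ∉ P ∧ y⁻¹ * t ∈ T) := ⟨_, rfl⟩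
  have hyi : y⁻¹ ∈ P := P.inv_mem hy
  have hDdvd : Nat.card P ∣ D.card := by
    apply card_dvd_of_right_invariant
    intro s hs g hg
    rw [hD, Finset.mem_filter] at hs ⊢
    obtain ⟨hsT, hsP, hysT⟩ := hs
    have h1' : s * g ∉ P := fun hh => hsP (by simpa using P.mul_mem hh (P.inv_mem hg))
    have hysP : y⁻¹ * s ∉ P := fun hh => hsP (by simpa using P.mul_mem hy hh)
    refine ⟨hcos s hsT hsP g hg, h1', ?_⟩
    rw [← mul_assoc]
    exact hcos _ hysT hysP g hg
  obtain ⟨d, hd⟩ := hDdvd
  refine ⟨d, ?_⟩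
  rw [← hd]
  have hsplit : T.filter (fun t => y⁻¹ * t ∈ T) =
      ((T.filter (fun t => t ∈ P)).filter (fun t => y⁻¹ * t ∈ T)) ∪ D := by
    ext t
    rw [hD]
    simp only [Finset.mem_filter, Finset.mem_union]
    tauto
  have hdisj : Disjoint ((T.filter (fun t => t ∈ P)).filter (fun t => y⁻¹ * t ∈ T)) D := by
    rw [Finset.disjoint_left]
    intro t h h'
    rw [Finset.mem_filter, Finset.mem_filter] at h
    rw [hD, Finset.mem_filter] at h'
    exact h'.2.1 h.1.2
  unfold cnt
  rw [hsplit, Finset.card_union_of_disjoint hdisj]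

include hax hprim hp hP hPtop hT hsym h1 hcos in
/-- **Lemma F**. -/
theorem lemma_F : T = ∅ ∨ T = Finset.univ.erase 1 := by
  have : Fact p.Prime := ⟨hp⟩
  obtain ⟨XP, hXP⟩ : ∃ XP : Finset H, XP = T.filter (fun t => t ∈ P) := ⟨_, rfl⟩
  have hmemXP : ∀ t, t ∈ XP ↔ t ∈ T ∧ t ∈ P := by intro t; rw [hXP, Finset.mem_filter]
  obtain ⟨κ, hκ⟩ : ∃ κ, κ = XP.card := ⟨_, rfl⟩
  -- a non-trivial element of P
  have hPne : ∃ x ∈ P, x ≠ 1 := by
    by_contra hcon
    push Not at hcon
    have : P = ⊥ := (Subgroup.eq_bot_iff_forall _).2 hcon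
    rw [this, Subgroup.card_bot] at hP
    exact hp.one_lt.ne hP
  obtain ⟨x₀, hx₀P, hx₀1⟩ := hPne
  -- the elements of P as a finset
  obtain ⟨PF, hPF⟩ : ∃ PF : Finset H, PF = Finset.univ.filter (fun g : H => g ∈ P) := ⟨_, rfl⟩
  have hmemPF : ∀ g, g ∈ PF ↔ g ∈ P := by
    intro g; rw [hPF, Finset.mem_filter]; exact ⟨fun h => h.2, fun h => ⟨Finset.mem_univ _, h⟩⟩
  have hPFcard : PF.card = p := by
    rw [hPF, ← hP, Nat.card_eq_fintype_card, Fintype.card_subtype]
  have hXPsub : XP ⊆ PF.erase 1 := by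
    intro t ht
    rw [hmemXP] at ht
    rw [Finset.mem_erase, hmemPF]
    exact ⟨fun h => h1 (h ▸ ht.1), ht.2⟩
  have hκle : κ ≤ p - 1 := by
    rw [hκ, ← hPFcard, ← Finset.card_erase_of_mem ((hmemPF 1).2 P.one_mem)]
    exact Finset.card_le_card hXPsub
  -- conjugation trick: left multiplication by P preserves T off P
  have hleft : ∀ x ∈ P, ∀ t : H, t ∉ P → (x * t ∈ T ↔ t ∈ T) := by
    intro x hx t ht
    have hconj : t⁻¹ * x * t ∈ P := by
      have := hPn.conj_mem x hx t⁻¹
      simpa using this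
    have e : x * t = t * (t⁻¹ * x * t) := by group
    rw [e]
    exact mem_off_iff P T hcos t _ ht hconj
  by_cases hκ0 : κ = 0
  · -- P stabilises T
    left
    have hXPe : XP = ∅ := Finset.card_eq_zero.1 (hκ0 ▸ hκ.symm)
    have hTP : ∀ t ∈ T, t ∉ P := by
      intro t ht htP
      have : t ∈ XP := (hmemXP t).2 ⟨ht, htP⟩
      rw [hXPe] at this
      exact Finset.notMem_empty _ this
    have hstab : x₀ ∈ stab T := by
      intro t
      by_cases htP : t ∈ P
      · constructor
        · intro h
          exact absurd (P.mul_mem hx₀P htP) (hTP _ h)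
        · intro h
          exact absurd htP (hTP _ h)
      · exact hleft x₀ hx₀P t htP
    rcases eq_of_mem_stab hax hprim hT x₀ hx₀1 hstab with h | h
    · exact h
    · exfalso
      apply h1
      rw [h]
      exact Finset.mem_univ _
  by_cases hκ1 : κ = p - 1
  · -- P stabilises T ∪ 1
    right
    have hXPeq : XP = PF.erase 1 := by
      apply Finset.eq_of_subset_of_card_le hXPsub
      rw [Finset.card_erase_of_mem ((hmemPF 1).2 P.one_mem), hPFcard, ← hκ, hκ1]
    have hPT : ∀ g ∈ P, g ≠ 1 → g ∈ T := by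
      intro g hg hg1
      have : g ∈ XP := by
        rw [hXPeq, Finset.mem_erase, hmemPF]
        exact ⟨hg1, hg⟩
      exact ((hmemXP g).1 this).1
    have hstab : x₀ ∈ stab (insert 1 T) := by
      intro t
      by_cases htP : t ∈ P
      · have h1' : x₀ * t ∈ insert 1 T := by
          rw [Finset.mem_insert]
          by_cases h : x₀ * t = 1
          · left; exact h
          · right; exact hPT _ (P.mul_mem hx₀P htP) h
        have h2' : t ∈ insert 1 T := by
          rw [Finset.mem_insert]
          by_cases h : t = 1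
          · left; exact h
          · right; exact hPT _ htP h
        exact ⟨fun _ => h2', fun _ => h1'⟩
      · have hxt : x₀ * t ∉ P := fun hh => htP (by simpa using P.mul_mem (P.inv_mem hx₀P) hh)
        have ht1 : t ≠ 1 := fun h => htP (h ▸ P.one_mem)
        have hxt1 : x₀ * t ≠ 1 := fun h => hxt (h ▸ P.one_mem)
        rw [Finset.mem_insert, Finset.mem_insert]
        constructor
        · rintro (h | h)
          · exact absurd h hxt1
          · right; exact (hleft x₀ hx₀P t htP).1 h
        · rintro (h | h)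
          · exact absurd h ht1
          · right; exact (hleft x₀ hx₀P t htP).2 h
    rcases eq_of_mem_stab hax hprim (inv_insert_one hax hT) x₀ hx₀1 hstab with h | h
    · exfalso
      have : (1 : H) ∈ insert 1 T := Finset.mem_insert_self _ _
      rw [h] at this
      exact Finset.notMem_empty _ this
    · ext t
      rw [Finset.mem_erase]
      constructor
      · intro ht
        exact ⟨fun h' => h1 (h' ▸ ht), Finset.mem_univ _⟩
      · rintro ⟨ht1, -⟩
        have : t ∈ insert 1 T := by rw [h]; exact Finset.mem_univ _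
        rw [Finset.mem_insert] at this
        rcases this with h' | h'
        · exact absurd h' ht1
        · exact h'
  -- the main case 0 < κ < p - 1
  exfalso
  have hκpos : 0 < κ := Nat.pos_of_ne_zero hκ0
  have hκlt : κ < p - 1 := lt_of_le_of_ne hκle hκ1
  have hp3 : 3 ≤ p := by omega
  have hp2 : p ≠ 2 := by omega
  have h2κ : ((2 * κ : ℕ) : ZMod p) ≠ 0 := by
    intro h
    rw [ZMod.natCast_eq_zero_iff] at h
    rcases (Nat.Prime.dvd_mul hp).1 h with h' | h'
    · exact hp2 ((Nat.prime_dvd_prime_iff_eq hp Nat.prime_two).1 h')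
    · have := Nat.le_of_dvd hκpos h'
      omega
  -- counts mod p
  have hoff : ∀ y : H, y ∉ P → ((cnt T y : ℕ) : ZMod p) = if y ∈ T then ((2 * κ : ℕ) : ZMod p) else 0 := by
    intro y hy
    obtain ⟨d, hd⟩ := cnt_off P T hsym hcos y hy
    rw [hd, hP, ← hXP, ← hκ]
    push_cast
    rw [ZMod.natCast_self, zero_mul, add_zero]
    split_ifs <;> simp
  have hon : ∀ y : H, y ∈ P → ((cnt T y : ℕ) : ZMod p) =
      (((XP.filter (fun t => y⁻¹ * t ∈ T)).card : ℕ) : ZMod p) := by
    intro y hy
    obtain ⟨d, hd⟩ := cnt_on P T hcos y hy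
    rw [hd, hP, ← hXP]
    push_cast
    rw [ZMod.natCast_self, zero_mul, add_zero]
  -- level sets
  have hE : ∀ c : ZMod p, c ≠ 0 → c ≠ ((2 * κ : ℕ) : ZMod p) →
      Finset.univ.filter (fun h : H => h ≠ 1 ∧ ((cnt T h : ℕ) : ZMod p) = c) = ∅ := by
    intro c hc0 hc2
    apply eq_empty_of_subset_subgroup hax hprim (level_inv hax hT p c) _ P hPtop
    · intro t ht
      rw [Finset.mem_filter] at ht
      by_contra htP
      have := hoff t htP
      rw [ht.2.2] at this
      split_ifs at this
      · exact hc2 this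
      · exact hc0 this
    · intro h
      rw [Finset.mem_filter] at h
      exact h.2.1 rfl
  have hE0 : Finset.univ.filter (fun h : H => h ≠ 1 ∧ ((cnt T h : ℕ) : ZMod p) = 0) ∩ T = ∅ := by
    apply eq_empty_of_subset_subgroup hax hprim (inv_inter (level_inv hax hT p 0) hT) _ P hPtop
    · intro t ht
      rw [Finset.mem_inter, Finset.mem_filter] at ht
      by_contra htP
      have := hoff t htP
      rw [ht.1.2.2, if_pos ht.2] at this
      exact h2κ this.symm
    · intro h
      rw [Finset.mem_inter] at h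
      exact h1 h.2
  have hE2 : Finset.univ.filter (fun h : H => h ≠ 1 ∧
      ((cnt T h : ℕ) : ZMod p) = ((2 * κ : ℕ) : ZMod p)) \ T = ∅ := by
    apply eq_empty_of_subset_subgroup hax hprim (inv_sdiff hax (level_inv hax hT p _) hT) _ P hPtop
    · intro t ht
      rw [Finset.mem_sdiff, Finset.mem_filter] at ht
      by_contra htP
      have := hoff t htP
      rw [ht.1.2.2, if_neg ht.2] at this
      exact h2κ this
    · intro h
      rw [Finset.mem_sdiff, Finset.mem_filter] at h
      exact h.1.2.1 rfl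
  -- ν vanishes off XP ∪ 1
  have hν : ∀ y ∈ P, y ≠ 1 → y ∉ T → XP.filter (fun t => y⁻¹ * t ∈ T) = ∅ := by
    intro y hyP hy1 hyT
    have hc : ((cnt T y : ℕ) : ZMod p) = 0 := by
      by_contra hc0
      by_cases hc2 : ((cnt T y : ℕ) : ZMod p) = ((2 * κ : ℕ) : ZMod p)
      · have : y ∈ Finset.univ.filter (fun h : H => h ≠ 1 ∧
            ((cnt T h : ℕ) : ZMod p) = ((2 * κ : ℕ) : ZMod p)) \ T := by
          rw [Finset.mem_sdiff, Finset.mem_filter]
          exact ⟨⟨Finset.mem_univ _, hy1, hc2⟩, hyT⟩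
        rw [hE2] at this
        exact Finset.notMem_empty _ this
      · have : y ∈ Finset.univ.filter (fun h : H => h ≠ 1 ∧
            ((cnt T h : ℕ) : ZMod p) = ((cnt T y : ℕ) : ZMod p)) := by
          rw [Finset.mem_filter]
          exact ⟨Finset.mem_univ _, hy1, rfl⟩
        rw [hE _ hc0 hc2] at this
        exact Finset.notMem_empty _ this
    rw [hon y hyP, ZMod.natCast_eq_zero_iff] at hc
    rw [← Finset.card_eq_zero]
    by_contra hne
    have hle : (XP.filter (fun t => y⁻¹ * t ∈ T)).card ≤ κ := by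
      rw [hκ]; exact Finset.card_filter_le _ _
    have := Nat.le_of_dvd (Nat.pos_of_ne_zero hne) hc
    omega
  -- XP ∪ 1 is a subgroup
  have hmul : ∀ s ∈ XP, ∀ t ∈ XP, t * s⁻¹ ∈ XP ∨ t * s⁻¹ = 1 := by
    intro s hs t ht
    by_contra hcon
    push Not at hcon
    obtain ⟨hn1, hn2⟩ := hcon
    have hsP := ((hmemXP s).1 hs).2
    have htP := ((hmemXP t).1 ht).2
    have hyP : t * s⁻¹ ∈ P := P.mul_mem htP (P.inv_mem hsP)
    have hyT : t * s⁻¹ ∉ T := fun h => hn1 ((hmemXP _).2 ⟨h, hyP⟩)
    have := hν _ hyP hn2 hyT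
    have hmem : t ∈ XP.filter (fun t' => (t * s⁻¹)⁻¹ * t' ∈ T) := by
      rw [Finset.mem_filter]
      refine ⟨ht, ?_⟩
      have : (t * s⁻¹)⁻¹ * t = s := by group
      rw [this]
      exact ((hmemXP s).1 hs).1
    rw [this] at hmem
    exact Finset.notMem_empty _ hmem
  have hinvXP : ∀ s ∈ XP, s⁻¹ ∈ XP := by
    intro s hs
    rw [hmemXP] at hs ⊢
    exact ⟨hsym s hs.1, P.inv_mem hs.2⟩
  obtain ⟨K, hK⟩ : ∃ K : Subgroup H, ∀ x, x ∈ K ↔ x ∈ XP ∨ x = 1 := by
    refine ⟨{ carrier := {x | x ∈ XP ∨ x = 1}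
              one_mem' := Or.inr rfl
              mul_mem' := ?_
              inv_mem' := ?_ }, fun x => Iff.rfl⟩
    · rintro a b (ha | rfl) (hb | rfl)
      · have := hmul b⁻¹ (hinvXP b hb) a ha
        rwa [inv_inv] at this
      · left; rwa [mul_one]
      · left; rwa [one_mul]
      · right; rw [mul_one]
    · rintro a (ha | rfl)
      · left; exact hinvXP a ha
      · right; exact inv_one
  have hKP : K ≤ P := by
    intro x hx
    rcases (hK x).1 hx with h | rfl
    · exact ((hmemXP x).1 h).2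
    · exact P.one_mem
  have hKcard : Nat.card K = κ + 1 := by
    have : Nat.card K = (insert 1 XP).card := by
      rw [Nat.card_eq_fintype_card, ← Fintype.card_coe]
      apply Fintype.card_congr
      refine ⟨fun x => ⟨x.1, ?_⟩, fun x => ⟨x.1, ?_⟩, fun x => rfl, fun x => rfl⟩
      · rw [Finset.mem_insert]
        rcases (hK x.1).1 x.2 with h | h
        · right; exact h
        · left; exact h
      · rw [hK]
        have := x.2
        rw [Finset.mem_insert] at this
        rcases this with h | h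
        · right; exact h
        · left; exact h
    rw [this, Finset.card_insert_of_notMem, hκ]
    intro h
    exact h1 ((hmemXP 1).1 h).1
  have hdvd : Nat.card K ∣ p := by
    rw [← hP]
    exact Subgroup.card_dvd_of_le hKP
  rw [hKcard] at hdvd
  rcases (Nat.dvd_prime hp).1 hdvd with h | h
  · omega
  · omega

end main

end Cfsg.Agent.Lib.Helper21.WDLemF
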