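import Mathlib
import Cfsg.Agent.Lib.Helper29.WDDefs
import Cfsg.Agent.Lib.Helper21.WDLemF

/-!
# S3572 market "WD", leaves F12: (F1) symmetry of the rotation part, (F2) no S-set inside the rotations
or inside the reflections, S-sets are determined by their rotation parts.
-/

set_option autoImplicit false
set_option linter.unusedSectionVars false
set_option linter.unusedVariables false

namespace Cfsg.Agent.Lib.Helper21.WDLeaf

open Finset DihedralGroup
open Cfsg.Agent.Lib.Helper19.SchurCyclic
open Cfsg.Agent.Lib.Helper29.WD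

variable {n : ℕ} [NeZero n] {U : Type*} [Group U] {star : U → DihedralGroup n → DihedralGroup n}
variable {T T' T₁ T₂ : Finset (DihedralGroup n)}

/-- `cnt T y = 0` iff no `t ∈ T` has `y⁻¹ t ∈ T` -/
theorem cnt_eq_zero_iff {H : Type*} [Group H] [Fintype H] (T : Finset H) (y : H) :
    cnt T y = 0 ↔ ∀ t ∈ T, y⁻¹ * t ∉ T := by
  classical
  unfold cnt
  rw [Finset.card_eq_zero, Finset.filter_eq_empty_iff]

theorem inv_sdiff' (hax : Ax star) (h₁ : Inv star T₁) (h₂ : Inv star T₂) : Inv star (T₁ \ T₂) := by
  intro u t ht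
  rw [mem_sdiff] at ht ⊢
  exact ⟨h₁ u t ht.1, fun h => ht.2 ((h₂.mem_iff hax u t).1 h)⟩

/-- the subgroup of rotations -/
def rot (n : ℕ) : Subgroup (DihedralGroup n) where
  carrier := {g | ∃ i, g = r i}
  mul_mem' := by
    rintro _ _ ⟨i, rfl⟩ ⟨j, rfl⟩
    exact ⟨i + j, r_mul_r i j⟩
  one_mem' := ⟨0, one_def⟩
  inv_mem' := by
    rintro _ ⟨i, rfl⟩
    exact ⟨-i, inv_r i⟩

theorem mem_rot {g : DihedralGroup n} : g ∈ rot n ↔ ∃ i, g = r i := Iff.rfl

theorem rot_ne_top : rot n ≠ ⊤ := by
  intro h
  have : (sr 0 : DihedralGroup n) ∈ rot n := by rw [h]; trivial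
  obtain ⟨i, hi⟩ := this
  cases hi

/-- the subgroup `{1, sr a}` -/
def refl2 (a : ZMod n) : Subgroup (DihedralGroup n) where
  carrier := {g | g = 1 ∨ g = sr a}
  mul_mem' := by
    rintro _ _ (rfl | rfl) (rfl | rfl)
    · left; exact one_mul 1
    · right; exact one_mul _
    · right; exact mul_one _
    · left
      rw [sr_mul_sr, sub_self, one_def]
  one_mem' := Or.inl rfl
  inv_mem' := by
    rintro _ (rfl | rfl)
    · left; exact inv_one
    · right; exact inv_sr a

theorem refl2_ne_top (hn : 3 ≤ n) (a : ZMod n) : refl2 a ≠ ⊤ := by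
  intro h
  have : (r 1 : DihedralGroup n) ∈ refl2 a := by rw [h]; trivial
  rcases this with h | h
  · rw [one_def] at h
    have h' : (1 : ZMod n) = 0 := r.inj h
    have : Fact (1 < n) := ⟨by omega⟩
    exact one_ne_zero h'
  · cases h

theorem prim' (hprim : Prim star) : Cfsg.Agent.Lib.Helper21.WDLemF.Prim star :=
  fun K hK => hprim K hK

/-- an S-set of rotations without `1` is empty -/
theorem empty_of_rot (hax : Ax star) (hprim : Prim star) (hT : Inv star T)
    (h1 : (1 : DihedralGroup n) ∉ T) (h : ∀ t ∈ T, ∃ i, t = r i) : T = ∅ :=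
  Cfsg.Agent.Lib.Helper21.WDLemF.eq_empty_of_subset_subgroup hax (prim' hprim) hT h1 (rot n)
    rot_ne_top h

theorem inv_filter_inv_notMem (hax : Ax star) (hT : Inv star T) :
    Inv star (T.filter (fun g => g⁻¹ ∉ T)) := by
  intro u g hg
  rw [mem_filter] at hg ⊢
  refine ⟨hT u g hg.1, fun h => hg.2 ?_⟩
  have := hT.rel hax u g 1
  rw [hax.one_right, mul_one, mul_one] at this
  exact this.1 h

/-- (F1) -/
theorem symm (hax : Ax star) (hprim : Prim star) (hT : Inv star T) : ∀ i ∈ XX T, -i ∈ XX T := by
  have hD : T.filter (fun g => g⁻¹ ∉ T) = ∅ := by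
    apply empty_of_rot hax hprim (inv_filter_inv_notMem hax hT)
    · intro h
      rw [mem_filter] at h
      exact h.2 (by rw [inv_one]; exact h.1)
    · intro t ht
      rw [mem_filter] at ht
      rcases t with i | j
      · exact ⟨i, rfl⟩
      · exact absurd (by rw [inv_sr]; exact ht.1) ht.2
  intro i hi
  rw [mem_XX] at hi ⊢
  by_contra hcon
  have : r i ∈ T.filter (fun g => g⁻¹ ∉ T) := by
    rw [mem_filter]
    exact ⟨hi, by rw [inv_r]; exact hcon⟩
  rw [hD] at this
  exact absurd this (notMem_empty _)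

theorem inv_supp (hax : Ax star) (hT : Inv star T) :
    Inv star (univ.filter (fun g : DihedralGroup n => g ≠ 1 ∧ cnt T g ≠ 0)) := by
  intro u g hg
  rw [mem_filter] at hg ⊢
  refine ⟨mem_univ _, fun h => hg.2.1 ((hax.eq_one_iff u g).1 h), ?_⟩
  rw [hT.cnt_star hax]
  exact hg.2.2

/-- (F2) -/
theorem F2 (hax : Ax star) (hprim : Prim star) (hn : 3 ≤ n) (hT : Inv star T) (h1 : (1 : DihedralGroup n) ∉ T)
    (hne : T.Nonempty) : (XX T).Nonempty ∧ (YY T).Nonempty := by
  constructor
  · by_contra hX
    rw [not_nonempty_iff_eq_empty] at hX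
    have hnoR : ∀ i, r i ∉ T := by
      intro i hi
      have : i ∈ XX T := mem_XX.2 hi
      rw [hX] at this
      exact absurd this (notMem_empty _)
    -- the support of `cnt T` off `1` consists of rotations
    have hS : univ.filter (fun g : DihedralGroup n => g ≠ 1 ∧ cnt T g ≠ 0) = ∅ := by
      apply empty_of_rot hax hprim (inv_supp hax hT)
      · intro h
        rw [mem_filter] at h
        exact h.2.1 rfl
      · intro g hg
        rw [mem_filter] at hg
        rcases g with i | c
        · exact ⟨i, rfl⟩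
        · exfalso
          apply hg.2.2
          rw [cnt_eq_zero_iff]
          intro t ht hmem
          rcases t with i | a
          · exact hnoR i ht
          · rw [inv_sr, sr_mul_sr] at hmem
            exact hnoR _ hmem
    -- hence `T` has at most one element
    obtain ⟨t₀, ht₀⟩ := hne
    have hsing : ∀ t ∈ T, t = t₀ := by
      intro t ht
      by_contra hne'
      have hmem : t * t₀⁻¹ ∈ univ.filter (fun g : DihedralGroup n => g ≠ 1 ∧ cnt T g ≠ 0) := by
        rw [mem_filter]
        refine ⟨mem_univ _, ?_, ?_⟩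
        · intro h
          apply hne'
          rw [mul_inv_eq_one] at h
          exact h
        · rw [Ne, cnt_eq_zero_iff]
          intro hall
          apply hall t ht
          rw [mul_inv_rev, inv_inv, inv_mul_cancel_right]
          exact ht₀
      rw [hS] at hmem
      exact absurd hmem (notMem_empty _)
    rcases t₀ with i | a
    · exact hnoR i ht₀
    · have : T = ∅ :=
        Cfsg.Agent.Lib.Helper21.WDLemF.eq_empty_of_subset_subgroup hax (prim' hprim) hT h1
          (refl2 a) (refl2_ne_top hn a) (fun t ht => Or.inr (hsing t ht))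
      rw [this] at ht₀
      exact absurd ht₀ (notMem_empty _)
  · by_contra hY
    rw [not_nonempty_iff_eq_empty] at hY
    have : T = ∅ := by
      apply empty_of_rot hax hprim hT h1
      intro t ht
      rcases t with i | j
      · exact ⟨i, rfl⟩
      · exfalso
        have : j ∈ YY T := mem_YY.2 ht
        rw [hY] at this
        exact absurd this (notMem_empty _)
    rw [this] at hne
    exact absurd hne not_nonempty_empty

theorem sdiff_eq_empty_of_XX_eq (hax : Ax star) (hprim : Prim star) (hn : 3 ≤ n) (hT : Inv star T)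
    (hT' : Inv star T') (h : XX T = XX T') : T \ T' = ∅ := by
  by_contra hne
  rw [← Ne, ← nonempty_iff_ne_empty] at hne
  have hinv : Inv star (T \ T') := inv_sdiff' hax hT hT'
  have h1 : (1 : DihedralGroup n) ∉ T \ T' := by
    intro h1
    rw [mem_sdiff, one_def, ← mem_XX, ← mem_XX, h] at h1
    exact h1.2 h1.1
  obtain ⟨⟨i, hi⟩, _⟩ := F2 hax hprim hn hinv h1 hne
  rw [mem_XX, mem_sdiff, ← mem_XX, ← mem_XX, h] at hi
  exact hi.2 hi.1

/-- S-sets are determined by their rotation parts. -/
theorem eq_of_XX_eq (hax : Ax star) (hprim : Prim star) (hn : 3 ≤ n) (hT : Inv star T) (hT' : Inv star T')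
    (h : XX T = XX T') : T = T' := by
  apply Subset.antisymm
  · rw [← sdiff_eq_empty_iff_subset]
    exact sdiff_eq_empty_of_XX_eq hax hprim hn hT hT' h
  · rw [← sdiff_eq_empty_iff_subset]
    exact sdiff_eq_empty_of_XX_eq hax hprim hn hT' hT h.symm

theorem YY_compl_nonempty (hax : Ax star) (hprim : Prim star) (hn : 3 ≤ n) (hT : Inv star T)
    (h1 : (1 : DihedralGroup n) ∉ T) (hne : T ≠ univ.erase 1) : ((YY T)ᶜ).Nonempty := by
  by_contra hY
  rw [not_nonempty_iff_eq_empty] at hY
  have hall : ∀ j, sr j ∈ T := by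
    intro j
    by_contra hj
    have : j ∈ (YY T)ᶜ := by
      rw [mem_compl, mem_YY]
      exact hj
    rw [hY] at this
    exact absurd this (notMem_empty _)
  have hE : Inv star (univ.erase (1 : DihedralGroup n)) := by
    intro u g hg
    rw [mem_erase] at hg ⊢
    exact ⟨fun h => hg.1 ((hax.eq_one_iff u g).1 h), mem_univ _⟩
  have hC : univ.erase (1 : DihedralGroup n) \ T = ∅ := by
    apply empty_of_rot hax hprim (inv_sdiff' hax hE hT)
    · intro h
      rw [mem_sdiff, mem_erase] at h
      exact h.1.1 rfl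
    · intro t ht
      rw [mem_sdiff] at ht
      rcases t with i | j
      · exact ⟨i, rfl⟩
      · exact absurd (hall j) ht.2
  apply hne
  apply Subset.antisymm
  · intro t ht
    rw [mem_erase]
    exact ⟨fun h => h1 (h ▸ ht), mem_univ _⟩
  · rw [← sdiff_eq_empty_iff_subset]
    exact hC

end Cfsg.Agent.Lib.Helper21.WDLeaf
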