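import Mathlib
import Cfsg.Agent.Lib.Helper29.WDDefs
import Cfsg.Agent.Lib.Helper29.DHBFIN
import Cfsg.Agent.Lib.Helper21.WDLemF
import Cfsg.Agent.Lib.Helper21.WDF12

/-!
# S3572 market "WD", leaves LEMF / FSTAB / FCOUNT: Lemma F for the dihedral group, from the generic
`WDLemF.lemma_F` with `P = {r t | p • t = 0}`.
-/

set_option autoImplicit false
set_option linter.unusedSectionVars false
set_option linter.unusedVariables false

namespace Cfsg.Agent.Lib.Helper21.WDLeaf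

open Finset DihedralGroup
open Cfsg.Agent.Lib.Helper19.SchurCyclic
open Cfsg.Agent.Lib.Helper7.DHB
open Cfsg.Agent.Lib.Helper29.WD

variable {n : ℕ} [NeZero n] {U : Type*} [Group U] {star : U → DihedralGroup n → DihedralGroup n}
variable {T T' T₁ T₂ : Finset (DihedralGroup n)}

/-- the subgroup `{r t | p • t = 0}` of order `p` -/
def PP (n p : ℕ) : Subgroup (DihedralGroup n) where
  carrier := {g | ∃ t : ZMod n, p • t = 0 ∧ g = r t}
  mul_mem' := by
    rintro _ _ ⟨s, hs, rfl⟩ ⟨t, ht, rfl⟩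
    exact ⟨s + t, by rw [smul_add, hs, ht, add_zero], r_mul_r s t⟩
  one_mem' := ⟨0, smul_zero p, one_def⟩
  inv_mem' := by
    rintro _ ⟨s, hs, rfl⟩
    exact ⟨-s, by rw [smul_neg, hs, neg_zero], inv_r s⟩

theorem mem_PP {p : ℕ} {g : DihedralGroup n} : g ∈ PP n p ↔ ∃ t : ZMod n, p • t = 0 ∧ g = r t :=
  Iff.rfl

theorem r_mem_PP {p : ℕ} {t : ZMod n} : r t ∈ PP n p ↔ p • t = 0 := by
  constructor
  · rintro ⟨s, hs, h⟩
    rw [r.inj h]
    exact hs
  · intro h
    exact ⟨t, h, rfl⟩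

theorem sr_notMem_PP {p : ℕ} {j : ZMod n} : sr j ∉ PP n p := by
  rintro ⟨s, _, h⟩
  cases h

instance PP_normal (p : ℕ) : (PP n p).Normal := by
  constructor
  rintro _ ⟨t, ht, rfl⟩ g
  rcases g with i | i
  · refine ⟨t, ht, ?_⟩
    rw [inv_r, r_mul_r, r_mul_r]
    congr 1
    abel
  · refine ⟨-t, by rw [smul_neg, ht, neg_zero], ?_⟩
    rw [inv_sr, sr_mul_r, sr_mul_sr]
    congr 1
    abel

theorem card_PP {p : ℕ} (hpn : p ∣ n) : Nat.card (PP n p) = p := by
  classical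
  have h := Nat.subtype_card (p := fun g => g ∈ PP n p)
    ((univ.filter (fun t : ZMod n => p • t = 0)).image (r : ZMod n → DihedralGroup n))
    (fun g => by
      rw [mem_image]
      constructor
      · rintro ⟨t, ht, rfl⟩
        rw [mem_filter] at ht
        exact ⟨t, ht.2, rfl⟩
      · rintro ⟨t, ht, rfl⟩
        exact ⟨t, by rw [mem_filter]; exact ⟨mem_univ _, ht⟩, rfl⟩)
  rw [card_image_of_injective _ (fun a b hab => r.inj hab)] at h
  rw [h]
  convert Cfsg.Agent.Lib.Helper29.DHBFIN.card_P (n := n) hpn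

theorem PP_ne_top (p : ℕ) : PP n p ≠ ⊤ := by
  intro h
  have : (sr 0 : DihedralGroup n) ∈ PP n p := by rw [h]; trivial
  exact sr_notMem_PP this

theorem lemF {p : ℕ} (hax : Ax star) (hprim : Prim star) (hn : 3 ≤ n) (hp : p.Prime) (hpn : p ∣ n)
    (hT : Inv star T) (h1 : (1 : DihedralGroup n) ∉ T) (hX : PInvOff p (XX T)) (hY : PInv p (YY T)) : Triv T := by
  have hsym : ∀ t ∈ T, t⁻¹ ∈ T := by
    intro t ht
    rcases t with i | j
    · rw [inv_r, ← mem_XX]
      exact symm hax hprim hT i (mem_XX.2 ht)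
    · rw [inv_sr]
      exact ht
  have hcos : ∀ t ∈ T, t ∉ PP n p → ∀ g ∈ PP n p, t * g ∈ T := by
    rintro t ht htP _ ⟨s, hs, rfl⟩
    rcases t with i | j
    · rw [r_mul_r, ← mem_XX]
      exact hX i (mem_XX.2 ht) (fun h => htP (r_mem_PP.2 h)) s hs
    · rw [sr_mul_r, ← mem_YY]
      exact hY j (mem_YY.2 ht) s hs
  rcases Cfsg.Agent.Lib.Helper21.WDLemF.lemma_F hax (prim' hprim) (PP n p) p hp (card_PP hpn)
    (PP_ne_top p) T hT hsym h1 hcos with h | h
  · left; exact h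
  · right
    rw [h]
    ext g
    simp only [mem_erase]

/-- `X ∩ P = ∅`: `P ≤ stab T`; `X ∩ P = P ∖ 0`: `P ≤ stab (insert 1 T)`. -/
theorem lemF_stab {p : ℕ} (hax : Ax star) (hprim : Prim star) (hn : 3 ≤ n) (hp : p.Prime) (hpn : p ∣ n)
    (hT : Inv star T) (h1 : (1 : DihedralGroup n) ∉ T) (hX : PInvOff p (XX T)) (hY : PInv p (YY T))
    (hcase : (∀ i ∈ XX T, p • i ≠ 0) ∨ (∀ t : ZMod n, p • t = 0 → t ≠ 0 → t ∈ XX T)) : Triv T :=
  lemF hax hprim hn hp hpn hT h1 hX hY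

/-- the counting case. -/
theorem lemF_count {p : ℕ} (hax : Ax star) (hprim : Prim star) (hn : 3 ≤ n) (hp : p.Prime) (hpn : p ∣ n)
    (hT : Inv star T) (h1 : (1 : DihedralGroup n) ∉ T) (hX : PInvOff p (XX T)) (hY : PInv p (YY T)) :
    (∀ i ∈ XX T, p • i ≠ 0) ∨ (∀ t : ZMod n, p • t = 0 → t ≠ 0 → t ∈ XX T) := by
  rcases lemF hax hprim hn hp hpn hT h1 hX hY with h | h
  · left
    intro i hi
    rw [mem_XX, h] at hi
    exact absurd hi (notMem_empty _)
  · right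
    intro t _ ht0
    rw [mem_XX, h, mem_erase]
    refine ⟨fun h' => ht0 ?_, mem_univ _⟩
    rw [one_def] at h'
    exact r.inj h'

end Cfsg.Agent.Lib.Helper21.WDLeaf
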