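import Mathlib

set_option autoImplicit false

namespace Cfsg.Agent.Lib.Helper21.HalfTrans

open Subgroup MulAction

variable {G : Type*} [Group G]

/-- conjugation action of a subgroup `S` on an `S`-invariant set `X` -/
@[reducible] def conjOn (S : Subgroup G) (X : Set G)
    (hX : ∀ g ∈ S, ∀ y ∈ X, g * y * g⁻¹ ∈ X) : MulAction S X where
  smul g y := ⟨(g : G) * y * (g : G)⁻¹, hX g g.2 y y.2⟩
  one_smul := by
    rintro ⟨y, hy⟩
    apply Subtype.ext
    show ((1 : S) : G) * y * ((1 : S) : G)⁻¹ = y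
    simp
  mul_smul := by
    rintro g g' ⟨y, hy⟩
    apply Subtype.ext
    show ((g * g' : S) : G) * y * ((g * g' : S) : G)⁻¹
      = (g : G) * ((g' : G) * y * (g' : G)⁻¹) * (g : G)⁻¹
    simp [mul_assoc]

/-- orbit counting: if all stabilizers have `s` elements then `|H| ∣ s * |Y|`. -/
theorem card_dvd_of_stabilizer {H Y : Type*} [Group H] [MulAction H Y] [Finite H] [Finite Y]
    (s : ℕ) (hs : ∀ y : Y, Nat.card (stabilizer H y) = s) : Nat.card H ∣ s * Nat.card Y := by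
  classical
  have : Fintype (orbitRel.Quotient H Y) := Fintype.ofFinite _
  rw [Nat.card_congr (selfEquivSigmaOrbits H Y), Nat.card_sigma, Finset.mul_sum]
  refine Finset.dvd_sum fun ω _ => ?_
  have h1 := index_stabilizer H (ω.out)
  have h2 := Subgroup.card_mul_index (stabilizer H ω.out)
  rw [hs, h1] at h2
  rw [Nat.card_coe_set_eq, h2]

theorem card_dvd_mul_ncard [Finite G] (S : Subgroup G) (X : Set G) (s : ℕ)
    (hX : ∀ g ∈ S, ∀ y ∈ X, g * y * g⁻¹ ∈ X)
    (hcard : ∀ y ∈ X, Nat.card ↥(S ⊓ centralizer {y}) = s) : Nat.card S ∣ s * X.ncard := by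
  letI := conjOn S X hX
  rw [← Nat.card_coe_set_eq]
  refine card_dvd_of_stabilizer s ?_
  rintro ⟨y, hy⟩
  rw [← hcard y hy]
  have : stabilizer S (⟨y, hy⟩ : X) = (S ⊓ centralizer {y}).subgroupOf S := by
    ext g
    rw [mem_stabilizer_iff, mem_subgroupOf, mem_inf, mem_centralizer_singleton_iff]
    constructor
    · intro hg
      have hg' : (g : G) * y * (g : G)⁻¹ = y := congrArg Subtype.val hg
      refine ⟨g.2, ?_⟩
      calc (g : G) * y = ((g : G) * y * (g : G)⁻¹) * (g : G) := by group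
        _ = y * (g : G) := by rw [hg']
    · rintro ⟨-, hg⟩
      apply Subtype.ext
      show (g : G) * y * (g : G)⁻¹ = y
      rw [hg]
      group
  rw [this]
  exact Nat.card_congr (subgroupOfEquivOfLe inf_le_left).toEquiv

theorem ncard_dvd_card_of_transitive [Finite G] (S : Subgroup G) (X : Set G)
    (hX : ∀ g ∈ S, ∀ y ∈ X, g * y * g⁻¹ ∈ X)
    (htr : ∀ y ∈ X, ∀ z ∈ X, ∃ g ∈ S, g * y * g⁻¹ = z) (hne : X.Nonempty) :
    X.ncard ∣ Nat.card S := by
  letI := conjOn S X hX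
  obtain ⟨x0, hx0⟩ := hne
  haveI : IsPretransitive S X := by
    refine ⟨?_⟩
    rintro ⟨y, hy⟩ ⟨z, hz⟩
    obtain ⟨g, hg, hgy⟩ := htr y hy z hz
    exact ⟨⟨g, hg⟩, Subtype.ext hgy⟩
  have := index_stabilizer_of_transitive S (⟨x0, hx0⟩ : X)
  rw [← Nat.card_coe_set_eq, ← this]
  exact Subgroup.index_dvd_card _

/-- `A ⊓ C_G(x)` -/
def Bx (A : Subgroup G) (x : G) : Subgroup G := A ⊓ centralizer {x}

theorem mem_Bx {A : Subgroup G} {x g : G} : g ∈ Bx A x ↔ g ∈ A ∧ g * x * g⁻¹ = x := by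
  rw [Bx, mem_inf, mem_centralizer_singleton_iff, mul_inv_eq_iff_eq_mul]

theorem Bx_inv (A : Subgroup G) (x : G) : Bx A x⁻¹ = Bx A x := by
  ext g
  rw [mem_Bx, mem_Bx]
  constructor
  · rintro ⟨h1, h2⟩
    refine ⟨h1, ?_⟩
    have := congrArg (fun z => z⁻¹) h2
    simpa [mul_assoc] using this
  · rintro ⟨h1, h2⟩
    refine ⟨h1, ?_⟩
    have := congrArg (fun z => z⁻¹) h2
    simpa [mul_assoc] using this

/-- hypotheses: `A` acts by conjugation on the normal subgroup `N`, faithfully, with all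
stabilizers of nonidentity elements of the same order `s ≥ 2`. -/
structure Hyp (N A : Subgroup G) (s : ℕ) : Prop where
  normal : N.Normal
  two_le : 2 ≤ s
  faith : ∀ b ∈ A, (∀ n ∈ N, b * n * b⁻¹ = n) → b = 1
  stab : ∀ x ∈ N, x ≠ 1 → Nat.card ↥(Bx A x) = s
  ne_bot : N ≠ ⊥

namespace Hyp

variable [Finite G] {N A : Subgroup G} {s : ℕ}

theorem Bx_eq_of_le (h : Hyp N A s) {x y : G} (hx : x ∈ N) (hx1 : x ≠ 1) (hy : y ∈ N)
    (hy1 : y ≠ 1) (hle : Bx A x ≤ Bx A y) : Bx A x = Bx A y :=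
  Subgroup.eq_of_le_of_card_ge hle (by rw [h.stab x hx hx1, h.stab y hy hy1])

theorem Bx_eq_of_fix (h : Hyp N A s) {x y : G} (hx : x ∈ N) (hx1 : x ≠ 1) (hy : y ∈ N)
    (hy1 : y ≠ 1) (hfix : ∀ b ∈ Bx A x, b * y * b⁻¹ = y) : Bx A x = Bx A y :=
  h.Bx_eq_of_le hx hx1 hy hy1 (fun b hb => mem_Bx.2 ⟨(mem_Bx.1 hb).1, hfix b hb⟩)

theorem exists_ne (h : Hyp N A s) {x : G} (hx : x ∈ N) (hx1 : x ≠ 1) :
    ∃ z ∈ N, z ≠ 1 ∧ Bx A z ≠ Bx A x := by
  by_contra hcon
  push_neg at hcon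
  have hB : ∀ b ∈ Bx A x, b = 1 := by
    intro b hb
    refine h.faith b (mem_Bx.1 hb).1 (fun n hn => ?_)
    by_cases hn1 : n = 1
    · subst hn1; group
    · have := hcon n hn hn1
      rw [← this] at hb
      exact (mem_Bx.1 hb).2
  have hbot : Bx A x = ⊥ := (Subgroup.eq_bot_iff_forall _).2 hB
  have h1 := h.stab x hx hx1
  rw [hbot, Subgroup.card_bot] at h1
  have := h.two_le
  omega

theorem exists_mem (h : Hyp N A s) : ∃ x ∈ N, x ≠ 1 := by
  by_contra hcon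
  push_neg at hcon
  exact h.ne_bot ((Subgroup.eq_bot_iff_forall _).2 hcon)

theorem s_pos (h : Hyp N A s) : 0 < s := by
  have := h.two_le
  omega

theorem exists_m (h : Hyp N A s) : ∃ m : ℕ, Nat.card A = s * m ∧ m.Coprime (Nat.card N) := by
  obtain ⟨x, hx, hx1⟩ := h.exists_mem
  have hsdvd : s ∣ Nat.card A := by
    rw [← h.stab x hx hx1]
    exact Subgroup.card_dvd_of_le inf_le_left
  obtain ⟨m, hm⟩ := hsdvd
  refine ⟨m, hm, ?_⟩
  have hX := card_dvd_mul_ncard A ((N : Set G) \ {1}) s ?_ ?_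
  · rw [Set.ncard_sdiff_singleton_of_mem (show (1 : G) ∈ (N : Set G) from N.one_mem), hm] at hX
    have hmdvd : m ∣ (N : Set G).ncard - 1 := (Nat.mul_dvd_mul_iff_left h.s_pos).1 hX
    have hNpos : 0 < Nat.card N := Nat.card_pos
    rw [← Nat.card_coe_set_eq] at hmdvd
    obtain ⟨k, hk⟩ := hmdvd
    have hN' : Nat.card N = m * k + 1 := by
      have : Nat.card (↥(N : Set G)) = Nat.card N := rfl
      omega
    rw [hN', Nat.coprime_mul_left_add_right]
    exact Nat.coprime_one_right m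
  · rintro g hg y ⟨hyN, hy1⟩
    refine ⟨h.normal.conj_mem y hyN g, ?_⟩
    simp only [Set.mem_singleton_iff] at hy1 ⊢
    intro hc
    apply hy1
    have := congrArg (fun z => g⁻¹ * z * g) hc
    simpa [mul_assoc] using this
  · rintro y ⟨hyN, hy1⟩
    exact h.stab y hyN (by simpa using hy1)

/-- the block lemma -/
theorem block_fix (h : Hyp N A s) {m : ℕ} (hm : Nat.card A = s * m) (X : Set G)
    (hXN : ∀ y ∈ X, y ∈ N ∧ y ≠ 1) (hcop : m.Coprime X.ncard)
    (hblock : ∀ g ∈ A, ∀ y ∈ X, g * y * g⁻¹ ∈ X → g ∈ normalizer X) :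
    ∀ g ∈ A, ∀ y ∈ X, g * y * g⁻¹ ∈ X → g * y * g⁻¹ = y := by
  intro g hg y hy hgy
  set H : Subgroup G := A ⊓ normalizer X with hH
  have hBH : ∀ z ∈ X, Bx A z ≤ H := by
    intro z hz b hb
    obtain ⟨hbA, hbz⟩ := mem_Bx.1 hb
    exact mem_inf.2 ⟨hbA, hblock b hbA z hz (by rw [hbz]; exact hz)⟩
  have hHB : ∀ z ∈ X, H ⊓ centralizer {z} = Bx A z := by
    intro z hz
    apply le_antisymm
    · intro b hb
      exact mem_inf.2 ⟨(mem_inf.1 (mem_inf.1 hb).1).1, (mem_inf.1 hb).2⟩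
    · intro b hb
      exact mem_inf.2 ⟨hBH z hz hb, (mem_inf.1 hb).2⟩
  have h1 : Nat.card H ∣ s * X.ncard := by
    refine card_dvd_mul_ncard H X s ?_ ?_
    · intro g hg z hz
      exact ((mem_set_normalizer_iff).1 (mem_inf.1 hg).2 z).1 hz
    · intro z hz
      rw [hHB z hz]
      exact h.stab z (hXN z hz).1 (hXN z hz).2
  have h2 : s ∣ Nat.card H := by
    rw [← h.stab y (hXN y hy).1 (hXN y hy).2]
    exact Subgroup.card_dvd_of_le (hBH y hy)
  obtain ⟨k, hk⟩ := h2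
  have h3 : k ∣ X.ncard := by
    rw [hk] at h1
    exact (Nat.mul_dvd_mul_iff_left h.s_pos).1 h1
  have h4 : k ∣ m := by
    have : Nat.card H ∣ Nat.card A := Subgroup.card_dvd_of_le inf_le_left
    rw [hk, hm] at this
    exact (Nat.mul_dvd_mul_iff_left h.s_pos).1 this
  have hk1 : k = 1 := Nat.eq_one_of_dvd_coprimes hcop h4 h3
  have hHy : Bx A y = H :=
    Subgroup.eq_of_le_of_card_ge (hBH y hy)
      (by rw [hk, hk1, mul_one, h.stab y (hXN y hy).1 (hXN y hy).2])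
  have : g ∈ Bx A y := by
    rw [hHy]
    exact mem_inf.2 ⟨hg, hblock g hg y hy hgy⟩
  exact (mem_Bx.1 this).2

end Hyp

/-- conjugacy under `N` -/
def CN (N : Subgroup G) (a b : G) : Prop := ∃ u ∈ N, b = u * a * u⁻¹

theorem CN.refl (N : Subgroup G) (a : G) : CN N a a := ⟨1, N.one_mem, by simp⟩

theorem CN.symm {N : Subgroup G} {a b : G} (h : CN N a b) : CN N b a := by
  obtain ⟨u, hu, rfl⟩ := h
  exact ⟨u⁻¹, N.inv_mem hu, by group⟩

theorem CN.trans {N : Subgroup G} {a b c : G} (h1 : CN N a b) (h2 : CN N b c) : CN N a c := by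
  obtain ⟨u, hu, rfl⟩ := h1
  obtain ⟨v, hv, rfl⟩ := h2
  exact ⟨v * u, N.mul_mem hv hu, by group⟩

theorem CN.conj {N : Subgroup G} [hN : N.Normal] {a b : G} (h : CN N a b) (g : G) :
    CN N (g * a * g⁻¹) (g * b * g⁻¹) := by
  obtain ⟨u, hu, rfl⟩ := h
  exact ⟨g * u * g⁻¹, hN.conj_mem u hu g, by group⟩

theorem CN.of_conj {N : Subgroup G} [hN : N.Normal] {a b g : G}
    (h : CN N (g * a * g⁻¹) (g * b * g⁻¹)) : CN N a b := by
  have := h.conj g⁻¹
  simpa [mul_assoc] using this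

namespace Hyp

variable [Finite G] {N A : Subgroup G} {s : ℕ}

theorem fix_conj (h : Hyp N A s) {m : ℕ} (hm : Nat.card A = s * m)
    (hcop : m.Coprime (Nat.card N)) {x : G} (hx : x ∈ N) (hx1 : x ≠ 1) {t : G} (ht : t ∈ N) :
    ∀ b ∈ Bx A x, b * (t * x * t⁻¹) * b⁻¹ = t * x * t⁻¹ := by
  intro b hb
  haveI := h.normal
  set X : Set G := {y | CN N x y} with hXdef
  have hXN : ∀ y ∈ X, y ∈ N ∧ y ≠ 1 := by
    rintro y ⟨u, hu, rfl⟩
    refine ⟨h.normal.conj_mem x hx u, ?_⟩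
    intro hc
    apply hx1
    have := congrArg (fun z => u⁻¹ * z * u) hc
    simpa [mul_assoc] using this
  have hdvd : X.ncard ∣ Nat.card N := by
    refine ncard_dvd_card_of_transitive N X ?_ ?_ ⟨x, CN.refl N x⟩
    · intro g hg y hy
      exact CN.trans hy ⟨g, hg, rfl⟩
    · intro y hy z hz
      obtain ⟨u, hu, hz'⟩ := CN.trans (CN.symm hy) hz
      exact ⟨u, hu, hz'.symm⟩
  have hcopX : m.Coprime X.ncard := Nat.Coprime.coprime_dvd_right hdvd hcop
  have hblock : ∀ g ∈ A, ∀ y ∈ X, g * y * g⁻¹ ∈ X → g ∈ normalizer X := by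
    intro g hg y hy hgy
    rw [mem_set_normalizer_iff]
    intro z
    constructor
    · intro hz
      exact CN.trans hgy ((CN.trans (CN.symm hy) hz).conj g)
    · intro hz
      have : CN N (g * y * g⁻¹) (g * z * g⁻¹) := CN.trans (CN.symm hgy) hz
      exact CN.trans hy this.of_conj
  have key := h.block_fix hm X hXN hcopX hblock
  have htX : t * x * t⁻¹ ∈ X := ⟨t, ht, rfl⟩
  have hbA : b ∈ A := (mem_Bx.1 hb).1
  have hxX : x ∈ X := CN.refl N x
  have hbN : b ∈ normalizer X := hblock b hbA x hxX (by rw [(mem_Bx.1 hb).2]; exact hxX)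
  exact key b hbA _ htX (((mem_set_normalizer_iff).1 hbN _).1 htX)

theorem comm_of_ne (h : Hyp N A s) {m : ℕ} (hm : Nat.card A = s * m)
    (hcop : m.Coprime (Nat.card N)) {x y : G} (hx : x ∈ N) (hx1 : x ≠ 1) (hy : y ∈ N)
    (hy1 : y ≠ 1) (hne : Bx A x ≠ Bx A y) : x * y = y * x := by
  by_contra hc
  set c := x * y * x⁻¹ * y⁻¹ with hcdef
  have hc1 : c ≠ 1 := by
    intro h1
    apply hc
    have h2 : x * y * x⁻¹ = y := by
      have := mul_inv_eq_one.1 h1
      exact this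
    calc x * y = x * y * x⁻¹ * x := by group
      _ = y * x := by rw [h2]
  have hcN : c ∈ N := N.mul_mem (N.mul_mem (N.mul_mem hx hy) (N.inv_mem hx)) (N.inv_mem hy)
  have hBx : ∀ b ∈ Bx A x, b * c * b⁻¹ = c := by
    intro b hb
    have e1 := (mem_Bx.1 hb).2
    have e2 := h.fix_conj hm hcop hx hx1 hy b hb
    calc b * c * b⁻¹ = (b * x * b⁻¹) * (b * (y * x * y⁻¹) * b⁻¹)⁻¹ := by rw [hcdef]; group
      _ = x * (y * x * y⁻¹)⁻¹ := by rw [e1, e2]
      _ = c := by rw [hcdef]; group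
  have hBy : ∀ b ∈ Bx A y, b * c * b⁻¹ = c := by
    intro b hb
    have e1 := (mem_Bx.1 hb).2
    have e2 := h.fix_conj hm hcop hy hy1 hx b hb
    calc b * c * b⁻¹ = (b * (x * y * x⁻¹) * b⁻¹) * (b * y * b⁻¹)⁻¹ := by rw [hcdef]; group
      _ = (x * y * x⁻¹) * y⁻¹ := by rw [e1, e2]
      _ = c := by rw [hcdef]
  exact hne ((h.Bx_eq_of_fix hx hx1 hcN hc1 hBx).trans (h.Bx_eq_of_fix hy hy1 hcN hc1 hBy).symm)

theorem comm (h : Hyp N A s) {m : ℕ} (hm : Nat.card A = s * m)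
    (hcop : m.Coprime (Nat.card N)) {x y : G} (hx : x ∈ N) (hy : y ∈ N) : x * y = y * x := by
  by_cases hx1 : x = 1
  · subst hx1; simp
  by_cases hy1 : y = 1
  · subst hy1; simp
  by_cases hne : Bx A x = Bx A y
  · obtain ⟨z, hz, hz1, hzne⟩ := h.exists_ne hx hx1
    have hzx : z * x = x * z := h.comm_of_ne hm hcop hz hz1 hx hx1 hzne
    have hzy : z * y = y * z := h.comm_of_ne hm hcop hz hz1 hy hy1 (by rw [← hne]; exact hzne)
    have hxz1 : x * z ≠ 1 := by
      intro e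
      apply hzne
      have : z = x⁻¹ := by
        rw [eq_inv_iff_mul_eq_one, hzx]; exact e
      rw [this, Bx_inv]
    have hxzN : x * z ∈ N := N.mul_mem hx hz
    have hne' : Bx A (x * z) ≠ Bx A y := by
      intro e
      rw [← hne] at e
      apply hzne
      symm
      refine h.Bx_eq_of_fix hx hx1 hz hz1 (fun b hb => ?_)
      have e1 := (mem_Bx.1 hb).2
      have e2 : b * (x * z) * b⁻¹ = x * z := by
        rw [← e] at hb
        exact (mem_Bx.1 hb).2
      calc b * z * b⁻¹ = (b * x * b⁻¹)⁻¹ * (b * (x * z) * b⁻¹) := by group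
        _ = x⁻¹ * (x * z) := by rw [e1, e2]
        _ = z := by group
    have h3 : x * z * y = y * (x * z) := h.comm_of_ne hm hcop hxzN hxz1 hy hy1 hne'
    have h4 : x * y * z = y * x * z := by
      calc x * y * z = x * (y * z) := by group
        _ = x * (z * y) := by rw [hzy]
        _ = x * z * y := by group
        _ = y * (x * z) := h3
        _ = y * x * z := by group
    exact mul_right_cancel h4
  · exact h.comm_of_ne hm hcop hx hx1 hy hy1 hne

theorem pow_eq_one_of_ne (h : Hyp N A s) {m : ℕ} (hm : Nat.card A = s * m)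
    (hcop : m.Coprime (Nat.card N)) {x y : G} (hx : x ∈ N) (hx1 : x ≠ 1) (hy : y ∈ N)
    (hy1 : y ≠ 1) (hne : Bx A x ≠ Bx A y) {n : ℕ} (hyn : y ^ n = 1) : x ^ n = 1 := by
  by_contra hxn
  have hxnN : x ^ n ∈ N := N.pow_mem hx n
  have e1 : Bx A x = Bx A (x ^ n) := by
    refine h.Bx_eq_of_fix hx hx1 hxnN hxn (fun b hb => ?_)
    rw [← conj_pow, (mem_Bx.1 hb).2]
  have hxy1 : x * y ≠ 1 := by
    intro e
    apply hne
    have : y = x⁻¹ := by
      rw [eq_inv_iff_mul_eq_one, ← h.comm hm hcop hx hy]; exact e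
    rw [this, Bx_inv]
  have hxyN : x * y ∈ N := N.mul_mem hx hy
  have hpow : (x * y) ^ n = x ^ n := by
    rw [(show Commute x y from h.comm hm hcop hx hy).mul_pow, hyn, mul_one]
  have e2 : Bx A (x * y) = Bx A (x ^ n) := by
    refine h.Bx_eq_of_fix hxyN hxy1 hxnN hxn (fun b hb => ?_)
    rw [← hpow, ← conj_pow, (mem_Bx.1 hb).2]
  apply hne
  refine h.Bx_eq_of_fix hx hx1 hy hy1 (fun b hb => ?_)
  have f1 := (mem_Bx.1 hb).2
  have f2 : b * (x * y) * b⁻¹ = x * y := by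
    rw [e1, ← e2] at hb
    exact (mem_Bx.1 hb).2
  calc b * y * b⁻¹ = (b * x * b⁻¹)⁻¹ * (b * (x * y) * b⁻¹) := by group
    _ = x⁻¹ * (x * y) := by rw [f1, f2]
    _ = y := by group

theorem orderOf_eq (h : Hyp N A s) {m : ℕ} (hm : Nat.card A = s * m)
    (hcop : m.Coprime (Nat.card N)) {x y : G} (hx : x ∈ N) (hx1 : x ≠ 1) (hy : y ∈ N)
    (hy1 : y ≠ 1) : orderOf x = orderOf y := by
  have key : ∀ {x y : G}, x ∈ N → x ≠ 1 → y ∈ N → y ≠ 1 → Bx A x ≠ Bx A y →
      orderOf x = orderOf y := by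
    intro x y hx hx1 hy hy1 hne
    apply Nat.dvd_antisymm
    · exact orderOf_dvd_of_pow_eq_one
        (h.pow_eq_one_of_ne hm hcop hx hx1 hy hy1 hne (pow_orderOf_eq_one y))
    · exact orderOf_dvd_of_pow_eq_one
        (h.pow_eq_one_of_ne hm hcop hy hy1 hx hx1 (Ne.symm hne) (pow_orderOf_eq_one x))
  by_cases hne : Bx A x = Bx A y
  · obtain ⟨z, hz, hz1, hzne⟩ := h.exists_ne hx hx1
    rw [← key hz hz1 hx hx1 hzne, key hz hz1 hy hy1 (by rw [← hne]; exact hzne)]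
  · exact key hx hx1 hy hy1 hne

theorem exists_prime (h : Hyp N A s) {m : ℕ} (hm : Nat.card A = s * m)
    (hcop : m.Coprime (Nat.card N)) : ∃ p : ℕ, p.Prime ∧ ∀ x ∈ N, x ^ p = 1 := by
  obtain ⟨x0, hx0, hx01⟩ := h.exists_mem
  set d := orderOf x0 with hd
  have hd1 : d ≠ 1 := by
    intro e
    exact hx01 (orderOf_eq_one_iff.1 e)
  have hd0 : d ≠ 0 := (orderOf_pos x0).ne'
  set p := d.minFac with hp
  have hpp : p.Prime := Nat.minFac_prime hd1
  have hpd : p ∣ d := Nat.minFac_dvd d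
  have hdp : d / p ∣ d := Nat.div_dvd_of_dvd hpd
  have hdp0 : d / p ≠ 0 := by
    intro e
    have := Nat.div_mul_cancel hpd
    rw [e, zero_mul] at this
    exact hd0 this.symm
  have ho : orderOf (x0 ^ (d / p)) = p := by
    rw [orderOf_pow_of_dvd hdp0 hdp, ← hd, Nat.div_div_self hpd hd0]
  have hy1 : x0 ^ (d / p) ≠ 1 := by
    intro e
    rw [e, orderOf_one] at ho
    exact hpp.one_lt.ne ho
  have hdp' : d = p := by
    rw [← ho]
    exact h.orderOf_eq hm hcop hx0 hx01 (N.pow_mem hx0 _) hy1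
  refine ⟨p, hpp, fun x hx => ?_⟩
  by_cases hx1 : x = 1
  · subst hx1; simp
  · have : orderOf x = p := by
      rw [h.orderOf_eq hm hcop hx hx1 hx0 hx01, ← hd, hdp']
    rw [← this]
    exact pow_orderOf_eq_one x

theorem le_of_normal (h : Hyp N A s) {m : ℕ} (hm : Nat.card A = s * m)
    (hcop : m.Coprime (Nat.card N)) (hG : ∀ g : G, ∃ n ∈ N, n⁻¹ * g ∈ A)
    (M : Subgroup G) (hM : M.Normal) (hM1 : M ≠ ⊥) : N ≤ M := by
  haveI := h.normal
  set K : Subgroup G := M ⊓ N with hK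
  have hKn : K.Normal := inferInstance
  -- step a
  have hK1 : K ≠ ⊥ := by
    intro hbot
    apply hM1
    rw [Subgroup.eq_bot_iff_forall]
    intro g hg
    have hcent : ∀ n ∈ N, g * n * g⁻¹ = n := by
      intro n hn
      have hmem : g * n * g⁻¹ * n⁻¹ ∈ K := by
        refine mem_inf.2 ⟨?_, ?_⟩
        · have : g * n * g⁻¹ * n⁻¹ = g * (n * g⁻¹ * n⁻¹) := by group
          rw [this]
          exact M.mul_mem hg (hM.conj_mem g⁻¹ (M.inv_mem hg) n)
        · exact N.mul_mem (h.normal.conj_mem n hn g) (N.inv_mem hn)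
      rw [hbot, Subgroup.mem_bot] at hmem
      exact mul_inv_eq_one.1 hmem
    obtain ⟨n0, hn0, hn0A⟩ := hG g
    have h1 : n0⁻¹ * g = 1 := by
      refine h.faith _ hn0A (fun n hn => ?_)
      have e1 := hcent n hn
      have e2 : n0⁻¹ * n * n0 = n := by
        have := h.comm hm hcop (N.inv_mem hn0) hn
        rw [this]; group
      calc n0⁻¹ * g * n * (n0⁻¹ * g)⁻¹ = n0⁻¹ * (g * n * g⁻¹) * n0 := by group
        _ = n := by rw [e1, e2]
    have hgn : g = n0 := by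
      have := congrArg (fun z => n0 * z) h1
      simpa using this
    have hgK : g ∈ K := mem_inf.2 ⟨hg, hgn ▸ hn0⟩
    rw [hbot, Subgroup.mem_bot] at hgK
    exact hgK
  by_contra hNM
  obtain ⟨y0, hy0N, hy0M⟩ := SetLike.not_le_iff_exists.1 hNM
  obtain ⟨k0, hk0, hk01⟩ : ∃ k ∈ K, k ≠ 1 := by
    by_contra hcon
    push_neg at hcon
    exact hK1 ((Subgroup.eq_bot_iff_forall _).2 hcon)
  have hKN : K ≤ N := inf_le_right
  -- main claim
  have main : ∀ y ∈ N, y ∉ K → ∀ k ∈ K, k ≠ 1 → Bx A y = Bx A k := by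
    intro y hyN hyK k hk hk1
    have hy1 : y ≠ 1 := fun e => hyK (e ▸ K.one_mem)
    set X : Set G := {z | y⁻¹ * z ∈ K} with hXdef
    have hXN : ∀ z ∈ X, z ∈ N ∧ z ≠ 1 := by
      intro z hz
      constructor
      · have : z = y * (y⁻¹ * z) := by group
        rw [this]
        exact N.mul_mem hyN (hKN hz)
      · intro e
        apply hyK
        have : y⁻¹ ∈ K := by
          have hz' : y⁻¹ * z ∈ K := hz
          rwa [e, mul_one] at hz'
        simpa using K.inv_mem this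
    have hXcard : X.ncard = Nat.card K := by
      have : X = (fun k => y * k) '' (K : Set G) := by
        ext z
        simp only [hXdef, Set.mem_setOf_eq, Set.mem_image, SetLike.mem_coe]
        constructor
        · intro hz
          exact ⟨y⁻¹ * z, hz, by group⟩
        · rintro ⟨k, hk, rfl⟩
          simpa using hk
      rw [this, Set.ncard_image_of_injective _ (mul_right_injective y)]
      rfl
    have hcopX : m.Coprime X.ncard := by
      rw [hXcard]
      exact Nat.Coprime.coprime_dvd_right (Subgroup.card_dvd_of_le hKN) hcop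
    have hblock : ∀ g ∈ A, ∀ z ∈ X, g * z * g⁻¹ ∈ X → g ∈ normalizer X := by
      intro g hg z0 hz0 hgz0
      rw [mem_set_normalizer_iff]
      intro z
      -- z ∈ X ↔ z0⁻¹ z ∈ K ↔ g (z0⁻¹ z) g⁻¹ ∈ K ↔ g z g⁻¹ ∈ X
      have hz0' : y⁻¹ * z0 ∈ K := hz0
      have hgz0' : y⁻¹ * (g * z0 * g⁻¹) ∈ K := hgz0
      have e1 : (y⁻¹ * z ∈ K) ↔ (z0⁻¹ * z ∈ K) := by
        have : y⁻¹ * z = (y⁻¹ * z0) * (z0⁻¹ * z) := by group
        rw [this]
        exact K.mul_mem_cancel_left hz0'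
      have e2 : (z0⁻¹ * z ∈ K) ↔ (g * (z0⁻¹ * z) * g⁻¹ ∈ K) := by
        constructor
        · intro hh; exact hKn.conj_mem _ hh g
        · intro hh
          have := hKn.conj_mem _ hh g⁻¹
          simpa [mul_assoc] using this
      have e3 : (g * (z0⁻¹ * z) * g⁻¹ ∈ K) ↔ (y⁻¹ * (g * z * g⁻¹) ∈ K) := by
        have : y⁻¹ * (g * z * g⁻¹) = (y⁻¹ * (g * z0 * g⁻¹)) * (g * (z0⁻¹ * z) * g⁻¹) := by group
        rw [this]
        exact (K.mul_mem_cancel_left hgz0').symm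
      exact e1.trans (e2.trans e3)
    have key := h.block_fix hm X hXN hcopX hblock
    have hyX : y ∈ X := by
      show y⁻¹ * y ∈ K
      simp
    have hykX : y * k ∈ X := by
      show y⁻¹ * (y * k) ∈ K
      simpa using hk
    refine h.Bx_eq_of_fix hyN hy1 (hKN hk) hk1 (fun b hb => ?_)
    have hbA : b ∈ A := (mem_Bx.1 hb).1
    have e1 := (mem_Bx.1 hb).2
    have hbN : b ∈ normalizer X := hblock b hbA y hyX (by rw [e1]; exact hyX)
    have e2 : b * (y * k) * b⁻¹ = y * k :=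
      key b hbA _ hykX (((mem_set_normalizer_iff).1 hbN _).1 hykX)
    calc b * k * b⁻¹ = (b * y * b⁻¹)⁻¹ * (b * (y * k) * b⁻¹) := by group
      _ = y⁻¹ * (y * k) := by rw [e1, e2]
      _ = k := by group
  have hy0K : y0 ∉ K := fun hc => hy0M (mem_inf.1 hc).1
  obtain ⟨z, hz, hz1, hzne⟩ := h.exists_ne (hKN hk0) hk01
  apply hzne
  by_cases hzK : z ∈ K
  · rw [← main y0 hy0N hy0K z hzK hz1, main y0 hy0N hy0K k0 hk0 hk01]
  · exact main z hz hzK k0 hk0 hk01

theorem main (h : Hyp N A s) (hG : ∀ g : G, ∃ n ∈ N, n⁻¹ * g ∈ A) :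
    (∃ p : ℕ, p.Prime ∧ IsMulCommutative N ∧ ∀ x ∈ N, x ^ p = 1) ∧
    (∀ M : Subgroup G, M.Normal → M ≠ ⊥ → N ≤ M) := by
  obtain ⟨m, hm, hcop⟩ := h.exists_m
  refine ⟨?_, fun M hM hM1 => h.le_of_normal hm hcop hG M hM hM1⟩
  obtain ⟨p, hp, hpow⟩ := h.exists_prime hm hcop
  refine ⟨p, hp, ⟨⟨fun a b => Subtype.ext ?_⟩⟩, hpow⟩
  exact h.comm hm hcop a.2 b.2

end Hyp

end Cfsg.Agent.Lib.Helper21.HalfTrans
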