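import Cfsg.Agent.Lib.Helper27.BlkAlgDefs2
import Cfsg.Agent.Lib.Helper23.HeightZeroG
import Cfsg.Agent.Lib.Helper24.IrrFacts
import Cfsg.Agent.Lib.Helper27.BlkGlueC1
import Cfsg.Agent.Lib.Helper19.BlkGlueC2

/-!
# S4607 leaf C3: `k(B) = 2` and `∑_{χ ∈ B} χ(1)² = 2 n²` force `|D| = 2`

`card_defectGroup_eq_two_of` takes the leaves C1 (`blockRank p B = 1`) and C2 (the arithmetic lemma) as hypotheses.
-/

set_option autoImplicit false

namespace Cfsg.Agent.Lib.Helper21.BlkGlueC3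

open Cfsg Cfsg.Agent.Lib.Helper27.BlkAlg

universe u

/-- the statement of the leaf C2 -/
def ArithTwo : Prop :=
  ∀ (p : ℕ) (_ : p.Prime) (d g n d₁ d₂ : ℕ) (n₁ n₂ : ℤ)
    (_ : d₁ ^ 2 + d₂ ^ 2 = p ^ d) (_ : n₁ * d₁ + n₂ * d₂ = 1)
    (_ : g ≠ 0) (_ : p ^ d * g ^ 2 = 2 * n ^ 2), p ^ d = 2

theorem sum_ite_pair {G : Type u} [Group G] [Fintype (IrrCharacter G)] {α : Type*} [AddCommMonoid α]
    {B : Set (IrrCharacter G)} {χ₁ χ₂ : IrrCharacter G} (hne : χ₁ ≠ χ₂) (hB : B = {χ₁, χ₂})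
    (f : IrrCharacter G → α) [DecidablePred (· ∈ B)] :
    (∑ χ : IrrCharacter G, if χ ∈ B then f χ else 0) = f χ₁ + f χ₂ := by
  classical
  rw [← Finset.sum_filter]
  have : Finset.univ.filter (· ∈ B) = {χ₁, χ₂} := by
    ext χ
    simp [hB]
  rw [this, Finset.sum_pair hne]

theorem card_defectGroup_eq_two_of {G : Type u} [Group G] [Fintype G] [Fintype (IrrCharacter G)]
    (p : ℕ) [Fact p.Prime] (M : Ideal AlgInt) (hM : IsPModular p M) (B : Set (IrrCharacter G))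
    (hB : IsPBlock M B) (D : Subgroup G) (hD : IsDefectGroup p M B D) (h2 : Nat.card B = 2)
    (n : ℕ) (hn : blockDegSq B = 2 * n ^ 2)
    (hC1 : blockRank p B = 1) (hC2 : ArithTwo) : Nat.card D = 2 := by
  classical
  have hp : p.Prime := Fact.out
  obtain ⟨φ, d, nn, h1, h2', h3⟩ := Cfsg.Agent.Lib.Helper23.rank_one_block hM hB hC1
  rw [Nat.card_coe_set_eq, Set.ncard_eq_two] at h2
  obtain ⟨χ₁, χ₂, hne, hBeq⟩ := h2
  have hreg : ¬ p ∣ orderOf (1 : G) := by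
    rw [orderOf_one]
    exact hp.one_lt.ne' ∘ Nat.dvd_one.mp
  have hm1 : χ₁ ∈ B := by rw [hBeq]; simp
  have hm2 : χ₂ ∈ B := by rw [hBeq]; simp
  -- the values at 1
  have e1 := h2' χ₁ hm1 1 hreg
  have e2 := h2' χ₂ hm2 1 hreg
  rw [Cfsg.Agent.Lib.Helper24.irr_apply_one] at e1 e2
  have eφ := h1 1 hreg
  rw [sum_ite_pair hne hBeq, Cfsg.Agent.Lib.Helper24.irr_apply_one,
    Cfsg.Agent.Lib.Helper24.irr_apply_one] at eφ
  set D₁ := charDegree (χ₁ : G → ℂ) with hD₁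
  set D₂ := charDegree (χ₂ : G → ℂ) with hD₂
  have hD₁pos : 0 < D₁ := Cfsg.Agent.Lib.Helper24.irr_charDegree_pos χ₁
  -- the integer z = φ 1
  set z : ℤ := nn χ₁ * D₁ + nn χ₂ * D₂ with hz
  have hφz : φ 1 = (z : ℂ) := by
    rw [eφ, hz]
    push_cast
    ring
  rw [hφz] at e1 e2
  have e1' : (D₁ : ℤ) = (d χ₁ : ℤ) * z := by exact_mod_cast e1
  have e2' : (D₂ : ℤ) = (d χ₂ : ℤ) * z := by exact_mod_cast e2
  have hzpos : 0 < z := by
    by_contra hcon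
    rw [not_lt] at hcon
    have h1' : (d χ₁ : ℤ) * z ≤ 0 := mul_nonpos_of_nonneg_of_nonpos (by positivity) hcon
    have h2'' : (0 : ℤ) < D₁ := by exact_mod_cast hD₁pos
    omega
  have hcop : nn χ₁ * (d χ₁ : ℤ) + nn χ₂ * (d χ₂ : ℤ) = 1 := by
    have hzz : z = (nn χ₁ * (d χ₁ : ℤ) + nn χ₂ * (d χ₂ : ℤ)) * z := by
      conv_lhs => rw [hz, e1', e2']
      ring
    have hzne : z ≠ 0 := hzpos.ne'
    have : (nn χ₁ * (d χ₁ : ℤ) + nn χ₂ * (d χ₂ : ℤ) - 1) * z = 0 := by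
      rw [sub_mul, one_mul, ← hzz, sub_self]
    rcases mul_eq_zero.mp this with h | h
    · omega
    · exact absurd h hzne
  obtain ⟨g, hg⟩ : ∃ g : ℕ, (g : ℤ) = z := ⟨z.toNat, Int.toNat_of_nonneg hzpos.le⟩
  have hgne : g ≠ 0 := by
    intro h0
    rw [h0] at hg
    simp at hg
    omega
  have f1 : D₁ = d χ₁ * g := by
    have : (D₁ : ℤ) = ((d χ₁ * g : ℕ) : ℤ) := by rw [e1', ← hg]; push_cast; ring
    exact_mod_cast this
  have f2 : D₂ = d χ₂ * g := by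
    have : (D₂ : ℤ) = ((d χ₂ * g : ℕ) : ℤ) := by rw [e2', ← hg]; push_cast; ring
    exact_mod_cast this
  have hsum : d χ₁ ^ 2 + d χ₂ ^ 2 = p ^ blockDefect p B := by
    rw [← h3, sum_ite_pair hne hBeq]
  have hdim : p ^ blockDefect p B * g ^ 2 = 2 * n ^ 2 := by
    rw [← hn]
    unfold blockDegSq
    rw [sum_ite_pair hne hBeq, ← hD₁, ← hD₂, f1, f2, ← hsum]
    ring
  have hfin := hC2 p hp (blockDefect p B) g n (d χ₁) (d χ₂) (nn χ₁) (nn χ₂) hsum hcop hgne hdim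
  rw [Cfsg.Agent.Lib.Helper6.card_defectGroup_eq hM B hB D hD, hfin]

/-- LEAF C3: `k(B) = 2` and `∑_{χ∈B} χ(1)² = 2 n²` force `|D| = 2`. -/
theorem card_defectGroup_eq_two {G : Type u} [Group G] [Fintype G] [Fintype (IrrCharacter G)]
    (p : ℕ) [Fact p.Prime] (M : Ideal AlgInt) (hM : IsPModular p M) (B : Set (IrrCharacter G))
    (hB : IsPBlock M B) (D : Subgroup G) (hD : IsDefectGroup p M B D) (h2 : Nat.card B = 2)
    (n : ℕ) (hn : blockDegSq B = 2 * n ^ 2) : Nat.card D = 2 :=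
  card_defectGroup_eq_two_of p M hM B hB D hD h2 n hn
    (Cfsg.Agent.Lib.Helper27.BlkGlueC1.blockRank_eq_one_of_card_two p M hM B hB h2)
    (fun p hp d g n d₁ d₂ n₁ n₂ hsum hcop hg hdim =>
      Cfsg.Agent.Lib.Helper19.BlkGlueC2.arith_two p hp d g n d₁ d₂ n₁ n₂ hsum hcop hg hdim)

end Cfsg.Agent.Lib.Helper21.BlkGlueC3
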