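import Cfsg.Agent.Lib.Helper21.HNTrans.Main

/-! Transitivity of helper16's permutation representation of `HN` on 1539000 points:
`Cfsg.Agent.Lib.Helper21.HNTrans.trans`. -/
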