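import Mathlib
import Cfsg.Agent.Lib.Helper1.Coprime
import Cfsg.Agent.Lib.Helper1.MinNormal

/-!
Groups in which subgroups of equal order are conjugate (helper21): basic tools.
-/

set_option autoImplicit false
set_option linter.style.haveILetI false

namespace Cfsg.Agent.Lib.Helper21.EqOrd

open Pointwise

variable {G : Type*} [Group G]

/-- In a finite cyclic group there is at most one subgroup of each order. -/
theorem eq_of_card_eq_of_isCyclic [Finite G] [IsCyclic G] (A B : Subgroup G)
    (h : Nat.card A = Nat.card B) : A = B := by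
  classical
  have key : ∀ A B : Subgroup G, Nat.card A = Nat.card B → A ≤ B := by
    intro A B h x hx
    by_contra hxB
    set d := Nat.card B with hd
    have hdpos : 0 < d := Nat.card_pos
    haveI : Fintype G := Fintype.ofFinite G
    have hle := IsCyclic.card_pow_eq_one_le (α := G) hdpos
    -- B ∪ {x} ⊆ {a | a^d = 1}
    have hBsub : ∀ b ∈ B, b ^ d = 1 := by
      intro b hb
      have : (⟨b, hb⟩ : B) ^ Nat.card B = 1 := pow_card_eq_one'
      exact congrArg Subtype.val this
    have hxpow : x ^ d = 1 := by
      have : (⟨x, hx⟩ : A) ^ Nat.card A = 1 := pow_card_eq_one'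
      rw [h] at this
      exact congrArg Subtype.val this
    let S : Finset G := Finset.univ.filter (fun a : G => a ^ d = 1)
    let T : Finset G := insert x (Finset.univ.filter (fun a : G => a ∈ B))
    have hTS : T ⊆ S := by
      intro y hy
      rw [Finset.mem_insert] at hy
      rw [Finset.mem_filter]
      refine ⟨Finset.mem_univ _, ?_⟩
      rcases hy with rfl | hy
      · exact hxpow
      · exact hBsub y (Finset.mem_filter.mp hy).2
    have hTcard : T.card = d + 1 := by
      rw [Finset.card_insert_of_notMem]
      · congr 1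
        rw [hd, Nat.card_eq_fintype_card, Fintype.card_subtype]
      · intro hmem
        exact hxB (Finset.mem_filter.mp hmem).2
    have := Finset.card_le_card hTS
    rw [hTcard] at this
    have hS : S.card ≤ d := hle
    omega
  exact le_antisymm (key A B h) (key B A h.symm)

/-- Two subgroups of the same order inside a cyclic subgroup are equal. -/
theorem eq_of_card_eq_of_le_isCyclic [Finite G] {C A B : Subgroup G} (hC : IsCyclic C)
    (hA : A ≤ C) (hB : B ≤ C) (h : Nat.card A = Nat.card B) : A = B := by
  have h1 : Nat.card (A.subgroupOf C) = Nat.card (B.subgroupOf C) := by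
    rw [Nat.card_congr (Subgroup.subgroupOfEquivOfLe hA).toEquiv,
      Nat.card_congr (Subgroup.subgroupOfEquivOfLe hB).toEquiv, h]
  have h2 := eq_of_card_eq_of_isCyclic (A.subgroupOf C) (B.subgroupOf C) h1
  have h3 := Subgroup.subgroupOf_inj.mp h2
  rwa [inf_of_le_left hA, inf_of_le_left hB] at h3

/-- lifting a `p`-subgroup of a quotient to a `p`-subgroup. -/
theorem exists_pSubgroup_map_eq {p : ℕ} [Fact p.Prime] {Y Z : Type*} [Group Y] [Group Z] [Finite Y]
    (f : Y →* Z) (hf : Function.Surjective f) (P : Subgroup Z) (hP : IsPGroup p P) :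
    ∃ Q : Subgroup Y, IsPGroup p Q ∧ Q.map f = P ∧
      Nat.card Q = p ^ (Nat.card (P.comap f)).factorization p := by
  set M : Subgroup Y := P.comap f with hM
  let Q₀ : Sylow p M := Sylow.nonempty.some
  set Q : Subgroup Y := (Q₀ : Subgroup M).map M.subtype with hQ
  have hQp : IsPGroup p Q := Q₀.2.map M.subtype
  let f' : M →* P := f.subgroupComap P
  have hf' : Function.Surjective f' := MonoidHom.subgroupComap_surjective_of_surjective f P hf
  have hS : ((Q₀ : Subgroup M).map f') = ⊤ := by
    have h1 := (Q₀.mapSurjective hf').is_maximal' (Q := ⊤)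
      (IsPGroup.of_surjective hP (Subgroup.topEquiv (G := P)).symm.toMonoidHom
        (Subgroup.topEquiv (G := P)).symm.surjective) le_top
    rw [h1]
    rfl
  have hmap : Q.map f = P := by
    rw [hQ, Subgroup.map_map]
    have : f.comp M.subtype = P.subtype.comp f' := by
      ext x
      rfl
    rw [this, ← Subgroup.map_map, hS, ← MonoidHom.range_eq_map, Subgroup.range_subtype]
  refine ⟨Q, hQp, hmap, ?_⟩
  have h1 : Nat.card Q = Nat.card (Q₀ : Subgroup M) :=
    (Nat.card_congr ((Q₀ : Subgroup M).equivMapOfInjective M.subtype
      (Subgroup.subtype_injective M)).toEquiv).symm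
  rw [h1, Sylow.card_eq_multiplicity]

end Cfsg.Agent.Lib.Helper21.EqOrd
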