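import Mathlib

set_option autoImplicit false
open scoped commutatorElement

namespace Cfsg.Agent.Lib.Helper21.BG131

variable {G : Type*} [Group G]

/-- If `L₀ = K A` with `K ⊴ L₀`, and the derived group of `A` lies in a subgroup `D` of order
prime to `p`, then every element `x` of `L₀'` with `x ^ p = 1` lies in `K`. -/
theorem mem_of_mem_commutator_of_factor [Finite G] {L₀ K A D : Subgroup G} (hKL : K ≤ L₀)
    (hKn : L₀ ≤ Subgroup.normalizer (K : Set G)) (hAL : A ≤ L₀)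
    (hfac : ∀ l ∈ L₀, ∃ k ∈ K, ∃ a ∈ A, l = k * a) (hAD : ⁅A, A⁆ ≤ D) {p : ℕ}
    (hD : (Nat.card D).Coprime p) {x : G} (hx : x ∈ ⁅L₀, L₀⁆) (hxp : x ^ p = 1) : x ∈ K := by
  classical
  have hKnorm : (K.subgroupOf L₀).Normal :=
    (Subgroup.normal_subgroupOf_iff_le_normalizer hKL).mpr hKn
  let π := QuotientGroup.mk' (K.subgroupOf L₀)
  -- the subgroup of `L₀` of elements congruent mod `K` to an element of `A'`
  let S : Subgroup ↥L₀ := Subgroup.comap π (Subgroup.map π ((⁅A, A⁆).subgroupOf L₀))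
  have hcomm : _root_.commutator ↥L₀ ≤ S := by
    rw [commutator_def, Subgroup.commutator_le]
    intro g₁ _ g₂ _
    obtain ⟨k₁, hk₁, a₁, ha₁, h₁⟩ := hfac g₁ g₁.2
    obtain ⟨k₂, hk₂, a₂, ha₂, h₂⟩ := hfac g₂ g₂.2
    have e₁ : π g₁ = π ⟨a₁, hAL ha₁⟩ := by
      rw [QuotientGroup.mk'_eq_mk']
      refine ⟨⟨a₁⁻¹ * k₁⁻¹ * a₁, ?_⟩, ?_, ?_⟩
      · exact L₀.mul_mem (L₀.mul_mem (L₀.inv_mem (hAL ha₁)) (L₀.inv_mem (hKL hk₁))) (hAL ha₁)
      · rw [Subgroup.mem_subgroupOf]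
        have hn : a₁⁻¹ ∈ Subgroup.normalizer (K : Set G) := hKn (L₀.inv_mem (hAL ha₁))
        have := (Subgroup.mem_normalizer_iff.mp hn k₁⁻¹).mp (K.inv_mem hk₁)
        simpa using this
      · apply Subtype.ext
        simp only [Subgroup.coe_mul, h₁]
        group
    have e₂ : π g₂ = π ⟨a₂, hAL ha₂⟩ := by
      rw [QuotientGroup.mk'_eq_mk']
      refine ⟨⟨a₂⁻¹ * k₂⁻¹ * a₂, ?_⟩, ?_, ?_⟩
      · exact L₀.mul_mem (L₀.mul_mem (L₀.inv_mem (hAL ha₂)) (L₀.inv_mem (hKL hk₂))) (hAL ha₂)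
      · rw [Subgroup.mem_subgroupOf]
        have hn : a₂⁻¹ ∈ Subgroup.normalizer (K : Set G) := hKn (L₀.inv_mem (hAL ha₂))
        have := (Subgroup.mem_normalizer_iff.mp hn k₂⁻¹).mp (K.inv_mem hk₂)
        simpa using this
      · apply Subtype.ext
        simp only [Subgroup.coe_mul, h₂]
        group
    show ⁅g₁, g₂⁆ ∈ S
    rw [Subgroup.mem_comap]
    refine ⟨⁅(⟨a₁, hAL ha₁⟩ : ↥L₀), ⟨a₂, hAL ha₂⟩⁆, ?_, ?_⟩
    · rw [SetLike.mem_coe, Subgroup.mem_subgroupOf]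
      exact Subgroup.commutator_mem_commutator ha₁ ha₂
    · rw [map_commutatorElement, map_commutatorElement, e₁, e₂]
  have hxL : x ∈ L₀ := (Subgroup.commutator_le_self L₀) hx
  have hxS : (⟨x, hxL⟩ : ↥L₀) ∈ S := by
    apply hcomm
    have h1 : (_root_.commutator ↥L₀).map L₀.subtype = ⁅L₀, L₀⁆ := Subgroup.map_subtype_commutator L₀
    rw [← h1] at hx
    obtain ⟨y, hy, hyx⟩ := hx
    have : y = ⟨x, hxL⟩ := Subtype.ext hyx
    rwa [← this]
  rw [Subgroup.mem_comap] at hxS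
  obtain ⟨m, hm, hmx⟩ := hxS
  rw [SetLike.mem_coe, Subgroup.mem_subgroupOf] at hm
  -- orders
  have hm1 : (m : G) ^ Nat.card D = 1 := by
    have : (⟨(m : G), hAD hm⟩ : ↥D) ^ Nat.card D = 1 := pow_card_eq_one'
    exact congrArg Subtype.val this
  have hπm : (π m) ^ Nat.card D = 1 := by
    rw [← map_pow]
    have : m ^ Nat.card D = 1 := Subtype.ext (by simpa using hm1)
    rw [this, map_one]
  have hπx : (π ⟨x, hxL⟩) ^ p = 1 := by
    rw [← map_pow]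
    have : (⟨x, hxL⟩ : ↥L₀) ^ p = 1 := Subtype.ext (by simpa using hxp)
    rw [this, map_one]
  rw [← hmx] at hπx
  have h1 : π m = 1 := by
    have hord1 : orderOf (π m) ∣ Nat.card D := orderOf_dvd_of_pow_eq_one hπm
    have hord2 : orderOf (π m) ∣ p := orderOf_dvd_of_pow_eq_one hπx
    have : orderOf (π m) = 1 := Nat.eq_one_of_dvd_coprimes hD hord1 hord2
    exact orderOf_eq_one_iff.mp this
  rw [h1] at hmx
  have : (⟨x, hxL⟩ : ↥L₀) ∈ K.subgroupOf L₀ := by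
    rw [← QuotientGroup.ker_mk' (K.subgroupOf L₀)]
    exact hmx.symm
  exact Subgroup.mem_subgroupOf.mp this

end Cfsg.Agent.Lib.Helper21.BG131
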