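import Mathlib
import Cfsg.Prelude.Def_OddOrderLocal
import Cfsg.Prelude.Def_OddOrder
import Cfsg.Agent.Lib.Helper21.BG131A

/-!
# B & G Lemma 12.16(b2) (helper21; paper proof: helper27, `notes/bg13/NOTES_h27.md`)

`p ∈ τ₁(M)` not ideal, `Y ≠ 1` a `q`-subgroup of `M ∩ H` with `q ∈ σ(M)`.  Then `p` does not
divide `|N_H(Y)'|`.

Hypotheses (as `Prop`s):
* `H04 G`: the second assertion of the frozen S1404 (`N_G(X) = N_M(X) C_G(X)`);
* `P1215 G`: the package "12.15(d1), (e2), (G)": for `q ∈ σ(M)`, `X ≠ 1` a `q`-subgroup of `M`,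
  `L ≠ M` maximal containing `N_G(X)`: `L = K (M ∩ L)` with `K ⊴ L` all of whose prime divisors
  dividing `|M|` are ideal.
-/

set_option autoImplicit false
open scoped commutatorElement

namespace Cfsg.Agent.Lib.Helper21.BG131

open Cfsg

variable {G : Type*} [Group G]

/-- the second assertion of the frozen S1404. -/
def H04 (G : Type*) [Group G] : Prop :=
  ∀ (M : Subgroup G), IsCoatom M → ∀ (q : ℕ) [Fact q.Prime], q ∈ Cfsg.sigma M →
    ∀ X : Subgroup G, IsPGroup q X → X ≠ ⊥ → X ≤ M →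
    Subgroup.normalizer (X : Set G) =
      (M ⊓ Subgroup.normalizer (X : Set G)) ⊔ Subgroup.centralizer (X : Set G)

/-- the package 12.15(d1) + (e2) + (G). -/
def P1215 (G : Type*) [Group G] : Prop :=
  ∀ (M L : Subgroup G), IsCoatom M → IsCoatom L → L ≠ M → ∀ (q : ℕ) [Fact q.Prime],
    q ∈ Cfsg.sigma M → ∀ X : Subgroup G, IsPGroup q X → X ≠ ⊥ → X ≤ M →
    Subgroup.normalizer (X : Set G) ≤ L →
    ∃ K : Subgroup G, K ≤ L ∧ L ≤ Subgroup.normalizer (K : Set G) ∧
      (∀ l ∈ L, ∃ k ∈ K, ∃ m ∈ M ⊓ L, l = k * m) ∧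
      ∀ t : ℕ, t.Prime → t ∣ Nat.card M → t ∣ Nat.card K → Cfsg.IsIdealPrime t G

theorem normalizer_le_normalizer_centralizer (Y : Subgroup G) :
    Subgroup.normalizer (Y : Set G) ≤
      Subgroup.normalizer ((Subgroup.centralizer (Y : Set G) : Subgroup G) : Set G) := by
  intro n hn
  have key : ∀ m ∈ Subgroup.normalizer (Y : Set G), ∀ c ∈ Subgroup.centralizer (Y : Set G),
      m * c * m⁻¹ ∈ Subgroup.centralizer (Y : Set G) := by
    intro m hm c hc
    rw [Subgroup.mem_centralizer_iff]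
    intro y hy
    have hy' : m⁻¹ * y * m ∈ Y := by
      have := (Subgroup.mem_normalizer_iff.mp (Subgroup.inv_mem _ hm) y).mp hy
      simpa using this
    have hc' := Subgroup.mem_centralizer_iff.mp hc _ hy'
    calc y * (m * c * m⁻¹) = m * ((m⁻¹ * y * m) * c) * m⁻¹ := by group
      _ = m * (c * (m⁻¹ * y * m)) * m⁻¹ := by rw [hc']
      _ = m * c * m⁻¹ * y := by group
  rw [Subgroup.mem_normalizer_iff]
  intro c
  constructor
  · exact key n hn c
  · intro h
    have := key n⁻¹ (Subgroup.inv_mem _ hn) _ h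
    simpa [mul_assoc] using this

theorem dvd_card_of_orderOf_mem [Finite G] {K : Subgroup G} {x : G} (hx : x ∈ K) :
    orderOf x ∣ Nat.card K := by
  have h1 : orderOf (⟨x, hx⟩ : ↥K) = orderOf x := Subgroup.orderOf_mk x hx
  rw [← h1]
  exact orderOf_dvd_natCard _

/-- **B & G 12.16(b2)**. -/
theorem lemma12_16_b2 [Finite G] (hG : Cfsg.IsMinSimpleOddOrder G) (h04 : H04 G)
    (h1215 : P1215 G) {M H : Subgroup G} (hM : IsCoatom M) {p : ℕ} (hp : p ∈ Cfsg.tau1 M)
    (hpi : ¬ Cfsg.IsIdealPrime p G) {q : ℕ} [Fact q.Prime] (hq : q ∈ Cfsg.sigma M)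
    {Y : Subgroup G} (hYq : IsPGroup q Y) (hY1 : Y ≠ ⊥) (hYM : Y ≤ M) :
    ¬ p ∣ Nat.card ↥⁅H ⊓ Subgroup.normalizer (Y : Set G), H ⊓ Subgroup.normalizer (Y : Set G)⁆ := by
  intro hdvd
  have hpp : p.Prime := hp.1
  have : Fact p.Prime := ⟨hpp⟩
  have : IsSimpleGroup G := hG.2.1
  have hpM' : ¬ p ∣ Nat.card ↥⁅M, M⁆ := hp.2.2.2.1
  have hcop : (Nat.card ↥⁅M, M⁆).Coprime p :=
    (Nat.Coprime.symm ((Nat.Prime.coprime_iff_not_dvd hpp).mpr hpM'))
  obtain ⟨x', hx'⟩ := exists_prime_orderOf_dvd_card' p hdvd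
  obtain ⟨x, hxN, rfl⟩ : ∃ x, ∃ h : x ∈ ⁅H ⊓ Subgroup.normalizer (Y : Set G),
      H ⊓ Subgroup.normalizer (Y : Set G)⁆, x' = ⟨x, h⟩ := ⟨x'.1, x'.2, rfl⟩
  have hxo : orderOf x = p := by rw [← hx']; exact (Subgroup.orderOf_mk x hxN).symm
  have hxp : x ^ p = 1 := by rw [← hxo]; exact pow_orderOf_eq_one x
  have hx1 : x ≠ 1 := by
    intro h
    rw [h, orderOf_one] at hxo
    exact hpp.one_lt.ne hxo
  set Nt := Subgroup.normalizer (Y : Set G) with hNt
  set C := Subgroup.centralizer (Y : Set G) with hC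
  have hxNt : x ∈ ⁅Nt, Nt⁆ := Subgroup.commutator_mono inf_le_right inf_le_right hxN
  have hdec := h04 M hM q hq Y hYq hY1 hYM
  -- Step 1: `x ∈ C_G(Y)`
  have hxC : x ∈ C := by
    apply mem_of_mem_commutator_of_factor (L₀ := Nt) (K := C) (A := M ⊓ Nt) (D := ⁅M, M⁆)
      (Subgroup.centralizer_le_normalizer _) (normalizer_le_normalizer_centralizer Y) inf_le_right
      ?_ (Subgroup.commutator_mono inf_le_left inf_le_left) hcop hxNt hxp
    intro l hl
    rw [hNt, hdec, sup_comm] at hl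
    have hn : M ⊓ Subgroup.normalizer (Y : Set G) ≤
        Subgroup.normalizer ((Subgroup.centralizer (Y : Set G) : Subgroup G) : Set G) :=
      inf_le_right.trans (normalizer_le_normalizer_centralizer Y)
    have h2 := Subgroup.coe_mul_of_right_le_normalizer_left (Subgroup.centralizer (Y : Set G))
      (M ⊓ Subgroup.normalizer (Y : Set G)) hn
    have h3 : l ∈ ((Subgroup.centralizer (Y : Set G) ⊔ (M ⊓ Subgroup.normalizer (Y : Set G)) :
        Subgroup G) : Set G) := hl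
    rw [h2] at h3
    obtain ⟨k, hk, a, ha, rfl⟩ := Set.mem_mul.mp h3
    exact ⟨k, hk, a, ha, rfl⟩
  by_cases hCM : C ≤ M
  · -- `N_G(Y) ≤ M`
    have hNtM : Nt ≤ M := by
      rw [hNt, hdec]
      exact sup_le inf_le_left hCM
    have hxM' : x ∈ ⁅M, M⁆ :=
      Subgroup.commutator_mono (inf_le_right.trans hNtM) (inf_le_right.trans hNtM) hxN
    apply hpM'
    rw [← hxo]
    exact dvd_card_of_orderOf_mem hxM'
  · -- a maximal subgroup `L ≠ M` over `N_G(Y)`
    have hYtop : Y ≠ ⊤ := fun h => hM.1 (top_le_iff.mp (h ▸ hYM))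
    have hNtop : Nt ≠ ⊤ := by
      intro h
      have hn : Y.Normal := Subgroup.normalizer_eq_top_iff.mp h
      rcases hn.eq_bot_or_eq_top with h1 | h1
      exacts [hY1 h1, hYtop h1]
    obtain ⟨L, hL, hNL⟩ := (eq_top_or_exists_le_coatom Nt).resolve_left hNtop
    have hLM : L ≠ M := by
      rintro rfl
      exact hCM ((Subgroup.centralizer_le_normalizer _).trans hNL)
    obtain ⟨K, hKL, hKn, hfac, hideal⟩ := h1215 M L hM hL hLM q hq Y hYq hY1 hYM hNL
    have hxL : x ∈ ⁅L, L⁆ :=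
      Subgroup.commutator_mono (inf_le_right.trans hNL) (inf_le_right.trans hNL) hxN
    have hxK : x ∈ K :=
      mem_of_mem_commutator_of_factor (L₀ := L) (K := K) (A := M ⊓ L) (D := ⁅M, M⁆) hKL hKn
        inf_le_right hfac (Subgroup.commutator_mono inf_le_left inf_le_left) hcop hxL hxp
    apply hpi
    apply hideal p hpp hp.2.2.1
    rw [← hxo]
    exact dvd_card_of_orderOf_mem hxK

end Cfsg.Agent.Lib.Helper21.BG131
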