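import Mathlib
import Cfsg.Prelude.Def_OddOrderLocal
import Cfsg.Prelude.Def_OddOrder
import Cfsg.Prelude.Def_Transfer
import Cfsg.Agent.Lib.Helper21.BG131B
import Cfsg.Agent.Lib.Helper1.Coprime
import Cfsg.Agent.Lib.Helper12.Cores

/-!
# B & G 13.1(c) (helper21; paper proof: helper27, `notes/bg13/NOTES_h27.md`)

`p ∈ τ₁(M)`, `p ∣ |H'|`, `M_σ ∩ H' ≠ 1`  ⟹  `p` is an ideal prime.
-/

set_option autoImplicit false
open scoped commutatorElement

namespace Cfsg.Agent.Lib.Helper21.BG131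

open Cfsg

variable {G : Type*} [Group G]

/-- the part of S1414 used here. -/
def H14c (G : Type*) [Group G] : Prop :=
  ∀ (H : Subgroup G), IsCoatom H → ∀ p : ℕ, p.Prime → p ∣ Nat.card H → p ∉ Cfsg.beta H →
    Cfsg.HasNormalPComplement p ↥⁅H, H⁆

/-- the frozen S1425. -/
def H25 (G : Type*) [Group G] : Prop :=
  ∀ (M : Subgroup G), IsCoatom M → ∀ Y : Subgroup G, Y ≠ ⊥ →
    (∀ p : ℕ, p.Prime → p ∣ Nat.card Y → p ∈ Cfsg.sigma M) →
    ∃ g : G, Y.map (MulAut.conj g).toMonoidHom ≤ Cfsg.sigmaCore M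

/-- elements of order prime to `p` lie in every normal subgroup of `p`-power index. -/
theorem mem_of_coprime_orderOf {X : Type*} [Group X] [Finite X] (N : Subgroup X) [N.Normal]
    {p k : ℕ} (hidx : N.index = p ^ k) {y : X} (hy : (orderOf y).Coprime p) : y ∈ N := by
  have h1 : orderOf (QuotientGroup.mk' N y) ∣ orderOf y := orderOf_map_dvd _ y
  have h2 : orderOf (QuotientGroup.mk' N y) ∣ p ^ k := by
    rw [← hidx, Subgroup.index_eq_card]
    exact orderOf_dvd_natCard _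
  have h3 : orderOf (QuotientGroup.mk' N y) = 1 :=
    Nat.eq_one_of_dvd_coprimes (hy.pow_right k) h1 h2
  have h4 : QuotientGroup.mk' N y = 1 := orderOf_eq_one_iff.mp h3
  rwa [← QuotientGroup.ker_mk' N, MonoidHom.mem_ker]

theorem conj_mem_commutator_self' {H : Subgroup G} {g x : G} (hg : g ∈ H) (hx : x ∈ ⁅H, H⁆) :
    g * x * g⁻¹ ∈ ⁅H, H⁆ := by
  have h1 : ⁅g, x⁆ ∈ ⁅H, H⁆ :=
    Subgroup.commutator_mem_commutator hg (Subgroup.commutator_le_self H hx)
  have e : g * x * g⁻¹ = ⁅g, x⁆ * x := by rw [commutatorElement_def]; group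
  rw [e]; exact Subgroup.mul_mem _ h1 hx

/-- A normal `p`-complement of `H'`, as an `H`-invariant subgroup `W` of `G` containing every
element of `H'` of order prime to `p`. -/
theorem exists_invariant_pcompl_commutator [Finite G] {p : ℕ} [Fact p.Prime] {H : Subgroup G}
    (hc : Cfsg.HasNormalPComplement p ↥⁅H, H⁆) :
    ∃ W : Subgroup G, W ≤ ⁅H, H⁆ ∧ H ≤ Subgroup.normalizer (W : Set G) ∧
      (Nat.card W).Coprime p ∧ ∀ y ∈ ⁅H, H⁆, (orderOf y).Coprime p → y ∈ W := by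
  have hpp : p.Prime := Fact.out
  obtain ⟨P, N, hNn, hNP⟩ := hc
  have hidx : N.index = Nat.card (P : Subgroup ↥⁅H, H⁆) := hNP.symm.index_eq_card
  obtain ⟨k, hk⟩ := IsPGroup.iff_card.mp P.isPGroup'
  rw [hk] at hidx
  have hNcop : (Nat.card N).Coprime p := by
    have h1 : (P : Subgroup ↥⁅H, H⁆).index = Nat.card N := hNP.index_eq_card
    rw [← h1, Nat.coprime_comm, hpp.coprime_iff_not_dvd]
    exact P.not_dvd_index
  have hmem : ∀ y ∈ ⁅H, H⁆, (orderOf y).Coprime p → y ∈ N.map (⁅H, H⁆).subtype := by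
    intro y hy hyo
    have h1 : orderOf (⟨y, hy⟩ : ↥⁅H, H⁆) = orderOf y := Subgroup.orderOf_mk y hy
    have h2 : (⟨y, hy⟩ : ↥⁅H, H⁆) ∈ N := by
      haveI := hNn
      exact mem_of_coprime_orderOf N hidx (h1 ▸ hyo)
    exact ⟨⟨y, hy⟩, h2, rfl⟩
  have hWcard : Nat.card (N.map (⁅H, H⁆).subtype) = Nat.card N :=
    Subgroup.card_map_of_injective (Subgroup.subtype_injective _)
  refine ⟨N.map (⁅H, H⁆).subtype, Subgroup.map_subtype_le _, ?_, by rw [hWcard]; exact hNcop, hmem⟩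
  have key : ∀ h ∈ H, ∀ w ∈ N.map (⁅H, H⁆).subtype, h * w * h⁻¹ ∈ N.map (⁅H, H⁆).subtype := by
    intro h hh w hw
    have hwH' : w ∈ ⁅H, H⁆ := Subgroup.map_subtype_le _ hw
    apply hmem _ (conj_mem_commutator_self' hh hwH')
    have h1 : orderOf (h * w * h⁻¹) = orderOf w := by
      have := orderOf_injective (MulAut.conj h).toMonoidHom (MulAut.conj h).injective w
      simpa [MulAut.conj_apply] using this
    rw [h1]
    have h2 : orderOf w ∣ Nat.card (N.map (⁅H, H⁆).subtype) := dvd_card_of_orderOf_mem hw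
    rw [hWcard] at h2
    exact Nat.Coprime.coprime_dvd_left h2 hNcop
  intro h hh
  rw [Subgroup.mem_normalizer_iff]
  intro w
  constructor
  · exact key h hh w
  · intro hw
    have := key h⁻¹ (H.inv_mem hh) _ hw
    simpa [mul_assoc] using this

/-- **B & G 13.1(c)**. -/
theorem thm13_1c [Finite G] (hG : Cfsg.IsMinSimpleOddOrder G) (h04 : H04 G) (h1215 : P1215 G)
    (h14 : H14c G) (h25 : H25 G) {M H : Subgroup G} (hM : IsCoatom M) (hH : IsCoatom H) {p : ℕ}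
    (hp : p ∈ Cfsg.tau1 M) (hpH : p ∣ Nat.card ↥⁅H, H⁆)
    (hX : Cfsg.sigmaCore M ⊓ ⁅H, H⁆ ≠ ⊥) : Cfsg.IsIdealPrime p G := by
  by_contra hpi
  have hpp : p.Prime := hp.1
  have : Fact p.Prime := ⟨hpp⟩
  have hpβ : p ∉ Cfsg.beta H := fun h => hpi h.2
  have hpcardH : p ∣ Nat.card H :=
    hpH.trans (Subgroup.card_dvd_of_le (Subgroup.commutator_le_self H))
  obtain ⟨W, hWH', hWn, hWcop, hWmem⟩ :=
    exists_invariant_pcompl_commutator (h14 H hH p hpp hpcardH hpβ)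
  have hWH : W ≤ H := hWH'.trans (Subgroup.commutator_le_self H)
  -- an element of prime order `q` in `M_σ ∩ H'`
  have hcard : Nat.card ↥(Cfsg.sigmaCore M ⊓ ⁅H, H⁆) ≠ 1 := by
    intro h
    exact hX (Subgroup.card_eq_one.mp h)
  obtain ⟨q, hqp, hqdvd⟩ := Nat.exists_prime_and_dvd hcard
  have : Fact q.Prime := ⟨hqp⟩
  obtain ⟨x₀', hx₀'⟩ := exists_prime_orderOf_dvd_card' q hqdvd
  obtain ⟨x₀, hx₀mem, rfl⟩ : ∃ x, ∃ h : x ∈ Cfsg.sigmaCore M ⊓ ⁅H, H⁆, x₀' = ⟨x, h⟩ :=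
    ⟨x₀'.1, x₀'.2, rfl⟩
  have hx₀o : orderOf x₀ = q := by rw [← hx₀']; exact (Subgroup.orderOf_mk x₀ hx₀mem).symm
  have hqM : q ∈ Cfsg.sigma M := by
    have h1 : q ∣ Nat.card (Cfsg.sigmaCore M) := by
      rw [← hx₀o]; exact dvd_card_of_orderOf_mem hx₀mem.1
    have hc : Nat.card (Cfsg.sigmaCore M) = Nat.card (Cfsg.piCore (Cfsg.sigma M) ↥M) :=
      Subgroup.card_map_of_injective M.subtype_injective
    rw [hc] at h1
    exact Cfsg.Agent.Lib.Helper12.piCore_mem _ q hqp h1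
  have hqnp : q ≠ p := by
    rintro rfl
    exact hp.2.1 hqM
  have hx₀W : x₀ ∈ W := by
    apply hWmem x₀ hx₀mem.2
    rw [hx₀o]
    exact (Nat.coprime_primes hqp hpp).mpr hqnp
  have hqW : q ∣ Nat.card W := by rw [← hx₀o]; exact dvd_card_of_orderOf_mem hx₀W
  -- a Sylow `q`-subgroup of `W`
  obtain ⟨QW⟩ : Nonempty (Sylow q ↥W) := inferInstance
  obtain ⟨Q, hQdef⟩ : ∃ Q : Subgroup G, Q = (QW : Subgroup ↥W).map W.subtype := ⟨_, rfl⟩
  have hQW : Q ≤ W := hQdef ▸ Subgroup.map_subtype_le _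
  have hQq : IsPGroup q Q := hQdef ▸ QW.isPGroup'.map _
  have hQ1 : Q ≠ ⊥ := by
    intro h
    have h1 : Nat.card Q = 1 := by rw [h]; exact Subgroup.card_bot
    have h2 : Nat.card Q = Nat.card (QW : Subgroup ↥W) := by
      rw [hQdef]; exact Subgroup.card_map_of_injective W.subtype_injective
    have h3 : q ∣ Nat.card (QW : Subgroup ↥W) := by
      rw [Sylow.card_eq_multiplicity]
      have hf : (Nat.card ↥W).factorization q ≠ 0 := by
        intro h0
        have := (Nat.factorization_eq_zero_iff _ _).mp h0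
        rcases this with h | h | h
        · exact h hqp
        · exact h hqW
        · exact Nat.card_pos.ne' h
      exact dvd_pow_self q hf
    rw [← h2, h1] at h3
    exact hqp.one_lt.ne' (Nat.dvd_one.mp h3)
  -- Frattini: `H = W N₁`
  set N₁ : Subgroup G := H ⊓ Subgroup.normalizer (Q : Set G) with hN₁
  have hfac : ∀ l ∈ H, ∃ k ∈ W, ∃ a ∈ N₁, l = k * a := by
    intro l hl
    obtain ⟨k, hk, hkl⟩ := Cfsg.Agent.Lib.Helper1.frattini_sylow W QW l (hWn hl)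
    rw [← hQdef] at hkl
    refine ⟨k, hk, k⁻¹ * l, ⟨H.mul_mem (H.inv_mem (hWH hk)) hl, hkl⟩, by group⟩
  -- `p ∣ |N₁'|`
  have hpN₁ : p ∣ Nat.card ↥⁅N₁, N₁⁆ := by
    by_contra hnd
    have hcop : (Nat.card ↥⁅N₁, N₁⁆).Coprime p :=
      (Nat.Coprime.symm ((Nat.Prime.coprime_iff_not_dvd hpp).mpr hnd))
    obtain ⟨x', hx'⟩ := exists_prime_orderOf_dvd_card' p hpH
    obtain ⟨x, hxH', rfl⟩ : ∃ x, ∃ h : x ∈ ⁅H, H⁆, x' = ⟨x, h⟩ := ⟨x'.1, x'.2, rfl⟩
    have hxo : orderOf x = p := by rw [← hx']; exact (Subgroup.orderOf_mk x hxH').symm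
    have hxp : x ^ p = 1 := by rw [← hxo]; exact pow_orderOf_eq_one x
    have hxW : x ∈ W :=
      mem_of_mem_commutator_of_factor (L₀ := H) (K := W) (A := N₁) (D := ⁅N₁, N₁⁆) hWH hWn
        inf_le_left hfac le_rfl hcop hxH' hxp
    have h1 : p ∣ Nat.card W := by rw [← hxo]; exact dvd_card_of_orderOf_mem hxW
    have h2 : p ∣ Nat.gcd (Nat.card W) p := Nat.dvd_gcd h1 dvd_rfl
    rw [hWcop] at h2
    exact hpp.one_lt.ne' (Nat.dvd_one.mp h2)
  -- conjugate `Q` into `M_σ`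
  obtain ⟨g, hg⟩ := h25 M hM Q hQ1 (by
    intro t ht htd
    obtain ⟨k, hk⟩ := IsPGroup.iff_card.mp hQq
    rw [hk] at htd
    rw [(Nat.prime_dvd_prime_iff_eq ht hqp).mp (ht.dvd_of_dvd_pow htd)]
    exact hqM)
  set φ := (MulAut.conj g).toMonoidHom with hφ
  have hφinj : Function.Injective φ := (MulAut.conj g).injective
  have hb2 := lemma12_16_b2 (H := H.map φ) hG h04 h1215 hM hp hpi hqM (hQq.map φ)
    (by
      intro h
      apply hQ1
      rw [← Subgroup.map_eq_bot_iff_of_injective Q hφinj]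
      exact h)
    (hg.trans (Subgroup.map_subtype_le _))
  apply hb2
  have e1 : H.map φ ⊓ Subgroup.normalizer ((Q.map φ : Subgroup G) : Set G) = N₁.map φ := by
    rw [hN₁, Subgroup.map_inf _ _ φ hφinj]
    congr 1
    exact (Subgroup.map_equiv_normalizer_eq Q (MulAut.conj g)).symm
  rw [e1, ← Subgroup.map_commutator]
  rw [Subgroup.card_map_of_injective hφinj]
  exact hpN₁

end Cfsg.Agent.Lib.Helper21.BG131
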