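import Mathlib
import Cfsg.Agent.Lib.Helper21.BG131C
import Cfsg.Agent.Lib.Helper2.BGCorI
import Cfsg.Agent.Lib.Helper17.BGTrans
import Cfsg.Agent.Lib.Helper9.BGSigEmb
import Cfsg.Agent.Lib.Helper21.CaminaE
import Cfsg.Agent.S0025

/-!
# Glue lemmas for S1428 (helper21)

* `p1215_of`: the package `P1215` from 12.15(d1) (`D1`), 12.15(e2) (`E2`) and (G) = 12.14(f,g).
* `mem_beta_of_ideal`: an ideal prime in `σ(H)` lies in `β(H)`.
* `exists_sylow_not_le_centralizer`: coprime action, reduction to an invariant Sylow subgroup.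
-/

set_option autoImplicit false
open scoped commutatorElement

namespace Cfsg.Agent.Lib.Helper21.BG131

open Cfsg

variable {G : Type*} [Group G]

/-- 12.15(d1): `q ∈ σ(M) ∩ σ(L)`, `X ≠ 1` a `q`-subgroup of `M`, `N_G(X) ≤ L ≠ M`: `L = L_β (M ∩ L)`. -/
def D1 (G : Type*) [Group G] : Prop :=
  ∀ (M L : Subgroup G), IsCoatom M → IsCoatom L → L ≠ M → ∀ (q : ℕ) [Fact q.Prime],
    q ∈ Cfsg.sigma M → q ∈ Cfsg.sigma L → ∀ X : Subgroup G, IsPGroup q X → X ≠ ⊥ → X ≤ M →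
    Subgroup.normalizer (X : Set G) ≤ L →
    ∀ l ∈ L, ∃ b ∈ Cfsg.piCoreOf (Cfsg.beta L) L, ∃ m ∈ M ⊓ L, l = b * m

/-- 12.15(e2): `q ∈ σ(M)`, `q ∉ σ(L)`, `X ≠ 1` a `q`-subgroup of `M`, `N_G(X) ≤ L ≠ M`:
`π(M) ∩ σ(L) ⊆ β(L)`. -/
def E2 (G : Type*) [Group G] : Prop :=
  ∀ (M L : Subgroup G), IsCoatom M → IsCoatom L → L ≠ M → ∀ (q : ℕ) [Fact q.Prime],
    q ∈ Cfsg.sigma M → q ∉ Cfsg.sigma L → ∀ X : Subgroup G, IsPGroup q X → X ≠ ⊥ → X ≤ M →
    Subgroup.normalizer (X : Set G) ≤ L →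
    ∀ t : ℕ, t.Prime → t ∣ Nat.card M → t ∈ Cfsg.sigma L → t ∈ Cfsg.beta L

/-- (G) = B & G 12.14(f,g), the part used here. -/
def GG (G : Type*) [Group G] : Prop :=
  ∀ (M L : Subgroup G), IsCoatom M → IsCoatom L → L ≠ M → ∀ (q : ℕ) [Fact q.Prime],
    q ∈ Cfsg.sigma M → q ∉ Cfsg.sigma L → ∀ X : Subgroup G, IsPGroup q X → X ≠ ⊥ → X ≤ M →
    Subgroup.normalizer (X : Set G) ≤ L → Cfsg.IsComplIn (M ⊓ L) (Cfsg.sigmaCore L) L

theorem p1215_of [Finite G] (hd1 : D1 G) (he2 : E2 G) (hgg : GG G) : P1215 G := by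
  intro M L hM hL hLM q _ hqM X hXq hX1 hXM hNX
  by_cases hqL : q ∈ Cfsg.sigma L
  · refine ⟨Cfsg.piCoreOf (Cfsg.beta L) L, Cfsg.Agent.Lib.Helper17.piCoreOf_le L,
      Cfsg.Agent.Lib.Helper17.le_normalizer_piCoreOf L,
      hd1 M L hM hL hLM q hqM hqL X hXq hX1 hXM hNX, ?_⟩
    intro t ht _ htK
    rw [Cfsg.Agent.Lib.Helper17.card_piCoreOf] at htK
    exact (Cfsg.Agent.Lib.Helper12.piCore_mem _ t ht htK).2
  · have hc := hgg M L hM hL hLM q hqM hqL X hXq hX1 hXM hNX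
    refine ⟨Cfsg.sigmaCore L, hc.2.1, Cfsg.Agent.Lib.Helper23.BGY.le_normalizer_sigmaCore L,
      ?_, ?_⟩
    · intro l hl
      obtain ⟨a, ha, b, hb, rfl⟩ := hc.2.2.2 l hl
      refine ⟨a * b * a⁻¹, ?_, a, ha, by group⟩
      have hn := Cfsg.Agent.Lib.Helper23.BGY.le_normalizer_sigmaCore L (hc.1 ha)
      exact (Subgroup.mem_normalizer_iff.mp hn b).mp hb
    · intro t ht htM htK
      have htσ : t ∈ Cfsg.sigma L := by
        have hcard : Nat.card (Cfsg.sigmaCore L) = Nat.card (Cfsg.piCore (Cfsg.sigma L) ↥L) :=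
          Subgroup.card_map_of_injective L.subtype_injective
        rw [hcard] at htK
        exact Cfsg.Agent.Lib.Helper12.piCore_mem _ t ht htK
      exact (he2 M L hM hL hLM q hqM hqL X hXq hX1 hXM hNX t ht htM htσ).2

/-- An ideal prime in `σ(H)` lies in `β(H)`. -/
theorem mem_beta_of_ideal [Finite G] {H : Subgroup G} {p : ℕ} [Fact p.Prime]
    (hpH : p ∈ Cfsg.sigma H) (hpi : Cfsg.IsIdealPrime p G) : p ∈ Cfsg.beta H := by
  refine ⟨⟨hpi.1, ?_⟩, hpi⟩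
  intro hr
  apply hpi.2.1
  obtain ⟨P, -, hPH, -⟩ :=
    Cfsg.Agent.Lib.Helper9.BGSigEmb.exists_sylow_ge_of_mem_sigma hpH (Y := ⊥)
      IsPGroup.of_bot bot_le
  apply Cfsg.Agent.Lib.Helper17.BGU.pRankLE_of_sylow P
  intro E hEP hEc hEe
  have hEH : E ≤ H := hEP.trans hPH
  have hcard : Nat.card (E.subgroupOf H) = Nat.card E :=
    Nat.card_congr (Subgroup.subgroupOfEquivOfLe hEH).toEquiv
  rw [← hcard]
  apply hr
  · refine ⟨⟨?_⟩⟩
    rintro ⟨a, ha⟩ ⟨b, hb⟩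
    apply Subtype.ext
    apply Subtype.ext
    have := hEc.is_comm.comm (⟨a.1, Subgroup.mem_subgroupOf.mp ha⟩ : E)
      ⟨b.1, Subgroup.mem_subgroupOf.mp hb⟩
    have h2 : (a : G) * (b : G) = (b : G) * (a : G) := congrArg Subtype.val this
    exact h2
  · intro a ha
    apply Subtype.ext
    have := hEe a.1 (Subgroup.mem_subgroupOf.mp ha)
    simpa using this

/-- Coprime action: if `R` does not centralize `T`, it does not centralize some `R`-invariant Sylow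
subgroup of `T`. -/
theorem exists_sylow_not_le_centralizer [Finite G] {R T : Subgroup G}
    (hRT : R ≤ Subgroup.normalizer (T : Set G)) (hcop : (Nat.card R).Coprime (Nat.card T))
    (hsolv : Group.IsSolvable R ∨ Group.IsSolvable T)
    (h : ¬ T ≤ Subgroup.centralizer (R : Set G)) :
    ∃ (q : ℕ) (_ : Fact q.Prime) (Q : Subgroup G), Q ≤ T ∧ IsPGroup q Q ∧
      R ≤ Subgroup.normalizer (Q : Set G) ∧ ¬ Q ≤ Subgroup.centralizer (R : Set G) := by
  by_contra hcon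
  push Not at hcon
  apply h
  apply Cfsg.Agent.Lib.Helper21.Camina.le_of_sylows
  intro t ht
  obtain ⟨P, -, hPn⟩ := Cfsg.Agent.S0025.result R T hRT hcop hsolv t ⊥ bot_le IsPGroup.of_bot
    (by rw [Subgroup.normalizer_eq_top]; exact le_top)
  exact ⟨P, hcon t ht _ (Subgroup.map_subtype_le _) (P.isPGroup'.map _) hPn⟩

end Cfsg.Agent.Lib.Helper21.BG131
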