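import Mathlib
import Cfsg.Agent.Lib.Helper21.BG131D
import Cfsg.Agent.Lib.Helper16.BGPrimG
import Cfsg.Agent.Lib.Helper23.BG1215A
import Cfsg.Agent.Lib.Helper1.CoprimeAbelian
import Cfsg.Agent.S1404
import Cfsg.Agent.S1414
import Cfsg.Agent.S1425

/-!
# B & G Theorem 13.4 (S1428): final assembly (helper21)

Paper proof: `notes/bg13/NOTES_h27.md` (helper27), `notes/bg13/S1428_h16.md` (helper16).
Ingredients: helper16 `BGPrimD/F/G` (13.1(a), 13.2, (D2), (D3β)), helper27 `BG134` (Lemma F,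
Theorem B), helper23 `BG1215A` (12.15(d1), (e2)), helper2 `BGCorH/I` ((WP), (G)), and
`BG131A-D` (12.16(b2), 13.1(c)).
-/

set_option autoImplicit false
set_option linter.unusedVariables false
open scoped commutatorElement

namespace Cfsg.Agent.Lib.Helper21.BG131

open Cfsg
open Cfsg.Agent.Lib.Helper23.BG1215 (h16 h17 h17n h18a h18e h22 h23 h23b h24 thm12_15d1 thm12_15e2)

variable {G : Type*} [Group G]

theorem h04_real [Finite G] (hG : Cfsg.IsMinSimpleOddOrder G) : H04 G :=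
  fun M hM q _ hq X hXq hX1 hXM => (Cfsg.Agent.S1404.result hG M hM q hq X hXq hX1 hXM).2

theorem h14c_real [Finite G] (hG : Cfsg.IsMinSimpleOddOrder G) : H14c G :=
  fun H hH p hpp hd hβ => ((Cfsg.Agent.S1414.result hG H hH).2.2.2.2 p hpp hd hβ).1

theorem h25_real [Finite G] (hG : Cfsg.IsMinSimpleOddOrder G) : H25 G :=
  fun M hM Y hY1 hY => Cfsg.Agent.S1425.result hG M hM Y hY1 hY

theorem gg_real [Finite G] (hG : Cfsg.IsMinSimpleOddOrder G) : GG G :=
  fun M L hM hL hLM q _ hqM hqL X hXq hX1 hXM hNX =>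
    (Cfsg.Agent.Lib.Helper2.BGCor.thm12_14fg hG (h16 hG) (h17 hG) (h17n hG) (h18e hG) (h24 hG)
      hM hL hLM hqM hqL hXq hX1 hXM hNX).2.2.2

theorem d1_real [Finite G] (hG : Cfsg.IsMinSimpleOddOrder G) : D1 G :=
  fun M L hM hL hLM q _ hqM hqL X hXq hX1 hXM hNX =>
    thm12_15d1 hG hM hL hLM hqM hqL hXq hX1 hXM hNX

theorem e2_real [Finite G] (hG : Cfsg.IsMinSimpleOddOrder G) : E2 G :=
  fun M L hM hL hLM q _ hqM hqL X hXq hX1 hXM hNX t _ htM htL =>
    thm12_15e2 hG hM hL hLM hqM hqL hXq hX1 hXM hNX htM htL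

theorem p1215_real [Finite G] (hG : Cfsg.IsMinSimpleOddOrder G) : P1215 G :=
  p1215_of (d1_real hG) (e2_real hG) (gg_real hG)

end Cfsg.Agent.Lib.Helper21.BG131
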