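import Mathlib
import Cfsg.Agent.Lib.Helper21.BG131E

/-!
# B & G Theorem 13.4 (S1428): the bad configuration, Theorem A and the theorem (helper21)
-/

set_option autoImplicit false
open scoped commutatorElement

namespace Cfsg.Agent.Lib.Helper21.BG131

open Cfsg
open Cfsg.Agent.Lib.Helper23.BG1215 (h16 h17 h17n h18a h18e h22 h23 h23b h24)

variable {G : Type*} [Group G]

/-- subgroups of commutative subgroups are commutative. -/
theorem isMulCommutative_of_le {A B : Subgroup G} (hAB : A ≤ B) (hB : IsMulCommutative B) :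
    IsMulCommutative A := by
  refine ⟨⟨?_⟩⟩
  rintro ⟨a, ha⟩ ⟨b, hb⟩
  apply Subtype.ext
  have := hB.is_comm.comm (⟨a, hAB ha⟩ : B) ⟨b, hAB hb⟩
  have h2 : a * b = b * a := congrArg Subtype.val this
  exact h2

/-- a non-identity `q`-group has order divisible by `q`. -/
theorem dvd_card_of_isPGroup_ne_bot [Finite G] {q : ℕ} [Fact q.Prime] {Y : Subgroup G} (hYq : IsPGroup q Y)
    (hY1 : Y ≠ ⊥) : q ∣ Nat.card Y := by
  obtain ⟨k, hk⟩ := IsPGroup.iff_card.mp hYq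
  have hk0 : k ≠ 0 := by
    rintro rfl
    rw [pow_zero] at hk
    exact hY1 (Subgroup.card_eq_one.mp hk)
  rw [hk]
  exact dvd_pow_self q hk0

/-- abelian coprime action: `[Q,R] ∩ C(R) = 1`. -/
theorem commutator_inf_centralizer_eq_bot [Finite G] {Q R : Subgroup G}
    (hQ : IsMulCommutative Q) (hRQ : R ≤ Subgroup.normalizer (Q : Set G))
    (hcop : (Nat.card R).Coprime (Nat.card Q)) :
    ⁅Q, R⁆ ⊓ Subgroup.centralizer (R : Set G) = ⊥ := by
  have h1 := Cfsg.Agent.Lib.Helper1.centralizer_inf_commutator_eq_bot R Q hRQ hcop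
  have hYQ : ⁅Q, R⁆ ≤ Q := Cfsg.Agent.Lib.Helper1.commutator_le_of_le_normalizer hRQ
  rw [eq_bot_iff] at h1 ⊢
  intro x hx
  exact h1 ⟨⟨hYQ hx.1, hx.2⟩, hx.1⟩

/-- **The bad configuration of 13.4**: `p ∈ τ₁(M)`, `P ≤ M` of order `p`, `N_G(P) ≤ H`,
`R ≤ C_M(P)` of prime order `r ∉ σ(M)`, `r ∈ τ₁(H)`, `Q` an `R`-invariant `q`-subgroup of
`C_{M_σ}(P)` not centralized by `R`.  Then `p ∈ β(H)`, `q ∈ σ(M) ∩ σ(H)`, and `Q` is abelian. -/
theorem bad_config [Finite G] (hG : Cfsg.IsMinSimpleOddOrder G)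
    {M H : Subgroup G} (hM : IsCoatom M) (hH : IsCoatom H)
    {p : ℕ} (hp : p ∈ Cfsg.tau1 M) {P R : Subgroup G} (hPM : P ≤ M) (hPc : Nat.card P = p)
    (hRM : R ≤ M) (hPR : R ≤ Subgroup.centralizer (P : Set G)) (hRp : (Nat.card R).Prime)
    (hr : Nat.card R ∉ Cfsg.sigma M)
    (hNH : Subgroup.normalizer (P : Set G) ≤ H) (hrH : Nat.card R ∈ Cfsg.tau1 H)
    {q : ℕ} [Fact q.Prime] {Q : Subgroup G}
    (hQT : Q ≤ Cfsg.sigmaCore M ⊓ Subgroup.centralizer (P : Set G)) (hQq : IsPGroup q Q)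
    (hRQ : R ≤ Subgroup.normalizer (Q : Set G))
    (hQR : ¬ Q ≤ Subgroup.centralizer (R : Set G)) :
    p ∈ Cfsg.beta H ∧ q ∈ Cfsg.sigma M ∧ q ∈ Cfsg.sigma H ∧
      ⁅Q, R⁆ ⊓ Subgroup.centralizer (R : Set G) = ⊥ := by
  classical
  have hqp : q.Prime := Fact.out
  have hpp : p.Prime := hp.1
  have : Fact p.Prime := ⟨hpp⟩
  have : IsSimpleGroup G := hG.2.1
  have hpσ : p ∉ Cfsg.sigma M := hp.2.1
  have hrk : Cfsg.PRankLE p 1 ↥M := hp.2.2.2.2
  have hPp : IsPGroup p P := IsPGroup.of_card (n := 1) (by rw [hPc, pow_one])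
  have hP1 : P ≠ ⊥ := by
    intro h
    rw [h, Subgroup.card_bot] at hPc
    exact hpp.ne_one hPc.symm
  obtain ⟨hnc, -, hpτ1⟩ :=
    Cfsg.Agent.Lib.Helper16.BGPrim.thm13_2_zero hG hH hpσ hrk hPp hP1 hNH
  have hHM : H ≠ M := by
    intro h
    apply hnc 1
    rw [Cfsg.Agent.Lib.Helper8.map_conj_one]
    exact h
  have hCPH : Subgroup.centralizer (P : Set G) ≤ H :=
    (Subgroup.centralizer_le_normalizer _).trans hNH
  have hPH : P ≤ H := Subgroup.le_normalizer.trans hNH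
  have hRH : R ≤ H := hPR.trans hCPH
  have hQH : Q ≤ H := (hQT.trans inf_le_right).trans hCPH
  have hQσ : Q ≤ Cfsg.sigmaCore M := hQT.trans inf_le_left
  have hQM : Q ≤ M := hQσ.trans (Cfsg.Agent.Lib.Helper2.BGCor.sigmaCore_le M)
  -- `Y = [Q,R]`
  obtain ⟨Y, hYdef⟩ : ∃ Y : Subgroup G, Y = ⁅Q, R⁆ := ⟨_, rfl⟩
  have hYQ : Y ≤ Q := hYdef ▸ Cfsg.Agent.Lib.Helper1.commutator_le_of_le_normalizer hRQ
  have hY1 : Y ≠ ⊥ := by
    intro h
    rw [hYdef, Subgroup.commutator_eq_bot_iff_le_centralizer] at h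
    exact hQR h
  have hYq : IsPGroup q Y := hQq.to_le hYQ
  have hYσ : Y ≤ Cfsg.sigmaCore M := hYQ.trans hQσ
  have hYM : Y ≤ M := hYQ.trans hQM
  have hYH : Y ≤ H := hYQ.trans hQH
  have hPY : Y ≤ Subgroup.centralizer (P : Set G) := hYQ.trans (hQT.trans inf_le_right)
  have hRY : R ≤ Subgroup.normalizer (Y : Set G) :=
    hYdef ▸ Cfsg.Agent.Lib.Helper1.le_normalizer_commutator_right Q R
  have hYH' : Y ≤ ⁅H, H⁆ := hYdef ▸ Subgroup.commutator_mono hQH hRH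
  have hqY : q ∣ Nat.card Y := dvd_card_of_isPGroup_ne_bot hYq hY1
  -- `q ∈ σ(M)`
  have hqM : q ∈ Cfsg.sigma M :=
    Cfsg.Agent.Lib.Helper2.BGCor.primes_card_sigmaCore M q hqp
      (hqY.trans (Subgroup.card_dvd_of_le hYσ))
  have hrq : Nat.card R ≠ q := fun h => hr (h ▸ hqM)
  have hcop : (Nat.card R).Coprime (Nat.card Q) := by
    obtain ⟨k, hk⟩ := IsPGroup.iff_card.mp hQq
    rw [hk]
    exact Nat.Coprime.pow_right k ((Nat.coprime_primes hRp hqp).mpr hrq)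
  -- non-commuting elements
  obtain ⟨x, hxQ, hxR⟩ := SetLike.not_le_iff_exists.mp hQR
  rw [Subgroup.mem_centralizer_iff] at hxR
  push Not at hxR
  obtain ⟨y, hyR, hyx⟩ := hxR
  -- `p ∈ σ(H)`
  have hpH : p ∈ Cfsg.sigma H :=
    Cfsg.Agent.Lib.Helper16.BGPrim.thm13_2_c1 hG hM hH hpσ hrk hPM hPc hNH
      (x := x) (y := y) ⟨hQσ hxQ, hQH hxQ⟩ ⟨hRM hyR, hRH hyR⟩ (fun h => hyx h.symm)
  have hPHσ : P ≤ Cfsg.sigmaCore H :=
    Cfsg.Agent.Lib.Helper16.BGPrim.le_sigmaCore_of_isPGroup hG hH hpH hPp hPH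
  have hU := Cfsg.Agent.Lib.Helper16.BGPrim.ut hG
  have hPH' : P ≤ ⁅H, H⁆ :=
    hPHσ.trans (Cfsg.Agent.Lib.Helper24.BGBeta.sigmaCore_le_commutator hG hU hH)
  have hpH' : p ∣ Nat.card ↥⁅H, H⁆ := hPc ▸ Subgroup.card_dvd_of_le hPH'
  have hX : Cfsg.sigmaCore M ⊓ ⁅H, H⁆ ≠ ⊥ := by
    intro h
    apply hY1
    rw [eq_bot_iff, ← h]
    exact le_inf hYσ hYH'
  have hpi : Cfsg.IsIdealPrime p G :=
    thm13_1c hG (h04_real hG) (p1215_real hG) (h14c_real hG) (h25_real hG) hM hH hp hpH' hX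
  have hpβ : p ∈ Cfsg.beta H := mem_beta_of_ideal hpH hpi
  -- `q ∈ σ(H)`
  have hqH : q ∈ Cfsg.sigma H := by
    by_contra hqH
    by_cases hr1 : Cfsg.PRankLE q 1 ↥H
    · -- `Q` is cyclic
      have hQcyc : IsCyclic ↥Q := by
        apply Cfsg.Agent.Lib.Helper23.BGY.isCyclic_of_rank_one_nilpotent hG.1 hQH
          hQq.isNilpotent
        intro t ht hd
        obtain ⟨k, hk⟩ := IsPGroup.iff_card.mp hQq
        rw [hk] at hd
        rw [(Nat.prime_dvd_prime_iff_eq ht hqp).mp (ht.dvd_of_dvd_pow hd)]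
        exact hr1
      have hQc : IsMulCommutative Q := by
        obtain ⟨g, hg⟩ := hQcyc.exists_generator
        refine ⟨⟨fun a b => ?_⟩⟩
        obtain ⟨i, rfl⟩ := Subgroup.mem_zpowers_iff.mp (hg a)
        obtain ⟨j, rfl⟩ := Subgroup.mem_zpowers_iff.mp (hg b)
        exact ((Commute.refl g).zpow_zpow i j).eq
      have hYR := commutator_inf_centralizer_eq_bot hQc hRQ hcop
      rw [← hYdef] at hYR
      exact hqH (Cfsg.Agent.Lib.Helper16.BGPrim.bc_reduction hG hM hH hHM hPM (hPc ▸ hpp) hNH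
        (hPc ▸ hpβ) hRp hrH hYσ hYq hY1 hPY hPR hRY hYR)
    · have hqτ2 : q ∈ Cfsg.tau2 H :=
        Cfsg.Agent.Lib.Helper23.BGY.mem_tau2_of_not_rank_one hG hH hqp hqH hr1
      obtain ⟨u, hu⟩ := exists_prime_orderOf_dvd_card' q hqY
      obtain ⟨X, hXdef⟩ : ∃ X : Subgroup G, X = Subgroup.zpowers (u : G) := ⟨_, rfl⟩
      have hXc : Nat.card X = q := by
        rw [hXdef, Nat.card_zpowers, Subgroup.orderOf_coe, hu]
      have hXY : X ≤ Y := by
        rw [hXdef]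
        exact Subgroup.zpowers_le.mpr u.2
      obtain ⟨z, hzP, hz1⟩ : ∃ z ∈ P, z ≠ 1 := by
        by_contra hcon
        push Not at hcon
        exact hP1 ((Subgroup.eq_bot_iff_forall _).mpr hcon)
      have h := Cfsg.Agent.Lib.Helper16.BGPrim.d2 hG hM hH hHM hqM hqτ2 (hXY.trans hYM)
        (hXY.trans hYH) hXc (hPHσ hzP) hz1 (fun u' hu' =>
          (Subgroup.mem_centralizer_iff.mp (hPY (hXY hu')) z hzP).symm)
      apply hP1
      rw [eq_bot_iff, ← h]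
      exact le_inf hPHσ hPM
  refine ⟨hpβ, hqM, hqH, ?_⟩
  -- `Q` is abelian by (WP)
  obtain ⟨S, hQS⟩ := hQq.exists_le_sylow
  have hSc := Cfsg.Agent.Lib.Helper2.BGCor.wp_sylow_comm (h22 hG) hM hH hnc hqM hqH S
  exact commutator_inf_centralizer_eq_bot (isMulCommutative_of_le hQS hSc) hRQ hcop


/-- `R ≤ C(P)` normalizes `X ⊓ C(P)` whenever it normalizes `X`. -/
theorem le_normalizer_inf_centralizer {X P R : Subgroup G}
    (hRX : R ≤ Subgroup.normalizer (X : Set G)) (hPR : R ≤ Subgroup.centralizer (P : Set G)) :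
    R ≤ Subgroup.normalizer ((X ⊓ Subgroup.centralizer (P : Set G) : Subgroup G) : Set G) := by
  intro g hg
  apply Cfsg.Agent.Lib.Helper27.BG134.mem_normalizer_inf (hRX hg)
  exact normalizer_le_normalizer_centralizer P
    (Subgroup.centralizer_le_normalizer _ (hPR hg))

/-- **The bad configuration, packaged**: in the situation of 13.4, if `R` does not centralize an
`R`-invariant subgroup `T` of `C_{M_σ}(P)`, then there are a maximal subgroup `H ⊇ N_G(P)` not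
conjugate to `M` with `r ∈ τ₁(H)`, `p ∈ β(H)`, a prime `q ∈ σ(M) ∩ σ(H)` and an `R`-invariant
`q`-subgroup `Q ≤ T` not centralized by `R` with `[Q,R] ∩ C(R) = 1`. -/
theorem exists_bad_config [Finite G] (hG : Cfsg.IsMinSimpleOddOrder G)
    {M E : Subgroup G} (hM : IsCoatom M) (hE : Cfsg.IsComplIn E (Cfsg.sigmaCore M) M)
    {p : ℕ} (hp : p ∈ Cfsg.tau1 M) {P R : Subgroup G} (hPE : P ≤ E) (hPc : Nat.card P = p)
    (hRE : R ≤ E) (hPR : R ≤ Subgroup.centralizer (P : Set G)) (hRp : (Nat.card R).Prime)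
    {T : Subgroup G} (hT : T ≤ Cfsg.sigmaCore M ⊓ Subgroup.centralizer (P : Set G))
    (hRT : R ≤ Subgroup.normalizer (T : Set G))
    (h : ¬ T ≤ Subgroup.centralizer (R : Set G)) :
    ∃ H : Subgroup G, IsCoatom H ∧ (∀ g : G, H ≠ M.map (MulAut.conj g).toMonoidHom) ∧
      Subgroup.normalizer (P : Set G) ≤ H ∧ Nat.card R ∈ Cfsg.tau1 H ∧ p ∈ Cfsg.beta H ∧
      ∃ (q : ℕ) (_ : Fact q.Prime) (Q : Subgroup G), Q ≤ T ∧ IsPGroup q Q ∧
        R ≤ Subgroup.normalizer (Q : Set G) ∧ ¬ Q ≤ Subgroup.centralizer (R : Set G) ∧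
        q ∈ Cfsg.sigma M ∧ q ∈ Cfsg.sigma H ∧
        ⁅Q, R⁆ ⊓ Subgroup.centralizer (R : Set G) = ⊥ := by
  classical
  have hpp : p.Prime := hp.1
  have : Fact p.Prime := ⟨hpp⟩
  have : Fact (Nat.card R).Prime := ⟨hRp⟩
  have : IsSimpleGroup G := hG.2.1
  have hpσ : p ∉ Cfsg.sigma M := hp.2.1
  have hrk : Cfsg.PRankLE p 1 ↥M := hp.2.2.2.2
  have hPM : P ≤ M := hPE.trans hE.1
  have hRM : R ≤ M := hRE.trans hE.1
  have hPp : IsPGroup p P := IsPGroup.of_card (n := 1) (by rw [hPc, pow_one])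
  have hRr : IsPGroup (Nat.card R) R := IsPGroup.of_card (n := 1) (by rw [pow_one])
  have hP1 : P ≠ ⊥ := by
    intro h
    rw [h, Subgroup.card_bot] at hPc
    exact hpp.ne_one hPc.symm
  have hPtop : P ≠ ⊤ := fun h => hM.1 (top_le_iff.mp (h ▸ hPM))
  have hr : Nat.card R ∉ Cfsg.sigma M :=
    Cfsg.Agent.Lib.Helper23.BGY.not_mem_sigma_of_dvd_compl hG hM hE hRp
      (Subgroup.card_dvd_of_le hRE)
  obtain ⟨H, hH, hNH⟩ := Cfsg.Agent.Lib.Helper17.BGU.exists_coatom_ge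
    (Cfsg.Agent.Lib.Helper17.BGU.normalizer_ne_top hP1 hPtop)
  obtain ⟨hnc, -, -⟩ :=
    Cfsg.Agent.Lib.Helper16.BGPrim.thm13_2_zero hG hH hpσ hrk hPp hP1 hNH
  have hCPH : Subgroup.centralizer (P : Set G) ≤ H :=
    (Subgroup.centralizer_le_normalizer _).trans hNH
  have hRH : R ≤ H := hPR.trans hCPH
  have hTσ : T ≤ Cfsg.sigmaCore M := hT.trans inf_le_left
  have hTH : T ≤ H := (hT.trans inf_le_right).trans hCPH
  -- `r ∈ τ₁(H)`
  have hrH : Nat.card R ∈ Cfsg.tau1 H := by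
    by_contra hrH
    apply h
    intro t ht
    rw [Subgroup.mem_centralizer_iff]
    intro s hs
    exact Cfsg.Agent.Lib.Helper16.BGPrim.thm13_1a hG (h17n hG) (h18a hG) (h23 hG) (h24 hG)
      hM hH hnc hr hRr hRM hRH hrH t ⟨hTσ ht, hTH ht⟩ s hs
  have hcop : (Nat.card R).Coprime (Nat.card T) :=
    Cfsg.Agent.Lib.Helper16.BGPrim.coprime_of_not_mem_sigma hr hRr hTσ
  have hsolv : Group.IsSolvable R ∨ Group.IsSolvable T := Or.inl (by
    have := hRr.isNilpotent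
    infer_instance)
  obtain ⟨q, hqF, Q, hQT, hQq, hRQ, hQR⟩ := exists_sylow_not_le_centralizer hRT hcop hsolv h
  obtain ⟨hpβ, hqM, hqH, hYR⟩ := bad_config hG hM hH hp hPM hPc hRM hPR hRp hr hNH hrH
    (hQT.trans hT) hQq hRQ hQR
  exact ⟨H, hH, hnc, hNH, hrH, hpβ, q, hqF, Q, hQT, hQq, hRQ, hQR, hqM, hqH, hYR⟩

/-- **Theorem A** (the `M_α`-version of 13.4): `C_{M_α}(P) ≤ C(R)`. -/
theorem thmA [Finite G] (hG : Cfsg.IsMinSimpleOddOrder G)
    {M E : Subgroup G} (hM : IsCoatom M) (hE : Cfsg.IsComplIn E (Cfsg.sigmaCore M) M)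
    {p : ℕ} (hp : p ∈ Cfsg.tau1 M) {P R : Subgroup G} (hPE : P ≤ E) (hPc : Nat.card P = p)
    (hRE : R ≤ E) (hPR : R ≤ Subgroup.centralizer (P : Set G)) (hRp : (Nat.card R).Prime) :
    Cfsg.alphaCore M ⊓ Subgroup.centralizer (P : Set G) ≤ Subgroup.centralizer (R : Set G) := by
  by_contra h
  have hU := Cfsg.Agent.Lib.Helper16.BGPrim.ut hG
  have hασ : Cfsg.alphaCore M ≤ Cfsg.sigmaCore M := (Cfsg.Agent.S1405.result hG M hM).2.2.1
  have hRM : R ≤ M := hRE.trans hE.1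
  have hRT : R ≤ Subgroup.normalizer
      ((Cfsg.alphaCore M ⊓ Subgroup.centralizer (P : Set G) : Subgroup G) : Set G) :=
    le_normalizer_inf_centralizer
      (hRM.trans (Cfsg.Agent.Lib.Helper1.BGX.le_normalizer_alphaCore M)) hPR
  obtain ⟨H, hH, hnc, -, -, -, q, hqF, Q, hQT, hQq, -, hQR, -, hqH, -⟩ :=
    exists_bad_config hG hM hE hp hPE hPc hRE hPR hRp (inf_le_inf_right _ hασ) hRT h
  have hQ1 : Q ≠ ⊥ := by
    rintro rfl
    exact hQR bot_le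
  have hqd : q ∣ Nat.card (Cfsg.alphaCore M) :=
    (dvd_card_of_isPGroup_ne_bot hQq hQ1).trans
      (Subgroup.card_dvd_of_le (hQT.trans inf_le_left))
  have hcard : Nat.card (Cfsg.alphaCore M) = Nat.card (Cfsg.piCore (Cfsg.alpha M) ↥M) :=
    Subgroup.card_map_of_injective M.subtype_injective
  rw [hcard] at hqd
  have hqα : q ∈ Cfsg.alpha M := Cfsg.Agent.Lib.Helper12.piCore_mem _ q hqF.out hqd
  exact Cfsg.Agent.Lib.Helper16.BGPrim.not_mem_alpha_of_mem_sigma hG hH hM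
    (Cfsg.Agent.Lib.Helper2.BGCor.nonconj_symm hnc) hqH hqα

/-- **B & G Theorem 13.4** (the frozen S1428). -/
theorem thm13_4 [Finite G] (hG : Cfsg.IsMinSimpleOddOrder G)
    {M E : Subgroup G} (hM : IsCoatom M) (hE : Cfsg.IsComplIn E (Cfsg.sigmaCore M) M)
    {p : ℕ} (hp : p ∈ Cfsg.tau1 M) {P R : Subgroup G} (hPE : P ≤ E) (hPc : Nat.card P = p)
    (hRE : R ≤ E) (hPR : R ≤ Subgroup.centralizer (P : Set G)) (hRp : (Nat.card R).Prime) :
    Cfsg.sigmaCore M ⊓ Subgroup.centralizer (P : Set G) ≤ Subgroup.centralizer (R : Set G) := by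
  by_contra h
  have hpp : p.Prime := hp.1
  have : Fact (Nat.card R).Prime := ⟨hRp⟩
  have hPM : P ≤ M := hPE.trans hE.1
  have hRM : R ≤ M := hRE.trans hE.1
  have hRT : R ≤ Subgroup.normalizer
      ((Cfsg.sigmaCore M ⊓ Subgroup.centralizer (P : Set G) : Subgroup G) : Set G) :=
    le_normalizer_inf_centralizer
      (hRM.trans (Cfsg.Agent.Lib.Helper23.BGY.le_normalizer_sigmaCore M)) hPR
  obtain ⟨H, hH, hnc, hNH, hrH, hpβ, q, hqF, Q, hQT, hQq, hRQ, hQR, hqM, hqH, hYR⟩ :=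
    exists_bad_config hG hM hE hp hPE hPc hRE hPR hRp le_rfl hRT h
  have hr : Nat.card R ∉ Cfsg.sigma M :=
    Cfsg.Agent.Lib.Helper23.BGY.not_mem_sigma_of_dvd_compl hG hM hE hRp
      (Subgroup.card_dvd_of_le hRE)
  have hRr : IsPGroup (Nat.card R) R := IsPGroup.of_card (n := 1) (by rw [pow_one])
  have hCPH : Subgroup.centralizer (P : Set G) ≤ H :=
    (Subgroup.centralizer_le_normalizer _).trans hNH
  have hRH : R ≤ H := hPR.trans hCPH
  have hQσ : Q ≤ Cfsg.sigmaCore M := hQT.trans inf_le_left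
  have hQM : Q ≤ M := hQσ.trans (Cfsg.Agent.Lib.Helper2.BGCor.sigmaCore_le M)
  have hQH : Q ≤ H := (hQT.trans inf_le_right).trans hCPH
  have hYQ : ⁅Q, R⁆ ≤ Q := Cfsg.Agent.Lib.Helper1.commutator_le_of_le_normalizer hRQ
  have hY1 : ⁅Q, R⁆ ≠ ⊥ := by
    intro h'
    rw [Subgroup.commutator_eq_bot_iff_le_centralizer] at h'
    exact hQR h'
  have hYq : IsPGroup q ↥⁅Q, R⁆ := hQq.to_le hYQ
  have hrq : Nat.card R ≠ q := fun h' => hr (h' ▸ hqM)
  have hcop : (Nat.card R).Coprime (Nat.card Q) := by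
    obtain ⟨k, hk⟩ := IsPGroup.iff_card.mp hQq
    rw [hk]
    exact Nat.Coprime.pow_right k ((Nat.coprime_primes hRp hqF.out).mpr hrq)
  have hsolv : Group.IsSolvable R ∨ Group.IsSolvable Q := Or.inl (by
    have := hRr.isNilpotent
    infer_instance)
  have hYc : ⁅Q, R⁆ ≤ ⁅⁅Q, R⁆, R⁆ :=
    (Cfsg.Agent.Lib.Helper16.BGPrim.comm_comm_eq_coprime Q R hRQ hcop hsolv).ge
  -- `r ∈ τ₁(M)`
  have hrM : Nat.card R ∈ Cfsg.tau1 M := by
    by_contra hrM
    apply hY1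
    rw [eq_bot_iff, ← hYR]
    refine le_inf le_rfl ?_
    have hYHσ : ⁅Q, R⁆ ≤ Cfsg.sigmaCore H :=
      Cfsg.Agent.Lib.Helper16.BGPrim.le_sigmaCore_of_isPGroup hG hH hqH hYq (hYQ.trans hQH)
    intro t ht
    rw [Subgroup.mem_centralizer_iff]
    intro s hs
    exact Cfsg.Agent.Lib.Helper16.BGPrim.thm13_1a hG (h17n hG) (h18a hG) (h23 hG) (h24 hG)
      hH hM (Cfsg.Agent.Lib.Helper2.BGCor.nonconj_symm hnc) hrH.2.1 hRr hRH hRM hrM t
      ⟨hYHσ ht, hQM (hYQ ht)⟩ s hs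
  -- Theorem A for the swapped pair
  have hRP : P ≤ Subgroup.centralizer (R : Set G) := by
    intro x hx
    rw [Subgroup.mem_centralizer_iff]
    intro y hy
    exact (Subgroup.mem_centralizer_iff.mp (hPR hy) x hx).symm
  have hA := thmA hG hM hE hrM hRE rfl hPE hRP (hPc ▸ hpp)
  exact Cfsg.Agent.Lib.Helper27.BG134.thmB hG hM hH hnc hPM hRM (hYQ.trans hQM)
    (hPc ▸ hpp) hRp (hPc ▸ hp.2.1) hr hNH (hPc ▸ hpβ.1) hrH hqM hqH hYq
    (hYQ.trans (hQT.trans inf_le_right)) hPR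
    (Cfsg.Agent.Lib.Helper1.le_normalizer_commutator_right Q R) hYR hYc hY1 hA


end Cfsg.Agent.Lib.Helper21.BG131
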