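import Mathlib
import Cfsg.Agent.Lib.Helper21.ClassSize

set_option autoImplicit false
open Pointwise Subgroup

namespace Cfsg.Agent.Lib.Helper21.BG147

variable {G : Type*} [Group G]

/-- counting the conjugates of a TI-set `T` all of whose elements have centralizer `Z`. -/
theorem ti_count [Finite G] (Z : Subgroup G) (T : Set G)
    (h1 : ∀ z ∈ T, centralizer ({z} : Set G) = Z)
    (h2 : ∀ h : G, ∀ z ∈ T, h * z * h⁻¹ ∈ T → h ∈ Z) :
    Nat.card Z * Set.ncard {a : G | ∃ g : G, ∃ z ∈ T, a = g * z * g⁻¹} = T.ncard * Nat.card G := by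
  classical
  have := Fintype.ofFinite G
  have hS : {a : G | ∃ g : G, ∃ z ∈ T, a = g * z * g⁻¹}.toFinset
      = T.toFinset.biUnion (fun z => {a : G | IsConj z a}.toFinset) := by
    ext a
    simp only [Set.mem_toFinset, Set.mem_ofPred_eq, Finset.mem_biUnion, isConj_iff]
    constructor
    · rintro ⟨g, z, hz, rfl⟩
      exact ⟨z, hz, g, rfl⟩
    · rintro ⟨z, hz, g, rfl⟩
      exact ⟨g, z, hz, rfl⟩
  have hdisj : ∀ x ∈ T.toFinset, ∀ y ∈ T.toFinset, x ≠ y →
      Disjoint ({a : G | IsConj x a}.toFinset) ({a : G | IsConj y a}.toFinset) := by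
    intro x hx y hy hxy
    rw [Finset.disjoint_left]
    intro a hax hay
    rw [Set.mem_toFinset] at hx hy hax hay
    apply hxy
    obtain ⟨c, hc⟩ := isConj_iff.mp hax
    obtain ⟨d, hd⟩ := isConj_iff.mp hay
    have e : (d⁻¹ * c) * x * (d⁻¹ * c)⁻¹ = y := by
      have : c * x * c⁻¹ = d * y * d⁻¹ := by rw [hc, hd]
      calc (d⁻¹ * c) * x * (d⁻¹ * c)⁻¹ = d⁻¹ * (c * x * c⁻¹) * d := by group
        _ = d⁻¹ * (d * y * d⁻¹) * d := by rw [this]
        _ = y := by group
    have hmem : d⁻¹ * c ∈ Z := h2 _ x hx (e ▸ hy)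
    rw [← h1 x hx, mem_centralizer_iff] at hmem
    have h3 := hmem x (Set.mem_singleton x)
    rw [← e]
    calc x = x * (d⁻¹ * c) * (d⁻¹ * c)⁻¹ := by group
      _ = (d⁻¹ * c) * x * (d⁻¹ * c)⁻¹ := by rw [h3]
  have hcard : ∀ z ∈ T.toFinset, ({a : G | IsConj z a}.toFinset).card = Z.index := by
    intro z hz
    rw [Set.mem_toFinset] at hz
    rw [← Set.ncard_eq_toFinset_card', ← index_centralizer_eq_ncard_setOf_isConj, h1 z hz]
  rw [Set.ncard_eq_toFinset_card', hS, Finset.card_biUnion hdisj, Finset.sum_congr rfl hcard,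
    Finset.sum_const, smul_eq_mul, ← Set.ncard_eq_toFinset_card', mul_comm, mul_assoc,
    mul_comm Z.index, Subgroup.card_mul_index]

/-- size of `K ⊔ Ks` minus the two factors. -/
theorem ncard_zhat [Finite G] (K Ks : Subgroup G) (hinf : K ⊓ Ks = ⊥) :
    Set.ncard (((K ⊔ Ks : Subgroup G) : Set G) \ ((K : Set G) ∪ (Ks : Set G))) + Nat.card K + Nat.card Ks
      = Nat.card ↥(K ⊔ Ks) + 1 := by
  classical
  have hsub : ((K : Set G) ∪ (Ks : Set G)) ⊆ ((K ⊔ Ks : Subgroup G) : Set G) := by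
    intro x hx
    rcases hx with hx | hx
    · exact (le_sup_left : K ≤ K ⊔ Ks) hx
    · exact (le_sup_right : Ks ≤ K ⊔ Ks) hx
  have h1 := Set.ncard_sdiff_add_ncard_of_subset hsub (Set.toFinite _)
  have h2 := Set.ncard_union_add_ncard_inter (K : Set G) (Ks : Set G) (Set.toFinite _) (Set.toFinite _)
  have h3 : ((K : Set G) ∩ (Ks : Set G)) = {1} := by
    ext x
    rw [Set.mem_inter_iff, Set.mem_singleton_iff]
    constructor
    · rintro ⟨hx1, hx2⟩
      have : x ∈ K ⊓ Ks := mem_inf.mpr ⟨hx1, hx2⟩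
      rwa [hinf, mem_bot] at this
    · rintro rfl
      exact ⟨K.one_mem, Ks.one_mem⟩
  rw [h3, Set.ncard_singleton] at h2
  have e1 : (K : Set G).ncard = Nat.card K := rfl
  have e2 : (Ks : Set G).ncard = Nat.card Ks := rfl
  have e3 : ((K ⊔ Ks : Subgroup G) : Set G).ncard = Nat.card ↥(K ⊔ Ks) := rfl
  rw [e1, e2] at h2
  rw [e3] at h1
  omega

/-- order of a product of two subgroups meeting trivially, one normalizing the other -/
theorem card_sup_of_inf_eq_bot [Finite G] (K Ks : Subgroup G) (hn : K ≤ normalizer (Ks : Set G))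
    (hinf : K ⊓ Ks = ⊥) : Nat.card ↥(K ⊔ Ks) = Nat.card K * Nat.card Ks := by
  have h1 := Subgroup.relIndex_mul_relIndex ⊥ Ks (K ⊔ Ks) bot_le le_sup_right
  rw [Subgroup.relIndex_bot_left, Subgroup.relIndex_bot_left] at h1
  have h2 : Ks.relIndex (K ⊔ Ks) = Nat.card K := by
    have : (Ks.subgroupOf (K ⊔ Ks)).Normal := Subgroup.normal_subgroupOf_sup_of_le_normalizer hn
    have h3 := Subgroup.relIndex_sup_right (H := K.subgroupOf (K ⊔ Ks)) (K := Ks.subgroupOf (K ⊔ Ks))
    rw [← Subgroup.subgroupOf_sup le_sup_left le_sup_right, Subgroup.relIndex_subgroupOf le_rfl,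
      Subgroup.relIndex_subgroupOf le_sup_left] at h3
    rw [h3, ← Subgroup.inf_relIndex_right, inf_comm, hinf, Subgroup.relIndex_bot_left]
  rw [← h1, h2, mul_comm]

end Cfsg.Agent.Lib.Helper21.BG147
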