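import Mathlib
import Cfsg.Agent.Lib.Helper21.BG147A

set_option autoImplicit false
open Pointwise Subgroup

namespace Cfsg.Agent.Lib.Helper21.BG147

variable {G : Type*} [Group G]

/-- `conj` image membership -/
theorem mem_map_conj_iff {M : Subgroup G} {g x : G} :
    x ∈ M.map (MulAut.conj g).toMonoidHom ↔ g⁻¹ * x * g ∈ M := by
  rw [Subgroup.mem_map]
  constructor
  · rintro ⟨m, hm, rfl⟩
    have : g⁻¹ * (MulAut.conj g).toMonoidHom m * g = m := by
      simp [MulAut.conj_apply]; group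
    rwa [this]
  · intro h
    refine ⟨_, h, ?_⟩
    simp [MulAut.conj_apply]; group

/-- decomposition of an element of `K ⊔ Ks` when the factors commute -/
theorem exists_mul_of_mem_sup {K Ks : Subgroup G} (hcomm : Ks ≤ centralizer (K : Set G)) {z : G}
    (hz : z ∈ K ⊔ Ks) : ∃ x ∈ K, ∃ y ∈ Ks, z = x * y := by
  have hn : K ≤ normalizer (Ks : Set G) := by
    intro k hk
    rw [mem_normalizer_iff]
    intro y
    have key : ∀ w ∈ Ks, k * w * k⁻¹ = w := by
      intro w hw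
      have := (mem_centralizer_iff.mp (hcomm hw)) k hk
      calc k * w * k⁻¹ = w * k * k⁻¹ := by rw [this]
        _ = w := by group
    constructor
    · intro hy; rw [key y hy]; exact hy
    · intro hy
      have e : y = k⁻¹ * (k * y * k⁻¹) * k := by group
      have h2 : k⁻¹ * (k * y * k⁻¹) * k = k * y * k⁻¹ := by
        have := (mem_centralizer_iff.mp (hcomm hy)) k hk
        calc k⁻¹ * (k * y * k⁻¹) * k = k⁻¹ * ((k * y * k⁻¹) * k) := by group
          _ = k⁻¹ * (k * (k * y * k⁻¹)) := by rw [this]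
          _ = k * y * k⁻¹ := by group
      rw [e, h2]; exact hy
  have h := Subgroup.coe_mul_of_left_le_normalizer_right K Ks hn
  have hz' : z ∈ ((K ⊔ Ks : Subgroup G) : Set G) := hz
  rw [h] at hz'
  obtain ⟨x, hx, y, hy, rfl⟩ := Set.mem_mul.mp hz'
  exact ⟨x, hx, y, hy, rfl⟩

/-- the facts about `Z = K × K*` and `Ẑ` (B&G 14.7 (d),(e)) from abstract hypotheses -/
theorem zhat_facts [Finite G] (M K Ks : Subgroup G)
    (hKM : K ≤ M) (hKsM : Ks ≤ M)
    (hcomm : Ks ≤ centralizer (K : Set G))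
    (hKab : ∀ a ∈ K, ∀ b ∈ K, a * b = b * a) (hKsab : ∀ a ∈ Ks, ∀ b ∈ Ks, a * b = b * a)
    (hcop : (Nat.card K).Coprime (Nat.card Ks))
    (hcent : ∀ k ∈ K, k ≠ 1 → M ⊓ centralizer ({k} : Set G) = K ⊔ Ks)
    (hTI : ∀ g : G, g ∉ M → Ks ⊓ M.map (MulAut.conj g).toMonoidHom = ⊥)
    (hKK : ∀ g ∈ M, g ∉ K ⊔ Ks → K ⊓ K.map (MulAut.conj g).toMonoidHom = ⊥) :
    (∀ x ∈ K, x ≠ 1 → ∀ y ∈ Ks, y ≠ 1 → centralizer ({x * y} : Set G) = K ⊔ Ks) ∧
    (∀ g : G, g ∉ M → ∀ z ∈ (((K ⊔ Ks : Subgroup G) : Set G) \ ((K : Set G) ∪ (Ks : Set G))),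
      z ∉ M.map (MulAut.conj g).toMonoidHom) ∧
    (∀ h : G, ∀ z ∈ (((K ⊔ Ks : Subgroup G) : Set G) \ ((K : Set G) ∪ (Ks : Set G))),
      h * z * h⁻¹ ∈ (((K ⊔ Ks : Subgroup G) : Set G) \ ((K : Set G) ∪ (Ks : Set G))) → h ∈ K ⊔ Ks) ∧
    (∀ z ∈ (((K ⊔ Ks : Subgroup G) : Set G) \ ((K : Set G) ∪ (Ks : Set G))),
      centralizer ({z} : Set G) = K ⊔ Ks) := by
  classical
  set m := Nat.card K with hm
  set n := Nat.card Ks with hn
  have hxm : ∀ x ∈ K, x ^ m = 1 := by
    intro x hx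
    have := pow_card_eq_one' (G := ↥K) (x := ⟨x, hx⟩)
    have h2 := congrArg Subtype.val this
    rwa [Subgroup.coe_pow, Subgroup.coe_one] at h2
  have hyn : ∀ y ∈ Ks, y ^ n = 1 := by
    intro y hy
    have := pow_card_eq_one' (G := ↥Ks) (x := ⟨y, hy⟩)
    have h2 := congrArg Subtype.val this
    rwa [Subgroup.coe_pow, Subgroup.coe_one] at h2
  -- coprime power facts
  have hy_ne : ∀ y ∈ Ks, y ≠ 1 → y ^ m ≠ 1 := by
    intro y hy hy1 h
    apply hy1
    have h1 : orderOf y ∣ m := orderOf_dvd_of_pow_eq_one h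
    have h2 : orderOf y ∣ n := orderOf_dvd_of_pow_eq_one (hyn y hy)
    have h3 : orderOf y = 1 := Nat.eq_one_of_dvd_coprimes hcop h1 h2
    exact orderOf_eq_one_iff.mp h3
  have hx_ne : ∀ x ∈ K, x ≠ 1 → x ^ n ≠ 1 := by
    intro x hx hx1 h
    apply hx1
    have h1 : orderOf x ∣ n := orderOf_dvd_of_pow_eq_one h
    have h2 : orderOf x ∣ m := orderOf_dvd_of_pow_eq_one (hxm x hx)
    have h3 : orderOf x = 1 := Nat.eq_one_of_dvd_coprimes hcop h2 h1
    exact orderOf_eq_one_iff.mp h3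
  have hxy : ∀ x ∈ K, ∀ y ∈ Ks, x * y = y * x := fun x hx y hy =>
    ((mem_centralizer_iff.mp (hcomm hy)) x hx)
  have hpow_m : ∀ x ∈ K, ∀ y ∈ Ks, (x * y) ^ m = y ^ m := by
    intro x hx y hy
    have hc : Commute x y := hxy x hx y hy
    rw [hc.mul_pow, hxm x hx, one_mul]
  have hpow_n : ∀ x ∈ K, ∀ y ∈ Ks, (x * y) ^ n = x ^ n := by
    intro x hx y hy
    have hc : Commute x y := hxy x hx y hy
    rw [hc.mul_pow, hyn y hy, mul_one]
  -- an element commuting with a nonidentity element of `Ks` lies in `M`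
  have hinM : ∀ g : G, ∀ y ∈ Ks, y ≠ 1 → g⁻¹ * y * g ∈ M → g ∈ M := by
    intro g y hy hy1 hg
    by_contra hgM
    have h1 := hTI g hgM
    have h2 : y ∈ Ks ⊓ M.map (MulAut.conj g).toMonoidHom :=
      mem_inf.mpr ⟨hy, mem_map_conj_iff.mpr hg⟩
    rw [h1, mem_bot] at h2
    exact hy1 h2
  -- Z is commutative with the element x*y
  have hZle : ∀ x ∈ K, ∀ y ∈ Ks, K ⊔ Ks ≤ centralizer ({x * y} : Set G) := by
    intro x hx y hy
    apply sup_le
    · intro w hw
      rw [mem_centralizer_iff]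
      intro t ht
      rw [Set.mem_singleton_iff] at ht
      subst ht
      calc x * y * w = x * (w * y) := by rw [mul_assoc, hxy w hw y hy]
        _ = (x * w) * y := by group
        _ = (w * x) * y := by rw [hKab x hx w hw]
        _ = w * (x * y) := by group
    · intro w hw
      rw [mem_centralizer_iff]
      intro t ht
      rw [Set.mem_singleton_iff] at ht
      subst ht
      calc x * y * w = x * (w * y) := by rw [mul_assoc, hKsab y hy w hw]
        _ = (x * w) * y := by group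
        _ = (w * x) * y := by rw [hxy x hx w hw]
        _ = w * (x * y) := by group
  have hC : ∀ x ∈ K, x ≠ 1 → ∀ y ∈ Ks, y ≠ 1 → centralizer ({x * y} : Set G) = K ⊔ Ks := by
    intro x hx hx1 y hy hy1
    apply le_antisymm _ (hZle x hx y hy)
    intro g hg
    have hgz : (x * y) * g = g * (x * y) := (mem_centralizer_iff.mp hg) _ (Set.mem_singleton _)
    have hgc : Commute g (x * y) := hgz.symm
    have h1 : Commute g (y ^ m) := by
      have := hgc.pow_right m
      rwa [hpow_m x hx y hy] at this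
    have h2 : Commute g (x ^ n) := by
      have := hgc.pow_right n
      rwa [hpow_n x hx y hy] at this
    have hgM : g ∈ M := by
      apply hinM g (y ^ m) (Ks.pow_mem hy m) (hy_ne y hy hy1)
      have e : g⁻¹ * y ^ m * g = y ^ m := by
        have : g * y ^ m = y ^ m * g := h1
        calc g⁻¹ * y ^ m * g = g⁻¹ * (y ^ m * g) := by group
          _ = g⁻¹ * (g * y ^ m) := by rw [this]
          _ = y ^ m := by group
      rw [e]
      exact hKsM (Ks.pow_mem hy m)
    have hgC : g ∈ M ⊓ centralizer ({x ^ n} : Set G) := by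
      refine mem_inf.mpr ⟨hgM, ?_⟩
      rw [mem_centralizer_iff]
      intro t ht
      rw [Set.mem_singleton_iff] at ht
      subst ht
      exact h2.symm
    rw [hcent (x ^ n) (K.pow_mem hx n) (hx_ne x hx hx1)] at hgC
    exact hgC
  -- decomposition of elements of Zhat
  have hdec : ∀ z ∈ (((K ⊔ Ks : Subgroup G) : Set G) \ ((K : Set G) ∪ (Ks : Set G))),
      ∃ x ∈ K, x ≠ 1 ∧ ∃ y ∈ Ks, y ≠ 1 ∧ z = x * y := by
    intro z hz
    obtain ⟨x, hx, y, hy, rfl⟩ := exists_mul_of_mem_sup hcomm hz.1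
    refine ⟨x, hx, ?_, y, hy, ?_, rfl⟩
    · rintro rfl
      apply hz.2
      right
      rw [one_mul]; exact hy
    · rintro rfl
      apply hz.2
      left
      rw [mul_one]; exact hx
  refine ⟨hC, ?_, ?_, ?_⟩
  rotate_left 2
  · intro z hz
    obtain ⟨x, hx, hx1, y, hy, hy1, rfl⟩ := hdec z hz
    exact hC x hx hx1 y hy hy1
  · intro g hgM z hz hzg
    obtain ⟨x, hx, hx1, y, hy, hy1, rfl⟩ := hdec z hz
    have h1 := hTI g hgM
    have h2 : y ^ m ∈ Ks ⊓ M.map (MulAut.conj g).toMonoidHom := by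
      refine mem_inf.mpr ⟨Ks.pow_mem hy m, ?_⟩
      rw [← hpow_m x hx y hy]
      exact Subgroup.pow_mem _ hzg m
    rw [h1, mem_bot] at h2
    exact hy_ne y hy hy1 h2
  · intro h z hz hz'
    obtain ⟨x, hx, hx1, y, hy, hy1, rfl⟩ := hdec z hz
    obtain ⟨x', hx', hx'1, y', hy', hy'1, e⟩ := hdec _ hz'
    -- h normalizes Z
    have hnorm : ∀ w ∈ K ⊔ Ks, h * w * h⁻¹ ∈ K ⊔ Ks := by
      intro w hw
      rw [← hC x' hx' hx'1 y' hy' hy'1, ← e, mem_centralizer_iff]
      intro t ht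
      rw [Set.mem_singleton_iff] at ht
      subst ht
      have hwc : (x * y) * w = w * (x * y) :=
        (mem_centralizer_iff.mp (hZle x hx y hy hw)) _ (Set.mem_singleton _)
      calc h * (x * y) * h⁻¹ * (h * w * h⁻¹) = h * ((x * y) * w) * h⁻¹ := by group
        _ = h * (w * (x * y)) * h⁻¹ := by rw [hwc]
        _ = h * w * h⁻¹ * (h * (x * y) * h⁻¹) := by group
    -- h ∈ M
    have hhM : h ∈ M := by
      have h1 : h * y * h⁻¹ ∈ M :=
        (sup_le hKM hKsM) (hnorm y ((le_sup_right : Ks ≤ K ⊔ Ks) hy))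
      have h2 : h⁻¹ ∈ M := by
        apply hinM h⁻¹ y hy hy1
        rw [inv_inv]; exact h1
      have := M.inv_mem h2
      rwa [inv_inv] at this
    -- h x h⁻¹ ∈ K
    by_contra hhZ
    have h3 := hKK h hhM hhZ
    obtain ⟨k, hk, y₂, hy₂, e2⟩ :=
      exists_mul_of_mem_sup hcomm (hnorm x ((le_sup_left : K ≤ K ⊔ Ks) hx))
    have h4 : (h * x * h⁻¹) ^ m = 1 := by
      rw [conj_pow, hxm x hx]; group
    rw [e2, hpow_m k hk y₂ hy₂] at h4
    have hy₂1 : y₂ = 1 := by
      by_contra hne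
      exact hy_ne y₂ hy₂ hne h4
    rw [hy₂1, mul_one] at e2
    have h5 : h * x * h⁻¹ ∈ K ⊓ K.map (MulAut.conj h).toMonoidHom := by
      refine mem_inf.mpr ⟨e2 ▸ hk, ?_⟩
      rw [mem_map_conj_iff]
      have : h⁻¹ * (h * x * h⁻¹) * h = x := by group
      rw [this]; exact hx
    rw [h3, mem_bot] at h5
    apply hx1
    have : x = h⁻¹ * (h * x * h⁻¹) * h := by group
    rw [this, h5]; group

/-- the arithmetic of B&G 14.7 -/
theorem arith (k ks g s : ℕ) (hk : 1 < k) (hks : 1 < ks) (hko : Odd k) (hkso : Odd ks)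
    (hcop : k.Coprime ks) (hg : 0 < g)
    (h : k * ks * s = (k * ks + 1 - k - ks) * g) :
    k * ks * s = (k * ks - k - ks + 1) * g ∧ g < 2 * s := by
  have hk3 : 3 ≤ k := by
    obtain ⟨a, ha⟩ := hko
    omega
  have hks3 : 3 ≤ ks := by
    obtain ⟨a, ha⟩ := hkso
    omega
  have hne : k ≠ ks := by
    rintro rfl
    rw [Nat.coprime_self] at hcop
    omega
  have hprod : k + ks ≤ k * ks := by nlinarith
  have e1 : k * ks - k - ks + 1 = k * ks + 1 - k - ks := by omega
  refine ⟨by rw [e1]; exact h, ?_⟩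
  -- 2 (k-1)(ks-1) > k ks
  have hkey : k * ks < 2 * (k * ks + 1 - k - ks) := by
    have h5 : 5 ≤ k ∨ 5 ≤ ks := by
      by_contra hcon
      push Not at hcon
      obtain ⟨a, ha⟩ := hko
      obtain ⟨b, hb⟩ := hkso
      omega
    have : 2 * k + 2 * ks + 1 ≤ k * ks + 2 := by
      rcases h5 with h5 | h5
      · nlinarith
      · nlinarith
    omega
  by_contra hcon
  push Not at hcon
  have h1 : k * ks * (2 * s) ≤ k * ks * g := Nat.mul_le_mul_left _ hcon
  have h2 : k * ks * (2 * s) = 2 * (k * ks + 1 - k - ks) * g := by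
    calc k * ks * (2 * s) = 2 * (k * ks * s) := by ring
      _ = 2 * ((k * ks + 1 - k - ks) * g) := by rw [h]
      _ = 2 * (k * ks + 1 - k - ks) * g := by ring
  rw [h2] at h1
  have h3 : 2 * (k * ks + 1 - k - ks) ≤ k * ks := Nat.le_of_mul_le_mul_right h1 hg
  omega

end Cfsg.Agent.Lib.Helper21.BG147
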