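import Mathlib
import Cfsg.Agent.Lib.Helper21.BG147B
import Cfsg.Agent.Lib.Helper21.BG36J
import Cfsg.Agent.Lib.Helper2.BGCorF

set_option autoImplicit false
open Pointwise Subgroup

namespace Cfsg.Agent.Lib.Helper21.BG147

variable {G : Type*} [Group G]

theorem comm_of_isCyclic {H : Subgroup G} (hH : IsCyclic ↥H) :
    ∀ a ∈ H, ∀ b ∈ H, a * b = b * a := by
  intro x hx y hy
  obtain ⟨g, hg⟩ := IsCyclic.exists_generator (α := ↥H)
  obtain ⟨m, hm⟩ := Subgroup.mem_zpowers_iff.mp (hg ⟨x, hx⟩)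
  obtain ⟨n, hn⟩ := Subgroup.mem_zpowers_iff.mp (hg ⟨y, hy⟩)
  have h : (⟨x, hx⟩ : ↥H) * ⟨y, hy⟩ = ⟨y, hy⟩ * ⟨x, hx⟩ := by
    rw [← hm, ← hn, ← zpow_add, ← zpow_add, add_comm]
  exact congrArg Subtype.val h

/-- coprimality of a `κ(M)`-group and a subgroup of `M_σ` -/
theorem coprime_kappa_sigma [Finite G] {M K Ks : Subgroup G}
    (hK : ∀ p : ℕ, p.Prime → p ∣ Nat.card K → p ∈ Cfsg.kappa M)
    (hKs : Ks ≤ Cfsg.sigmaCore M) : (Nat.card K).Coprime (Nat.card Ks) := by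
  by_contra h
  obtain ⟨p, hp, hpk, hpks⟩ := Nat.Prime.not_coprime_iff_dvd.mp h
  have h1 : p ∈ Cfsg.kappa M := hK p hp hpk
  have h2 : p ∈ Cfsg.sigma M :=
    Cfsg.Agent.Lib.Helper2.BGCor.primes_card_sigmaCore M p hp
      (hpks.trans (Subgroup.card_dvd_of_le hKs))
  exact h1.2.2.1 h2

/-- `κ(M) = τ₁(M)` when `M' = U M_σ`. -/
theorem kappa_eq_tau1 [Finite G] {M K U : Subgroup G} (hKU : Cfsg.IsSigmaDecomposition M K U)
    (hder : ⁅M, M⁆ = U ⊔ Cfsg.sigmaCore M) : Cfsg.kappa M = Cfsg.tau1 M := by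
  have hKM : K ≤ M := hKU.hall.1
  have hUM : U ≤ M := hKU.compl.1
  have hσM : Cfsg.sigmaCore M ≤ M := Cfsg.Agent.Lib.Helper2.BGCor.sigmaCore_le M
  have hσn := Cfsg.Agent.Lib.Helper2.BGCor.le_normalizer_sigmaCore M
  have hcop : (Nat.card K).Coprime (Nat.card (Cfsg.sigmaCore M)) :=
    coprime_kappa_sigma hKU.hall.2.1 le_rfl
  have hKσ : K ⊓ Cfsg.sigmaCore M = ⊥ := (Subgroup.disjoint_of_coprime_natCard hcop).eq_bot
  have hcardKσ : Nat.card ↥(K ⊔ Cfsg.sigmaCore M) = Nat.card K * Nat.card (Cfsg.sigmaCore M) :=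
    card_sup_of_inf_eq_bot K (Cfsg.sigmaCore M) (hKM.trans hσn) hKσ
  have hcompl : Cfsg.Agent.Lib.Helper1.IsComplIn U (K ⊔ Cfsg.sigmaCore M) M := by
    obtain ⟨h1, h2, h3, h4⟩ := hKU.compl
    refine ⟨h1, h2, disjoint_iff.mpr h3, fun γ hγ => ?_⟩
    obtain ⟨a, ha, b, hb, e⟩ := h4 γ hγ
    exact ⟨a, ha, b, hb, e.symm⟩
  have hcardM : Nat.card U * (Nat.card K * Nat.card (Cfsg.sigmaCore M)) = Nat.card M := by
    rw [← hcardKσ]; exact hcompl.card_mul_card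
  ext p
  constructor
  · intro hp
    obtain ⟨hpp, hpM, hpσ, hSyl⟩ := hp
    refine ⟨hpp, hpσ, hpM, ?_, Cfsg.Agent.Lib.Helper2.BGCor.pRankLE_one_of_kappa ⟨hpp, hpM, hpσ, hSyl⟩⟩
    intro hdvd
    rw [hder] at hdvd
    have h1 : Nat.card ↥(U ⊔ Cfsg.sigmaCore M) ∣ Nat.card U * Nat.card (Cfsg.sigmaCore M) :=
      Cfsg.Agent.Lib.Helper21.BG36.card_sup_dvd' U (Cfsg.sigmaCore M) (hUM.trans hσn)
    rcases (Nat.Prime.dvd_mul hpp).mp (hdvd.trans h1) with h2 | h2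
    · -- p ∣ card U contradicts Hall property of K
      have hKUinf : K ⊓ U = ⊥ := by
        have := hKU.compl.2.2.1
        rw [eq_bot_iff, ← this]
        exact le_inf inf_le_right (inf_le_left.trans le_sup_left)
      have hcardKU : Nat.card ↥(K ⊔ U) = Nat.card K * Nat.card U :=
        card_sup_of_inf_eq_bot K U hKU.normal hKUinf
      have hdvdM : Nat.card K * Nat.card U ∣ Nat.card M := by
        rw [← hcardKU]; exact Subgroup.card_dvd_of_le (sup_le hKM hUM)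
      have hrel : Nat.card K * K.relIndex M = Nat.card M := by
        have := Subgroup.relIndex_mul_relIndex ⊥ K M bot_le hKM
        rwa [Subgroup.relIndex_bot_left, Subgroup.relIndex_bot_left] at this
      rw [← hrel] at hdvdM
      have h3 : Nat.card U ∣ K.relIndex M := Nat.dvd_of_mul_dvd_mul_left Nat.card_pos hdvdM
      exact hKU.hall.2.2 p hpp ⟨hpp, hpM, hpσ, hSyl⟩ (h2.trans h3)
    · exact hpσ (Cfsg.Agent.Lib.Helper2.BGCor.primes_card_sigmaCore M p hpp h2)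
  · intro hp
    obtain ⟨hpp, hpσ, hpM, hpder, hrank⟩ := hp
    rw [← hcardM] at hpM
    have hU' : ¬ p ∣ Nat.card U := by
      intro h
      apply hpder
      rw [hder]
      exact h.trans (Subgroup.card_dvd_of_le le_sup_left)
    have hσ' : ¬ p ∣ Nat.card (Cfsg.sigmaCore M) := fun h =>
      hpσ (Cfsg.Agent.Lib.Helper2.BGCor.primes_card_sigmaCore M p hpp h)
    rcases (Nat.Prime.dvd_mul hpp).mp hpM with h | h
    · exact absurd h hU'
    · rcases (Nat.Prime.dvd_mul hpp).mp h with h | h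
      · exact hKU.hall.2.1 p hpp h
      · exact absurd h hσ'

/-- `K*` is a Hall `σ(M)`-subgroup of `M*`. -/
theorem hall_sigma_star [Finite G] (hG : Cfsg.IsMinSimpleOddOrder G) {M Mstar K Ks : Subgroup G}
    (hMstar : IsCoatom Mstar)
    (hK : ∀ p : ℕ, p.Prime → p ∣ Nat.card K → p ∈ Cfsg.kappa M)
    (hKs : Ks ≤ Cfsg.sigmaCore M) (hKs1 : Ks ≠ ⊥) (hKsMs : Ks ≤ Mstar)
    (hcomm : Ks ≤ centralizer (K : Set G))
    (hMMs : M ⊓ Mstar = K ⊔ Ks)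
    (hY : ∀ Y : Subgroup G, (∀ p : ℕ, p.Prime → p ∣ Nat.card Y → p ∈ Cfsg.sigma M) →
      Y ⊓ Ks ≠ ⊥ → Y ≤ Cfsg.sigmaCore M) :
    Cfsg.IsPiHallOf (Cfsg.sigma M) Ks Mstar := by
  have hprimes : ∀ p : ℕ, p.Prime → p ∣ Nat.card Ks → p ∈ Cfsg.sigma M := fun p hp h =>
    Cfsg.Agent.Lib.Helper2.BGCor.primes_card_sigmaCore M p hp (h.trans (Subgroup.card_dvd_of_le hKs))
  obtain ⟨Y, hYhall, hKsY⟩ :=
    Cfsg.Agent.Lib.Helper2.BGCor.exists_hall_ge hG hMstar (Cfsg.sigma M) hKsMs hprimes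
  have hYσ : Y ≤ Cfsg.sigmaCore M := by
    apply hY Y hYhall.2.1
    rw [inf_eq_right.mpr hKsY]
    exact hKs1
  have hcop : (Nat.card K).Coprime (Nat.card (Cfsg.sigmaCore M)) := coprime_kappa_sigma hK le_rfl
  have hKσ : K ⊓ Cfsg.sigmaCore M = ⊥ := (Subgroup.disjoint_of_coprime_natCard hcop).eq_bot
  have hYKs : Y ≤ Ks := by
    intro z hz
    have hzZ : z ∈ K ⊔ Ks := by
      rw [← hMMs]
      exact mem_inf.mpr ⟨(Cfsg.Agent.Lib.Helper2.BGCor.sigmaCore_le M) (hYσ hz), hYhall.1 hz⟩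
    obtain ⟨x, hx, y, hy, rfl⟩ := exists_mul_of_mem_sup hcomm hzZ
    have hxσ : x ∈ Cfsg.sigmaCore M := by
      have : x = (x * y) * y⁻¹ := by group
      rw [this]
      exact mul_mem (hYσ hz) (inv_mem (hKs hy))
    have : x ∈ K ⊓ Cfsg.sigmaCore M := mem_inf.mpr ⟨hx, hxσ⟩
    rw [hKσ, mem_bot] at this
    rw [this, one_mul]; exact hy
  have hYeq : Y = Ks := le_antisymm hYKs hKsY
  rw [← hYeq]; exact hYhall

end Cfsg.Agent.Lib.Helper21.BG147
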