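import Mathlib
import Cfsg.Agent.Lib.Helper16.SLMinDefs
import Cfsg.Agent.Lib.Helper29.SLMinC0

/-!
# S2332, stage 1 (leaf C2): relations

* the stage-0 relations between `rx`, `ra`, `rb` in `SL (Unit ⊕ (Unit ⊕ J)) F`;
* their images under `emb` in `SL (Unit ⊕ (Unit ⊕ (Unit ⊕ J))) F`;
* the fixed space `wt ρ rad 0` of the first-row radical is stable under `emb`.
-/

set_option autoImplicit false

namespace Cfsg.Agent.Lib.Helper21.SLMin

open Matrix Module Cfsg.Agent.Lib.Helper16.SLMin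

section elim

variable {F : Type*} [AddMonoid F] {A B : Type*}

theorem elim_add_elim (a a' : A → F) (b b' : B → F) :
    Sum.elim (a + a') (b + b') = Sum.elim a b + Sum.elim a' b' := by
  funext i
  cases i <;> rfl

theorem elim_add_zero (a a' : A → F) :
    (Sum.elim (a + a') (0 : B → F)) = Sum.elim a (0 : B → F) + Sum.elim a' (0 : B → F) := by
  rw [← elim_add_elim, add_zero]

theorem elim_zero_add (b b' : B → F) :
    (Sum.elim (0 : A → F) (b + b')) = Sum.elim (0 : A → F) b + Sum.elim (0 : A → F) b' := by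
  rw [← elim_add_elim, add_zero]

theorem elim_eq_add (a : A → F) (b : B → F) :
    Sum.elim a b = Sum.elim a (0 : B → F) + Sum.elim (0 : A → F) b := by
  rw [← elim_add_elim, add_zero, zero_add]

end elim

section rel0

variable {F : Type*} [Field F] {J : Type*} [Fintype J] [DecidableEq J]

theorem rx_add (s t : Unit → F) :
    (rx (s + t) : SpecialLinearGroup (Unit ⊕ (Unit ⊕ J)) F) = rx s * rx t := by
  unfold rx
  rw [elim_add_zero, rad_add]

theorem ra_add (v w : J → F) :
    (ra (v + w) : SpecialLinearGroup (Unit ⊕ (Unit ⊕ J)) F) = ra v * ra w := by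
  unfold ra
  rw [elim_zero_add, rad_add]

theorem rb_add (v w : J → F) :
    (rb (v + w) : SpecialLinearGroup (Unit ⊕ (Unit ⊕ J)) F) = rb v * rb w := by
  unfold rb
  rw [rad_add, map_mul]

theorem rad_comm {ι' : Type*} [Fintype ι'] [DecidableEq ι'] (r s : ι' → F) :
    (rad r : SpecialLinearGroup (Unit ⊕ ι') F) * rad s = rad s * rad r := by
  rw [← rad_add, ← rad_add, add_comm]

theorem rx_ra_comm (t : Unit → F) (v : J → F) :
    (rx t : SpecialLinearGroup (Unit ⊕ (Unit ⊕ J)) F) * ra v = ra v * rx t :=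
  rad_comm _ _

theorem rad_mul_rb (u : Unit ⊕ J → F) (w : J → F) :
    (rad u : SpecialLinearGroup (Unit ⊕ (Unit ⊕ J)) F) * rb w =
      rb w * rad (Sum.elim (u ∘ Sum.inl) ((u (Sum.inl ())) • w + u ∘ Sum.inr)) := by
  unfold rb
  rw [Cfsg.Agent.Lib.Helper29.SLMin.rad_mul_emb]
  congr 2
  rw [rad_coe, vecMul_fromBlocks]
  congr 1
  · simp
  · funext j
    simp [vecMul, dotProduct]

theorem ra_rb_comm (v w : J → F) :
    (ra v : SpecialLinearGroup (Unit ⊕ (Unit ⊕ J)) F) * rb w = rb w * ra v := by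
  unfold ra
  rw [rad_mul_rb]
  congr 2
  funext i
  cases i <;> simp

theorem rx_mul_rb (t : Unit → F) (w : J → F) :
    (rx t : SpecialLinearGroup (Unit ⊕ (Unit ⊕ J)) F) * rb w = rb w * (rx t * ra (t () • w)) := by
  unfold rx ra
  rw [rad_mul_rb, ← rad_add]
  congr 2
  funext i
  cases i <;> simp

theorem rx_rb_conj (t : Unit → F) (w : J → F) :
    (rx t : SpecialLinearGroup (Unit ⊕ (Unit ⊕ J)) F) * rb w * (rx t)⁻¹ = rb w * ra (t () • w) := by
  rw [rx_mul_rb, rx_ra_comm, mul_assoc, mul_assoc, mul_inv_cancel, mul_one]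

end rel0

section rel1

variable {F : Type*} [Field F] {J : Type*} [Fintype J] [DecidableEq J]

/-- `x₁ = emb ∘ rx` (the root group `1 + t E₂₃`) -/
theorem x1_add (s t : Unit → F) :
    (emb (rx (s + t)) : SpecialLinearGroup (Unit ⊕ (Unit ⊕ (Unit ⊕ J))) F) =
      emb (rx s) * emb (rx t) := by
  rw [rx_add, map_mul]

theorem a1_add (v w : J → F) :
    (emb (ra (v + w)) : SpecialLinearGroup (Unit ⊕ (Unit ⊕ (Unit ⊕ J))) F) =
      emb (ra v) * emb (ra w) := by
  rw [ra_add, map_mul]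

theorem b1_add (v w : J → F) :
    (emb (rb (v + w)) : SpecialLinearGroup (Unit ⊕ (Unit ⊕ (Unit ⊕ J))) F) =
      emb (rb v) * emb (rb w) := by
  rw [rb_add, map_mul]

theorem x1_a1_comm (t : Unit → F) (v : J → F) :
    (emb (rx t) : SpecialLinearGroup (Unit ⊕ (Unit ⊕ (Unit ⊕ J))) F) * emb (ra v) =
      emb (ra v) * emb (rx t) := by
  rw [← map_mul, rx_ra_comm, map_mul]

theorem a1_b1_comm (v w : J → F) :
    (emb (ra v) : SpecialLinearGroup (Unit ⊕ (Unit ⊕ (Unit ⊕ J))) F) * emb (rb w) =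
      emb (rb w) * emb (ra v) := by
  rw [← map_mul, ra_rb_comm, map_mul]

theorem x1_b1_conj (t : Unit → F) (w : J → F) :
    (emb (rx t) : SpecialLinearGroup (Unit ⊕ (Unit ⊕ (Unit ⊕ J))) F) * emb (rb w) *
      (emb (rx t))⁻¹ = emb (rb w) * emb (ra (t () • w)) := by
  rw [← map_inv, ← map_mul, ← map_mul, rx_rb_conj, map_mul]

end rel1

section N0

variable {F : Type*} [Field F] [Fintype F] {M : Type*} [AddCommGroup M] [Module ℂ M]
  {ι' : Type*} [Fintype ι'] [DecidableEq ι']

/-- the fixed space of the first-row radical is stable under `emb (SL ι')` -/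
theorem rho_emb_mem_N0 (ρ : Representation ℂ (SpecialLinearGroup (Unit ⊕ ι') F) M)
    (g : SpecialLinearGroup ι' F) (m : M) (hm : m ∈ wt ρ (rad (F := F) (ι' := ι')) 0) :
    ρ (emb g) m ∈ wt ρ (rad (F := F) (ι' := ι')) 0 := by
  have h := Cfsg.Agent.Lib.Helper29.SLMin.map_mem_wt ρ g 0 m hm
  rwa [mulVec_zero] at h

end N0

end Cfsg.Agent.Lib.Helper21.SLMin
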