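import Mathlib
import Cfsg.Agent.Lib.Helper16.SLMinDefs
import Cfsg.Agent.Lib.Helper13.SLMinW
import Cfsg.Agent.Lib.Helper10.SLMinStage
import Cfsg.Agent.Lib.Helper21.SLMinC2Rel

/-!
# S2332, leaf C2 (`stage1`): assembly

`stage1_of` : the conclusion of `stage1` from the three inputs `hC`, `hM2`, `hMix` of the abstract
stage lemma (helper10's `stage_abstract`) for `x = emb ∘ rx`, `α = emb ∘ ra`, `β = emb ∘ rb`,
`N₀ = wt ρ rad 0` in `SL (Unit ⊕ (Unit ⊕ (Unit ⊕ J))) F`.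
-/

set_option autoImplicit false

namespace Cfsg.Agent.Lib.Helper21.SLMin

open Matrix Module Cfsg.Agent.Lib.Helper16.SLMin Cfsg.Agent.Lib.Helper13.SLMin

section C2

variable {F : Type*} [Field F] [Fintype F] [DecidableEq F] {M : Type*} [AddCommGroup M]
  [Module ℂ M] [FiniteDimensional ℂ M] {J : Type*} [Fintype J] [DecidableEq J]
  (ρ : Representation ℂ (SpecialLinearGroup (Unit ⊕ (Unit ⊕ (Unit ⊕ J))) F) M)

/-- splitting the weights of the row-2 radical `rb` of `emb (SL (Unit ⊕ (Unit ⊕ J)))` -/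
theorem wt_rb_elim (a : Unit → F) (v : J → F) :
    wt ρ (rb (F := F) (J := Unit ⊕ J)) (Sum.elim a v) =
      wt ρ (fun t : Unit → F => emb (rx (F := F) (J := J) t)) a ⊓
        wt ρ (fun v : J → F => emb (ra (F := F) (J := J) v)) v :=
  wt_sum_elim ρ (rb (F := F) (J := Unit ⊕ J)) (fun r s => rb_add r s) a v

/-- `hM1` of the abstract stage lemma, from the conclusion `h0` of stage 0 -/
theorem stage1_hM1
    (h0 : ∀ w : Unit ⊕ J → F, w ≠ 0 →
      finrank ℂ ↥(wt ρ (rad (F := F) (ι' := Unit ⊕ (Unit ⊕ J))) 0 ⊓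
        wt ρ (rb (F := F) (J := Unit ⊕ J)) w) = 1)
    (a : Unit → F) (v : J → F) (hav : a ≠ 0 ∨ v ≠ 0) :
    finrank ℂ ↥(wt ρ (rad (F := F) (ι' := Unit ⊕ (Unit ⊕ J))) 0 ⊓
      wt ρ (fun t : Unit → F => emb (rx (F := F) (J := J) t)) a ⊓
      wt ρ (fun v : J → F => emb (ra (F := F) (J := J) v)) v) = 1 := by
  have hne : Sum.elim a v ≠ 0 := by
    intro h
    rcases hav with ha | hv
    · apply ha
      funext u
      have := congrFun h (Sum.inl u)
      simpa using this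
    · apply hv
      funext j
      have := congrFun h (Sum.inr j)
      simpa using this
  have h := h0 (Sum.elim a v) hne
  rw [wt_rb_elim, ← inf_assoc] at h
  exact h

/-- the conclusion of `stage1` from the inputs `hC`, `hM2`, `hMix` of the abstract stage lemma -/
theorem stage1_of
    (h0 : ∀ w : Unit ⊕ J → F, w ≠ 0 →
      finrank ℂ ↥(wt ρ (rad (F := F) (ι' := Unit ⊕ (Unit ⊕ J))) 0 ⊓
        wt ρ (rb (F := F) (J := Unit ⊕ J)) w) = 1)
    (hM2 : ∀ w : J → F, w ≠ 0 →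
      finrank ℂ ↥(wt ρ (rad (F := F) (ι' := Unit ⊕ (Unit ⊕ J))) 0 ⊓
        wt ρ (fun w : J → F => emb (rb (F := F) (J := J) w)) w) = Fintype.card F)
    (hC : ∀ v w : J → F, LinearIndependent F ![v, w] →
      wt ρ (rad (F := F) (ι' := Unit ⊕ (Unit ⊕ J))) 0 ⊓
        wt ρ (fun v : J → F => emb (ra (F := F) (J := J) v)) v ⊓
        wt ρ (fun w : J → F => emb (rb (F := F) (J := J) w)) w = ⊥)
    (hMix : ∀ a : Unit → F, a ≠ 0 → ∀ w : J → F, w ≠ 0 →
      ∃ (g : SpecialLinearGroup (Unit ⊕ (Unit ⊕ (Unit ⊕ J))) F) (w' : J → F), w' ≠ w ∧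
      Submodule.map (ρ g) (wt ρ (rad (F := F) (ι' := Unit ⊕ (Unit ⊕ J))) 0 ⊓
        wt ρ (fun t : Unit → F => emb (rx (F := F) (J := J) t)) a ⊓
        wt ρ (fun v : J → F => emb (ra (F := F) (J := J) v)) 0) =
        wt ρ (rad (F := F) (ι' := Unit ⊕ (Unit ⊕ J))) 0 ⊓
        wt ρ (fun t : Unit → F => emb (rx (F := F) (J := J) t)) a ⊓
        wt ρ (fun v : J → F => emb (ra (F := F) (J := J) v)) 0 ∧
      Submodule.map (ρ g) (wt ρ (rad (F := F) (ι' := Unit ⊕ (Unit ⊕ J))) 0 ⊓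
        wt ρ (fun v : J → F => emb (ra (F := F) (J := J) v)) 0 ⊓
        wt ρ (fun w : J → F => emb (rb (F := F) (J := J) w)) w) =
        wt ρ (rad (F := F) (ι' := Unit ⊕ (Unit ⊕ J))) 0 ⊓
        wt ρ (fun v : J → F => emb (ra (F := F) (J := J) v)) 0 ⊓
        wt ρ (fun w : J → F => emb (rb (F := F) (J := J) w)) w') :
    ∀ w : J → F, w ≠ 0 →
      finrank ℂ ↥(wt ρ (rad (F := F) (ι' := Unit ⊕ (Unit ⊕ J))) 0 ⊓
        wt ρ (rb (F := F) (J := Unit ⊕ J)) 0 ⊓
        wt ρ (fun w : J → F => emb (rb (F := F) (J := J) w)) w) = 1 := by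
  intro w hw
  have hA := Cfsg.Agent.Lib.Helper10.SLMin.stage_abstract ρ
    (fun t : Unit → F => emb (rx (F := F) (J := J) t))
    (fun v : J → F => emb (ra (F := F) (J := J) v))
    (fun w : J → F => emb (rb (F := F) (J := J) w))
    (fun s t => x1_add s t) (fun r s => a1_add r s) (fun r s => b1_add r s)
    (fun t v => x1_a1_comm t v) (fun v w => a1_b1_comm v w) (fun t w => x1_b1_conj t w)
    (wt ρ (rad (F := F) (ι' := Unit ⊕ (Unit ⊕ J))) 0)
    (fun t m hm => rho_emb_mem_N0 ρ _ m hm) (fun v m hm => rho_emb_mem_N0 ρ _ m hm)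
    (fun w m hm => rho_emb_mem_N0 ρ _ m hm)
    (fun a v hav => stage1_hM1 ρ h0 a v hav) hM2 hC hMix w hw
  have h00 : (0 : Unit ⊕ J → F) = Sum.elim (0 : Unit → F) (0 : J → F) := by
    funext i
    cases i <;> rfl
  rw [h00, wt_rb_elim, ← inf_assoc]
  exact hA

end C2

end Cfsg.Agent.Lib.Helper21.SLMin
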