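import Mathlib
import Cfsg.Agent.Lib.Helper16.SLMinDefs
import Cfsg.Agent.Lib.Helper21.SLMinC2
import Cfsg.Agent.Lib.Helper7.SLMinC2M2
import Cfsg.Agent.Lib.Helper10.SLMinC2X

/-!
# S2332, leaf C2 (`stage1`): everything wired except the rank-2 exclusion `hC`
-/

set_option autoImplicit false

namespace Cfsg.Agent.Lib.Helper21.SLMin

open Matrix Module Cfsg.Agent.Lib.Helper16.SLMin

section C2

variable {F : Type*} [Field F] [Fintype F] [DecidableEq F] {M : Type*} [AddCommGroup M]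
  [Module ℂ M] [FiniteDimensional ℂ M] {J : Type*} [Fintype J] [DecidableEq J]

/-- `stage1` with the rank-2 exclusion (C2-C) as the only open input -/
theorem stage1_core
    (ρ : Representation ℂ (SpecialLinearGroup (Unit ⊕ (Unit ⊕ (Unit ⊕ J))) F) M)
    (hm1 : ∀ u : Unit ⊕ (Unit ⊕ J) → F, u ≠ 0 →
      finrank ℂ ↥(wt ρ (rad (F := F) (ι' := Unit ⊕ (Unit ⊕ J))) u) = 1)
    (h0 : ∀ w : Unit ⊕ J → F, w ≠ 0 →
      finrank ℂ ↥(wt ρ (rad (F := F) (ι' := Unit ⊕ (Unit ⊕ J))) 0 ⊓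
        wt ρ (rb (F := F) (J := Unit ⊕ J)) w) = 1)
    (hgen : 2 ≤ Fintype.card J ∨ (Fintype.card J = 1 ∧ 3 ≤ Fintype.card F))
    (hC : ∀ v w : J → F, LinearIndependent F ![v, w] →
      wt ρ (rad (F := F) (ι' := Unit ⊕ (Unit ⊕ J))) 0 ⊓
        wt ρ (fun v : J → F => emb (ra (F := F) (J := J) v)) v ⊓
        wt ρ (fun w : J → F => emb (rb (F := F) (J := J) w)) w = ⊥) :
    ∀ w : J → F, w ≠ 0 →
      finrank ℂ ↥(wt ρ (rad (F := F) (ι' := Unit ⊕ (Unit ⊕ J))) 0 ⊓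
        wt ρ (rb (F := F) (J := Unit ⊕ J)) 0 ⊓
        wt ρ (fun w : J → F => emb (rb (F := F) (J := J) w)) w) = 1 := by
  refine stage1_of ρ h0 (Cfsg.Agent.Lib.Helper7.SLMin.stage1_hM2 ρ hm1 h0) hC ?_
  rcases hgen with h2 | ⟨h1, hq⟩
  · exact Cfsg.Agent.Lib.Helper10.SLMin.stage1_hMix_ge2 ρ h2
  · exact Cfsg.Agent.Lib.Helper10.SLMin.stage1_hMix_eq1 ρ h1 hq

end C2

end Cfsg.Agent.Lib.Helper21.SLMin
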