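import Mathlib
import Cfsg.Agent.Lib.Helper16.SLMinDefs
import Cfsg.Agent.Lib.Helper21.SLMinC2S
import Cfsg.Agent.Lib.Helper5.SLMinC2C

/-!
# S2332, leaf C2: `stage1` (helper16's exact name and binders)

`stage_abstract` (helper10) for `x = emb ∘ rx`, `α = emb ∘ ra`, `β = emb ∘ rb`, `N₀ = wt ρ rad 0`, with
`hM1` from `h0` (W6), `hM2` = helper7 `stage1_hM2`, `hC` = helper5 `stage1_hC` (three-row argument),
`hMix` = helper10 `stage1_hMix_ge2` / `stage1_hMix_eq1`.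
-/

set_option autoImplicit false

namespace Cfsg.Agent.Lib.Helper21.SLMin

open Matrix Module Cfsg.Agent.Lib.Helper16.SLMin

section C

variable {F : Type*} [Field F] [Fintype F] [DecidableEq F] {M : Type*} [AddCommGroup M]
  [Module ℂ M] [FiniteDimensional ℂ M]

/-- C2: stage 1 (one more row, inside the fixed space of the first row radical). -/
theorem stage1 {J : Type*} [Fintype J] [DecidableEq J]
    (ρ : Representation ℂ (SpecialLinearGroup (Unit ⊕ (Unit ⊕ (Unit ⊕ J))) F) M)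
    (hm1 : ∀ u : Unit ⊕ (Unit ⊕ J) → F, u ≠ 0 →
      finrank ℂ ↥(wt ρ (rad (F := F) (ι' := Unit ⊕ (Unit ⊕ J))) u) = 1)
    (h0 : ∀ w : Unit ⊕ J → F, w ≠ 0 →
      finrank ℂ ↥(wt ρ (rad (F := F) (ι' := Unit ⊕ (Unit ⊕ J))) 0 ⊓
        wt ρ (rb (F := F) (J := Unit ⊕ J)) w) = 1)
    (hgen : 2 ≤ Fintype.card J ∨ (Fintype.card J = 1 ∧ 3 ≤ Fintype.card F)) :
    ∀ w : J → F, w ≠ 0 →
      finrank ℂ ↥(wt ρ (rad (F := F) (ι' := Unit ⊕ (Unit ⊕ J))) 0 ⊓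
        wt ρ (rb (F := F) (J := Unit ⊕ J)) 0 ⊓
        wt ρ (fun w : J → F => emb (rb (F := F) (J := J) w)) w) = 1 :=
  stage1_core ρ hm1 h0 hgen (Cfsg.Agent.Lib.Helper5.SLMin.stage1_hC ρ hm1)

end C

end Cfsg.Agent.Lib.Helper21.SLMin
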