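import Mathlib
import Cfsg.Agent.Lib.Helper24.BGC2TB
import Cfsg.Agent.Lib.Helper9.BG144A
import Cfsg.Agent.Lib.Helper16.BGPrimG
import Cfsg.Agent.Lib.Helper23.BG1215A
import Cfsg.Agent.Lib.Helper21.BG131F
import Cfsg.Agent.S1404
import Cfsg.Agent.S1420

/-!
# B & G 14.7(a)-(d): partner theory (helper21), part A

Paper proof: `notes/bg14/NOTES_h21.md`.  Hypothesis Props: `SP G` (S1378, helper9's shape),
`H30 G` (S1430 for every maximal subgroup, helper2's `T142`).
-/

set_option autoImplicit false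
set_option linter.unusedVariables false
open scoped commutatorElement

namespace Cfsg.Agent.Lib.Helper21.BGPart

open Cfsg
open Cfsg.Agent.Lib.Helper9.BG144 (SP)
open Cfsg.Agent.Lib.Helper2.BGCor (T142)
open Cfsg.Agent.Lib.Helper8 (mem_map_conj conj_mem_map_conj map_conj_map_conj map_conj_one
  map_conj_le_iff map_conj_eq_iff)

variable {G : Type*} [Group G]

/-- S1430 for every maximal subgroup. -/
def H30 (G : Type*) [Group G] : Prop :=
  ∀ N : Subgroup G, IsCoatom N → ∀ K : Subgroup G, Cfsg.IsPiHallOf (Cfsg.kappa N) K N → K ≠ ⊥ →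
    T142 N K

/-- **(2)**: two maximal subgroups `H`, `H'` with a common prime `q ∈ σ(H) ∩ σ(H')`, a non-identity
`q`-subgroup `X ≤ H` and `N_G(X) ≤ H'` are equal. -/
theorem eq_of_sigma_of_normalizer_le [Finite G] (hG : Cfsg.IsMinSimpleOddOrder G) (hSP : SP G)
    {H H' : Subgroup G} (hH : IsCoatom H) (hH' : IsCoatom H') {q : ℕ} [Fact q.Prime]
    (hq : q ∈ Cfsg.sigma H) (hq' : q ∈ Cfsg.sigma H') {X : Subgroup G} (hXq : IsPGroup q X)
    (hX1 : X ≠ ⊥) (hXH : X ≤ H) (hN : Subgroup.normalizer (X : Set G) ≤ H') : H' = H := by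
  obtain ⟨g, hg⟩ := hSP H H' hH hH' ⟨q, hq, hq'⟩
  have hXH' : X ≤ H' := Subgroup.le_normalizer.trans hN
  have h1 : X.map (MulAut.conj g⁻¹).toMonoidHom ≤ H := by
    rw [map_conj_le_iff, inv_inv, ← hg]
    exact hXH'
  obtain ⟨m, hm, c, hc, hgmc⟩ :=
    (Cfsg.Agent.S1404.result hG H hH q hq X hXq hX1 hXH).1 g⁻¹ h1
  have hcH' : c ∈ H' := hN (Subgroup.centralizer_le_normalizer _ hc)
  have hgeq : g = c⁻¹ * m⁻¹ := by
    have : g = (g⁻¹)⁻¹ := (inv_inv g).symm
    rw [this, hgmc, mul_inv_rev]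
  have hH'c : H' = H.map (MulAut.conj c⁻¹).toMonoidHom := by
    rw [hg, hgeq, ← map_conj_map_conj]
    congr 1
    apply le_antisymm
    · intro x hx
      rw [mem_map_conj] at hx
      have : x = m⁻¹ * (m⁻¹⁻¹ * x * m⁻¹) * m := by group
      rw [this]
      exact H.mul_mem (H.mul_mem (H.inv_mem hm) hx) hm
    · intro x hx
      rw [mem_map_conj]
      exact H.mul_mem (H.mul_mem (by simpa using hm) hx) (H.inv_mem hm)
  have hcH : c ∈ H := by
    have h2 : c⁻¹ ∈ H' := H'.inv_mem hcH'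
    rw [hH'c, mem_map_conj] at h2
    have : c⁻¹⁻¹ * c⁻¹ * c⁻¹ = c⁻¹ := by group
    rw [this] at h2
    simpa using H.inv_mem h2
  rw [hH'c]
  apply le_antisymm
  · intro x hx
    rw [mem_map_conj] at hx
    have : x = c⁻¹ * (c⁻¹⁻¹ * x * c⁻¹) * c := by group
    rw [this]
    exact H.mul_mem (H.mul_mem (H.inv_mem hcH) hx) hcH
  · intro x hx
    rw [mem_map_conj]
    exact H.mul_mem (H.mul_mem (by simpa using hcH) hx) (H.inv_mem hcH)

end Cfsg.Agent.Lib.Helper21.BGPart
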