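import Mathlib
import Cfsg.Agent.Lib.Helper21.BGPartA
import Cfsg.Agent.Lib.Helper24.BGPStrA

/-!
# B & G 14.7(a)-(d): partner theory (helper21), part B: steps (0)-(4)

Root data: `M` maximal, `K ≠ 1` a Hall `κ(M)`-subgroup with `T142 M K`; `X ≤ K` of prime order,
`H` a maximal subgroup over `N_G(X)`.  `K* := sigmaCore M ⊓ centralizer K`.
-/

set_option autoImplicit false
set_option linter.unusedVariables false
set_option linter.unusedSectionVars false
open scoped commutatorElement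

namespace Cfsg.Agent.Lib.Helper21.BGPart

open Cfsg
open Cfsg.Agent.Lib.Helper9.BG144 (SP)
open Cfsg.Agent.Lib.Helper2.BGCor (T142 sigmaCore_le primes_card_sigmaCore)
open Cfsg.Agent.Lib.Helper24.BGC2C (exists_generator_of_prime_card)
open Cfsg.Agent.Lib.Helper23.BG1215 (h16 h17 h17n h18a h18e h22 h23 h23b h24)
open Cfsg.Agent.Lib.Helper8 (mem_map_conj conj_mem_map_conj map_conj_map_conj map_conj_one
  map_conj_le_iff map_conj_eq_iff)

universe u

variable {G : Type u} [Group G] [Finite G]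

section root

variable (hG : Cfsg.IsMinSimpleOddOrder G) {M K : Subgroup G} (hM : IsCoatom M)
  (hK : Cfsg.IsPiHallOf (Cfsg.kappa M) K M) (hT : T142 M K)
  {X : Subgroup G} (hXK : X ≤ K) (hXp : (Nat.card X).Prime)

include hK hXK hXp

theorem X_ne_bot : X ≠ ⊥ := by
  intro h
  rw [h, Subgroup.card_bot] at hXp
  exact Nat.not_prime_one hXp

theorem isPGroup_X : IsPGroup (Nat.card X) X :=
  IsPGroup.of_card (n := 1) (by rw [pow_one])

theorem X_le_M : X ≤ M := hXK.trans hK.1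

theorem card_mem_kappa : Nat.card X ∈ Cfsg.kappa M :=
  hK.2.1 _ hXp (Subgroup.card_dvd_of_le hXK)

theorem card_not_mem_sigma : Nat.card X ∉ Cfsg.sigma M := (card_mem_kappa hK hXK hXp).2.2.1

theorem rank_one : Cfsg.PRankLE (Nat.card X) 1 ↥M :=
  Cfsg.Agent.Lib.Helper2.BGCor.pRankLE_one_of_kappa (card_mem_kappa hK hXK hXp)

include hT

/-- `C_{M_σ}(X) = K*`. -/
theorem cent_X : Cfsg.sigmaCore M ⊓ Subgroup.centralizer (X : Set G) =
    Cfsg.sigmaCore M ⊓ Subgroup.centralizer (K : Set G) := by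
  obtain ⟨y, hyX, hy1, -, -⟩ := exists_generator_of_prime_card hXp rfl
  rw [← Cfsg.Agent.Lib.Helper24.BG36Nab.centralizer_singleton_eq_of_prime_card hXp hyX hy1,
    hT.1 y (hXK hyX) hy1]

/-- **(0)** `K* ≠ 1`. -/
theorem kstar_ne_bot : Cfsg.sigmaCore M ⊓ Subgroup.centralizer (K : Set G) ≠ ⊥ := by
  have hκ := card_mem_kappa hK hXK hXp
  have : Fact (Nat.card X).Prime := ⟨hXp⟩
  -- a Sylow subgroup of `M` containing `X`
  have hXq : IsPGroup (Nat.card X) (X.subgroupOf M) := (isPGroup_X hK hXK hXp).comap_subtype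
  obtain ⟨P, hP⟩ := hXq.exists_le_sylow
  obtain ⟨-, x, hxP, hx1, y, hy, hy1, hxy⟩ := hκ.2.2.2 P
  -- `P` is cyclic, so `x` has a power generating the subgroup of order `p`, which is `X`
  -- simpler: use `X` itself: its generator centralizes something? we go through orders.
  intro hbot
  -- the subgroup `⟨x⟩ ∩ ...`: use that `X.subgroupOf M ≤ P` is the unique subgroup of order `p`
  have hcyc : IsCyclic ↥(P : Subgroup ↥M) := (hκ.2.2.2 P).1
  -- some power of `x` has order `p` and lies in `X.subgroupOf M`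
  have hx1' : orderOf x ≠ 1 := fun h => hx1 (orderOf_eq_one_iff.mp h)
  have hxo : orderOf x ∣ Nat.card (P : Subgroup ↥M) := by
    have := orderOf_dvd_natCard (⟨x, hxP⟩ : (P : Subgroup ↥M))
    rwa [Subgroup.orderOf_mk] at this
  obtain ⟨k, hk⟩ := IsPGroup.iff_card.mp P.isPGroup'
  rw [hk] at hxo
  obtain ⟨j, hj, hxj⟩ := (Nat.dvd_prime_pow hXp).mp hxo
  have hj0 : j ≠ 0 := by
    rintro rfl
    rw [pow_zero] at hxj
    exact hx1' hxj
  -- `z := x ^ (p ^ (j-1))` has order `p`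
  obtain ⟨z, hzdef⟩ : ∃ z : ↥M, z = x ^ (Nat.card X) ^ (j - 1) := ⟨_, rfl⟩
  have hzo : orderOf z = Nat.card X := by
    rw [hzdef, orderOf_pow' x (pow_ne_zero _ hXp.ne_zero), hxj,
      Nat.gcd_eq_right (pow_dvd_pow _ (Nat.sub_le j 1))]
    rw [Nat.pow_div (Nat.sub_le j 1) hXp.pos]
    have : j - (j - 1) = 1 := by omega
    rw [this, pow_one]
  have hzP : z ∈ (P : Subgroup ↥M) := hzdef ▸ Subgroup.pow_mem _ hxP _
  -- `zpowers z = X.subgroupOf M` (unique subgroup of order `p` in the cyclic group `P`)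
  have hzX : Subgroup.zpowers z = X.subgroupOf M := by
    have := hcyc
    have h1 : Subgroup.zpowers z ≤ (P : Subgroup ↥M) := Subgroup.zpowers_le.mpr hzP
    have hc1 : Nat.card (Subgroup.zpowers z) = Nat.card X := by rw [Nat.card_zpowers, hzo]
    have hc2 : Nat.card (X.subgroupOf M) = Nat.card X :=
      Nat.card_congr (Subgroup.subgroupOfEquivOfLe (X_le_M hK hXK hXp)).toEquiv
    exact Cfsg.Agent.Lib.Helper9.eq_of_card_eq_of_le_isCyclic (P : Subgroup ↥M) _ _ h1 hP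
      (hc1.trans hc2.symm)
  -- `y` is centralized by `z`, `z ∈ X ≤ K`, `z ≠ 1`
  have hzK : (z : G) ∈ K := by
    have : z ∈ X.subgroupOf M := hzX ▸ Subgroup.mem_zpowers z
    exact hXK (Subgroup.mem_subgroupOf.mp this)
  have hz1 : (z : G) ≠ 1 := by
    intro h
    have : z = 1 := Subtype.ext h
    rw [this, orderOf_one] at hzo
    exact Nat.not_prime_one (hzo ▸ hXp)
  have hzy : (z : G) * y = y * (z : G) := by
    have h1 : Commute (x : G) y := hxy
    have : (z : G) = (x : G) ^ (Nat.card X) ^ (j - 1) := by rw [hzdef]; rfl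
    rw [this]
    exact (h1.pow_left _).eq
  have hmem : y ∈ Cfsg.sigmaCore M ⊓ Subgroup.centralizer ({(z : G)} : Set G) := by
    refine Subgroup.mem_inf.mpr ⟨hy, ?_⟩
    rw [Subgroup.mem_centralizer_singleton_iff]
    exact hzy.symm
  rw [hT.1 z hzK hz1, hbot, Subgroup.mem_bot] at hmem
  exact hy1 hmem

end root


/-! ### the partner `H ⊇ N_G(X)` -/

section partner

variable (hG : Cfsg.IsMinSimpleOddOrder G) (hSP : SP G) {M K : Subgroup G} (hM : IsCoatom M)
  (hK : Cfsg.IsPiHallOf (Cfsg.kappa M) K M) (hT : T142 M K)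
  {X H : Subgroup G} (hXK : X ≤ K) (hXp : (Nat.card X).Prime)
  (hH : IsCoatom H) (hNH : Subgroup.normalizer (X : Set G) ≤ H)

include hK hT hXK hXp hNH

theorem K_le_H : K ≤ H := by
  have h1 : K ≤ M ⊓ Subgroup.normalizer (X : Set G) := by
    rw [(hT.2.2 X hXK hXp).1]
    exact le_sup_left
  exact (h1.trans inf_le_right).trans hNH

theorem kstar_le_H : Cfsg.sigmaCore M ⊓ Subgroup.centralizer (K : Set G) ≤ H := by
  have h1 : Cfsg.sigmaCore M ⊓ Subgroup.centralizer (K : Set G) ≤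
      M ⊓ Subgroup.normalizer (X : Set G) := by
    rw [(hT.2.2 X hXK hXp).1]
    exact le_sup_right
  exact (h1.trans inf_le_right).trans hNH

include hG hH

theorem zero_H : (∀ g : G, H ≠ M.map (MulAut.conj g).toMonoidHom) ∧
    (Nat.card X ∈ Cfsg.sigma H ∨ Nat.card X ∈ Cfsg.tau2 H) ∧ Nat.card X ∉ Cfsg.tau1 H := by
  have : Fact (Nat.card X).Prime := ⟨hXp⟩
  exact Cfsg.Agent.Lib.Helper16.BGPrim.thm13_2_zero hG hH (card_not_mem_sigma hK hXK hXp)
    (rank_one hK hXK hXp) (isPGroup_X hK hXK hXp) (X_ne_bot hK hXK hXp) hNH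

theorem nonconj_H : ∀ g : G, H ≠ M.map (MulAut.conj g).toMonoidHom :=
  (zero_H hG hK hT hXK hXp hH hNH).1

theorem H_ne_M : H ≠ M := by
  intro h
  apply nonconj_H hG hK hT hXK hXp hH hNH 1
  rw [map_conj_one, h]

/-- **(1)** `X ≤ H_σ`. -/
theorem X_le_sigmaCore_H : X ≤ Cfsg.sigmaCore H := (hT.2.2 X hXK hXp).2.2 H hH hNH

theorem card_mem_sigma_H : Nat.card X ∈ Cfsg.sigma H :=
  primes_card_sigmaCore H _ hXp
    (Subgroup.card_dvd_of_le (X_le_sigmaCore_H hG hK hT hXK hXp hH hNH))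

include hM

/-- **(3)** `M_σ ∩ H = K*`. -/
theorem sigmaCore_inf_H : Cfsg.sigmaCore M ⊓ H =
    Cfsg.sigmaCore M ⊓ Subgroup.centralizer (K : Set G) := by
  have : Fact (Nat.card X).Prime := ⟨hXp⟩
  rw [← cent_X hK hT hXK hXp]
  exact Cfsg.Agent.Lib.Helper16.BGPrim.thm13_2_c hG (h17n hG) (h18a hG) (h23 hG)
    (h24 hG) hM hH (card_not_mem_sigma hK hXK hXp) (rank_one hK hXK hXp)
    (isPGroup_X hK hXK hXp) (X_ne_bot hK hXK hXp) (X_le_M hK hXK hXp) hNH

include hSP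

/-- **(2)** `H` is the only maximal subgroup over `N_G(X)`. -/
theorem partner_unique {L : Subgroup G} (hL : IsCoatom L)
    (hNL : Subgroup.normalizer (X : Set G) ≤ L) : L = H := by
  have : Fact (Nat.card X).Prime := ⟨hXp⟩
  exact eq_of_sigma_of_normalizer_le hG hSP hH hL
    (card_mem_sigma_H hG hK hT hXK hXp hH hNH)
    (card_mem_sigma_H hG hK hT hXK hXp hL hNL) (isPGroup_X hK hXK hXp) (X_ne_bot hK hXK hXp)
    (Subgroup.le_normalizer.trans hNH) hNL

/-- **(4)** the primes of `K*` lie in `κ(H)`, outside `σ(H) ∪ τ₂(H)`. -/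
theorem mem_kappa_H {Y : Subgroup G} {q : ℕ} (hq : q.Prime) (hYc : Nat.card Y = q)
    (hYT : Y ≤ Cfsg.sigmaCore M ⊓ Subgroup.centralizer (K : Set G)) :
    q ∉ Cfsg.sigma H ∧ q ∉ Cfsg.tau2 H ∧ q ∈ Cfsg.kappa H := by
  have : Fact q.Prime := ⟨hq⟩
  have : IsSimpleGroup G := hG.2.1
  obtain ⟨x, hxX, hx1, -, -⟩ := exists_generator_of_prime_card hXp rfl
  obtain ⟨y, hyY, hy1, hyo, hyz⟩ := exists_generator_of_prime_card hq hYc
  have hYσ : Y ≤ Cfsg.sigmaCore M := hYT.trans inf_le_left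
  have hYM : Y ≤ M := hYσ.trans (sigmaCore_le M)
  have hYH : Y ≤ H := hYT.trans (kstar_le_H hK hT hXK hXp hNH)
  have hqM : q ∈ Cfsg.sigma M :=
    primes_card_sigmaCore M q hq (hYc ▸ Subgroup.card_dvd_of_le hYσ)
  have hxσ : x ∈ Cfsg.sigmaCore H := X_le_sigmaCore_H hG hK hT hXK hXp hH hNH hxX
  have hyx : y * x = x * y :=
    (Subgroup.mem_centralizer_iff.mp (hYT hyY).2 x (hXK hxX)).symm
  have hY1 : Y ≠ ⊥ := by
    intro h
    rw [h, Subgroup.card_bot] at hYc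
    exact hq.ne_one hYc.symm
  have hYq : IsPGroup q Y := IsPGroup.of_card (n := 1) (by rw [hYc, pow_one])
  have hqσH : q ∉ Cfsg.sigma H := by
    intro hqH
    obtain ⟨g, hg⟩ := hSP M H hM hH ⟨q, hqM, hqH⟩
    exact nonconj_H hG hK hT hXK hXp hH hNH g hg
  have hqτ2 : q ∉ Cfsg.tau2 H := by
    intro hτ
    obtain ⟨hHall, -, -⟩ := Cfsg.Agent.S1350.result hG H hH
    obtain ⟨EH, hEH⟩ := Cfsg.Agent.Lib.Helper2.BGCor.exists_compl_sigmaCore hHall
    have h20 := (Cfsg.Agent.S1420.result hG H hH EH hEH).2.2.2 y (hYH hyY) hy1 (by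
      intro p hp hd
      rw [hyo] at hd
      rw [(Nat.prime_dvd_prime_iff_eq hp hq).mp hd]
      exact hτ) ⟨hYH hyY, x, hxσ, hx1, hyx⟩
    have hcent : Subgroup.centralizer ({y} : Set G) = Subgroup.centralizer (Y : Set G) :=
      Cfsg.Agent.Lib.Helper24.BG36Nab.centralizer_singleton_eq_of_prime_card (hYc ▸ hq) hyY hy1
    have hNY : Subgroup.normalizer (Y : Set G) ≤ H :=
      Cfsg.Agent.Lib.Helper24.BGReg.normalizer_le_of_unique hY1 hYH hH
        (fun L hL hCL => h20.2 L hL (hcent ▸ hCL))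
    have hbot := (Cfsg.Agent.Lib.Helper2.BGCor.thm12_14fg hG (h16 hG) (h17 hG) (h17n hG)
      (h18e hG) (h24 hG) hM hH (H_ne_M hG hK hT hXK hXp hH hNH) hqM hqσH hYq hY1 hYM hNY).2.2.1
    have : x ∈ Cfsg.sigmaCore H ⊓ M := ⟨hxσ, X_le_M hK hXK hXp hxX⟩
    rw [hbot, Subgroup.mem_bot] at this
    exact hx1 this
  have hrk : Cfsg.PRankLE q 1 ↥H := by
    by_contra h
    exact hqτ2 (Cfsg.Agent.Lib.Helper23.BGY.mem_tau2_of_not_rank_one hG hH hq hqσH h)
  exact ⟨hqσH, hqτ2,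
    Cfsg.Agent.Lib.Helper24.BGReg.mem_kappa_of_fixed hG hq hqσH hrk (hYH hyY) hyo hxσ hx1 hyx⟩

end partner

end Cfsg.Agent.Lib.Helper21.BGPart
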