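import Mathlib
import Cfsg.Agent.Lib.Helper21.BGPartB
import Cfsg.Agent.Lib.Helper4.Basic

/-!
# B & G 14.7(a)-(d): partner theory (helper21), part C: steps (5)-(9)
-/

set_option autoImplicit false
set_option linter.unusedVariables false
set_option linter.unusedSectionVars false
open scoped commutatorElement

namespace Cfsg.Agent.Lib.Helper21.BGPart

open Cfsg
open Cfsg.Agent.Lib.Helper9.BG144 (SP)
open Cfsg.Agent.Lib.Helper2.BGCor (T142 sigmaCore_le primes_card_sigmaCore)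
open Cfsg.Agent.Lib.Helper24.BGC2C (exists_generator_of_prime_card)
open Cfsg.Agent.Lib.Helper23.BG1215 (h16 h17 h17n h18a h18e h22 h23 h23b h24)
open Cfsg.Agent.Lib.Helper8 (mem_map_conj conj_mem_map_conj map_conj_map_conj map_conj_one
  map_conj_le_iff map_conj_eq_iff)

universe u

variable {G : Type u} [Group G] [Finite G]

/-- A `π`-subgroup `N` normalized by a Hall `π`-subgroup `K` of `M` (with `N ≤ M`) lies in `K`. -/
theorem le_of_normal_pi {π : Set ℕ} {N K M : Subgroup G} (hK : Cfsg.IsPiHallOf π K M)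
    (hNM : N ≤ M) (hKN : K ≤ Subgroup.normalizer (N : Set G))
    (hNπ : ∀ p : ℕ, p.Prime → p ∣ Nat.card N → p ∈ π) : N ≤ K := by
  have hmul := Cfsg.Agent.Lib.Helper4.card_sup_mul_card_inf K N hKN
  have hWM : K ⊔ N ≤ M := sup_le hK.1 hNM
  have hWπ : ∀ p : ℕ, p.Prime → p ∣ Nat.card (K ⊔ N : Subgroup G) → p ∈ π := by
    intro p hp hd
    have h1 : p ∣ Nat.card K * Nat.card N := by
      rw [← hmul]
      exact hd.trans (dvd_mul_right _ _)
    rcases (Nat.Prime.dvd_mul hp).mp h1 with h | h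
    · exact hK.2.1 p hp h
    · exact hNπ p hp h
  have h1 : K.relIndex (K ⊔ N) = 1 := by
    by_contra hne
    obtain ⟨p, hp, hpd⟩ := Nat.exists_prime_and_dvd hne
    have h2 : K.relIndex (K ⊔ N) ∣ K.relIndex M := by
      rw [← Subgroup.relIndex_mul_relIndex K (K ⊔ N) M le_sup_left hWM]
      exact dvd_mul_right _ _
    have h3 : p ∣ Nat.card (K ⊔ N : Subgroup G) := hpd.trans (Subgroup.relIndex_dvd_card K _)
    exact hK.2.2 p hp (hWπ p hp h3) (hpd.trans h2)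
  rw [Subgroup.relIndex_eq_one] at h1
  exact le_sup_right.trans h1

section partner2

variable (hG : Cfsg.IsMinSimpleOddOrder G) (hSP : SP G) {M K : Subgroup G} (hM : IsCoatom M)
  (hK : Cfsg.IsPiHallOf (Cfsg.kappa M) K M) (hT : T142 M K)
  {X H : Subgroup G} (hXK : X ≤ K) (hXp : (Nat.card X).Prime)
  (hH : IsCoatom H) (hNH : Subgroup.normalizer (X : Set G) ≤ H)

include hG hSP hM hK hT hXK hXp hH hNH

/-- every prime divisor of `|K*|` lies in `κ(H)`. -/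
theorem primes_kstar_mem_kappa {q : ℕ} (hq : q.Prime)
    (hd : q ∣ Nat.card ↥(Cfsg.sigmaCore M ⊓ Subgroup.centralizer (K : Set G))) :
    q ∈ Cfsg.kappa H := by
  have : Fact q.Prime := ⟨hq⟩
  obtain ⟨u, hu⟩ := exists_prime_orderOf_dvd_card' q hd
  have hYc : Nat.card (Subgroup.zpowers (u : G)) = q := by
    rw [Nat.card_zpowers, Subgroup.orderOf_coe, hu]
  exact (mem_kappa_H hG hSP hM hK hT hXK hXp hH hNH hq hYc
    (Subgroup.zpowers_le.mpr u.2)).2.2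

/-- a Hall `κ(H)`-subgroup `K**` of `H` containing `K*`. -/
theorem exists_hall_kappa_H (h30 : H30 G) :
    ∃ Kss : Subgroup G, Cfsg.IsPiHallOf (Cfsg.kappa H) Kss H ∧
      Cfsg.sigmaCore M ⊓ Subgroup.centralizer (K : Set G) ≤ Kss ∧ Kss ≠ ⊥ ∧ T142 H Kss := by
  have : Group.IsSolvable ↥H := hG.2.2.2 H hH.1
  obtain ⟨Kss, hKss, hle⟩ := Cfsg.Agent.Lib.Helper16.BGPrim.exists_hall_ge' (Cfsg.kappa H)
    (kstar_le_H hK hT hXK hXp hNH)
    (fun q hq hd => primes_kstar_mem_kappa hG hSP hM hK hT hXK hXp hH hNH hq hd)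
  have hne : Kss ≠ ⊥ := by
    intro h
    apply kstar_ne_bot hK hT hXK hXp
    rw [eq_bot_iff, ← h]
    exact hle
  exact ⟨Kss, hKss, hle, hne, h30 H hH Kss hKss hne⟩

end partner2

section partner3

variable (hG : Cfsg.IsMinSimpleOddOrder G) (hSP : SP G) {M K : Subgroup G} (hM : IsCoatom M)
  (hK : Cfsg.IsPiHallOf (Cfsg.kappa M) K M) (hT : T142 M K)
  {X H : Subgroup G} (hXK : X ≤ K) (hXp : (Nat.card X).Prime)
  (hH : IsCoatom H) (hNH : Subgroup.normalizer (X : Set G) ≤ H)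
  {Kss : Subgroup G} (hKss : Cfsg.IsPiHallOf (Cfsg.kappa H) Kss H)
  (hle : Cfsg.sigmaCore M ⊓ Subgroup.centralizer (K : Set G) ≤ Kss) (hT' : T142 H Kss)

include hG hSP hM hK hT hXK hXp hH hNH hKss hle hT'

/-- **(5)** `N_G(Y) ≤ M` for every subgroup `Y ≤ K*` of prime order. -/
theorem normalizer_le_M {Y : Subgroup G} (hYp : (Nat.card Y).Prime)
    (hYT : Y ≤ Cfsg.sigmaCore M ⊓ Subgroup.centralizer (K : Set G)) :
    Subgroup.normalizer (Y : Set G) ≤ M := by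
  have : Fact (Nat.card Y).Prime := ⟨hYp⟩
  have : IsSimpleGroup G := hG.2.1
  have hYK : Y ≤ Kss := hYT.trans hle
  have hY1 : Y ≠ ⊥ := X_ne_bot hKss hYK hYp
  have hYσ : Y ≤ Cfsg.sigmaCore M := hYT.trans inf_le_left
  have hYM : Y ≤ M := hYσ.trans (sigmaCore_le M)
  have hYtop : Y ≠ ⊤ := fun h => hM.1 (top_le_iff.mp (h ▸ hYM))
  obtain ⟨L, hL, hNL⟩ := Cfsg.Agent.Lib.Helper17.BGU.exists_coatom_ge
    (Cfsg.Agent.Lib.Helper17.BGU.normalizer_ne_top hY1 hYtop)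
  have hYL : Y ≤ Cfsg.sigmaCore L := (hT'.2.2 Y hYK hYp).2.2 L hL hNL
  have hqL : Nat.card Y ∈ Cfsg.sigma L :=
    primes_card_sigmaCore L _ hYp (Subgroup.card_dvd_of_le hYL)
  have hqM : Nat.card Y ∈ Cfsg.sigma M :=
    primes_card_sigmaCore M _ hYp (Subgroup.card_dvd_of_le hYσ)
  have hLM : L = M := eq_of_sigma_of_normalizer_le hG hSP hM hL hqM hqL
    (isPGroup_X hKss hYK hYp) hY1 hYM hNL
  exact hLM ▸ hNL

/-- `C_G(a) ≤ M` for `a ∈ K*`, `a ≠ 1`. -/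
theorem centralizer_le_M {a : G}
    (ha : a ∈ Cfsg.sigmaCore M ⊓ Subgroup.centralizer (K : Set G)) (ha1 : a ≠ 1) :
    Subgroup.centralizer ({a} : Set G) ≤ M := by
  obtain ⟨j, hj⟩ := Cfsg.Agent.Lib.Helper2.BGCor.exists_pow_prime_order ha1
  have hYT : Subgroup.zpowers (a ^ j) ≤
      Cfsg.sigmaCore M ⊓ Subgroup.centralizer (K : Set G) :=
    Subgroup.zpowers_le.mpr (Subgroup.pow_mem _ ha j)
  refine le_trans ?_ (normalizer_le_M hG hSP hM hK hT hXK hXp hH hNH hKss hle hT' hj hYT)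
  refine le_trans ?_ (Subgroup.centralizer_le_normalizer _)
  intro x hx
  rw [Subgroup.mem_centralizer_iff]
  intro y hy
  obtain ⟨k, rfl⟩ := Subgroup.mem_zpowers_iff.mp hy
  have h1 : Commute x a := Subgroup.mem_centralizer_singleton_iff.mp hx
  exact ((h1.pow_right j).zpow_right k).eq.symm

/-- a subgroup of prime order of `K*` (it exists since `K* ≠ 1`). -/
theorem exists_prime_le_kstar : ∃ Y : Subgroup G, (Nat.card Y).Prime ∧
    Y ≤ Cfsg.sigmaCore M ⊓ Subgroup.centralizer (K : Set G) := by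
  have h1 := kstar_ne_bot hK hT hXK hXp
  obtain ⟨a, ha, ha1⟩ := (Subgroup.ne_bot_iff_exists_ne_one).mp h1 |>.choose_spec |> fun h =>
    (⟨_, (Subgroup.ne_bot_iff_exists_ne_one.mp h1).choose.2, fun h' =>
      (Subgroup.ne_bot_iff_exists_ne_one.mp h1).choose_spec (Subtype.ext h')⟩ :
      ∃ a : G, a ∈ Cfsg.sigmaCore M ⊓ Subgroup.centralizer (K : Set G) ∧ a ≠ 1)
  obtain ⟨j, hj⟩ := Cfsg.Agent.Lib.Helper2.BGCor.exists_pow_prime_order ha1
  exact ⟨Subgroup.zpowers (a ^ j), hj, Subgroup.zpowers_le.mpr (Subgroup.pow_mem _ ha j)⟩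

/-- `K** ≤ M` and `C_{H_σ}(K**) ≤ M`. -/
theorem kss_sup_le_M : Kss ⊔ (Cfsg.sigmaCore H ⊓ Subgroup.centralizer (Kss : Set G)) ≤ M := by
  obtain ⟨Y, hYp, hYT⟩ := exists_prime_le_kstar hG hSP hM hK hT hXK hXp hH hNH hKss hle hT'
  have h1 := (hT'.2.2 Y (hYT.trans hle) hYp).1
  rw [← h1]
  exact inf_le_right.trans
    (normalizer_le_M hG hSP hM hK hT hXK hXp hH hNH hKss hle hT' hYp hYT)

/-- **(6)** `H_σ ∩ M = C_{H_σ}(K**)`. -/
theorem sigmaCore_H_inf_M : Cfsg.sigmaCore H ⊓ M =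
    Cfsg.sigmaCore H ⊓ Subgroup.centralizer (Kss : Set G) := by
  obtain ⟨Y, hYp, hYT⟩ := exists_prime_le_kstar hG hSP hM hK hT hXK hXp hH hNH hKss hle hT'
  exact sigmaCore_inf_H hG hH hKss hT' (hYT.trans hle) hYp hM
    (normalizer_le_M hG hSP hM hK hT hXK hXp hH hNH hKss hle hT' hYp hYT)

/-- `X ≤ C_{H_σ}(K**)`. -/
theorem X_le_kone : X ≤ Cfsg.sigmaCore H ⊓ Subgroup.centralizer (Kss : Set G) := by
  rw [← sigmaCore_H_inf_M hG hSP hM hK hT hXK hXp hH hNH hKss hle hT']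
  exact le_inf (X_le_sigmaCore_H hG hK hT hXK hXp hH hNH) (X_le_M hK hXK hXp)

/-- **(7)** the primes of `K₁ = C_{H_σ}(K**)` lie in `κ(M)`. -/
theorem primes_kone_mem_kappa {s : ℕ} (hs : s.Prime)
    (hd : s ∣ Nat.card ↥(Cfsg.sigmaCore H ⊓ Subgroup.centralizer (Kss : Set G))) :
    s ∈ Cfsg.kappa M := by
  obtain ⟨Y, hYp, hYT⟩ := exists_prime_le_kstar hG hSP hM hK hT hXK hXp hH hNH hKss hle hT'
  exact primes_kstar_mem_kappa hG hSP hH hKss hT' (hYT.trans hle) hYp hM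
    (normalizer_le_M hG hSP hM hK hT hXK hXp hH hNH hKss hle hT' hYp hYT) hs hd

/-- **(8)** `K₁ ≤ K`. -/
theorem kone_le_K : Cfsg.sigmaCore H ⊓ Subgroup.centralizer (Kss : Set G) ≤ K := by
  apply le_of_normal_pi hK
  · exact le_sup_right.trans (kss_sup_le_M hG hSP hM hK hT hXK hXp hH hNH hKss hle hT')
  · -- `K ≤ M ∩ H` normalizes `H_σ ∩ M`
    rw [← sigmaCore_H_inf_M hG hSP hM hK hT hXK hXp hH hNH hKss hle hT']
    intro k hk
    apply Cfsg.Agent.Lib.Helper27.BG134.mem_normalizer_inf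
    · exact Cfsg.Agent.Lib.Helper23.BGY.le_normalizer_sigmaCore H
        (K_le_H hK hT hXK hXp hNH hk)
    · exact Subgroup.le_normalizer (hK.1 hk)
  · intro s hs hd
    exact primes_kone_mem_kappa hG hSP hM hK hT hXK hXp hH hNH hKss hle hT' hs hd

end partner3

end Cfsg.Agent.Lib.Helper21.BGPart
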