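import Mathlib
import Cfsg.Agent.Lib.Helper21.BGPartC
import Cfsg.Agent.Lib.Helper8.BGPSC

/-!
# B & G 14.7(a)-(d): partner theory (helper21), part D: step (9) (cyclic `K`) and the partners of
the other subgroups of prime order of `K`.
-/

set_option autoImplicit false
set_option linter.unusedVariables false
set_option linter.unusedSectionVars false
open scoped commutatorElement

namespace Cfsg.Agent.Lib.Helper21.BGPart

open Cfsg
open Cfsg.Agent.Lib.Helper9.BG144 (SP)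
open Cfsg.Agent.Lib.Helper2.BGCor (T142 sigmaCore_le primes_card_sigmaCore)
open Cfsg.Agent.Lib.Helper24.BGC2C (exists_generator_of_prime_card)
open Cfsg.Agent.Lib.Helper23.BG1215 (h16 h17 h17n h18a h18e h22 h23 h23b h24)
open Cfsg.Agent.Lib.Helper8 (mem_map_conj conj_mem_map_conj map_conj_map_conj map_conj_one
  map_conj_le_iff map_conj_eq_iff card_map_conj mem_normalizer_iff_map_conj)

universe u

variable {G : Type u} [Group G] [Finite G]

section partner4

variable (hG : Cfsg.IsMinSimpleOddOrder G) (hSP : SP G) (h30 : H30 G) {M K : Subgroup G}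
  (hM : IsCoatom M)
  (hK : Cfsg.IsPiHallOf (Cfsg.kappa M) K M) (hT : T142 M K) (hcyc : IsCyclic K)
  {X H : Subgroup G} (hXK : X ≤ K) (hXp : (Nat.card X).Prime)
  (hH : IsCoatom H) (hNH : Subgroup.normalizer (X : Set G) ≤ H)

include hG hSP h30 hM hK hT hcyc hXK hXp hH hNH

/-- **(9)** `M ∩ H = K K*` when `K` is cyclic. -/
theorem inf_eq : M ⊓ H = K ⊔ (Cfsg.sigmaCore M ⊓ Subgroup.centralizer (K : Set G)) := by
  obtain ⟨Kss, hKss, hle, hne, hT'⟩ := exists_hall_kappa_H hG hSP hM hK hT hXK hXp hH hNH h30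
  apply le_antisymm
  · rw [← (hT.2.2 X hXK hXp).1]
    refine le_inf inf_le_left ?_
    intro g hg
    have hK1 : Cfsg.sigmaCore H ⊓ M ≤ K := by
      rw [sigmaCore_H_inf_M hG hSP hM hK hT hXK hXp hH hNH hKss hle hT']
      exact kone_le_K hG hSP hM hK hT hXK hXp hH hNH hKss hle hT'
    have hXK1 : X ≤ Cfsg.sigmaCore H ⊓ M :=
      le_inf (X_le_sigmaCore_H hG hK hT hXK hXp hH hNH) (X_le_M hK hXK hXp)
    have hgN : g ∈ Subgroup.normalizer ((Cfsg.sigmaCore H ⊓ M : Subgroup G) : Set G) := by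
      apply Cfsg.Agent.Lib.Helper27.BG134.mem_normalizer_inf
      · exact Cfsg.Agent.Lib.Helper23.BGY.le_normalizer_sigmaCore H hg.2
      · exact Subgroup.le_normalizer hg.1
    have hgK1 := mem_normalizer_iff_map_conj.mp hgN
    have h1 : X.map (MulAut.conj g).toMonoidHom ≤ K := by
      refine le_trans ?_ hK1
      rw [← hgK1]
      exact Subgroup.map_mono hXK1
    rw [mem_normalizer_iff_map_conj]
    have := hcyc
    exact Cfsg.Agent.Lib.Helper9.eq_of_card_eq_of_le_isCyclic K _ _ h1 hXK (card_map_conj X g)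
  · exact le_inf (sup_le hK.1 (inf_le_left.trans (sigmaCore_le M)))
      (sup_le (K_le_H hK hT hXK hXp hNH) (kstar_le_H hK hT hXK hXp hNH))

/-- every Hall `κ(H)`-subgroup of `H` over `K*` lies in `Z = K K*`. -/
theorem kss_le_Z {Kss : Subgroup G} (hKss : Cfsg.IsPiHallOf (Cfsg.kappa H) Kss H)
    (hle : Cfsg.sigmaCore M ⊓ Subgroup.centralizer (K : Set G) ≤ Kss) (hT' : T142 H Kss) :
    Kss ≤ K ⊔ (Cfsg.sigmaCore M ⊓ Subgroup.centralizer (K : Set G)) := by
  rw [← inf_eq hG hSP h30 hM hK hT hcyc hXK hXp hH hNH]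
  exact le_inf (le_sup_left.trans (kss_sup_le_M hG hSP hM hK hT hXK hXp hH hNH hKss hle hT'))
    hKss.1

/-- `σ(M) ∩ σ(H) = ∅`. -/
theorem sigma_disjoint {q : ℕ} (hq : q ∈ Cfsg.sigma M) : q ∉ Cfsg.sigma H := by
  intro hq'
  obtain ⟨g, hg⟩ := hSP M H hM hH ⟨q, hq, hq'⟩
  exact nonconj_H hG hK hT hXK hXp hH hNH g hg

/-- a second subgroup `X'` of prime order of `K` with `|X'| ∈ σ(H)` has the same partner. -/
theorem partner_eq_of_mem_sigma {X' H' : Subgroup G} (hX'K : X' ≤ K) (hX'p : (Nat.card X').Prime)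
    (hH' : IsCoatom H') (hNH' : Subgroup.normalizer (X' : Set G) ≤ H')
    (hs : Nat.card X' ∈ Cfsg.sigma H) : H' = H := by
  have : Fact (Nat.card X').Prime := ⟨hX'p⟩
  exact eq_of_sigma_of_normalizer_le hG hSP hH hH' hs
    (card_mem_sigma_H hG hK hT hX'K hX'p hH' hNH') (isPGroup_X hK hX'K hX'p)
    (X_ne_bot hK hX'K hX'p) (hX'K.trans (K_le_H hK hT hXK hXp hNH)) hNH'

/-- distinct partners have disjoint `σ`. -/
theorem partner_sigma_disjoint {X' H' : Subgroup G} (hX'K : X' ≤ K)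
    (hX'p : (Nat.card X').Prime)
    (hH' : IsCoatom H') (hNH' : Subgroup.normalizer (X' : Set G) ≤ H') (hne : H' ≠ H) {q : ℕ}
    (hq : q ∈ Cfsg.sigma H) : q ∉ Cfsg.sigma H' := by
  intro hq'
  obtain ⟨g, hg⟩ := hSP H H' hH hH' ⟨q, hq, hq'⟩
  apply hne
  apply partner_eq_of_mem_sigma hG hSP h30 hM hK hT hcyc hXK hXp hH hNH hX'K hX'p hH' hNH'
  have h1 := card_mem_sigma_H hG hK hT hX'K hX'p hH' hNH'
  rw [hg] at h1
  have h2 := Cfsg.Agent.Lib.Helper16.BGPrim.sigma_map_conj h1 g⁻¹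
  rwa [map_conj_map_conj, inv_mul_cancel, map_conj_one] at h2

/-- **(4')** a prime of `|K|` outside `σ(H)` lies in `κ(H)`. -/
theorem mem_kappa_H' {X' : Subgroup G} (hX'K : X' ≤ K) (hX'p : (Nat.card X').Prime)
    (hs : Nat.card X' ∉ Cfsg.sigma H) :
    Nat.card X' ∉ Cfsg.tau2 H ∧ Nat.card X' ∈ Cfsg.kappa H := by
  have : Fact (Nat.card X').Prime := ⟨hX'p⟩
  have : IsSimpleGroup G := hG.2.1
  obtain ⟨x, hxX, hx1, -, -⟩ := exists_generator_of_prime_card hXp rfl
  obtain ⟨y, hyY, hy1, hyo, hyz⟩ := exists_generator_of_prime_card hX'p rfl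
  have hKH := K_le_H hK hT hXK hXp hNH
  have hYH : X' ≤ H := hX'K.trans hKH
  have hxσ : x ∈ Cfsg.sigmaCore H := X_le_sigmaCore_H hG hK hT hXK hXp hH hNH hxX
  have hyx : y * x = x * y := by
    have := hcyc
    have hc : IsMulCommutative K := IsCyclic.isMulCommutative
    have := congrArg Subtype.val (mul_comm' (⟨y, hX'K hyY⟩ : K) ⟨x, hXK hxX⟩)
    simpa using this
  have hY1 : X' ≠ ⊥ := X_ne_bot hK hX'K hX'p
  have hτ2 : Nat.card X' ∉ Cfsg.tau2 H := by
    intro hτ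
    obtain ⟨hHall, -, -⟩ := Cfsg.Agent.S1350.result hG H hH
    obtain ⟨EH, hEH⟩ := Cfsg.Agent.Lib.Helper2.BGCor.exists_compl_sigmaCore hHall
    have h20 := (Cfsg.Agent.S1420.result hG H hH EH hEH).2.2.2 y (hYH hyY) hy1 (by
      intro p hp hd
      rw [hyo] at hd
      rw [(Nat.prime_dvd_prime_iff_eq hp hX'p).mp hd]
      exact hτ) ⟨hYH hyY, x, hxσ, hx1, hyx⟩
    have hcent : Subgroup.centralizer ({y} : Set G) = Subgroup.centralizer (X' : Set G) :=
      Cfsg.Agent.Lib.Helper24.BG36Nab.centralizer_singleton_eq_of_prime_card hX'p hyY hy1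
    have hNY : Subgroup.normalizer (X' : Set G) ≤ H :=
      Cfsg.Agent.Lib.Helper24.BGReg.normalizer_le_of_unique hY1 hYH hH
        (fun L hL hCL => h20.2 L hL (hcent ▸ hCL))
    exact hs (card_mem_sigma_H hG hK hT hX'K hX'p hH hNY)
  have hrk : Cfsg.PRankLE (Nat.card X') 1 ↥H := by
    by_contra h
    exact hτ2 (Cfsg.Agent.Lib.Helper23.BGY.mem_tau2_of_not_rank_one hG hH hX'p hs h)
  exact ⟨hτ2,
    Cfsg.Agent.Lib.Helper24.BGReg.mem_kappa_of_fixed hG hX'p hs hrk (hYH hyY) hyo hxσ hx1 hyx⟩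

end partner4

end Cfsg.Agent.Lib.Helper21.BGPart
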