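import Mathlib
import Cfsg.Agent.Lib.Helper21.BGPartD
import Cfsg.Agent.Lib.Helper27.BGPCountD
import Cfsg.Agent.S1352

/-!
# B & G 14.7(a)-(d): partner theory (helper21), part E: members of type P1, complements inside `Z`.
-/

set_option autoImplicit false
set_option linter.unusedVariables false
set_option linter.unusedSectionVars false
open scoped commutatorElement

namespace Cfsg.Agent.Lib.Helper21.BGPart

open Cfsg
open Cfsg.Agent.Lib.Helper9.BG144 (SP)
open Cfsg.Agent.Lib.Helper2.BGCor (T142 sigmaCore_le primes_card_sigmaCore)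
open Cfsg.Agent.Lib.Helper24.BGC2C (exists_generator_of_prime_card)
open Cfsg.Agent.Lib.Helper23.BG1215 (h16 h17 h17n h18a h18e h22 h23 h23b h24)
open Cfsg.Agent.Lib.Helper8 (mem_map_conj conj_mem_map_conj map_conj_map_conj map_conj_one
  map_conj_le_iff map_conj_eq_iff card_map_conj mem_normalizer_iff_map_conj)
open Cfsg.Agent.Lib.Helper8.BGPS (exists_mul_of_mem_sup_of_commute card_sup_of_commute
  card_mul_of_compl_le centralizer_singleton_le_centralizer_zpowers_pow card_complIn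
  dvd_card_of_not_pRankLE_one sigmaCore_inf_sigmaCore_eq_bot)

universe u

variable {G : Type u} [Group G] [Finite G]

/-- S1351: the Hall `κ`-subgroups of the maximal subgroups are cyclic. -/
def HCyc (G : Type*) [Group G] : Prop :=
  ∀ N : Subgroup G, IsCoatom N → ∀ K : Subgroup G, Cfsg.IsPiHallOf (Cfsg.kappa N) K N →
    IsCyclic K

/-- (α): in a standard factorisation with `K ≠ 1 ≠ U` the order of `K` is prime. -/
def HAlpha (G : Type*) [Group G] : Prop :=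
  ∀ N K U : Subgroup G, IsCoatom N → Cfsg.IsSigmaDecomposition N K U → K ≠ ⊥ → U ≠ ⊥ →
    (Nat.card K).Prime

/-- a Hall `κ(N)`-subgroup meets `N_σ` trivially. -/
theorem hall_kappa_inf_sigmaCore {N K : Subgroup G}
    (hK : Cfsg.IsPiHallOf (Cfsg.kappa N) K N) : K ⊓ Cfsg.sigmaCore N = ⊥ := by
  rw [← Subgroup.card_eq_one]
  by_contra hne
  obtain ⟨p, hp, hpd⟩ := Nat.exists_prime_and_dvd hne
  have h1 : p ∈ Cfsg.kappa N := hK.2.1 p hp (hpd.trans (Subgroup.card_dvd_of_le inf_le_left))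
  exact h1.2.2.1 (primes_card_sigmaCore N p hp (hpd.trans (Subgroup.card_dvd_of_le inf_le_right)))

/-- with (α): a cyclic Hall `κ(N)`-subgroup `K ≠ 1` whose order is not a prime is a complement of
`N_σ` in `N` (`N` is of type P1). -/
theorem isComplIn_of_not_prime (hG : Cfsg.IsMinSimpleOddOrder G) (hα : HAlpha G)
    {N K : Subgroup G} (hN : IsCoatom N) (hK : Cfsg.IsPiHallOf (Cfsg.kappa N) K N)
    (hc : IsCyclic K) (hK1 : K ≠ ⊥) (hnp : ¬ (Nat.card K).Prime) :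
    Cfsg.IsComplIn K (Cfsg.sigmaCore N) N := by
  obtain ⟨U, hKU⟩ := (Cfsg.Agent.S1352.result hG N hN K hc hK).1
  have hU : U = ⊥ := by
    by_contra hU
    exact hnp (hα N K U hN hKU hK1 hU)
  obtain ⟨-, hle, -, hprod⟩ := hKU.compl
  have hnorm : K ≤ Subgroup.normalizer ((Cfsg.sigmaCore N : Subgroup G) : Set G) :=
    hK.1.trans (Cfsg.Agent.Lib.Helper23.BGY.le_normalizer_sigmaCore N)
  refine ⟨hK.1, sigmaCore_le N, hall_kappa_inf_sigmaCore hK, fun m hm => ?_⟩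
  obtain ⟨a, ha, b, hb, rfl⟩ := hprod m hm
  rw [hU, Subgroup.mem_bot] at ha
  rw [ha, one_mul]
  rw [← SetLike.mem_coe, Subgroup.coe_mul_of_left_le_normalizer_right K _ hnorm,
    Set.mem_mul] at hb
  obtain ⟨k, hk, s, hs, rfl⟩ := hb
  exact ⟨k, hk, s, hs, rfl⟩

/-- a maximal subgroup with a Hall `κ`-subgroup as a complement of `N_σ` has `τ₂(N) = ∅`. -/
theorem not_tau2_of_compl {N K : Subgroup G} (hK : Cfsg.IsPiHallOf (Cfsg.kappa N) K N)
    (hc : Cfsg.IsComplIn K (Cfsg.sigmaCore N) N) : ∀ r : ℕ, r ∉ Cfsg.tau2 N := by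
  intro r hr
  obtain ⟨hrp, hrσ, -, hr1⟩ := hr
  have h1 : r ∣ Nat.card N := dvd_card_of_not_pRankLE_one hrp hr1
  rw [← card_complIn hc] at h1
  rcases (Nat.Prime.dvd_mul hrp).mp h1 with h | h
  · exact hr1 (Cfsg.Agent.Lib.Helper2.BGCor.pRankLE_one_of_kappa (hK.2.1 r hrp h))
  · exact hrσ (primes_card_sigmaCore N r hrp h)

section partner5

variable (hG : Cfsg.IsMinSimpleOddOrder G) (hSP : SP G) (h30 : H30 G) {M K : Subgroup G}
  (hM : IsCoatom M)
  (hK : Cfsg.IsPiHallOf (Cfsg.kappa M) K M) (hT : T142 M K) (hcyc : IsCyclic K)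
  {X H : Subgroup G} (hXK : X ≤ K) (hXp : (Nat.card X).Prime)
  (hH : IsCoatom H) (hNH : Subgroup.normalizer (X : Set G) ≤ H)

include hG hSP h30 hM hK hT hcyc hXK hXp hH hNH

/-- `K` and `K*` commute elementwise. -/
theorem comm_K_kstar : ∀ a ∈ K, ∀ b ∈ Cfsg.sigmaCore M ⊓ Subgroup.centralizer (K : Set G),
    a * b = b * a :=
  fun a ha b hb => Subgroup.mem_centralizer_iff.mp hb.2 a ha

/-- `K ∩ K* = 1`. -/
theorem K_inf_kstar : K ⊓ (Cfsg.sigmaCore M ⊓ Subgroup.centralizer (K : Set G)) = ⊥ := by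
  rw [eq_bot_iff, ← hall_kappa_inf_sigmaCore hK]
  exact inf_le_inf_left _ inf_le_left

/-- `Z ∩ M_σ = K*`. -/
theorem Z_inf_sigmaCore :
    (K ⊔ (Cfsg.sigmaCore M ⊓ Subgroup.centralizer (K : Set G))) ⊓ Cfsg.sigmaCore M =
      Cfsg.sigmaCore M ⊓ Subgroup.centralizer (K : Set G) := by
  apply le_antisymm
  · intro z hz
    obtain ⟨e, he, b, hb, rfl⟩ := exists_mul_of_mem_sup_of_commute
      (comm_K_kstar hG hSP h30 hM hK hT hcyc hXK hXp hH hNH) hz.1
    have he1 : e ∈ K ⊓ Cfsg.sigmaCore M := by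
      refine Subgroup.mem_inf.mpr ⟨he, ?_⟩
      have : e = e * b * b⁻¹ := by group
      rw [this]
      exact Subgroup.mul_mem _ hz.2 (Subgroup.inv_mem _ hb.1)
    rw [hall_kappa_inf_sigmaCore hK, Subgroup.mem_bot] at he1
    rw [he1, one_mul]
    exact hb
  · exact le_inf le_sup_right inf_le_left

/-- `Z ≤ M`. -/
theorem Z_le_M : K ⊔ (Cfsg.sigmaCore M ⊓ Subgroup.centralizer (K : Set G)) ≤ M :=
  sup_le hK.1 (inf_le_left.trans (sigmaCore_le M))

/-- `Z ≤ H`. -/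
theorem Z_le_H : K ⊔ (Cfsg.sigmaCore M ⊓ Subgroup.centralizer (K : Set G)) ≤ H :=
  sup_le (K_le_H hK hT hXK hXp hNH) (kstar_le_H hK hT hXK hXp hNH)

/-- `Z ∩ H_σ ≤ K`. -/
theorem Z_inf_sigmaCore_H_le :
    (K ⊔ (Cfsg.sigmaCore M ⊓ Subgroup.centralizer (K : Set G))) ⊓ Cfsg.sigmaCore H ≤ K := by
  obtain ⟨Kss, hKss, hle, hne, hT'⟩ := exists_hall_kappa_H hG hSP hM hK hT hXK hXp hH hNH h30
  refine le_trans ?_ (kone_le_K hG hSP hM hK hT hXK hXp hH hNH hKss hle hT')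
  rw [← sigmaCore_H_inf_M hG hSP hM hK hT hXK hXp hH hNH hKss hle hT']
  exact le_inf inf_le_right
    (inf_le_left.trans (Z_le_M hG hSP h30 hM hK hT hcyc hXK hXp hH hNH))

/-- the members of `K*^#` are good for `M`. -/
theorem good_M {a : G} (ha : a ∈ Cfsg.sigmaCore M ⊓ Subgroup.centralizer (K : Set G))
    (ha1 : a ≠ 1) : Subgroup.centralizer ({a} : Set G) ≤ M := by
  obtain ⟨Kss, hKss, hle, hne, hT'⟩ := exists_hall_kappa_H hG hSP hM hK hT hXK hXp hH hNH h30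
  exact centralizer_le_M hG hSP hM hK hT hXK hXp hH hNH hKss hle hT' ha ha1

/-- the members of `(Z ∩ H_σ)^#` are good for `H`. -/
theorem good_H {a : G}
    (ha : a ∈ (K ⊔ (Cfsg.sigmaCore M ⊓ Subgroup.centralizer (K : Set G))) ⊓ Cfsg.sigmaCore H)
    (ha1 : a ≠ 1) : Subgroup.centralizer ({a} : Set G) ≤ H := by
  have : IsSimpleGroup G := hG.2.1
  have haK : a ∈ K := Z_inf_sigmaCore_H_le hG hSP h30 hM hK hT hcyc hXK hXp hH hNH ha
  obtain ⟨p, k, hp, -, hk⟩ := Cfsg.Agent.Lib.Helper16.BGPrim.exists_pow_orderOf_prime ha1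
  set X' : Subgroup G := Subgroup.zpowers (a ^ k) with hX'
  have hX'K : X' ≤ K := Subgroup.zpowers_le.mpr (Subgroup.pow_mem _ haK k)
  have hX'c : Nat.card X' = p := by rw [hX', Nat.card_zpowers, hk]
  have hX'p : (Nat.card X').Prime := hX'c ▸ hp
  have hX'σ : X' ≤ Cfsg.sigmaCore H := Subgroup.zpowers_le.mpr (Subgroup.pow_mem _ ha.2 k)
  have hσ : Nat.card X' ∈ Cfsg.sigma H :=
    primes_card_sigmaCore H _ hX'p (Subgroup.card_dvd_of_le hX'σ)
  have hX'1 : X' ≠ ⊥ := X_ne_bot hK hX'K hX'p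
  have hX'top : X' ≠ ⊤ := fun h => hM.1 (top_le_iff.mp (h ▸ hX'K.trans hK.1))
  obtain ⟨H', hH', hNH'⟩ := Cfsg.Agent.Lib.Helper17.BGU.exists_coatom_ge
    (Cfsg.Agent.Lib.Helper17.BGU.normalizer_ne_top hX'1 hX'top)
  have hHH' : H' = H :=
    partner_eq_of_mem_sigma hG hSP h30 hM hK hT hcyc hXK hXp hH hNH hX'K hX'p hH' hNH' hσ
  rw [hHH'] at hNH'
  exact (centralizer_singleton_le_centralizer_zpowers_pow a k).trans
    ((Subgroup.centralizer_le_normalizer _).trans hNH')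

/-- **structure of a partner** (with S1351 and (α)): if some prime of `|K|` lies outside `σ(H)` then
`H` is of type P1, with a Hall `κ(H)`-subgroup `K** ⊇ K* X'` inside `Z` as a complement of `H_σ`. -/
theorem exists_compl_le (hc : HCyc G) (hα : HAlpha G) {X' : Subgroup G} (hX'K : X' ≤ K)
    (hX'p : (Nat.card X').Prime) (hs : Nat.card X' ∉ Cfsg.sigma H) :
    ∃ Kss : Subgroup G, Cfsg.IsPiHallOf (Cfsg.kappa H) Kss H ∧
      Cfsg.sigmaCore M ⊓ Subgroup.centralizer (K : Set G) ≤ Kss ∧ X' ≤ Kss ∧ T142 H Kss ∧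
      Cfsg.IsComplIn Kss (Cfsg.sigmaCore H) H ∧
      Kss ≤ K ⊔ (Cfsg.sigmaCore M ⊓ Subgroup.centralizer (K : Set G)) := by
  have : Group.IsSolvable ↥H := hG.2.2.2 H hH.1
  obtain ⟨hτ2, hκ⟩ := mem_kappa_H' hG hSP h30 hM hK hT hcyc hXK hXp hH hNH hX'K hX'p hs
  have hcomm : ∀ a ∈ X', ∀ b ∈ Cfsg.sigmaCore M ⊓ Subgroup.centralizer (K : Set G),
      a * b = b * a := fun a ha b hb =>
    comm_K_kstar hG hSP h30 hM hK hT hcyc hXK hXp hH hNH a (hX'K ha) b hb
  have hdisj : X' ⊓ (Cfsg.sigmaCore M ⊓ Subgroup.centralizer (K : Set G)) = ⊥ := by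
    rw [eq_bot_iff, ← K_inf_kstar hG hSP h30 hM hK hT hcyc hXK hXp hH hNH]
    exact inf_le_inf_right _ hX'K
  have hWc := card_sup_of_commute hcomm hdisj
  have hWH : X' ⊔ (Cfsg.sigmaCore M ⊓ Subgroup.centralizer (K : Set G)) ≤ H :=
    sup_le (hX'K.trans (K_le_H hK hT hXK hXp hNH)) (kstar_le_H hK hT hXK hXp hNH)
  obtain ⟨Kss, hKss, hWle⟩ := Cfsg.Agent.Lib.Helper16.BGPrim.exists_hall_ge' (Cfsg.kappa H) hWH
    (fun q hq hd => by
      rw [hWc] at hd
      rcases (Nat.Prime.dvd_mul hq).mp hd with h | h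
      · rw [(Nat.prime_dvd_prime_iff_eq hq hX'p).mp h]
        exact hκ
      · exact primes_kstar_mem_kappa hG hSP hM hK hT hXK hXp hH hNH hq h)
  have hle : Cfsg.sigmaCore M ⊓ Subgroup.centralizer (K : Set G) ≤ Kss :=
    le_sup_right.trans hWle
  have hX'le : X' ≤ Kss := le_sup_left.trans hWle
  have hne : Kss ≠ ⊥ := by
    intro h
    apply kstar_ne_bot hK hT hXK hXp
    rw [eq_bot_iff, ← h]
    exact hle
  have hT' : T142 H Kss := h30 H hH Kss hKss hne
  have hnp : ¬ (Nat.card Kss).Prime := by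
    intro hpr
    have h1 : Nat.card ↥(X' ⊔ (Cfsg.sigmaCore M ⊓ Subgroup.centralizer (K : Set G))) ∣
        Nat.card Kss := Subgroup.card_dvd_of_le hWle
    rw [hWc] at h1
    have h2 : Nat.card ↥(Cfsg.sigmaCore M ⊓ Subgroup.centralizer (K : Set G)) ≠ 1 := by
      intro h
      exact kstar_ne_bot hK hT hXK hXp (Subgroup.card_eq_one.mp h)
    rcases (Nat.dvd_prime hpr).mp h1 with h | h
    · have := Nat.eq_one_of_mul_eq_one_right h
      rw [this] at hX'p
      exact Nat.not_prime_one hX'p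
    · rcases (Nat.dvd_prime hpr).mp (Dvd.intro _ h) with h3 | h3
      · rw [h3] at hX'p
        exact Nat.not_prime_one hX'p
      · rw [h3] at h
        have : Nat.card ↥(Cfsg.sigmaCore M ⊓ Subgroup.centralizer (K : Set G)) = 1 := by
          have hpos : 0 < Nat.card Kss := Nat.card_pos
          exact Nat.eq_of_mul_eq_mul_left hpos (by rw [h, mul_one])
        exact h2 this
  exact ⟨Kss, hKss, hle, hX'le, hT',
    isComplIn_of_not_prime hG hα hH hKss (hc H hH Kss hKss) hne hnp,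
    kss_le_Z hG hSP h30 hM hK hT hcyc hXK hXp hH hNH hKss hle hT'⟩

end partner5

end Cfsg.Agent.Lib.Helper21.BGPart
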