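import Mathlib
import Cfsg.Agent.Lib.Helper21.BGPartE
import Cfsg.Agent.Lib.Helper8.BGPSE

/-!
# B & G 14.7(a)-(d): partner theory (helper21), part F: all subgroups of prime order of `K` have the
same partner (the `n`-ary count of helper27 kills `n ≥ 2`).
-/

set_option autoImplicit false
set_option linter.unusedVariables false
set_option linter.unusedSectionVars false
open scoped commutatorElement

namespace Cfsg.Agent.Lib.Helper21.BGPart

open Cfsg
open Cfsg.Agent.Lib.Helper9.BG144 (SP)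
open Cfsg.Agent.Lib.Helper2.BGCor (T142 sigmaCore_le primes_card_sigmaCore)
open Cfsg.Agent.Lib.Helper24.BGC2C (exists_generator_of_prime_card)
open Cfsg.Agent.Lib.Helper8 (mem_map_conj conj_mem_map_conj map_conj_map_conj map_conj_one
  map_conj_le_iff map_conj_eq_iff card_map_conj mem_normalizer_iff_map_conj)
open Cfsg.Agent.Lib.Helper8.BGPS (exists_mul_of_mem_sup_of_commute card_sup_of_commute
  card_mul_of_compl_le centralizer_singleton_le_centralizer_zpowers_pow card_complIn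
  dvd_card_of_not_pRankLE_one sigmaCore_inf_sigmaCore_eq_bot partners)

universe u

variable {G : Type u} [Group G] [Finite G]

section partner6

variable (hG : Cfsg.IsMinSimpleOddOrder G) (hSP : SP G) (h30 : H30 G) {M K : Subgroup G}
  (hM : IsCoatom M)
  (hK : Cfsg.IsPiHallOf (Cfsg.kappa M) K M) (hT : T142 M K) (hcyc : IsCyclic K)
  {X H : Subgroup G} (hXK : X ≤ K) (hXp : (Nat.card X).Prime)
  (hH : IsCoatom H) (hNH : Subgroup.normalizer (X : Set G) ≤ H)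

include hG hSP h30 hM hK hT hcyc hXK hXp hH hNH

/-- `M_σ ≰ Z` if `K` is a complement of `M_σ` in `M`. -/
theorem not_sigmaCore_le (hc : Cfsg.IsComplIn K (Cfsg.sigmaCore M) M) :
    ¬ Cfsg.sigmaCore M ≤ K ⊔ (Cfsg.sigmaCore M ⊓ Subgroup.centralizer (K : Set G)) := by
  intro hle
  have hMH : M ≤ H := by
    intro m hm
    obtain ⟨a, ha, b, hb, rfl⟩ := hc.2.2.2 m hm
    exact H.mul_mem (K_le_H hK hT hXK hXp hNH ha)
      (Z_le_H hG hSP h30 hM hK hT hcyc hXK hXp hH hNH (hle hb))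
  exact hH.1 (hM.2 H (lt_of_le_of_ne hMH (H_ne_M hG hK hT hXK hXp hH hNH).symm))

/-- `H_σ ≰ Z` if a subgroup of `Z` is a complement of `H_σ` in `H`. -/
theorem not_sigmaCore_H_le {Kss : Subgroup G} (hc : Cfsg.IsComplIn Kss (Cfsg.sigmaCore H) H)
    (hKZ : Kss ≤ K ⊔ (Cfsg.sigmaCore M ⊓ Subgroup.centralizer (K : Set G))) :
    ¬ Cfsg.sigmaCore H ≤ K ⊔ (Cfsg.sigmaCore M ⊓ Subgroup.centralizer (K : Set G)) := by
  intro hle
  have hZM := Z_le_M hG hSP h30 hM hK hT hcyc hXK hXp hH hNH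
  have hHM : H ≤ M := by
    intro h hh
    obtain ⟨a, ha, b, hb, rfl⟩ := hc.2.2.2 h hh
    exact M.mul_mem (hZM (hKZ ha)) (hZM (hle hb))
  exact hM.1 (hH.2 M (lt_of_le_of_ne hHM (H_ne_M hG hK hT hXK hXp hH hNH)))

/-- **distinct partners meet in `Z`**. -/
theorem partner_inf_le (hc : HCyc G) (hα : HAlpha G) {X' H' : Subgroup G} (hX'K : X' ≤ K)
    (hX'p : (Nat.card X').Prime) (hH' : IsCoatom H')
    (hNH' : Subgroup.normalizer (X' : Set G) ≤ H') (hne : H' ≠ H) :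
    H ⊓ H' ≤ K ⊔ (Cfsg.sigmaCore M ⊓ Subgroup.centralizer (K : Set G)) := by
  have hp'σ : Nat.card X' ∉ Cfsg.sigma H := fun hσ => hne
    (partner_eq_of_mem_sigma hG hSP h30 hM hK hT hcyc hXK hXp hH hNH hX'K hX'p hH' hNH' hσ)
  obtain ⟨Kss, hKss, hle, hX'le, hT', hcompl, hKZ⟩ :=
    exists_compl_le hG hSP h30 hM hK hT hcyc hXK hXp hH hNH hc hα hX'K hX'p hp'σ
  obtain ⟨x', hx', hx'1⟩ := (Subgroup.bot_or_exists_ne_one _).resolve_left
    (X_ne_bot hK hX'K hX'p)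
  have hx'H : x' ∈ H := K_le_H hK hT hXK hXp hNH (hX'K hx')
  have hx'σ : x' ∈ Cfsg.sigmaCore H' := X_le_sigmaCore_H hG hK hT hX'K hX'p hH' hNH' hx'
  have hbot : Cfsg.sigmaCore H ⊓ Cfsg.sigmaCore H' = ⊥ :=
    sigmaCore_inf_sigmaCore_eq_bot (fun _ hq' =>
      partner_sigma_disjoint hG hSP h30 hM hK hT hcyc hXK hXp hH hNH hX'K hX'p hH' hNH' hne hq')
  -- `H_σ ∩ H' ≤ Z`
  have h1 : Cfsg.sigmaCore H ⊓ H' ≤
      K ⊔ (Cfsg.sigmaCore M ⊓ Subgroup.centralizer (K : Set G)) := by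
    intro u hu
    have hcm : u * x' * u⁻¹ * x'⁻¹ ∈ Cfsg.sigmaCore H ⊓ Cfsg.sigmaCore H' := by
      refine Subgroup.mem_inf.mpr ⟨?_, ?_⟩
      · have : u * x' * u⁻¹ * x'⁻¹ = u * (x' * u⁻¹ * x'⁻¹) := by group
        rw [this]
        exact Subgroup.mul_mem _ hu.1
          (Cfsg.Agent.Lib.Helper2.BGCor.conj_mem_sigmaCore hx'H (Subgroup.inv_mem _ hu.1))
      · exact Subgroup.mul_mem _ (Cfsg.Agent.Lib.Helper2.BGCor.conj_mem_sigmaCore hu.2 hx'σ)
          (Subgroup.inv_mem _ hx'σ)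
    rw [hbot, Subgroup.mem_bot] at hcm
    have hux : x' * u = u * x' := by
      have : u * x' = (u * x' * u⁻¹ * x'⁻¹) * (x' * u) := by group
      rw [hcm, one_mul] at this
      exact this.symm
    have hu1 : u ∈ Cfsg.sigmaCore H ⊓ Subgroup.centralizer ({x'} : Set G) := by
      refine Subgroup.mem_inf.mpr ⟨hu.1, ?_⟩
      rw [Subgroup.mem_centralizer_singleton_iff]
      exact hux.symm
    rw [hT'.1 x' (hX'le hx') hx'1] at hu1
    exact Subgroup.mem_sup_left (kone_le_K hG hSP hM hK hT hXK hXp hH hNH hKss hle hT' hu1)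
  -- Dedekind
  intro h hh
  obtain ⟨a, ha, b, hb, rfl⟩ := hcompl.2.2.2 h hh.1
  have haZ := hKZ ha
  have hbH' : b ∈ H' := by
    have : b = a⁻¹ * (a * b) := by group
    rw [this]
    exact H'.mul_mem (H'.inv_mem
      (Z_le_H hG hSP h30 hM hK hT hcyc hX'K hX'p hH' hNH' haZ)) hh.2
  exact Subgroup.mul_mem _ haZ (h1 (Subgroup.mem_inf.mpr ⟨hb, hbH'⟩))

end partner6

section family

variable (hG : Cfsg.IsMinSimpleOddOrder G) (hSP : SP G) (h30 : H30 G) (hc : HCyc G)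
  (hα : HAlpha G) {M K : Subgroup G}
  (hM : IsCoatom M)
  (hK : Cfsg.IsPiHallOf (Cfsg.kappa M) K M) (hT : T142 M K) (hcyc : IsCyclic K)

include hG hSP h30 hc hα hM hK hT hcyc

/-- every subgroup of prime order of `K` has a partner. -/
theorem exists_partner {X : Subgroup G} (hXK : X ≤ K) (hXp : (Nat.card X).Prime) :
    ∃ H : Subgroup G, IsCoatom H ∧ Subgroup.normalizer (X : Set G) ≤ H := by
  have : IsSimpleGroup G := hG.2.1
  have hX1 : X ≠ ⊥ := X_ne_bot hK hXK hXp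
  have hXtop : X ≠ ⊤ := fun h => hM.1 (top_le_iff.mp (h ▸ hXK.trans hK.1))
  exact Cfsg.Agent.Lib.Helper17.BGU.exists_coatom_ge
    (Cfsg.Agent.Lib.Helper17.BGU.normalizer_ne_top hX1 hXtop)

/-- **all the subgroups of prime order of `K` have the same partner** (`n = 1`). -/
theorem partner_eq {X H X' H' : Subgroup G} (hXK : X ≤ K) (hXp : (Nat.card X).Prime)
    (hH : IsCoatom H) (hNH : Subgroup.normalizer (X : Set G) ≤ H) (hX'K : X' ≤ K)
    (hX'p : (Nat.card X').Prime) (hH' : IsCoatom H')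
    (hNH' : Subgroup.normalizer (X' : Set G) ≤ H') : H' = H := by
  classical
  by_contra hne
  set Z : Subgroup G := K ⊔ (Cfsg.sigmaCore M ⊓ Subgroup.centralizer (K : Set G)) with hZ
  set F : Finset (Subgroup G) := insert M (Set.toFinite (partners K)).toFinset with hFdef
  have hmem : ∀ L : Subgroup G, L ∈ F ↔ L = M ∨ L ∈ partners K := by
    intro L
    rw [hFdef, Finset.mem_insert, Set.Finite.mem_toFinset]
  -- for every partner `L` some prime of `|K|` lies outside `σ(L)`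
  have hout : ∀ {X₁ L : Subgroup G}, X₁ ≤ K → (Nat.card X₁).Prime → IsCoatom L →
      Subgroup.normalizer (X₁ : Set G) ≤ L →
      ∃ X₂ : Subgroup G, X₂ ≤ K ∧ (Nat.card X₂).Prime ∧ Nat.card X₂ ∉ Cfsg.sigma L := by
    intro X₁ L hX₁K hX₁p hL hNL
    by_cases h : H = L
    · refine ⟨X', hX'K, hX'p, fun hσ => hne ?_⟩
      rw [h]
      exact partner_eq_of_mem_sigma hG hSP h30 hM hK hT hcyc hX₁K hX₁p hL hNL hX'K hX'p hH'
        hNH' hσ
    · refine ⟨X, hXK, hXp, fun hσ => h ?_⟩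
      exact partner_eq_of_mem_sigma hG hSP h30 hM hK hT hcyc hX₁K hX₁p hL hNL hXK hXp hH
        hNH hσ
  -- `|K|` is not a prime
  have hXX' : Nat.card X ≠ Nat.card X' := by
    intro h
    have := hcyc
    have h1 : X = X' := Cfsg.Agent.Lib.Helper9.eq_of_card_eq_of_le_isCyclic K _ _ hXK hX'K h
    subst h1
    exact hne (partner_unique hG hSP hM hK hT hXK hXp hH hNH hH' hNH')
  have hKnp : ¬ (Nat.card K).Prime := by
    intro hpr
    have h1 := (Nat.prime_dvd_prime_iff_eq hXp hpr).mp (Subgroup.card_dvd_of_le hXK)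
    have h2 := (Nat.prime_dvd_prime_iff_eq hX'p hpr).mp (Subgroup.card_dvd_of_le hX'K)
    exact hXX' (h1.trans h2.symm)
  have hK1 : K ≠ ⊥ := fun h => X_ne_bot hK hXK hXp (eq_bot_iff.mpr (h ▸ hXK))
  have hcM : Cfsg.IsComplIn K (Cfsg.sigmaCore M) M :=
    isComplIn_of_not_prime hG hα hM hK hcyc hK1 hKnp
  apply Cfsg.Agent.Lib.Helper27.BGPCount.false_of_finset hG F Z
  · -- two
    exact ⟨M, (hmem M).mpr (Or.inl rfl), H, (hmem H).mpr (Or.inr ⟨hH, X, hXK, hXp, hNH⟩),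
      (H_ne_M hG hK hT hXK hXp hH hNH).symm⟩
  · -- coatom
    intro L hL
    rcases (hmem L).mp hL with rfl | ⟨hL, -⟩
    · exact hM
    · exact hL
  · -- le
    intro L hL
    rcases (hmem L).mp hL with rfl | ⟨hL, X₁, hX₁K, hX₁p, hNL⟩
    · exact Z_le_M hG hSP h30 hM hK hT hcyc hXK hXp hH hNH
    · exact Z_le_H hG hSP h30 hM hK hT hcyc hX₁K hX₁p hL hNL
  · -- card
    intro L hL
    rcases (hmem L).mp hL with rfl | ⟨hL, X₁, hX₁K, hX₁p, hNL⟩
    · exact card_mul_of_compl_le hcM le_sup_left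
        (Z_le_M hG hSP h30 hM hK hT hcyc hXK hXp hH hNH)
    · obtain ⟨X₂, hX₂K, hX₂p, hX₂σ⟩ := hout hX₁K hX₁p hL hNL
      obtain ⟨Kss, hKss, hle, hX'le, hT', hcompl, hKZ⟩ :=
        exists_compl_le hG hSP h30 hM hK hT hcyc hX₁K hX₁p hL hNL hc hα hX₂K hX₂p hX₂σ
      exact card_mul_of_compl_le hcompl hKZ
        (Z_le_H hG hSP h30 hM hK hT hcyc hX₁K hX₁p hL hNL)
  · -- primes
    intro p hp hd
    have : Fact p.Prime := ⟨hp⟩
    rw [hZ, card_sup_of_commute (comm_K_kstar hG hSP h30 hM hK hT hcyc hXK hXp hH hNH)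
      (K_inf_kstar hG hSP h30 hM hK hT hcyc hXK hXp hH hNH)] at hd
    rcases (Nat.Prime.dvd_mul hp).mp hd with h | h
    · obtain ⟨x, hx⟩ := exists_prime_orderOf_dvd_card' p h
      have hX₁K : Subgroup.zpowers (x : G) ≤ K := Subgroup.zpowers_le.mpr x.2
      have hX₁c : Nat.card (Subgroup.zpowers (x : G)) = p := by
        rw [Nat.card_zpowers, Subgroup.orderOf_coe, hx]
      have hX₁p : (Nat.card (Subgroup.zpowers (x : G))).Prime := hX₁c ▸ hp
      obtain ⟨L, hL, hNL⟩ := exists_partner hG hSP h30 hc hα hM hK hT hcyc hX₁K hX₁p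
      refine ⟨L, (hmem L).mpr (Or.inr ⟨hL, _, hX₁K, hX₁p, hNL⟩), ?_⟩
      rw [← hX₁c]
      exact card_mem_sigma_H hG hK hT hX₁K hX₁p hL hNL
    · exact ⟨M, (hmem M).mpr (Or.inl rfl), primes_card_sigmaCore M p hp
        (h.trans (Subgroup.card_dvd_of_le inf_le_left))⟩
  · -- disj
    intro L hL L' hL' hLL' p hp
    rcases (hmem L).mp hL with rfl | ⟨hLc, X₁, hX₁K, hX₁p, hNL⟩
    · rcases (hmem L').mp hL' with rfl | ⟨hLc', X₂, hX₂K, hX₂p, hNL'⟩
      · exact absurd rfl hLL'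
      · exact sigma_disjoint hG hSP h30 hM hK hT hcyc hX₂K hX₂p hLc' hNL' hp
    · rcases (hmem L').mp hL' with rfl | ⟨hLc', X₂, hX₂K, hX₂p, hNL'⟩
      · intro hp'
        exact sigma_disjoint hG hSP h30 hM hK hT hcyc hX₁K hX₁p hLc hNL hp' hp
      · exact partner_sigma_disjoint hG hSP h30 hM hK hT hcyc hX₁K hX₁p hLc hNL hX₂K hX₂p hLc'
          hNL' hLL'.symm hp
  · -- inf
    intro L hL L' hL' hLL'
    rcases (hmem L).mp hL with rfl | ⟨hLc, X₁, hX₁K, hX₁p, hNL⟩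
    · rcases (hmem L').mp hL' with rfl | ⟨hLc', X₂, hX₂K, hX₂p, hNL'⟩
      · exact absurd rfl hLL'
      · exact le_of_eq (inf_eq hG hSP h30 hM hK hT hcyc hX₂K hX₂p hLc' hNL')
    · rcases (hmem L').mp hL' with rfl | ⟨hLc', X₂, hX₂K, hX₂p, hNL'⟩
      · rw [inf_comm]
        exact le_of_eq (inf_eq hG hSP h30 hM hK hT hcyc hX₁K hX₁p hLc hNL)
      · exact partner_inf_le hG hSP h30 hM hK hT hcyc hX₁K hX₁p hLc hNL hc hα hX₂K hX₂p hLc'
          hNL' hLL'.symm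
  · -- good
    intro L hL a ha ha1
    rcases (hmem L).mp hL with rfl | ⟨hLc, X₁, hX₁K, hX₁p, hNL⟩
    · rw [hZ, Z_inf_sigmaCore hG hSP h30 hM hK hT hcyc hXK hXp hH hNH] at ha
      exact good_M hG hSP h30 hM hK hT hcyc hXK hXp hH hNH ha ha1
    · exact good_H hG hSP h30 hM hK hT hcyc hX₁K hX₁p hLc hNL ha ha1
  · -- three
    intro L hL
    rcases (hmem L).mp hL with rfl | ⟨hLc, X₁, hX₁K, hX₁p, hNL⟩
    · exact Cfsg.Agent.Lib.Helper27.BGPCount.three_of_not_le hG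
        (not_sigmaCore_le hG hSP h30 hM hK hT hcyc hXK hXp hH hNH hcM)
    · obtain ⟨X₂, hX₂K, hX₂p, hX₂σ⟩ := hout hX₁K hX₁p hLc hNL
      obtain ⟨Kss, hKss, hle, hX'le, hT', hcompl, hKZ⟩ :=
        exists_compl_le hG hSP h30 hM hK hT hcyc hX₁K hX₁p hLc hNL hc hα hX₂K hX₂p hX₂σ
      exact Cfsg.Agent.Lib.Helper27.BGPCount.three_of_not_le hG
        (not_sigmaCore_H_le hG hSP h30 hM hK hT hcyc hX₁K hX₁p hLc hNL hcompl hKZ)
  · -- tau2
    intro L hL
    rcases (hmem L).mp hL with rfl | ⟨hLc, X₁, hX₁K, hX₁p, hNL⟩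
    · exact not_tau2_of_compl hK hcM
    · obtain ⟨X₂, hX₂K, hX₂p, hX₂σ⟩ := hout hX₁K hX₁p hLc hNL
      obtain ⟨Kss, hKss, hle, hX'le, hT', hcompl, hKZ⟩ :=
        exists_compl_le hG hSP h30 hM hK hT hcyc hX₁K hX₁p hLc hNL hc hα hX₂K hX₂p hX₂σ
      exact not_tau2_of_compl hKss hcompl

end family

end Cfsg.Agent.Lib.Helper21.BGPart
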