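import Mathlib
import Cfsg.Agent.Lib.Helper21.BGPartF
import Cfsg.Agent.Lib.Helper19.BG123

/-!
# B & G 14.7(a)-(c): the partner `M*` of a maximal subgroup `M` with `κ(M) ≠ ∅` (helper21), part G:
S1366 in hypothesis form.
-/

set_option autoImplicit false
set_option linter.unusedVariables false
set_option linter.unusedSectionVars false
open scoped commutatorElement

namespace Cfsg.Agent.Lib.Helper21.BGPart

open Cfsg
open Cfsg.Agent.Lib.Helper9.BG144 (SP)
open Cfsg.Agent.Lib.Helper2.BGCor (T142 sigmaCore_le primes_card_sigmaCore)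
open Cfsg.Agent.Lib.Helper24.BGC2T (C1431)
open Cfsg.Agent.Lib.Helper8 (mem_map_conj conj_mem_map_conj map_conj_map_conj map_conj_one
  map_conj_le_iff map_conj_eq_iff card_map_conj mem_normalizer_iff_map_conj)
open Cfsg.Agent.Lib.Helper8.BGPS (exists_mul_of_mem_sup_of_commute)

universe u

variable {G : Type u} [Group G] [Finite G]

/-- S1431 for every maximal subgroup. -/
def H31 (G : Type*) [Group G] : Prop :=
  ∀ N : Subgroup G, IsCoatom N → ∀ K : Subgroup G, Cfsg.IsPiHallOf (Cfsg.kappa N) K N → K ≠ ⊥ →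
    C1431 N K

/-- a nontrivial subgroup has a subgroup of prime order. -/
theorem exists_prime_le {K : Subgroup G} (hK1 : K ≠ ⊥) :
    ∃ X : Subgroup G, X ≤ K ∧ (Nat.card X).Prime := by
  obtain ⟨a, ha, ha1⟩ := (Subgroup.bot_or_exists_ne_one _).resolve_left hK1
  obtain ⟨j, hj⟩ := Cfsg.Agent.Lib.Helper2.BGCor.exists_pow_prime_order ha1
  exact ⟨Subgroup.zpowers (a ^ j), Subgroup.zpowers_le.mpr (Subgroup.pow_mem _ ha j), hj⟩

section final

variable (hG : Cfsg.IsMinSimpleOddOrder G) (hSP : SP G) (h30 : H30 G) (hc : HCyc G)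
  (hα : HAlpha G) {M K : Subgroup G}
  (hM : IsCoatom M)
  (hK : Cfsg.IsPiHallOf (Cfsg.kappa M) K M) (hT : T142 M K) (hcyc : IsCyclic K)
  {X H : Subgroup G} (hXK : X ≤ K) (hXp : (Nat.card X).Prime)
  (hH : IsCoatom H) (hNH : Subgroup.normalizer (X : Set G) ≤ H)

include hG hSP h30 hc hα hM hK hT hcyc hXK hXp hH hNH

/-- `K ≤ H_σ`. -/
theorem K_le_sigmaCore_H : K ≤ Cfsg.sigmaCore H := by
  apply Cfsg.Agent.Lib.Helper19.BG123.le_sigmaCore_of_primes hG hH (K_le_H hK hT hXK hXp hNH)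
  intro r hr hd
  have : Fact r.Prime := ⟨hr⟩
  obtain ⟨x, hx⟩ := exists_prime_orderOf_dvd_card' r hd
  have hX₁K : Subgroup.zpowers (x : G) ≤ K := Subgroup.zpowers_le.mpr x.2
  have hX₁c : Nat.card (Subgroup.zpowers (x : G)) = r := by
    rw [Nat.card_zpowers, Subgroup.orderOf_coe, hx]
  have hX₁p : (Nat.card (Subgroup.zpowers (x : G))).Prime := hX₁c ▸ hr
  obtain ⟨L, hL, hNL⟩ := exists_partner hG hSP h30 hc hα hM hK hT hcyc hX₁K hX₁p
  have hLH : L = H :=
    partner_eq hG hSP h30 hc hα hM hK hT hcyc hXK hXp hH hNH hX₁K hX₁p hL hNL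
  rw [← hX₁c, ← hLH]
  exact card_mem_sigma_H hG hK hT hX₁K hX₁p hL hNL

/-- `K = C_{H_σ}(K*)`. -/
theorem K_eq : K = Cfsg.sigmaCore H ⊓ Subgroup.centralizer
    ((Cfsg.sigmaCore M ⊓ Subgroup.centralizer (K : Set G) : Subgroup G) : Set G) := by
  obtain ⟨Kss, hKss, hle, hne, hT'⟩ := exists_hall_kappa_H hG hSP hM hK hT hXK hXp hH hNH h30
  obtain ⟨Y, hYp, hYT⟩ := exists_prime_le_kstar hG hSP hM hK hT hXK hXp hH hNH hKss hle hT'
  apply le_antisymm
  · refine le_inf (K_le_sigmaCore_H hG hSP h30 hc hα hM hK hT hcyc hXK hXp hH hNH) ?_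
    intro k hk
    rw [Subgroup.mem_centralizer_iff]
    intro b hb
    exact (Subgroup.mem_centralizer_iff.mp hb.2 k hk).symm
  · refine le_trans ?_ (kone_le_K hG hSP hM hK hT hXK hXp hH hNH hKss hle hT')
    rw [← cent_X hKss hT' (hYT.trans hle) hYp]
    exact inf_le_inf_left _ (Subgroup.centralizer_le hYT)

/-- `K*` is a Hall `κ(H)`-subgroup of `H`. -/
theorem kstar_hall : Cfsg.IsPiHallOf (Cfsg.kappa H)
    (Cfsg.sigmaCore M ⊓ Subgroup.centralizer (K : Set G)) H := by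
  obtain ⟨Kss, hKss, hle, hne, hT'⟩ := exists_hall_kappa_H hG hSP hM hK hT hXK hXp hH hNH h30
  have hKZ := kss_le_Z hG hSP h30 hM hK hT hcyc hXK hXp hH hNH hKss hle hT'
  have heq : Kss = Cfsg.sigmaCore M ⊓ Subgroup.centralizer (K : Set G) := by
    apply le_antisymm _ hle
    intro z hz
    obtain ⟨a, ha, b, hb, rfl⟩ := exists_mul_of_mem_sup_of_commute
      (comm_K_kstar hG hSP h30 hM hK hT hcyc hXK hXp hH hNH) (hKZ hz)
    have ha1 : a ∈ Kss ⊓ Cfsg.sigmaCore H := by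
      refine Subgroup.mem_inf.mpr ⟨?_,
        K_le_sigmaCore_H hG hSP h30 hc hα hM hK hT hcyc hXK hXp hH hNH ha⟩
      have : a = a * b * b⁻¹ := by group
      rw [this]
      exact Subgroup.mul_mem _ hz (Subgroup.inv_mem _ (hle hb))
    rw [hall_kappa_inf_sigmaCore hKss, Subgroup.mem_bot] at ha1
    rw [ha1, one_mul]
    exact hb
  rw [← heq]
  exact hKss

end final

/-- **S1366** from S1378, S1430, S1431, S1351 and (α). -/
theorem s1366_of (hG : Cfsg.IsMinSimpleOddOrder G) (hSP : SP G) (h30 : H30 G) (h31 : H31 G)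
    (hc : HCyc G) (hα : HAlpha G) {M K U : Subgroup G} (hM : IsCoatom M)
    (hKU : Cfsg.IsSigmaDecomposition M K U) (hK1 : K ≠ ⊥) :
    ∃! Mstar : Subgroup G, IsCoatom Mstar ∧
      K = Cfsg.sigmaCore Mstar ⊓ Subgroup.centralizer
        ((Cfsg.sigmaCore M ⊓ Subgroup.centralizer (K : Set G)) : Set G) ∧
      Cfsg.IsPiHallOf (Cfsg.kappa Mstar)
        (Cfsg.sigmaCore M ⊓ Subgroup.centralizer (K : Set G)) Mstar := by
  have hK := hKU.hall
  have hcyc := hKU.cyclic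
  have hT : T142 M K := h30 M hM K hK hK1
  obtain ⟨X, hXK, hXp⟩ := exists_prime_le hK1
  obtain ⟨H, hH, hNH⟩ := exists_partner hG hSP h30 hc hα hM hK hT hcyc hXK hXp
  have hKeq := K_eq hG hSP h30 hc hα hM hK hT hcyc hXK hXp hH hNH
  have hhall := kstar_hall hG hSP h30 hc hα hM hK hT hcyc hXK hXp hH hNH
  refine ⟨H, ⟨hH, hKeq, hhall⟩, ?_⟩
  rintro M' ⟨hM', hKeq', hhall'⟩
  have hp : Nat.card X ∈ Cfsg.sigma H := card_mem_sigma_H hG hK hT hXK hXp hH hNH
  have hKM' : K ≤ Cfsg.sigmaCore M' := by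
    rw [hKeq']
    exact inf_le_left
  have hp' : Nat.card X ∈ Cfsg.sigma M' :=
    primes_card_sigmaCore M' _ hXp (Subgroup.card_dvd_of_le (hXK.trans hKM'))
  obtain ⟨g, hg⟩ := hSP H M' hH hM' ⟨_, hp, hp'⟩
  have hks1 : Cfsg.sigmaCore M ⊓ Subgroup.centralizer (K : Set G) ≠ ⊥ :=
    kstar_ne_bot hK hT hXK hXp
  have h31' := (h31 H hH _ hhall hks1).1
  have hgH : g ∈ H := by
    by_contra hgH
    have h1 := h31' g hgH
    rw [← hKeq, ← hg] at h1
    apply hK1
    rw [eq_bot_iff, ← h1]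
    exact le_inf le_rfl (hKM'.trans (sigmaCore_le M'))
  rw [hg]
  exact mem_normalizer_iff_map_conj.mp (Subgroup.le_normalizer hgH)

end Cfsg.Agent.Lib.Helper21.BGPart
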