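import Mathlib
import Cfsg.Prelude.Def_Characters
import Cfsg.Agent.Lib.Helper24.BSWDefs
import Cfsg.Agent.Lib.Helper24.IrrFacts

/-!
# S3282 (Brauer-Suzuki-Wall), leaf M3, in `_of` form over B8 and G1
-/

set_option autoImplicit false
open Cfsg Cfsg.Agent.Lib.Helper24.BSW

namespace Cfsg.Agent.Lib.Helper21.BSWM3

variable {G : Type*} [Group G] [Finite G]

/-- local copy of B0a `invCount_ne_zero_iff` -/
theorem invCount_ne_zero_iff' (y : G) :
    invCount y ≠ 0 ↔ ∃ u : G, orderOf u = 2 ∧ u * y * u⁻¹ = y⁻¹ := by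
  unfold invCount
  rw [Nat.card_ne_zero]
  constructor
  · rintro ⟨⟨u, hu⟩, _⟩
    exact ⟨u, hu⟩
  · rintro ⟨u, hu⟩
    exact ⟨⟨⟨u, hu⟩⟩, inferInstance⟩

/-- the sum of an irreducible character vanishing off `1` on a subgroup -/
theorem card_dvd_of_vanish {X : G → ℂ} (hX : Cfsg.IsIrrCharacter G X) (M : Subgroup G) (n : ℕ)
    (h1 : X 1 = (n : ℂ)) (h0 : ∀ z ∈ M, z ≠ 1 → X z = 0) : Nat.card M ∣ n := by
  classical
  have : Fintype M := Fintype.ofFinite M
  obtain ⟨m, hm⟩ := Cfsg.Agent.Lib.Helper24.irr_sum_subgroup (⟨X, hX⟩ : Cfsg.IrrCharacter G) M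
  have hsum : ∑ z : M, X (z : G) = X 1 := by
    rw [Finset.sum_eq_single (1 : M)]
    · rfl
    · intro b _ hb
      exact h0 b b.2 (fun hb1 => hb (Subtype.ext hb1))
    · intro hn
      exact absurd (Finset.mem_univ _) hn
  have h2 : (n : ℂ) = ((Nat.card M * m : ℕ) : ℂ) := by
    rw [← h1, ← hsum]
    push_cast
    exact hm
  have h3 : n = Nat.card M * m := by exact_mod_cast h2
  exact Dvd.intro m h3.symm

/-- **M3** in `_of` form -/
theorem centralizer_dvd_of {t s : G} {K : Subgroup G} (_h : Hyp t s K) (hk : 4 ≤ Nat.card K)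
    {X : G → ℂ} (hM : DataM K X)
    (hB8 : ∀ y ∈ RR K, Odd (Nat.card (Subgroup.centralizer ({y} : Set G))) ∧
      ∀ z ∈ Subgroup.centralizer ({y} : Set G), z ≠ 1 → z ∈ RR K)
    (hG1 : ∀ y ∈ RR K, ∀ u : G, orderOf u = 2 → u * y * u⁻¹ = y⁻¹ →
      ∀ c ∈ Subgroup.centralizer ({y} : Set G), u * c * u⁻¹ = c⁻¹) :
    ∀ y ∈ RR K, X y = 0 →
      (∀ z ∈ Subgroup.centralizer ({y} : Set G), z ≠ 1 → X z = 0) ∧
      Nat.card (Subgroup.centralizer ({y} : Set G)) ∣ 2 * Nat.card K - 1 := by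
  intro y hy hXy
  have hy0 : invCount y = 0 := by
    rcases hM.onRR y hy with ⟨_, h0⟩ | ⟨h1, _⟩
    · exact h0
    · exfalso
      rw [hXy] at h1
      exact zero_ne_one h1
  have hz : ∀ z ∈ Subgroup.centralizer ({y} : Set G), z ≠ 1 → X z = 0 := by
    intro z hz hz1
    have hzR := (hB8 y hy).2 z hz hz1
    rcases hM.onRR z hzR with ⟨h0, _⟩ | ⟨_, hc⟩
    · exact h0
    · exfalso
      have hne : invCount z ≠ 0 := by rw [hc]; omega
      obtain ⟨u, hu2, huz⟩ := (invCount_ne_zero_iff' z).mp hne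
      have hyz : y ∈ Subgroup.centralizer ({z} : Set G) := by
        rw [Subgroup.mem_centralizer_singleton_iff] at hz ⊢
        exact hz.symm
      have hinv := hG1 z hzR u hu2 huz y hyz
      exact (invCount_ne_zero_iff' y).mpr ⟨u, hu2, hinv⟩ hy0
  refine ⟨hz, ?_⟩
  apply card_dvd_of_vanish hM.irr _ (2 * Nat.card K - 1) _ hz
  rw [hM.deg]
  have : 1 ≤ 2 * Nat.card K := by omega
  push_cast [Nat.cast_sub this]
  ring

end Cfsg.Agent.Lib.Helper21.BSWM3
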