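import Mathlib
import Cfsg.Prelude.Def_Characters
import Cfsg.Agent.Lib.Helper24.BSWDefs
import Cfsg.Agent.Lib.Helper21.BSWM3
import Cfsg.Agent.Lib.Helper4.PscCount
import Cfsg.Agent.Lib.Lead.CharOrtho

/-!
# S3282 (Brauer-Suzuki-Wall), leaf M4, in `_of` form over B8 and M3
-/

set_option autoImplicit false
open Cfsg Cfsg.Agent.Lib.Helper24.BSW
open scoped ComplexConjugate

namespace Cfsg.Agent.Lib.Helper21.BSWM4

variable {G : Type*} [Group G] [Finite G]

omit [Finite G] in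
/-- `RR` is closed under conjugation -/
theorem conj_mem_RR (K : Subgroup G) (a g : G) (hg : g ∈ RR K) : a * g * a⁻¹ ∈ RR K := by
  refine ⟨?_, ?_⟩
  · intro h
    apply hg.1
    calc g = a⁻¹ * (a * g * a⁻¹) * a := by group
      _ = 1 := by rw [h]; group
  · intro x hx
    apply hg.2 (x * a)
    have : x * a * g * (x * a)⁻¹ = x * (a * g * a⁻¹) * x⁻¹ := by group
    rw [this]
    exact hx

omit [Finite G] in
/-- `RR` is closed under inversion -/
theorem inv_mem_RR (K : Subgroup G) (g : G) (hg : g ∈ RR K) : g⁻¹ ∈ RR K := by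
  refine ⟨?_, ?_⟩
  · intro h
    exact hg.1 (inv_eq_one.mp h)
  · intro x hx
    apply hg.2 x
    have : x * g * x⁻¹ = (x * g⁻¹ * x⁻¹)⁻¹ := by group
    rw [this]
    exact K.inv_mem hx

/-- an element of odd-order centralizer conjugate to its inverse is inverted by an involution -/
theorem exists_involution_of_conj_inv (y g : G)
    (hodd : Odd (Nat.card (Subgroup.centralizer ({y} : Set G)))) (hy1 : y ≠ 1)
    (hg : g * y * g⁻¹ = y⁻¹) : ∃ u : G, orderOf u = 2 ∧ u * y * u⁻¹ = y⁻¹ := by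
  have hg2 : g ^ 2 ∈ Subgroup.centralizer ({y} : Set G) := by
    rw [Subgroup.mem_centralizer_singleton_iff]
    have h1 : g * y⁻¹ * g⁻¹ = y := by
      calc g * y⁻¹ * g⁻¹ = (g * y * g⁻¹)⁻¹ := by group
        _ = y⁻¹⁻¹ := by rw [hg]
        _ = y := inv_inv y
    calc g ^ 2 * y = g * (g * y * g⁻¹) * g⁻¹ * g ^ 2 := by rw [pow_two]; group
      _ = g * y⁻¹ * g⁻¹ * g ^ 2 := by rw [hg]
      _ = y * g ^ 2 := by rw [h1]
  have hmodd : Odd (orderOf (g ^ 2)) := hodd.of_dvd_nat (Subgroup.orderOf_dvd_natCard _ hg2)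
  obtain ⟨j, hj⟩ := hmodd
  -- `u = g ^ m`
  have hcomm : ∀ n : ℕ, (g ^ 2) ^ n * y = y * (g ^ 2) ^ n := by
    intro n
    have := (Subgroup.centralizer ({y} : Set G)).pow_mem hg2 n
    rw [Subgroup.mem_centralizer_singleton_iff] at this
    exact this
  refine ⟨g ^ orderOf (g ^ 2), ?_, ?_⟩
  · apply orderOf_eq_prime
    · rw [← pow_mul, mul_comm, pow_mul]
      exact pow_orderOf_eq_one _
    · intro hu
      -- then `y = y⁻¹`
      have hinv : y⁻¹ = y := by
        have h2 : g ^ orderOf (g ^ 2) * y * (g ^ orderOf (g ^ 2))⁻¹ = y⁻¹ := by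
          rw [hj, pow_succ, pow_mul]
          have hc := hcomm j
          calc (g ^ 2) ^ j * g * y * ((g ^ 2) ^ j * g)⁻¹
              = (g ^ 2) ^ j * (g * y * g⁻¹) * ((g ^ 2) ^ j)⁻¹ := by group
            _ = (g ^ 2) ^ j * y⁻¹ * ((g ^ 2) ^ j)⁻¹ := by rw [hg]
            _ = ((g ^ 2) ^ j * y * ((g ^ 2) ^ j)⁻¹)⁻¹ := by group
            _ = (y * (g ^ 2) ^ j * ((g ^ 2) ^ j)⁻¹)⁻¹ := by rw [hc]
            _ = y⁻¹ := by group
        rw [hu] at h2
        simpa using h2.symm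
      have hy2 : y ^ 2 = 1 := by
        rw [pow_two]
        nth_rewrite 1 [← hinv]
        exact inv_mul_cancel y
      have hyc : y ∈ Subgroup.centralizer ({y} : Set G) := by
        rw [Subgroup.mem_centralizer_singleton_iff]
      have hoy : Odd (orderOf y) := hodd.of_dvd_nat (Subgroup.orderOf_dvd_natCard _ hyc)
      have hd : orderOf y ∣ 2 := orderOf_dvd_of_pow_eq_one hy2
      have : orderOf y = 1 := by
        rcases (Nat.dvd_prime Nat.prime_two).mp hd with h1 | h2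
        · exact h1
        · exfalso
          rw [h2] at hoy
          exact (by decide : ¬ Odd 2) hoy
      exact hy1 (orderOf_eq_one_iff.mp this)
  · rw [hj, pow_succ, pow_mul]
    have hc := hcomm j
    calc (g ^ 2) ^ j * g * y * ((g ^ 2) ^ j * g)⁻¹
        = (g ^ 2) ^ j * (g * y * g⁻¹) * ((g ^ 2) ^ j)⁻¹ := by group
      _ = (g ^ 2) ^ j * y⁻¹ * ((g ^ 2) ^ j)⁻¹ := by rw [hg]
      _ = ((g ^ 2) ^ j * y * ((g ^ 2) ^ j)⁻¹)⁻¹ := by group
      _ = (y * (g ^ 2) ^ j * ((g ^ 2) ^ j)⁻¹)⁻¹ := by rw [hc]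
      _ = y⁻¹ := by group

/-- **M4** in `_of` form -/
theorem centralizer_card_of {t s : G} {K : Subgroup G} (_h : Hyp t s K) (hk : 4 ≤ Nat.card K)
    {X : G → ℂ} (hM : DataM K X)
    (hB8 : ∀ y ∈ RR K, Odd (Nat.card (Subgroup.centralizer ({y} : Set G))) ∧
      ∀ z ∈ Subgroup.centralizer ({y} : Set G), z ≠ 1 → z ∈ RR K)
    (hM3 : ∀ y ∈ RR K, X y = 0 →
      (∀ z ∈ Subgroup.centralizer ({y} : Set G), z ≠ 1 → X z = 0) ∧
      Nat.card (Subgroup.centralizer ({y} : Set G)) ∣ 2 * Nat.card K - 1) :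
    ∀ y ∈ RR K, X y = 0 →
      Nat.card (Subgroup.centralizer ({y} : Set G)) = 2 * Nat.card K - 1 ∧
      ∀ z ∈ RR K, X z = 0 → IsConj z y ∨ IsConj z y⁻¹ := by
  intro y hy hXy
  have hy1 : y ≠ 1 := hy.1
  have hXchar := Cfsg.Agent.CharLib.IsIrrCharacter.isCharacter hM.irr
  have hXcf : ∀ g a : G, X (a * g * a⁻¹) = X g :=
    Cfsg.Agent.CharLib.IsCharacter.isClassFunction hXchar
  have hXinv : X y⁻¹ = 0 := by
    rw [Cfsg.Agent.CharLib.IsCharacter.apply_inv hXchar, hXy, map_zero]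
  have hy0 : invCount y = 0 := by
    rcases hM.onRR y hy with ⟨_, h0⟩ | ⟨h1, _⟩
    · exact h0
    · exfalso
      rw [hXy] at h1
      exact zero_ne_one h1
  -- the three sets
  set S0 : Set G := {z | z ∈ RR K ∧ X z = 0} with hS0
  set SA : Set G := {x | IsConj y x} with hSA
  set SB : Set G := {x | IsConj y⁻¹ x} with hSB
  have hA0 : SA ⊆ S0 := by
    intro x hx
    obtain ⟨c, rfl⟩ := isConj_iff.mp hx
    exact ⟨conj_mem_RR K c y hy, by rw [hXcf]; exact hXy⟩
  have hB0 : SB ⊆ S0 := by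
    intro x hx
    obtain ⟨c, rfl⟩ := isConj_iff.mp hx
    exact ⟨conj_mem_RR K c _ (inv_mem_RR K y hy), by rw [hXcf]; exact hXinv⟩
  have hdisj : Disjoint SA SB := by
    rw [Set.disjoint_left]
    intro x hxA hxB
    have hc : IsConj y y⁻¹ := IsConj.trans hxA (IsConj.symm hxB)
    obtain ⟨g, hg⟩ := isConj_iff.mp hc
    obtain ⟨u, hu2, huy⟩ := exists_involution_of_conj_inv y g (hB8 y hy).1 hy1 hg
    exact (Cfsg.Agent.Lib.Helper21.BSWM3.invCount_ne_zero_iff' y).mpr ⟨u, hu2, huy⟩ hy0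
  -- cardinalities
  have hcA : Nat.card G = SA.ncard * Nat.card (Subgroup.centralizer ({y} : Set G)) :=
    Cfsg.Agent.Lib.Helper4.card_eq_card_conj_mul_card_centralizer y
  have hcent : Subgroup.centralizer ({y⁻¹} : Set G) = Subgroup.centralizer ({y} : Set G) := by
    ext g
    rw [Subgroup.mem_centralizer_singleton_iff, Subgroup.mem_centralizer_singleton_iff]
    constructor
    · intro h
      calc g * y = y * (y⁻¹ * g) * y := by group
        _ = y * (g * y⁻¹) * y := by rw [h]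
        _ = y * g := by group
    · intro h
      calc g * y⁻¹ = y⁻¹ * (y * g) * y⁻¹ := by group
        _ = y⁻¹ * (g * y) * y⁻¹ := by rw [h]
        _ = y⁻¹ * g := by group
  have hcB : Nat.card G = SB.ncard * Nat.card (Subgroup.centralizer ({y} : Set G)) := by
    have := Cfsg.Agent.Lib.Helper4.card_eq_card_conj_mul_card_centralizer y⁻¹
    rw [hcent] at this
    exact this
  have hc0 : S0.ncard = 4 * Nat.card K * (Nat.card K - 1) := hM.card0
  have hle : SA.ncard + SB.ncard ≤ S0.ncard := by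
    rw [← Set.ncard_union_eq hdisj]
    exact Set.ncard_le_ncard (Set.union_subset hA0 hB0)
  obtain ⟨m', hm'⟩ := (hM3 y hy hXy).2
  have hG := hM.card
  obtain ⟨j, hj⟩ : ∃ j : ℕ, Nat.card K = j + 1 := ⟨Nat.card K - 1, by omega⟩
  have hj3 : 3 ≤ j := by omega
  rw [hj] at hG hc0 hm' ⊢
  have e1 : 2 * (j + 1) - 1 = 2 * j + 1 := by omega
  have e2 : 2 * (j + 1) - 2 = 2 * j := by omega
  have e3 : j + 1 - 1 = j := by omega
  rw [e1] at hm' ⊢
  rw [e1, e2] at hG
  rw [e3] at hc0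
  set c := Nat.card (Subgroup.centralizer ({y} : Set G)) with hc
  have hcpos : 0 < c := Nat.card_pos
  have hA' : SA.ncard = (j + 1) * m' * (2 * j) := by
    apply Nat.eq_of_mul_eq_mul_right hcpos
    rw [← hcA, hG, hm']
    ring
  have hB' : SB.ncard = (j + 1) * m' * (2 * j) := by
    apply Nat.eq_of_mul_eq_mul_right hcpos
    rw [← hcB, hG, hm']
    ring
  have hm1 : m' = 1 := by
    have hm0 : m' ≠ 0 := by
      rintro rfl
      omega
    have h1 : (4 * (j + 1) * j) * m' ≤ (4 * (j + 1) * j) * 1 := by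
      calc (4 * (j + 1) * j) * m' = (j + 1) * m' * (2 * j) + (j + 1) * m' * (2 * j) := by ring
        _ = SA.ncard + SB.ncard := by rw [hA', hB']
        _ ≤ S0.ncard := hle
        _ = (4 * (j + 1) * j) * 1 := by rw [hc0]; ring
    have hpos : 0 < 4 * (j + 1) * j := by positivity
    have := Nat.le_of_mul_le_mul_left h1 hpos
    omega
  subst hm1
  refine ⟨by rw [hm', mul_one], ?_⟩
  -- the two classes fill `S0`
  have heq : SA ∪ SB = S0 := by
    apply Set.eq_of_subset_of_ncard_le (Set.union_subset hA0 hB0)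
    rw [Set.ncard_union_eq hdisj, hA', hB', hc0]
    apply le_of_eq
    ring
  intro z hz hXz
  have hzS : z ∈ S0 := ⟨hz, hXz⟩
  rw [← heq] at hzS
  rcases hzS with hzA | hzB
  · exact Or.inl (IsConj.symm hzA)
  · exact Or.inr (IsConj.symm hzB)

end Cfsg.Agent.Lib.Helper21.BSWM4
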