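import Mathlib
import Cfsg.Prelude.Def_Characters
import Cfsg.Agent.Lib.Helper24.BSWDefs

/-!
# S3282 (Brauer-Suzuki-Wall), leaf M5, in `_of` form over B8, M3 and M4
-/

set_option autoImplicit false
open Cfsg Cfsg.Agent.Lib.Helper24.BSW

namespace Cfsg.Agent.Lib.Helper21.BSWM5

variable {G : Type*} [Group G] [Finite G]

omit [Finite G] in
/-- conjugate elements have the same order -/
theorem orderOf_eq_of_isConj {a b : G} (h : IsConj a b) : orderOf a = orderOf b := by
  obtain ⟨c, rfl⟩ := isConj_iff.mp h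
  exact ((MulAut.conj c).orderOf_eq a).symm

/-- **M5** in `_of` form -/
theorem prime_power_of {t s : G} {K : Subgroup G} (_h : Hyp t s K) (hk : 4 ≤ Nat.card K)
    {X : G → ℂ} (hM : DataM K X)
    (hB8 : ∀ y ∈ RR K, Odd (Nat.card (Subgroup.centralizer ({y} : Set G))) ∧
      ∀ z ∈ Subgroup.centralizer ({y} : Set G), z ≠ 1 → z ∈ RR K)
    (hM3 : ∀ y ∈ RR K, X y = 0 →
      (∀ z ∈ Subgroup.centralizer ({y} : Set G), z ≠ 1 → X z = 0) ∧
      Nat.card (Subgroup.centralizer ({y} : Set G)) ∣ 2 * Nat.card K - 1)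
    (hM4 : ∀ y ∈ RR K, X y = 0 →
      Nat.card (Subgroup.centralizer ({y} : Set G)) = 2 * Nat.card K - 1 ∧
      ∀ z ∈ RR K, X z = 0 → IsConj z y ∨ IsConj z y⁻¹) :
    ∃ p a : ℕ, p.Prime ∧ 2 * Nat.card K - 1 = p ^ a ∧
      ∀ y ∈ RR K, X y = 0 → orderOf y = p := by
  -- `R0` is not empty
  have hne : Nat.card {y : G // y ∈ RR K ∧ X y = 0} ≠ 0 := by
    rw [hM.card0]
    have h1 : 0 < Nat.card K := by omega
    have h2 : 0 < Nat.card K - 1 := by omega
    positivity
  obtain ⟨⟨⟨y, hy, hXy⟩⟩, _⟩ := Nat.card_ne_zero.mp hne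
  have hy1 : y ≠ 1 := hy.1
  -- all elements of `R0` have the order of `y`
  have hord : ∀ z ∈ RR K, X z = 0 → orderOf z = orderOf y := by
    intro z hz hXz
    rcases (hM4 y hy hXy).2 z hz hXz with hc | hc
    · exact orderOf_eq_of_isConj hc
    · rw [orderOf_eq_of_isConj hc, orderOf_inv]
  have hn1 : orderOf y ≠ 1 := fun h => hy1 (orderOf_eq_one_iff.mp h)
  have hn0 : orderOf y ≠ 0 := (orderOf_pos y).ne'
  have hp : (orderOf y).minFac.Prime := Nat.minFac_prime hn1
  set p := (orderOf y).minFac with hpdef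
  -- an element of order `p` in `C(y)`
  have hzo : orderOf (y ^ (orderOf y / p)) = p :=
    orderOf_pow_orderOf_div hn0 (Nat.minFac_dvd _)
  have hzc : y ^ (orderOf y / p) ∈ Subgroup.centralizer ({y} : Set G) := by
    rw [Subgroup.mem_centralizer_singleton_iff]
    exact (Commute.pow_self y _).eq
  have hz1 : y ^ (orderOf y / p) ≠ 1 := by
    intro h
    rw [h, orderOf_one] at hzo
    exact hp.one_lt.ne hzo
  have hzR := (hB8 y hy).2 _ hzc hz1
  have hzX := (hM3 y hy hXy).1 _ hzc hz1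
  have hnp : orderOf y = p := by rw [← hord _ hzR hzX, hzo]
  -- `C(y)` is a `p`-group
  have hpg : IsPGroup p (Subgroup.centralizer ({y} : Set G)) := by
    intro c
    by_cases hc1 : c = 1
    · exact ⟨0, by rw [hc1, one_pow]⟩
    · refine ⟨1, ?_⟩
      have hc1' : (c : G) ≠ 1 := fun h => hc1 (Subtype.ext h)
      have hcR := (hB8 y hy).2 _ c.2 hc1'
      have hcX := (hM3 y hy hXy).1 _ c.2 hc1'
      have ho : orderOf (c : G) = p := by rw [hord _ hcR hcX, hnp]
      apply Subtype.ext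
      rw [pow_one, Subgroup.coe_pow, ← ho]
      exact pow_orderOf_eq_one _
  have : Fact p.Prime := ⟨hp⟩
  obtain ⟨a, ha⟩ := hpg.exists_card_eq
  refine ⟨p, a, hp, ?_, ?_⟩
  · rw [← (hM4 y hy hXy).1, ha]
  · intro z hz hXz
    rw [hord z hz hXz, hnp]

end Cfsg.Agent.Lib.Helper21.BSWM5
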