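import Mathlib
import Cfsg.Prelude.Def_Characters
import Cfsg.Agent.Lib.Helper24.BSWDefs
import Cfsg.Agent.Lib.Helper21.BSWM3
import Cfsg.Agent.Lib.Helper21.BSWM4
import Cfsg.Agent.Lib.Helper21.BSWM5
import Cfsg.Agent.Lib.Helper12.BSWB8
import Cfsg.Agent.Lib.Helper2.BSWG

/-!
# S3282 (Brauer-Suzuki-Wall), leaves M3, M4, M5: the exact statements
-/

set_option autoImplicit false
open Cfsg Cfsg.Agent.Lib.Helper24.BSW

namespace Cfsg.Agent.Lib.Helper21.BSWM345X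

variable {G : Type*} [Group G] [Finite G]

/-- **M3** -/
theorem centralizer_dvd {t s : G} {K : Subgroup G} (h : Hyp t s K) (hk : 4 ≤ Nat.card K)
    {X : G → ℂ} (hM : DataM K X) :
    ∀ y ∈ RR K, X y = 0 →
      (∀ z ∈ Subgroup.centralizer ({y} : Set G), z ≠ 1 → X z = 0) ∧
      Nat.card (Subgroup.centralizer ({y} : Set G)) ∣ 2 * Nat.card K - 1 :=
  Cfsg.Agent.Lib.Helper21.BSWM3.centralizer_dvd_of h hk hM
    (Cfsg.Agent.Lib.Helper12.BSWB8.RR_centralizer h)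
    (Cfsg.Agent.Lib.Helper2.BSWG.inverts_centralizer_of
      (Cfsg.Agent.Lib.Helper12.BSWB8.RR_centralizer h))

/-- **M4** -/
theorem centralizer_card {t s : G} {K : Subgroup G} (h : Hyp t s K) (hk : 4 ≤ Nat.card K)
    {X : G → ℂ} (hM : DataM K X) :
    ∀ y ∈ RR K, X y = 0 →
      Nat.card (Subgroup.centralizer ({y} : Set G)) = 2 * Nat.card K - 1 ∧
      ∀ z ∈ RR K, X z = 0 → IsConj z y ∨ IsConj z y⁻¹ :=
  Cfsg.Agent.Lib.Helper21.BSWM4.centralizer_card_of h hk hM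
    (Cfsg.Agent.Lib.Helper12.BSWB8.RR_centralizer h) (centralizer_dvd h hk hM)

/-- **M5** -/
theorem prime_power {t s : G} {K : Subgroup G} (h : Hyp t s K) (hk : 4 ≤ Nat.card K)
    {X : G → ℂ} (hM : DataM K X) :
    ∃ p a : ℕ, p.Prime ∧ 2 * Nat.card K - 1 = p ^ a ∧
      ∀ y ∈ RR K, X y = 0 → orderOf y = p :=
  Cfsg.Agent.Lib.Helper21.BSWM5.prime_power_of h hk hM
    (Cfsg.Agent.Lib.Helper12.BSWB8.RR_centralizer h) (centralizer_dvd h hk hM)
    (centralizer_card h hk hM)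

end Cfsg.Agent.Lib.Helper21.BSWM345X
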