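import Mathlib
import Cfsg.Prelude.Def_Characters
import Cfsg.Agent.Lib.Helper24.BSWDefs
import Cfsg.Agent.Lib.Helper24.IrrFacts
import Cfsg.Agent.Lib.Helper21.BSWM345X
import Cfsg.Agent.Lib.Helper14.BSWB0a
import Cfsg.Agent.Lib.Helper16.BSWB1

/-!
# S3282 (Brauer-Suzuki-Wall), leaf M8, in `_of` form over M7
-/

set_option autoImplicit false
open Cfsg Cfsg.Agent.Lib.Helper24.BSW

namespace Cfsg.Agent.Lib.Helper21.BSWM8

variable {G : Type*} [Group G] [Finite G]

/-- an element of `N(Q)` of order prime to `|N(Q) : Q|` lies in `Q` -/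
theorem mem_of_pow_eq_one {Q : Subgroup G} (g : G) (hg : g ∈ Subgroup.normalizer (Q : Set G))
    (p j : ℕ) (hcard : Nat.card (Subgroup.normalizer (Q : Set G)) = Nat.card Q * j)
    (hcop : j.Coprime p) (hgp : g ^ p = 1) : g ∈ Q := by
  have hQN : Q ≤ Subgroup.normalizer (Q : Set G) := Subgroup.le_normalizer
  have hidx : (Q.subgroupOf (Subgroup.normalizer (Q : Set G))).index = j := by
    have h1 := (Q.subgroupOf (Subgroup.normalizer (Q : Set G))).card_mul_index
    rw [Nat.card_congr (Subgroup.subgroupOfEquivOfLe hQN).toEquiv, hcard] at h1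
    exact Nat.eq_of_mul_eq_mul_left Nat.card_pos h1
  have h2 := Subgroup.pow_index_mem (Q.subgroupOf (Subgroup.normalizer (Q : Set G))) ⟨g, hg⟩
  rw [hidx, Subgroup.mem_subgroupOf] at h2
  have h3 : g ^ j ∈ Q := by simpa using h2
  have hc : j.Coprime (orderOf g) :=
    Nat.Coprime.coprime_dvd_right (orderOf_dvd_of_pow_eq_one hgp) hcop
  obtain ⟨m, hm⟩ := exists_pow_eq_self_of_coprime hc
  rw [← hm]
  exact Q.pow_mem h3 m

/-- **M8** in `_of` form -/
theorem normalizer_Q_elements_of {t s : G} {K : Subgroup G} (h : Hyp t s K) (hk : 4 ≤ Nat.card K)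
    {X : G → ℂ} (hM : DataM K X)
    (hM7 : ∀ y ∈ RR K, X y = 0 →
      Nat.card (Subgroup.normalizer ((Subgroup.centralizer ({y} : Set G) : Subgroup G) : Set G)) =
        (2 * Nat.card K - 1) * (Nat.card K - 1)) :
    ∀ y ∈ RR K, X y = 0 →
      ∀ g ∈ Subgroup.normalizer ((Subgroup.centralizer ({y} : Set G) : Subgroup G) : Set G),
        g ∉ Subgroup.centralizer ({y} : Set G) → g ∈ RR K ∧ X g = 1 := by
  classical
  intro y hy hXy
  set Q := Subgroup.centralizer ({y} : Set G) with hQ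
  set N := Subgroup.normalizer (Q : Set G) with hN
  have hkeven : Even (Nat.card K) := (Cfsg.Agent.Lib.Helper16.BSWB1.card_centralizer h).2
  have hM3a : ∀ z ∈ Q, z ≠ 1 → X z = 0 :=
    (Cfsg.Agent.Lib.Helper21.BSWM345X.centralizer_dvd h hk hM y hy hXy).1
  have hQcard : Nat.card Q = 2 * Nat.card K - 1 :=
    (Cfsg.Agent.Lib.Helper21.BSWM345X.centralizer_card h hk hM y hy hXy).1
  obtain ⟨p, a, hp, hqa, hord⟩ := Cfsg.Agent.Lib.Helper21.BSWM345X.prime_power h hk hM
  have hNcard : Nat.card N = (2 * Nat.card K - 1) * (Nat.card K - 1) := hM7 y hy hXy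
  -- (1) `p` is prime to `k - 1`
  have hcop : (Nat.card K - 1).Coprime p := by
    have ha0 : a ≠ 0 := by
      rintro rfl
      rw [pow_zero] at hqa
      omega
    have hpd : p ∣ 2 * Nat.card K - 1 := by rw [hqa]; exact dvd_pow_self p ha0
    rw [Nat.coprime_comm, Nat.Prime.coprime_iff_not_dvd hp]
    intro hd
    have h3 : p ∣ (2 * Nat.card K - 1) - 2 * (Nat.card K - 1) :=
      Nat.dvd_sub hpd (Dvd.dvd.mul_left hd 2)
    have e : (2 * Nat.card K - 1) - 2 * (Nat.card K - 1) = 1 := by omega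
    rw [e] at h3
    exact hp.one_lt.ne' (Nat.dvd_one.mp h3)
  have h1 : ∀ g ∈ N, g ∉ Q → ¬ (g ∈ RR K ∧ X g = 0) := by
    rintro g hgN hgQ ⟨hgR, hgX⟩
    apply hgQ
    have hgo := hord g hgR hgX
    exact mem_of_pow_eq_one g hgN p (Nat.card K - 1) (by rw [← hN, hNcard, hQcard]) hcop
      (by rw [← hgo]; exact pow_orderOf_eq_one g)
  have hval : ∀ g ∈ N, g ∉ Q → (g ∈ RR K ∧ X g = 1) ∨ X g = -1 := by
    intro g hgN hgQ
    have hg1 : g ≠ 1 := fun h' => hgQ (h' ▸ Q.one_mem)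
    rcases Cfsg.Agent.Lib.Helper14.BSWB0a.mem_KK_or_mem_RR K g hg1 with hKK | hRR
    · exact Or.inr (hM.onKK g hKK)
    · rcases hM.onRR g hRR with ⟨h0, _⟩ | ⟨h1', _⟩
      · exact absurd ⟨hRR, h0⟩ (h1 g hgN hgQ)
      · exact Or.inl ⟨hRR, h1'⟩
  -- it suffices to exclude the value `-1`
  suffices hr2 : ∀ g ∈ N, g ∉ Q → X g ≠ -1 by
    intro g hgN hgQ
    rcases hval g hgN hgQ with h' | h'
    · exact h'
    · exact absurd h' (hr2 g hgN hgQ)
  by_contra hex
  push Not at hex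
  obtain ⟨g₀, hg₀N, hg₀Q, hg₀X⟩ := hex
  have : Fintype G := Fintype.ofFinite G
  set FN : Finset G := Finset.univ.filter (· ∈ N) with hFN
  set FQ : Finset G := Finset.univ.filter (· ∈ Q) with hFQ
  set FD : Finset G := FN \ FQ with hFD
  set F2 : Finset G := FD.filter (fun g => X g = -1) with hF2
  set F1 : Finset G := FD.filter (fun g => ¬ X g = -1) with hF1
  obtain ⟨m, hm⟩ := Cfsg.Agent.Lib.Helper24.irr_sum_subgroup (⟨X, hM.irr⟩ : Cfsg.IrrCharacter G) N
  have hsumN : ∑ z : N, X (z : G) = ∑ g ∈ FN, X g :=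
    (Finset.sum_subtype FN (by simp [hFN]) X).symm
  have hQN : FQ ⊆ FN := by
    intro g hg
    rw [hFQ, Finset.mem_filter] at hg
    rw [hFN, Finset.mem_filter]
    exact ⟨Finset.mem_univ _, Subgroup.le_normalizer hg.2⟩
  have hsplit : ∑ g ∈ FN, X g = ∑ g ∈ FD, X g + ∑ g ∈ FQ, X g := (Finset.sum_sdiff hQN).symm
  have hsumQ : ∑ g ∈ FQ, X g = X 1 := by
    apply Finset.sum_eq_single (1 : G)
    · intro b hb hb1
      rw [hFQ, Finset.mem_filter] at hb
      exact hM3a b hb.2 hb1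
    · intro hn
      exfalso
      apply hn
      rw [hFQ, Finset.mem_filter]
      exact ⟨Finset.mem_univ _, Q.one_mem⟩
  have hmemD : ∀ g ∈ FD, g ∈ N ∧ g ∉ Q := by
    intro g hg
    rw [hFD, Finset.mem_sdiff, hFN, hFQ, Finset.mem_filter, Finset.mem_filter] at hg
    exact ⟨hg.1.2, fun hq => hg.2 ⟨Finset.mem_univ _, hq⟩⟩
  have hsumD : ∑ g ∈ FD, X g = (F1.card : ℂ) - (F2.card : ℂ) := by
    rw [← Finset.sum_filter_add_sum_filter_not FD (fun g => X g = -1)]
    have e2 : ∑ g ∈ F2, X g = -(F2.card : ℂ) := by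
      rw [Finset.sum_congr rfl (fun g hg => (Finset.mem_filter.mp hg).2), Finset.sum_const,
        nsmul_eq_mul, mul_neg, mul_one]
    have e1 : ∑ g ∈ F1, X g = (F1.card : ℂ) := by
      have : ∀ g ∈ F1, X g = 1 := by
        intro g hg
        rw [hF1, Finset.mem_filter] at hg
        obtain ⟨hgN, hgQ⟩ := hmemD g hg.1
        rcases hval g hgN hgQ with h' | h'
        · exact h'.2
        · exact absurd h' hg.2
      rw [Finset.sum_congr rfl this, Finset.sum_const, nsmul_eq_mul, mul_one]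
    rw [e1, e2]
    ring
  have hcards : F2.card + F1.card = FD.card := Finset.card_filter_add_card_filter_not _
  have hFDc : FD.card + FQ.card = FN.card := Finset.card_sdiff_add_card_eq_card hQN
  have hFNc : FN.card = Nat.card N := (Nat.subtype_card FN (by simp [hFN])).symm
  have hFQc : FQ.card = Nat.card Q := (Nat.subtype_card FQ (by simp [hFQ])).symm
  have hF2pos : 1 ≤ F2.card := by
    apply Finset.card_pos.mpr
    refine ⟨g₀, ?_⟩
    rw [hF2, Finset.mem_filter, hFD, Finset.mem_sdiff, hFN, hFQ, Finset.mem_filter,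
      Finset.mem_filter]
    exact ⟨⟨⟨Finset.mem_univ _, hg₀N⟩, fun hq => hg₀Q hq.2⟩, hg₀X⟩
  -- the equation in `ℕ`
  have hdeg : X 1 = ((2 * Nat.card K - 1 : ℕ) : ℂ) := by
    rw [hM.deg]
    have : 1 ≤ 2 * Nat.card K := by omega
    push_cast [Nat.cast_sub this]
    ring
  have heqC : ((Nat.card N * m + F2.card : ℕ) : ℂ) = ((F1.card + (2 * Nat.card K - 1) : ℕ) : ℂ) := by
    have h4 : (Nat.card N : ℂ) * (m : ℂ) = (F1.card : ℂ) - (F2.card : ℂ) + X 1 := by
      rw [← hm, hsumN, hsplit, hsumD, hsumQ]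
    rw [hdeg] at h4
    push_cast
    linear_combination h4
  have heqN : Nat.card N * m + F2.card = F1.card + (2 * Nat.card K - 1) := by exact_mod_cast heqC
  have htot : Nat.card N * m + 2 * F2.card = Nat.card N := by
    rw [← hFNc, ← hFDc, hFQc, hQcard, ← hcards]
    rw [← hFNc, ← hFDc, hFQc, hQcard, ← hcards] at heqN
    omega
  have hm0 : m = 0 := by
    by_contra hm0
    have : Nat.card N ≤ Nat.card N * m := Nat.le_mul_of_pos_right _ (Nat.pos_of_ne_zero hm0)
    omega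
  rw [hm0, mul_zero, zero_add] at htot
  -- parity
  have hodd : Odd (Nat.card N) := by
    rw [hNcard]
    obtain ⟨c, hc⟩ := hkeven
    apply Odd.mul
    · exact ⟨Nat.card K - 1, by omega⟩
    · exact ⟨c - 1, by omega⟩
  obtain ⟨c, hc⟩ := hodd
  omega

end Cfsg.Agent.Lib.Helper21.BSWM8
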