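import Mathlib
import Cfsg.Prelude.Def_FusionSystem

/-!
# Leary–Stancu model: definitions (S5286)

`Sig S = Perm ↥S`, `lam` the left regular representation, `Idx F` the maps of the system,
`X F = Σ i, Sig S ⧸ λ(φ_i(P_i))`, `Ghat F = FreeGroup (X F) ⋊ Sig S`, `t i = x_i * σ_i`,
`G F = ⟨ι(S), t i⟩ ≤ Ghat F`.  Words `evalR`, pinches, reduced words.
-/

set_option autoImplicit false
universe u
open Cfsg

namespace Cfsg.Agent.Lib.Helper21.LS

/-! ## General: a group acting on the generators of a free group -/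
section General
variable (Γ : Type*) (Y : Type*) [Group Γ] [MulAction Γ Y]

/-- `Γ` acts on `FreeGroup Y` by permuting the generators. -/
def actHom : Γ →* MulAut (FreeGroup Y) where
  toFun γ := FreeGroup.freeGroupCongr (MulAction.toPerm γ)
  map_one' := by
    apply MulEquiv.toMonoidHom_injective
    ext y
    simp [FreeGroup.freeGroupCongr]
  map_mul' γ δ := by
    apply MulEquiv.toMonoidHom_injective
    ext y
    simp [FreeGroup.freeGroupCongr, mul_smul]

variable {Γ Y}

@[simp] theorem actHom_of (γ : Γ) (y : Y) : actHom Γ Y γ (FreeGroup.of y) = FreeGroup.of (γ • y) := by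
  simp [actHom, FreeGroup.freeGroupCongr]

/-- the action of `Γ` on letters -/
def lsmul (γ : Γ) (p : Y × Bool) : Y × Bool := (γ • p.1, p.2)

theorem actHom_mk (γ : Γ) (L : List (Y × Bool)) :
    actHom Γ Y γ (FreeGroup.mk L) = FreeGroup.mk (L.map (lsmul γ)) := by
  simp only [actHom, FreeGroup.freeGroupCongr, MonoidHom.coe_mk, OneHom.coe_mk, MulEquiv.coe_mk,
    Equiv.coe_fn_mk, FreeGroup.map.mk]
  rfl

/-- the action of the semidirect product on the vertices of the Cayley tree of `FreeGroup Y` -/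
def vact (g : FreeGroup Y ⋊[actHom Γ Y] Γ) (v : FreeGroup Y) : FreeGroup Y :=
  g.left * actHom Γ Y g.right v

@[simp] theorem vact_one_left (g : FreeGroup Y ⋊[actHom Γ Y] Γ) : vact g 1 = g.left := by
  simp [vact]

@[simp] theorem vact_one (v : FreeGroup Y) : vact (1 : FreeGroup Y ⋊[actHom Γ Y] Γ) v = v := by
  simp [vact]

theorem vact_mul (g h : FreeGroup Y ⋊[actHom Γ Y] Γ) (v : FreeGroup Y) :
    vact (g * h) v = vact g (vact h v) := by
  simp [vact, mul_assoc]

end General

variable {Ω : Type u} [Group Ω] {S : Subgroup Ω}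

/-- `Sig S = Perm(S)` -/
abbrev Sig (S : Subgroup Ω) := Equiv.Perm ↥S

/-- the left regular representation of `S` -/
def lam (S : Subgroup Ω) : ↥S →* Sig S := MulAction.toPermHom ↥S ↥S

@[simp] theorem lam_apply (s x : ↥S) : lam S s x = s * x := rfl

theorem lam_injective : Function.Injective (lam S) := by
  intro a b h
  have := congrArg (fun σ : Sig S => σ 1) h
  simpa using this

/-- the index set of the stable letters: all maps of the system -/
structure Idx (F : FusionSystem S) : Type u where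
  P : Subgroup Ω
  φ : P →* Ω
  mem : φ ∈ F.Hom P

variable (F : FusionSystem S)

/-- the image of `φ_i` -/
def Idx.Q {F : FusionSystem S} (i : Idx F) : Subgroup Ω := i.φ.range

theorem Idx.P_le {F : FusionSystem S} (i : Idx F) : i.P ≤ S := (F.le_of_mem i.mem).1

theorem Idx.φ_mem {F : FusionSystem S} (i : Idx F) (x : i.P) : i.φ x ∈ S := (F.le_of_mem i.mem).2 x

theorem Idx.Q_le {F : FusionSystem S} (i : Idx F) : i.Q ≤ S := by
  rintro _ ⟨x, rfl⟩
  exact i.φ_mem x

/-- `λ(Q_i) ≤ Sig S` -/
def Qhat (i : Idx F) : Subgroup (Sig S) := (i.Q.subgroupOf S).map (lam S)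

/-- the generators of the free group: the disjoint union of the coset spaces `Sig S ⧸ λ(Q_i)` -/
def X : Type u := Σ i : Idx F, (Sig S ⧸ Qhat F i)

noncomputable instance : DecidableEq (X F) := Classical.decEq _

instance : MulAction (Sig S) (X F) where
  smul σ x := ⟨x.1, σ • x.2⟩
  one_smul x := by
    rcases x with ⟨i, c⟩
    show (⟨i, (1 : Sig S) • c⟩ : X F) = ⟨i, c⟩
    rw [one_smul]
  mul_smul σ τ x := by
    rcases x with ⟨i, c⟩
    show (⟨i, (σ * τ) • c⟩ : X F) = ⟨i, σ • τ • c⟩
    rw [mul_smul]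

theorem smul_mk (σ : Sig S) (i : Idx F) (c : Sig S ⧸ Qhat F i) :
    σ • (⟨i, c⟩ : X F) = ⟨i, σ • c⟩ := rfl

@[simp] theorem smul_fst (σ : Sig S) (x : X F) : (σ • x).1 = x.1 := rfl

/-- the ambient group `FreeGroup (X F) ⋊ Perm(S)` -/
abbrev Ghat := FreeGroup (X F) ⋊[actHom (Sig S) (X F)] Sig S

/-- `S → Ghat` -/
def iotaHat : ↥S →* Ghat F := SemidirectProduct.inr.comp (lam S)

@[simp] theorem iotaHat_left (s : ↥S) : (iotaHat F s).left = 1 := rfl
@[simp] theorem iotaHat_right (s : ↥S) : (iotaHat F s).right = lam S s := rfl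

theorem iotaHat_injective : Function.Injective (iotaHat F) :=
  SemidirectProduct.inr_injective.comp lam_injective

/-- `σ` conjugates left translation by `u ∈ P_i` to left translation by `φ_i u`. -/
def SigGood (i : Idx F) (σ : Sig S) : Prop :=
  ∀ (u : i.P) (x : ↥S), σ (⟨(u : Ω), i.P_le u.2⟩ * x) = ⟨i.φ u, i.φ_mem u⟩ * σ x

open Classical in
/-- a chosen good permutation for `i` -/
noncomputable def sig (i : Idx F) : Sig S := if h : ∃ σ, SigGood F i σ then h.choose else 1

theorem sigGood_sig_of_exists (i : Idx F) (h : ∃ σ, SigGood F i σ) : SigGood F i (sig F i) := by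
  classical
  unfold sig
  rw [dif_pos h]
  exact h.choose_spec

/-- the generator `x_i` : the trivial coset of `λ(Q_i)` -/
def xi (i : Idx F) : X F := ⟨i, ((1 : Sig S) : Sig S ⧸ Qhat F i)⟩

/-- the stable letter `t_i = x_i * σ_i` -/
noncomputable def t (i : Idx F) : Ghat F :=
  SemidirectProduct.inl (FreeGroup.of (xi F i)) * SemidirectProduct.inr (sig F i)

/-- the Leary–Stancu group -/
noncomputable def G : Subgroup (Ghat F) :=
  Subgroup.closure (Set.range (iotaHat F) ∪ Set.range (t F))

/-- `S → G` -/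
noncomputable def iota : ↥S →* ↥(G F) :=
  (iotaHat F).codRestrict (G F) (fun s => Subgroup.subset_closure (Or.inl ⟨s, rfl⟩))

@[simp] theorem coe_iota (s : ↥S) : ((iota F s : ↥(G F)) : Ghat F) = iotaHat F s := rfl

theorem t_mem (i : Idx F) : t F i ∈ G F := Subgroup.subset_closure (Or.inr ⟨i, rfl⟩)

/-- `τ(i, true) = t_i`, `τ(i, false) = t_i⁻¹` -/
noncomputable def tau (i : Idx F) : Bool → Ghat F
  | true => t F i
  | false => (t F i)⁻¹

/-- the letter of `τ(i,ε)`: `(τ(i,ε)).left = mk [letter i ε]` -/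
noncomputable def letter (i : Idx F) : Bool → X F × Bool
  | true => (xi F i, true)
  | false => ((sig F i)⁻¹ • xi F i, false)

/-- the permutation part of `τ(i,ε)` -/
noncomputable def rho (i : Idx F) : Bool → Sig S
  | true => sig F i
  | false => (sig F i)⁻¹

/-- a step `τ(i,ε) * ι(s)` of a word -/
structure Step : Type u where
  i : Idx F
  ε : Bool
  s : ↥S

/-- the element `ι(s0) * τ_n ι(s_n) * ... * τ_1 ι(s_1)` for the list `[a_1, ..., a_n]`
(the head of the list is the LAST factor) -/
noncomputable def evalR (s0 : ↥S) : List (Step F) → Ghat F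
  | [] => iotaHat F s0
  | a :: l => evalR s0 l * tau F a.i a.ε * iotaHat F a.s

/-- `... τ_b ι(s_b) τ_a ...` is a pinch -/
def Pinch (b a : Step F) : Prop :=
  a.i = b.i ∧ a.ε = !b.ε ∧ (if b.ε = true then (b.s : Ω) ∈ b.i.P else (b.s : Ω) ∈ b.i.Q)

/-- reduced words (no pinch between consecutive steps) -/
def Reduced (l : List (Step F)) : Prop := l.IsChain (fun a b => ¬ Pinch F b a)

end Cfsg.Agent.Lib.Helper21.LS
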