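import Mathlib
import Cfsg.Agent.Lib.Helper21.LSDefs

/-! # Leary–Stancu model: basic computations (S5286) -/

set_option autoImplicit false
universe u
open Cfsg

namespace Cfsg.Agent.Lib.Helper21.LS

variable {Ω : Type u} [Group Ω] {S : Subgroup Ω} (F : FusionSystem S)

theorem t_left (i : Idx F) : (t F i).left = FreeGroup.of (xi F i) := by
  simp [t]

theorem t_right (i : Idx F) : (t F i).right = sig F i := by
  simp [t]

theorem t_inv_left (i : Idx F) : ((t F i)⁻¹).left = (FreeGroup.of ((sig F i)⁻¹ • xi F i))⁻¹ := by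
  rw [SemidirectProduct.inv_left, t_left, t_right, map_inv, actHom_of]

theorem t_inv_right (i : Idx F) : ((t F i)⁻¹).right = (sig F i)⁻¹ := by
  simp [t]

theorem tau_left (i : Idx F) (ε : Bool) : (tau F i ε).left = FreeGroup.mk [letter F i ε] := by
  cases ε
  · show ((t F i)⁻¹).left = _
    rw [t_inv_left]
    rfl
  · show (t F i).left = _
    rw [t_left]
    rfl

theorem tau_right (i : Idx F) (ε : Bool) : (tau F i ε).right = rho F i ε := by
  cases ε
  · exact t_inv_right F i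
  · exact t_right F i

theorem tau_mem (i : Idx F) (ε : Bool) : tau F i ε ∈ G F := by
  cases ε
  · exact (G F).inv_mem (t_mem F i)
  · exact t_mem F i

theorem iotaHat_mem (s : ↥S) : iotaHat F s ∈ G F := Subgroup.subset_closure (Or.inl ⟨s, rfl⟩)

theorem evalR_mem (s0 : ↥S) (l : List (Step F)) : evalR F s0 l ∈ G F := by
  induction l with
  | nil => exact iotaHat_mem F s0
  | cons a l ih => exact (G F).mul_mem ((G F).mul_mem ih (tau_mem F a.i a.ε)) (iotaHat_mem F a.s)

/-- conjugation of `lam` by a good permutation -/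
theorem sig_mul_lam (i : Idx F) (hσ : SigGood F i (sig F i)) (u : i.P) :
    sig F i * lam S ⟨(u : Ω), i.P_le u.2⟩ = lam S ⟨i.φ u, i.φ_mem u⟩ * sig F i := by
  ext x
  simp only [Equiv.Perm.coe_mul, Function.comp_apply, lam_apply]
  exact congrArg Subtype.val (hσ u x)

/-- `λ(q)` fixes `x_i` for `q ∈ Q_i` -/
theorem lam_smul_xi (i : Idx F) (q : ↥S) (hq : (q : Ω) ∈ i.Q) : lam S q • xi F i = xi F i := by
  show (⟨i, lam S q • ((1 : Sig S) : Sig S ⧸ Qhat F i)⟩ : X F) = ⟨i, ((1 : Sig S) : Sig S ⧸ Qhat F i)⟩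
  congr 1
  rw [MulAction.Quotient.smul_mk, smul_eq_mul, mul_one, QuotientGroup.eq]
  simpa using (show lam S q ∈ Qhat F i from ⟨q, hq, rfl⟩)

/-- the defining relation `t_i u t_i⁻¹ = φ_i u` -/
theorem t_conj (i : Idx F) (hσ : SigGood F i (sig F i)) (u : i.P) :
    t F i * iotaHat F ⟨(u : Ω), i.P_le u.2⟩ * (t F i)⁻¹ = iotaHat F ⟨i.φ u, i.φ_mem u⟩ := by
  rw [mul_inv_eq_iff_eq_mul]
  apply SemidirectProduct.ext
  · simp only [SemidirectProduct.mul_left, t_left, iotaHat_left, iotaHat_right, map_one, mul_one,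
      one_mul, actHom_of]
    rw [lam_smul_xi F i _ ⟨u, rfl⟩]
  · simp only [SemidirectProduct.mul_right, t_right, iotaHat_right]
    exact sig_mul_lam F i hσ u

theorem t_inv_conj (i : Idx F) (hσ : SigGood F i (sig F i)) (u : i.P) :
    (t F i)⁻¹ * iotaHat F ⟨i.φ u, i.φ_mem u⟩ * t F i = iotaHat F ⟨(u : Ω), i.P_le u.2⟩ := by
  rw [← t_conj F i hσ u]
  group

/-- the letter of `a`, transported by `ρ_b λ(s_b)`, cancels against the letter of `b` -/
def Cancel (b a : Step F) : Prop :=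
  (lsmul (rho F b.i b.ε * lam S b.s) (letter F a.i a.ε)).1 = (letter F b.i b.ε).1 ∧
  (lsmul (rho F b.i b.ε * lam S b.s) (letter F a.i a.ε)).2 = !(letter F b.i b.ε).2

end Cfsg.Agent.Lib.Helper21.LS
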