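import Mathlib
import Cfsg.Prelude.Def_Blocks
import Cfsg.Agent.Lib.Helper21.IsaacsMain
import Cfsg.Agent.Lib.Helper21.BGChar
import Cfsg.Agent.Lib.Helper6.Gallagher2
import Cfsg.Agent.Lib.Helper6.Ramification2

set_option autoImplicit false

namespace Cfsg.Agent.Lib.Helper21.Isaacs

open Cfsg Cfsg.Agent.CharLib Cfsg.Agent.Lib.Helper6 Cfsg.Agent.Lib.Helper24 Cfsg.Agent.Lib.Helper25
open Cfsg.Agent.Lib.Helper21.BG
open scoped ComplexConjugate

universe u

variable {G : Type u} [Group G] [Finite G]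

omit [Finite G] in
/-- the degree of a product of characters given as an irreducible character -/
theorem charDegree_of_apply_one (ψ : IrrCharacter G) (n : ℕ) (h : (ψ : G → ℂ) 1 = (n : ℂ)) :
    charDegree (ψ : G → ℂ) = n := by
  have h1 := irr_apply_one ψ
  rw [h] at h1
  exact_mod_cast h1.symm

/-- an irreducible character of degree prime to the index of a normal subgroup restricts
irreducibly -/
theorem isIrrCharacter_resFun_of_coprime (N : Subgroup G) [hN : N.Normal] (χ : IrrCharacter G)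
    (hcop : (charDegree (χ : G → ℂ)).Coprime N.index) :
    IsIrrCharacter N (resFun N (χ : G → ℂ)) := by
  classical
  let _ : Fintype G := Fintype.ofFinite G
  let _ : Fintype N := Fintype.ofFinite N
  have hχc : IsCharacter G χ.1 := IsIrrCharacter.isCharacter χ.2
  have hres : IsCharacter N (resFun N χ.1) := isCharacter_resFun N hχc
  have hne : resFun N χ.1 ≠ 0 := by
    intro h
    have := congrFun h 1
    rw [resFun_apply] at this
    exact irr_apply_one_ne_zero χ this
  obtain ⟨θ, hθ, hc⟩ := IsCharacter.exists_constituent hres hne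
  have h1 := degree_ratio_dvd_index N χ.2 hθ hc (irr_apply_one χ) (irr_apply_one ⟨θ, hθ⟩)
  obtain ⟨hdvd, hquot⟩ := h1
  set c := charDegree (χ : G → ℂ) with hcdef
  set d := charDegree θ with hddef
  have hdpos : 0 < d := irr_charDegree_pos ⟨θ, hθ⟩
  have hq1 : c / d = 1 := by
    have h2 : c / d ∣ c := Nat.div_dvd_of_dvd hdvd
    exact Nat.eq_one_of_dvd_coprimes hcop h2 hquot
  have hcd : c = d := by
    have := Nat.div_mul_cancel hdvd
    rw [hq1, one_mul] at this
    exact this.symm
  have heq : resFun N χ.1 = θ := by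
    apply eq_of_constituent_of_degree_le hres hθ hc
    rw [resFun_apply]
    show (χ.1 1).re ≤ (θ 1).re
    have hθ1 : θ 1 = ((charDegree θ : ℕ) : ℂ) := irr_apply_one ⟨θ, hθ⟩
    rw [irr_apply_one χ, hθ1, Complex.natCast_re, Complex.natCast_re]
    exact_mod_cast hcd.le
  rw [heq]
  exact hθ

/-- Gallagher: the product of an irreducible character restricting irreducibly to `K` with the
inflation of an irreducible character of `G/K` -/
theorem exists_irr_mul_inflate (K : Subgroup G) [hK : K.Normal] (χ : IrrCharacter G)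
    (hχK : IsIrrCharacter K (resFun K (χ : G → ℂ))) (β : IrrCharacter (G ⧸ K)) :
    ∃ ψ : IrrCharacter G, charDegree (ψ : G → ℂ) =
      charDegree (β : G ⧸ K → ℂ) * charDegree (χ : G → ℂ) := by
  classical
  let _ : Fintype G := Fintype.ofFinite G
  let _ : Fintype K := Fintype.ofFinite K
  set β' : IrrCharacter G := inflateIrr K β with hβ'
  have hβcf : IsClassFunction G β'.1 := IsCharacter.isClassFunction (IsIrrCharacter.isCharacter β'.2)
  have hne : classInner (indFun K (1 : K → ℂ)) β'.1 ≠ 0 := by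
    rw [classInner_indFun_one K hβcf]
    have hsum : ∑ n : K, β'.1 n = (Nat.card K : ℂ) * β'.1 1 := by
      rw [Finset.sum_congr rfl (fun (n : K) _ => inflateIrr_mem_ker K β (n : G) n.2), Finset.sum_const,
        Finset.card_univ, nsmul_eq_mul, Nat.card_eq_fintype_card]
    rw [hsum]
    have hK0 : (Nat.card K : ℂ) ≠ 0 := by exact_mod_cast (Nat.card_pos (α := K)).ne'
    have h1 : β'.1 1 ≠ 0 := irr_apply_one_ne_zero β'
    simp only [map_mul, Complex.conj_natCast]
    rw [← mul_assoc, inv_mul_cancel₀ hK0, one_mul]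
    intro h
    apply h1
    have := congrArg conj h
    simpa using this
  have hbij := gallagher_bijOn K χ.2 hχK
  have hmem := hbij.mapsTo (show β'.1 ∈ {β | IsIrrCharacter G β ∧
    classInner (indFun K (1 : K → ℂ)) β ≠ 0} from ⟨β'.2, hne⟩)
  refine ⟨⟨β'.1 * χ.1, hmem.1⟩, ?_⟩
  apply charDegree_of_apply_one
  show β'.1 1 * χ.1 1 = _
  rw [irr_apply_one χ, irr_apply_one β']
  have : charDegree (β' : G → ℂ) = charDegree (β : G ⧸ K → ℂ) := by
    unfold charDegree
    rw [hβ', inflateIrr_apply, QuotientGroup.mk_one]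
  rw [this]
  push_cast
  ring

/-- the `p`-group case -/
theorem pgroup_quotient_mul (K : Subgroup G) [hK : K.Normal] (p : ℕ) (hp : p.Prime)
    (hQ : IsPGroup p (G ⧸ K)) (hna : ¬ ∀ a b : G ⧸ K, a * b = b * a) :
    ∃ b : ℕ, b ≠ 0 ∧ (∃ χ : IrrCharacter G, charDegree (χ : G → ℂ) = p ^ b) ∧
      ∀ χ : IrrCharacter G, ¬ p ∣ charDegree (χ : G → ℂ) →
        ∃ ψ : IrrCharacter G, charDegree (ψ : G → ℂ) = p ^ b * charDegree (χ : G → ℂ) := by
  classical
  have : Fact p.Prime := ⟨hp⟩
  have h1 : ¬ ∀ β : IrrCharacter (G ⧸ K), (β : G ⧸ K → ℂ) 1 = 1 := fun h =>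
    hna ((comm_iff_forall_irr_apply_one (G := G ⧸ K)).mpr h)
  push Not at h1
  obtain ⟨β, hβ⟩ := h1
  obtain ⟨k, hk⟩ := IsPGroup.iff_card.mp hQ
  have hdvd : charDegree (β : G ⧸ K → ℂ) ∣ p ^ k := by
    rw [← hk]; exact irr_charDegree_dvd_card β
  obtain ⟨b, -, hb⟩ := (Nat.dvd_prime_pow hp).mp hdvd
  have hb0 : b ≠ 0 := by
    intro h0
    rw [h0, pow_zero] at hb
    apply hβ
    rw [irr_apply_one β, hb, Nat.cast_one]
  refine ⟨b, hb0, ⟨inflateIrr K β, ?_⟩, ?_⟩
  · rw [← hb]
    unfold charDegree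
    rw [inflateIrr_apply, QuotientGroup.mk_one]
  · intro χ hχ
    have hidx : K.index = p ^ k := by rw [← hk]; rfl
    have hcop : (charDegree (χ : G → ℂ)).Coprime K.index := by
      rw [hidx]
      exact Nat.Coprime.pow_right k ((Nat.Prime.coprime_iff_not_dvd hp).mpr hχ).symm
    have hres := isIrrCharacter_resFun_of_coprime K χ hcop
    obtain ⟨ψ, hψ⟩ := exists_irr_mul_inflate K χ hres β
    exact ⟨ψ, by rw [hψ, hb]⟩

end Cfsg.Agent.Lib.Helper21.Isaacs
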