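import Mathlib
import Cfsg.Prelude.Def_Blocks
import Cfsg.Agent.Lib.Lead.CharOrtho
import Cfsg.Agent.Lib.Helper6.CentralHom
import Cfsg.Agent.Lib.Helper6.LinChar
import Cfsg.Agent.Lib.Helper21.IsaacsThm1211

set_option autoImplicit false

namespace Cfsg.Agent.Lib.Helper21.GalConj

open Cfsg Cfsg.Agent.CharLib Cfsg.Agent.Lib.Helper6 Cfsg.Agent.Lib.Helper24
open scoped ComplexConjugate commutatorElement

universe u

section general
variable {G : Type u} [Group G]

/-- if conjugation by `h` multiplies `g` by a central element on which the central character of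
`χ` is nontrivial then `χ g = 0` -/
theorem irr_eq_zero_of_conj_central {χ : G → ℂ} (hχ : IsIrrCharacter G χ)
    (c : Subgroup.center G →* ℂ)
    (hc : ∀ (z : Subgroup.center G) (g : G), χ ((z : G) * g) = c z * χ g)
    (z : Subgroup.center G) (hz : c z ≠ 1) (g h : G) (hgh : h * g * h⁻¹ = (z : G) * g) :
    χ g = 0 := by
  have h1 : χ (h * g * h⁻¹) = χ g :=
    (IsCharacter.isClassFunction (IsIrrCharacter.isCharacter hχ)) g h
  rw [hgh, hc] at h1
  have h2 : (c z - 1) * χ g = 0 := by rw [sub_mul, h1, one_mul, sub_self]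
  rcases mul_eq_zero.mp h2 with h | h
  · exact absurd (sub_eq_zero.mp h) hz
  · exact h

theorem commutatorElement_mem_commutator' (g k : G) : ⁅g, k⁆ ∈ commutator G := by
  rw [commutator_def]
  exact Subgroup.commutator_mem_commutator (Subgroup.mem_top g) (Subgroup.mem_top k)

variable [Finite G]

/-- the central character of a nonlinear irreducible character is nontrivial on each nontrivial
element of a central derived subgroup of prime order -/
theorem central_hom_ne_one_of_nonlinear {p : ℕ} [Fact p.Prime]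
    (hcard : Nat.card (commutator G) = p)
    {χ : G → ℂ} (hχ : IsIrrCharacter G χ) (hnl : χ 1 ≠ 1)
    (c : Subgroup.center G →* ℂ)
    (hc : ∀ (z : Subgroup.center G) (g : G), χ ((z : G) * g) = c z * χ g)
    (z : Subgroup.center G) (hz : (z : G) ∈ commutator G) (hz1 : z ≠ 1) : c z ≠ 1 := by
  intro hcz
  apply hnl
  apply IsIrrCharacter.apply_one_eq_one_of_commutator hχ
  intro g k
  have hgk : ⁅g, k⁆ ∈ commutator G := commutatorElement_mem_commutator' g k
  have hne : (⟨(z : G), hz⟩ : commutator G) ≠ 1 := by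
    intro h
    apply hz1
    apply Subtype.ext
    exact congrArg (fun x : commutator G => (x : G)) h
  have hmem := mem_zpowers_of_prime_card (G := commutator G) hcard hne
    (g' := ⟨⁅g, k⁆, hgk⟩)
  rw [← mem_powers_iff_mem_zpowers, Submonoid.mem_powers_iff] at hmem
  obtain ⟨n, hn⟩ := hmem
  have hn' : (z : G) ^ n = ⁅g, k⁆ := by
    have := congrArg Subtype.val hn
    simpa using this
  have h3 : (((z ^ n : Subgroup.center G)) : G) = ⁅g, k⁆ := by
    rw [Subgroup.coe_pow]; exact hn'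
  calc χ ⁅g, k⁆ = χ (((z ^ n : Subgroup.center G) : G) * 1) := by rw [h3, mul_one]
    _ = c (z ^ n) * χ 1 := hc _ _
    _ = χ 1 := by rw [map_pow, hcz, one_pow, one_mul]

/-- a nonlinear irreducible character vanishes off the centre when the derived subgroup is
central of prime order -/
theorem irr_vanish_off_center {p : ℕ} [Fact p.Prime] (hcard : Nat.card (commutator G) = p)
    (hle : commutator G ≤ Subgroup.center G) {χ : G → ℂ} (hχ : IsIrrCharacter G χ)
    (hnl : χ 1 ≠ 1) (g : G) (hg : g ∉ Subgroup.center G) : χ g = 0 := by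
  obtain ⟨c, hc1, hc2⟩ := IsIrrCharacter.exists_central_hom hχ
  rw [Subgroup.mem_center_iff] at hg
  push Not at hg
  obtain ⟨h, hh⟩ := hg
  have hmem : ⁅h, g⁆ ∈ commutator G := commutatorElement_mem_commutator' h g
  have hcen : ⁅h, g⁆ ∈ Subgroup.center G := hle hmem
  have hne : (⟨⁅h, g⁆, hcen⟩ : Subgroup.center G) ≠ 1 := by
    intro h1
    apply hh
    have h2 : ⁅h, g⁆ = 1 := congrArg Subtype.val h1
    exact commutatorElement_eq_one_iff_mul_comm.mp h2
  apply irr_eq_zero_of_conj_central hχ c hc1 ⟨⁅h, g⁆, hcen⟩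
    (central_hom_ne_one_of_nonlinear hcard hχ hnl c hc1 _ hmem hne) g h
  show h * g * h⁻¹ = ⁅h, g⁆ * g
  rw [commutatorElement_def]
  group

/-- an irreducible character vanishing off the centre has `χ(1)² = |G : Z(G)|` -/
theorem card_center_mul_charDegree_sq_of_vanish (χ : IrrCharacter G)
    (hv : ∀ g, g ∉ Subgroup.center G → (χ : G → ℂ) g = 0) :
    Nat.card (Subgroup.center G) * charDegree (χ : G → ℂ) ^ 2 = Nat.card G := by
  classical
  let _ : Fintype G := Fintype.ofFinite G
  set d := charDegree (χ : G → ℂ) with hd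
  have hχ1 : (χ : G → ℂ) 1 = (d : ℂ) := irr_apply_one χ
  obtain ⟨c, hc1, hc2⟩ := IsIrrCharacter.exists_central_hom χ.2
  have h1 := classInner_irr χ.2 χ.2
  rw [if_pos rfl] at h1
  unfold classInner at h1
  have hG0 : (Nat.card G : ℂ) ≠ 0 := by exact_mod_cast (Nat.card_pos (α := G)).ne'
  have h2 : ∑ g : G, (χ : G → ℂ) g * conj ((χ : G → ℂ) g) = (Nat.card G : ℂ) := by
    have h1' : (Nat.card G : ℂ) * ((Nat.card G : ℂ)⁻¹ *
        ∑ g : G, (χ : G → ℂ) g * conj ((χ : G → ℂ) g)) = (Nat.card G : ℂ) * 1 := by rw [h1]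
    rw [← mul_assoc, mul_inv_cancel₀ hG0, one_mul, mul_one] at h1'
    exact h1'
  have h3 : ∑ g : G, Complex.normSq ((χ : G → ℂ) g) = (Nat.card G : ℝ) := by
    have h4 : ((∑ g : G, Complex.normSq ((χ : G → ℂ) g) : ℝ) : ℂ) = ((Nat.card G : ℝ) : ℂ) := by
      rw [Complex.ofReal_sum]
      simp only [← Complex.mul_conj]
      rw [h2]
      simp
    exact_mod_cast h4
  have h5 : ∀ g : G, g ∈ Subgroup.center G → Complex.normSq ((χ : G → ℂ) g) = (d : ℝ) ^ 2 := by
    intro g hg
    have h6 := hc1 ⟨g, hg⟩ 1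
    rw [mul_one] at h6
    show Complex.normSq ((χ : G → ℂ) ((⟨g, hg⟩ : Subgroup.center G) : G)) = _
    rw [h6, Complex.normSq_mul, Complex.normSq_eq_norm_sq, hc2, hχ1, Complex.normSq_natCast]
    ring
  have h7 : ∑ g : G, (if g ∈ Subgroup.center G then (d : ℝ) ^ 2 else 0) =
      ∑ g : G, Complex.normSq ((χ : G → ℂ) g) := by
    apply Finset.sum_congr rfl
    intro g _
    by_cases hg : g ∈ Subgroup.center G
    · rw [if_pos hg, h5 g hg]
    · rw [if_neg hg, hv g hg, map_zero]
  have h8 : ∑ g : G, (if g ∈ Subgroup.center G then (d : ℝ) ^ 2 else 0) =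
      (Nat.card (Subgroup.center G) : ℝ) * (d : ℝ) ^ 2 := by
    rw [Finset.sum_ite, Finset.sum_const_zero, add_zero, Finset.sum_const, nsmul_eq_mul]
    congr 2
    show _ = Nat.card {x : G // x ∈ Subgroup.center G}
    rw [Nat.card_eq_fintype_card, Fintype.card_subtype]
  rw [h8, h3] at h7
  exact_mod_cast h7

end general

/-- a family indexed by exponents prime to `e` and periodic modulo `e` has at most `φ(e)`
members -/
theorem card_le_totient_of_periodic {α : Type*} [DecidableEq α] (e : ℕ) [NeZero e] (f : ℕ → α)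
    (hf : ∀ k k' : ℕ, k.Coprime e → k'.Coprime e → k ≡ k' [MOD e] → f k = f k')
    (s : Finset α) (hs : ∀ a ∈ s, ∃ k : ℕ, k.Coprime e ∧ a = f k) :
    s.card ≤ Nat.totient e := by
  have hsub : s ⊆ (Finset.univ : Finset (ZMod e)ˣ).image (fun u : (ZMod e)ˣ => f ((u : ZMod e).val)) := by
    intro a ha
    obtain ⟨k, hk, rfl⟩ := hs a ha
    rw [Finset.mem_image]
    refine ⟨ZMod.unitOfCoprime k hk, Finset.mem_univ _, ?_⟩
    apply hf
    · rw [ZMod.coe_unitOfCoprime, ZMod.val_natCast]
      rw [Nat.Coprime, ← Nat.gcd_rec, Nat.gcd_comm]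
      exact hk
    · exact hk
    · rw [ZMod.coe_unitOfCoprime, ZMod.val_natCast]
      exact Nat.mod_modEq k e
  calc s.card ≤ _ := Finset.card_le_card hsub
    _ ≤ (Finset.univ : Finset (ZMod e)ˣ).card := Finset.card_image_le
    _ = Nat.totient e := by rw [Finset.card_univ, ZMod.card_units_eq_totient]


section pgroup
variable {P : Type u} [Group P] [Finite P]

/-- a nontrivial normal subgroup of a finite `p`-group contains a central element of order `p` -/
theorem exists_central_orderOf_eq_prime (p : ℕ) [hp : Fact p.Prime] (hP : IsPGroup p P)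
    (H : Subgroup P) [H.Normal] (hH : H ≠ ⊥) :
    ∃ c : P, c ∈ H ∧ c ∈ Subgroup.center P ∧ orderOf c = p := by
  classical
  have hHp : IsPGroup p H := hP.to_subgroup H
  have hdvd : p ∣ Nat.card H := by
    rcases hHp.card_eq_or_dvd with h | h
    · exact absurd (Subgroup.eq_bot_of_card_eq H h) hH
    · exact h
  have hfix : (1 : H) ∈ MulAction.fixedPoints (ConjAct P) H := by
    intro g
    exact smul_one g
  obtain ⟨b, hb, hb1⟩ := (hP.of_equiv ConjAct.toConjAct).exists_fixed_point_of_prime_dvd_card_of_fixed_point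
    (α := H) hdvd hfix
  have hbc : (b : P) ∈ Subgroup.center P := by
    rw [Subgroup.mem_center_iff]
    intro g
    have h1 := hb (ConjAct.toConjAct g)
    have h2 := congrArg (fun x : H => (x : P)) h1
    simp only [ConjAct.Subgroup.val_conj_smul, ConjAct.smul_def, ConjAct.ofConjAct_toConjAct] at h2
    calc g * (b : P) = (g * b * g⁻¹) * g := by group
      _ = b * g := by rw [h2]
  set K : Subgroup P := H ⊓ Subgroup.center P with hK
  have hbK : (b : P) ∈ K := ⟨b.2, hbc⟩
  have hKne : K ≠ ⊥ := by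
    intro h
    rw [h, Subgroup.mem_bot] at hbK
    apply hb1
    apply Subtype.ext
    rw [hbK]; rfl
  have hKp : IsPGroup p K := hP.to_subgroup K
  have hdvdK : p ∣ Nat.card K := by
    rcases hKp.card_eq_or_dvd with h | h
    · exact absurd (Subgroup.eq_bot_of_card_eq K h) hKne
    · exact h
  obtain ⟨c, hc⟩ := exists_prime_orderOf_dvd_card' p hdvdK
  refine ⟨(c : P), c.2.1, c.2.2, ?_⟩
  rw [Subgroup.orderOf_coe]
  exact hc

/-- a normal subgroup of order `p` of a finite `p`-group is central -/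
theorem le_center_of_normal_of_card_eq_prime (p : ℕ) [hp : Fact p.Prime] (hP : IsPGroup p P)
    (H : Subgroup P) [H.Normal] (hH : Nat.card H = p) : H ≤ Subgroup.center P := by
  have hne : H ≠ ⊥ := by
    intro h
    rw [h, Subgroup.card_bot] at hH
    exact hp.out.one_lt.ne hH
  obtain ⟨c, hcH, hcZ, hco⟩ := exists_central_orderOf_eq_prime p hP H hne
  intro h hh
  have hc1 : (⟨c, hcH⟩ : H) ≠ 1 := by
    intro h1
    have h2 : c = 1 := congrArg (fun x : H => (x : P)) h1
    rw [h2, orderOf_one] at hco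
    exact hp.out.one_lt.ne hco
  have hmem := mem_zpowers_of_prime_card (G := H) hH hc1 (g' := ⟨h, hh⟩)
  obtain ⟨n, hn⟩ := Subgroup.mem_zpowers_iff.mp hmem
  have h3 : c ^ n = h := by
    have := congrArg (fun x : H => (x : P)) hn
    simpa using this
  rw [← h3]
  exact Subgroup.zpow_mem _ hcZ n

omit [Finite P] in
/-- a power prime to the group order of a noncentral element is noncentral -/
theorem pow_not_mem_center {g : P} (hg : g ∉ Subgroup.center P) {k : ℕ}
    (hk : k.Coprime (Nat.card P)) : g ^ k ∉ Subgroup.center P := by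
  intro h
  have hk' : k.Coprime (orderOf g) := Nat.Coprime.coprime_dvd_right (orderOf_dvd_natCard g) hk
  obtain ⟨m, hm⟩ := exists_pow_eq_self_of_coprime hk'
  apply hg
  rw [← hm]
  exact Subgroup.pow_mem _ h m

end pgroup

/-- a homomorphism of a group to `ℂ` that is nontrivial on an element of order `p` of the cyclic
group generated by an element of order `p ^ a` maps that element to one of order `p ^ a` -/
theorem orderOf_map_eq_of_ne_one {Z : Type*} [Group Z] (p : ℕ) [hp : Fact p.Prime] (a : ℕ)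
    (z₀ : Z) (hz₀ : orderOf z₀ = p ^ a) (ω : Z →* ℂ) (j : ℕ) (hxp : (z₀ ^ j) ^ p = 1)
    (hω : ω (z₀ ^ j) ≠ 1) : orderOf (ω z₀) = p ^ a := by
  have h1 : (ω z₀) ^ (p ^ a) = 1 := by rw [← map_pow, ← hz₀, pow_orderOf_eq_one, map_one]
  have h2 : orderOf (ω z₀) ∣ p ^ a := orderOf_dvd_of_pow_eq_one h1
  obtain ⟨b, hb, hob⟩ := (Nat.dvd_prime_pow hp.out).mp h2
  rcases Nat.lt_or_ge b a with hlt | hge
  · exfalso
    apply hω
    have h3 : p ^ a ∣ j * p := by
      rw [← hz₀]
      apply orderOf_dvd_of_pow_eq_one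
      rw [pow_mul]; exact hxp
    have h4 : p ^ (a - 1) ∣ j := by
      have : p ^ a = p ^ (a - 1) * p := by rw [← pow_succ]; congr 1; omega
      rw [this] at h3
      exact Nat.dvd_of_mul_dvd_mul_right hp.out.pos h3
    have h5 : orderOf (ω z₀) ∣ j := by
      rw [hob]
      exact dvd_trans (pow_dvd_pow p (by omega)) h4
    rw [map_pow]
    exact orderOf_dvd_iff_pow_eq_one.mp h5
  · rw [hob]
    congr 1
    omega


section backward
variable {P : Type u} [Group P] [Finite P]

/-- the "if" direction: cyclic centre and derived subgroup of order `p` force nonlinear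
irreducible characters of equal degree to be Galois conjugate -/
theorem galConj_of_cyclic_center (p : ℕ) [hp : Fact p.Prime]
    (hP : IsPGroup p P) (hcyc : IsCyclic (Subgroup.center P))
    (hcard : Nat.card (commutator P) = p) (χ ψ : IrrCharacter P)
    (hχ : charDegree (χ : P → ℂ) ≠ 1)
    (hdeg : charDegree (χ : P → ℂ) = charDegree (ψ : P → ℂ)) :
    ∃ k : ℕ, Nat.Coprime k (Nat.card P) ∧ ∀ g : P, (ψ : P → ℂ) g = (χ : P → ℂ) (g ^ k) := by
  classical
  have hle : commutator P ≤ Subgroup.center P :=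
    le_center_of_normal_of_card_eq_prime p hP _ hcard
  have hχ1 : (χ : P → ℂ) 1 = (charDegree (χ : P → ℂ) : ℂ) := irr_apply_one χ
  have hψ1 : (ψ : P → ℂ) 1 = (charDegree (ψ : P → ℂ) : ℂ) := irr_apply_one ψ
  have hχnl : (χ : P → ℂ) 1 ≠ 1 := by rw [hχ1]; exact_mod_cast hχ
  have hψnl : (ψ : P → ℂ) 1 ≠ 1 := by rw [hψ1, ← hdeg]; exact_mod_cast hχ
  have hχv := irr_vanish_off_center hcard hle χ.2 hχnl
  have hψv := irr_vanish_off_center hcard hle ψ.2 hψnl
  obtain ⟨ω, hω1, hω2⟩ := IsIrrCharacter.exists_central_hom χ.2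
  obtain ⟨ω', hω'1, hω'2⟩ := IsIrrCharacter.exists_central_hom ψ.2
  obtain ⟨z₀, hz₀⟩ := hcyc.exists_generator
  have hZp : IsPGroup p (Subgroup.center P) := hP.to_subgroup _
  obtain ⟨a, ha⟩ := (IsPGroup.iff_orderOf.mp hZp) z₀
  have hne : commutator P ≠ ⊥ := by
    intro h
    rw [h, Subgroup.card_bot] at hcard
    exact hp.out.one_lt.ne hcard
  obtain ⟨⟨x, hx⟩, hx1⟩ := (Subgroup.ne_bot_iff_exists_ne_one).mp hne
  have hx1' : x ≠ 1 := by
    intro h
    apply hx1
    apply Subtype.ext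
    exact h
  set x' : Subgroup.center P := ⟨x, hle hx⟩ with hx'
  have hx'1 : x' ≠ 1 := by
    intro h
    exact hx1' (congrArg (fun y : Subgroup.center P => (y : P)) h)
  obtain ⟨j, hj⟩ : ∃ j : ℕ, z₀ ^ j = x' := by
    have := hz₀ x'
    rw [← mem_powers_iff_mem_zpowers, Submonoid.mem_powers_iff] at this
    exact this
  have hxp : (z₀ ^ j) ^ p = 1 := by
    rw [hj]
    apply Subtype.ext
    rw [Subgroup.coe_pow, Subgroup.coe_one]
    have h1 : (⟨x, hx⟩ : commutator P) ^ p = 1 := by
      rw [← hcard]; exact pow_card_eq_one'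
    exact congrArg (fun y : commutator P => (y : P)) h1
  have hωx : ω (z₀ ^ j) ≠ 1 := by
    rw [hj]
    exact central_hom_ne_one_of_nonlinear hcard χ.2 hχnl ω hω1 x' hx hx'1
  have hω'x : ω' (z₀ ^ j) ≠ 1 := by
    rw [hj]
    exact central_hom_ne_one_of_nonlinear hcard ψ.2 hψnl ω' hω'1 x' hx hx'1
  have ho := orderOf_map_eq_of_ne_one p a z₀ ha ω j hxp hωx
  have ho' := orderOf_map_eq_of_ne_one p a z₀ ha ω' j hxp hω'x
  have ha1 : 1 ≤ a := by
    by_contra hcon
    have ha0 : a = 0 := by omega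
    rw [ha0, pow_zero, orderOf_eq_one_iff] at ha
    apply hx'1
    rw [← hj, ha, one_pow]
  have hprim : IsPrimitiveRoot (ω z₀) (p ^ a) := by
    rw [← ho]; exact IsPrimitiveRoot.orderOf _
  have hpow : (ω' z₀) ^ (p ^ a) = 1 := by
    rw [← ho']; exact pow_orderOf_eq_one _
  have : NeZero (p ^ a) := ⟨pow_ne_zero _ hp.out.ne_zero⟩
  obtain ⟨k, hk, hkeq⟩ := hprim.eq_pow_of_pow_eq_one hpow
  have hcop : Nat.Coprime k p := by
    rw [Nat.coprime_comm, Nat.Prime.coprime_iff_not_dvd hp.out]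
    rintro ⟨k', rfl⟩
    have h1 : (ω' z₀) ^ (p ^ (a - 1)) = 1 := by
      rw [← hkeq, ← pow_mul, mul_comm p k', mul_assoc, ← pow_succ']
      have : a - 1 + 1 = a := by omega
      rw [this, mul_comm, pow_mul, hprim.pow_eq_one, one_pow]
    have h2 : p ^ a ∣ p ^ (a - 1) := by
      rw [← ho']; exact orderOf_dvd_of_pow_eq_one h1
    have h3 := (Nat.pow_dvd_pow_iff_le_right hp.out.one_lt).mp h2
    omega
  obtain ⟨n, hn⟩ := IsPGroup.iff_card.mp hP
  have hkP : Nat.Coprime k (Nat.card P) := by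
    rw [hn]; exact Nat.Coprime.pow_right n hcop
  refine ⟨k, hkP, fun g => ?_⟩
  by_cases hg : g ∈ Subgroup.center P
  · obtain ⟨i, hi⟩ : ∃ i : ℕ, z₀ ^ i = (⟨g, hg⟩ : Subgroup.center P) := by
      have := hz₀ ⟨g, hg⟩
      rw [← mem_powers_iff_mem_zpowers, Submonoid.mem_powers_iff] at this
      exact this
    have e1 : (ψ : P → ℂ) g = ω' ⟨g, hg⟩ * (ψ : P → ℂ) 1 := by
      have := hω'1 ⟨g, hg⟩ 1
      rwa [mul_one] at this
    have e2 : (χ : P → ℂ) (g ^ k) = ω (⟨g, hg⟩ ^ k) * (χ : P → ℂ) 1 := by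
      have := hω1 (⟨g, hg⟩ ^ k) 1
      rwa [mul_one, Subgroup.coe_pow] at this
    rw [e1, e2, ← hi, map_pow, map_pow, map_pow, ← hkeq, hχ1, hψ1, hdeg, ← pow_mul, ← pow_mul,
      mul_comm k i]
  · rw [hψv g hg, hχv (g ^ k) (pow_not_mem_center hg hkP)]

end backward

end Cfsg.Agent.Lib.Helper21.GalConj
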