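import Mathlib

/-!
helper21: counting involutions in a group where any two involutions lie in the centralizer of a
unique third involution (used for S4018).
-/

set_option autoImplicit false

namespace Cfsg.Agent.Lib.Helper21.S4018

section basic

variable {G : Type*} [Group G]

theorem invol_mul_self {u : G} (hu : orderOf u = 2) : u * u = 1 := by
  have := pow_orderOf_eq_one u
  rw [hu, pow_two] at this
  exact this

theorem invol_ne_one {u : G} (hu : orderOf u = 2) : u ≠ 1 := by
  intro h
  rw [h, orderOf_one] at hu
  omega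

theorem invol_inv {u : G} (hu : orderOf u = 2) : u⁻¹ = u :=
  inv_eq_of_mul_eq_one_left (invol_mul_self hu)

/-- an involution inverts its product with another involution -/
theorem invol_conj_mul {t v : G} (ht : orderOf t = 2) (hv : orderOf v = 2) :
    t * (t * v) * t⁻¹ = (t * v)⁻¹ := by
  rw [mul_inv_rev, invol_inv ht, invol_inv hv]
  have := invol_mul_self ht
  calc t * (t * v) * t = (t * t) * v * t := by group
    _ = v * t := by rw [this, one_mul]

theorem invol_conj_mul' {t v : G} (ht : orderOf t = 2) (hv : orderOf v = 2) :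
    v * (t * v) * v⁻¹ = (t * v)⁻¹ := by
  rw [mul_inv_rev, invol_inv ht, invol_inv hv]
  have := invol_mul_self hv
  calc v * (t * v) * v = v * t * (v * v) := by group
    _ = v * t := by rw [this, mul_one]

/-- if `u` inverts `z` then `u` inverts (hence, for an involution `z ^ k`, centralizes) powers -/
theorem conj_pow_of_conj_inv {u z : G} (h : u * z * u⁻¹ = z⁻¹) (k : ℕ) :
    u * z ^ k * u⁻¹ = (z ^ k)⁻¹ := by
  rw [← conj_pow, h, inv_pow]

end basic


section count

variable {G : Type*} [Group G]

theorem sq_eq_one_of_commute_of_conj_inv {u z : G} (hc : Commute u z)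
    (h : u * z * u⁻¹ = z⁻¹) : z * z = 1 := by
  have h1 : u * z * u⁻¹ = z := by
    rw [hc.eq, mul_inv_cancel_right]
  rw [h1] at h
  calc z * z = z * z⁻¹ := by rw [← h]
    _ = 1 := mul_inv_cancel z

theorem commute_of_conj_inv_of_invol {u w : G} (hw : orderOf w = 2)
    (h : u * w * u⁻¹ = w⁻¹) : Commute u w := by
  rw [invol_inv hw] at h
  have : u * w = w * u := by
    calc u * w = u * w * u⁻¹ * u := by group
      _ = w * u := by rw [h]
  exact this

theorem orderOf_eq_two_of {w : G} (h1 : w ≠ 1) (h2 : w * w = 1) : orderOf w = 2 := by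
  apply orderOf_eq_prime
  · rw [pow_two]; exact h2
  · exact h1

/-- the hypotheses of the counting lemma -/
structure CountHyp (G : Type*) [Group G] (m : ℕ) : Prop where
  hm : Odd m
  four : ∀ w u : G, orderOf w = 2 → orderOf u = 2 → w ≠ u → Commute w u →
    ∀ h : G, Commute h w → Commute h u → h = 1 ∨ h = w ∨ h = u ∨ h = w * u
  cent : ∀ y : G, y ≠ 1 → y ^ m = 1 → ∃ x : G, orderOf x = 2 ∧ Commute x y ∧
    (∀ u : G, orderOf u = 2 → Commute u y → u = x) ∧
    (∀ u : G, orderOf u = 2 → u * y * u⁻¹ = y⁻¹ → Commute u x)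
  prod : ∀ u v : G, orderOf u = 2 → orderOf v = 2 → (u * v) ^ (4 * m) = 1

variable {m : ℕ}

/-- for an element `z` with `z^(4m) = 1`, `m` odd, of even order, the involution in `⟨z⟩` -/
theorem exists_invol_pow {z : G} (hz : z ^ (4 * m) = 1) (hm : 0 < m) (he : Even (orderOf z)) :
    ∃ k : ℕ, orderOf (z ^ k) = 2 := by
  have hpos : 0 < orderOf z := by
    apply orderOf_pos_iff.mpr
    apply isOfFinOrder_iff_pow_eq_one.mpr
    exact ⟨4 * m, by omega, hz⟩
  obtain ⟨r, hr⟩ := he
  refine ⟨r, ?_⟩
  apply orderOf_eq_two_of
  · apply pow_ne_one_of_lt_orderOf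
    · omega
    · omega
  · rw [← pow_add, ← hr, pow_orderOf_eq_one]

theorem pow_eq_one_of_odd_order {z : G} (hz : z ^ (4 * m) = 1) (ho : Odd (orderOf z)) :
    z ^ m = 1 := by
  apply orderOf_dvd_iff_pow_eq_one.mp
  have h1 : orderOf z ∣ 4 * m := orderOf_dvd_of_pow_eq_one hz
  have h2 : Nat.Coprime (orderOf z) 4 := by
    have : Nat.Coprime (orderOf z) 2 := Nat.Coprime.symm (Nat.coprime_two_left.mpr ho)
    have h4 : (4 : ℕ) = 2 ^ 2 := by norm_num
    rw [h4]
    exact Nat.Coprime.pow_right 2 this
  exact Nat.Coprime.dvd_of_dvd_mul_left h2 h1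

theorem CountHyp.exists_common (H : CountHyp G m) {t v : G} (ht : orderOf t = 2)
    (hv : orderOf v = 2) (htv : t ≠ v) :
    ∃ w : G, orderOf w = 2 ∧ Commute w t ∧ Commute w v ∧ w ≠ t ∧ w ≠ v := by
  have hmpos : 0 < m := H.hm.pos
  set z := t * v with hzdef
  have hz1 : z ≠ 1 := by
    intro h
    apply htv
    have : t = v⁻¹ := eq_inv_of_mul_eq_one_left h
    rw [this, invol_inv hv]
  have hz4 : z ^ (4 * m) = 1 := H.prod t v ht hv
  have hti : t * z * t⁻¹ = z⁻¹ := invol_conj_mul ht hv
  have hvi : v * z * v⁻¹ = z⁻¹ := invol_conj_mul' ht hv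
  -- if `z * z = 1` then `z` has order two
  have hzz : z * z = 1 → orderOf z = 2 := fun h => orderOf_eq_two_of hz1 h
  by_cases he : Even (orderOf z)
  · obtain ⟨k, hk⟩ := exists_invol_pow hz4 hmpos he
    have hwt : Commute t (z ^ k) := by
      apply commute_of_conj_inv_of_invol hk
      exact conj_pow_of_conj_inv hti k
    have hwv : Commute v (z ^ k) := by
      apply commute_of_conj_inv_of_invol hk
      exact conj_pow_of_conj_inv hvi k
    refine ⟨z ^ k, hk, hwt.symm, hwv.symm, ?_, ?_⟩
    · intro hw
      have hc : Commute t z := by rw [← hw]; exact (Commute.refl z).pow_left k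
      have h2 := hzz (sq_eq_one_of_commute_of_conj_inv hc hti)
      -- z ^ k is an involution in ⟨z⟩ with z of order two: z ^ k = z
      have hk' : z ^ k = z := by
        rcases Nat.even_or_odd k with ⟨r, hr⟩ | ⟨r, hr⟩
        · exfalso
          have : z ^ k = 1 := by
            rw [hr, ← two_mul, pow_mul, ← h2, pow_orderOf_eq_one, one_pow]
          rw [this, orderOf_one] at hk
          omega
        · rw [hr, pow_succ, pow_mul, ← h2, pow_orderOf_eq_one, one_pow, one_mul]
      rw [hk'] at hw
      -- t * v = t
      have : v = 1 := by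
        have : t * v = t * 1 := by rw [mul_one]; exact hw
        exact mul_left_cancel this
      exact invol_ne_one hv this
    · intro hw
      have hc : Commute v z := by rw [← hw]; exact (Commute.refl z).pow_left k
      have h2 := hzz (sq_eq_one_of_commute_of_conj_inv hc hvi)
      have hk' : z ^ k = z := by
        rcases Nat.even_or_odd k with ⟨r, hr⟩ | ⟨r, hr⟩
        · exfalso
          have : z ^ k = 1 := by
            rw [hr, ← two_mul, pow_mul, ← h2, pow_orderOf_eq_one, one_pow]
          rw [this, orderOf_one] at hk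
          omega
        · rw [hr, pow_succ, pow_mul, ← h2, pow_orderOf_eq_one, one_pow, one_mul]
      rw [hk'] at hw
      have : t = 1 := by
        have : t * v = 1 * v := by rw [one_mul]; exact hw
        exact mul_right_cancel this
      exact invol_ne_one ht this
  · have ho : Odd (orderOf z) := Nat.not_even_iff_odd.mp he
    have hzm : z ^ m = 1 := pow_eq_one_of_odd_order hz4 ho
    obtain ⟨x, hx2, hxz, -, hxinv⟩ := H.cent z hz1 hzm
    have hodd2 : z * z = 1 → False := by
      intro h
      have := hzz h
      rw [this] at ho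
      exact absurd ho (by decide)
    refine ⟨x, hx2, (hxinv t ht hti).symm, (hxinv v hv hvi).symm, ?_, ?_⟩
    · intro h
      rw [h] at hxz
      exact hodd2 (sq_eq_one_of_commute_of_conj_inv hxz hti)
    · intro h
      rw [h] at hxz
      exact hodd2 (sq_eq_one_of_commute_of_conj_inv hxz hvi)


theorem CountHyp.common_unique (H : CountHyp G m) {t v w w' : G} (ht : orderOf t = 2)
    (hv : orderOf v = 2) (htv : t ≠ v) (hw : orderOf w = 2) (hw' : orderOf w' = 2)
    (hwt : Commute w t) (hwv : Commute w v) (hwt' : Commute w' t) (hwv' : Commute w' v)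
    (h1 : w ≠ t) (h2 : w ≠ v) (h1' : w' ≠ t) (h2' : w' ≠ v) : w = w' := by
  by_contra hne
  have hmpos : 0 < m := H.hm.pos
  by_cases hc : Commute w w'
  · -- w' = t * w
    have e1 := H.four t w ht hw (Ne.symm h1) hwt.symm w' hwt' hc.symm
    have hw'eq : w' = t * w := by
      rcases e1 with e | e | e | e
      · exact absurd e (invol_ne_one hw')
      · exact absurd e h1'
      · exact absurd e.symm hne
      · exact e
    have e2 := H.four w w' hw hw' hne hc v hwv.symm hwv'.symm
    have hww' : w * w' = t := by
      rw [hw'eq, ← hwt.eq, ← mul_assoc, invol_mul_self hw, one_mul]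
    rcases e2 with e | e | e | e
    · exact invol_ne_one hv e
    · exact h2 e.symm
    · exact h2' e.symm
    · rw [hww'] at e
      exact htv e.symm
  · set y := w * w' with hy
    have hy1 : y ≠ 1 := by
      intro h
      apply hne
      have : w = w'⁻¹ := eq_inv_of_mul_eq_one_left h
      rw [this, invol_inv hw']
    have hyy : y * y ≠ 1 := by
      intro h
      apply hc
      -- (w w')^2 = 1 means w w' = w' w
      have h3 : y⁻¹ = w' * w := by
        rw [hy, mul_inv_rev, invol_inv hw, invol_inv hw']
      have h4 : y⁻¹ = y := inv_eq_of_mul_eq_one_left h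
      have : w * w' = w' * w := by rw [← hy, ← h4, h3]
      exact this
    have hy4 : y ^ (4 * m) = 1 := H.prod w w' hw hw'
    have hty : Commute t y := (hwt.symm).mul_right hwt'.symm
    have hvy : Commute v y := (hwv.symm).mul_right hwv'.symm
    have hwi : w * y * w⁻¹ = y⁻¹ := invol_conj_mul hw hw'
    have hwi' : w' * y * w'⁻¹ = y⁻¹ := invol_conj_mul' hw hw'
    by_cases he : Even (orderOf y)
    · obtain ⟨k, hk⟩ := exists_invol_pow hy4 hmpos he
      set u := y ^ k with hu
      have htu : Commute t u := hty.pow_right k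
      have hvu : Commute v u := hvy.pow_right k
      have hwu : Commute w u := by
        apply commute_of_conj_inv_of_invol hk
        exact conj_pow_of_conj_inv hwi k
      have hwu' : Commute w' u := by
        apply commute_of_conj_inv_of_invol hk
        exact conj_pow_of_conj_inv hwi' k
      -- u ≠ w and u ≠ w'
      have huw : u ≠ w := by
        intro h
        have hcy : Commute w y := by rw [← h]; exact (Commute.refl y).pow_left k
        exact hyy (sq_eq_one_of_commute_of_conj_inv hcy hwi)
      have huw' : u ≠ w' := by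
        intro h
        have hcy : Commute w' y := by rw [← h]; exact (Commute.refl y).pow_left k
        exact hyy (sq_eq_one_of_commute_of_conj_inv hcy hwi')
      -- a general step: an involution `s` commuting with u, w, w' equals u
      have key : ∀ s : G, orderOf s = 2 → Commute s u → Commute w s → Commute w' s →
          w ≠ s → w' ≠ s → s = u := by
        intro s hs hsu hws hws' hn hn'
        by_contra hsu'
        have e1 := H.four s u hs hk hsu' hsu w hws hwu
        have e2 := H.four s u hs hk hsu' hsu w' hws' hwu'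
        have f1 : w = s * u := by
          rcases e1 with e | e | e | e
          · exact absurd e (invol_ne_one hw)
          · exact absurd e hn
          · exact absurd e.symm huw
          · exact e
        have f2 : w' = s * u := by
          rcases e2 with e | e | e | e
          · exact absurd e (invol_ne_one hw')
          · exact absurd e hn'
          · exact absurd e.symm huw'
          · exact e
        exact hne (f1.trans f2.symm)
      have ht' := key t ht htu hwt hwt' h1 h1'
      have hv' := key v hv hvu hwv hwv' h2 h2'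
      exact htv (ht'.trans hv'.symm)
    · have ho : Odd (orderOf y) := Nat.not_even_iff_odd.mp he
      have hym : y ^ m = 1 := pow_eq_one_of_odd_order hy4 ho
      obtain ⟨x, -, -, hxu, -⟩ := H.cent y hy1 hym
      exact htv ((hxu t ht hty).trans (hxu v hv hvy).symm)


open Classical in
/-- the number of involutions -/
theorem CountHyp.card_invol [Finite G] (H : CountHyp G m) (t : G) (ht : orderOf t = 2)
    (hcnt : ∀ w : G, orderOf w = 2 →
      Nat.card {u : G // orderOf u = 2 ∧ Commute u w} = 2 * m + 1) :
    Nat.card {u : G // orderOf u = 2} = 1 + 2 * m * (2 * m - 1) := by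
  have : Fintype G := Fintype.ofFinite G
  set I : Finset G := Finset.univ.filter (fun u : G => orderOf u = 2) with hI
  let Cw : G → Finset G := fun w => Finset.univ.filter (fun u : G => orderOf u = 2 ∧ Commute u w)
  have hCw : ∀ w : G, orderOf w = 2 → (Cw w).card = 2 * m + 1 := by
    intro w hw
    have := hcnt w hw
    rw [Nat.card_eq_fintype_card, Fintype.card_subtype] at this
    exact this
  have hmemCw : ∀ w u : G, u ∈ Cw w ↔ orderOf u = 2 ∧ Commute u w := by
    intro w u
    simp only [Cw, Finset.mem_filter, Finset.mem_univ, true_and]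
  set W : Finset G := (Cw t).erase t with hW
  let F : G → Finset G := fun w => ((Cw w).erase w).erase t
  have htCt : t ∈ Cw t := (hmemCw t t).mpr ⟨ht, Commute.refl t⟩
  have hWcard : W.card = 2 * m := by
    rw [hW, Finset.card_erase_of_mem htCt, hCw t ht]
    omega
  have hmemW : ∀ w : G, w ∈ W ↔ w ≠ t ∧ orderOf w = 2 ∧ Commute w t := by
    intro w
    rw [hW, Finset.mem_erase, hmemCw]
  have hFcard : ∀ w ∈ W, (F w).card = 2 * m - 1 := by
    intro w hw
    obtain ⟨hwt, hw2, hwc⟩ := (hmemW w).mp hw
    have h1 : w ∈ Cw w := (hmemCw w w).mpr ⟨hw2, Commute.refl w⟩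
    have h2 : t ∈ (Cw w).erase w := by
      rw [Finset.mem_erase]
      exact ⟨Ne.symm hwt, (hmemCw w t).mpr ⟨ht, hwc.symm⟩⟩
    show (((Cw w).erase w).erase t).card = 2 * m - 1
    rw [Finset.card_erase_of_mem h2, Finset.card_erase_of_mem h1, hCw w hw2]
    omega
  have hmemF : ∀ w v : G, v ∈ F w ↔ v ≠ t ∧ v ≠ w ∧ orderOf v = 2 ∧ Commute v w := by
    intro w v
    show v ∈ ((Cw w).erase w).erase t ↔ _
    rw [Finset.mem_erase, Finset.mem_erase, hmemCw]
  have hunion : I.erase t = W.biUnion F := by
    ext v
    rw [Finset.mem_erase, Finset.mem_biUnion, hI, Finset.mem_filter]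
    constructor
    · rintro ⟨hvt, -, hv2⟩
      obtain ⟨w, hw2, hwt, hwv, hne1, hne2⟩ := H.exists_common ht hv2 (Ne.symm hvt)
      refine ⟨w, (hmemW w).mpr ⟨hne1, hw2, hwt⟩, (hmemF w v).mpr ⟨hvt, Ne.symm hne2, hv2, hwv.symm⟩⟩
    · rintro ⟨w, -, hv⟩
      obtain ⟨hvt, -, hv2, -⟩ := (hmemF w v).mp hv
      exact ⟨hvt, Finset.mem_univ v, hv2⟩
  have hdisj : (W : Set G).PairwiseDisjoint F := by
    intro w hw w' hw' hne
    rw [Function.onFun, Finset.disjoint_left]
    intro v hv hv'
    apply hne
    obtain ⟨hwt, hw2, hwc⟩ := (hmemW w).mp hw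
    obtain ⟨hwt', hw2', hwc'⟩ := (hmemW w').mp hw'
    obtain ⟨hvt, hvw, hv2, hvc⟩ := (hmemF w v).mp hv
    obtain ⟨-, hvw', -, hvc'⟩ := (hmemF w' v).mp hv'
    exact H.common_unique ht hv2 (Ne.symm hvt) hw2 hw2' hwc hvc.symm hwc' hvc'.symm hwt
      (Ne.symm hvw) hwt' (Ne.symm hvw')
  have hcardE : (I.erase t).card = 2 * m * (2 * m - 1) := by
    rw [hunion, Finset.card_biUnion hdisj, Finset.sum_const_nat hFcard, hWcard]
  have htI : t ∈ I := by
    rw [hI, Finset.mem_filter]
    exact ⟨Finset.mem_univ t, ht⟩
  have hcardI : I.card = 1 + 2 * m * (2 * m - 1) := by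
    have := Finset.card_erase_add_one htI
    omega
  rw [Nat.card_eq_fintype_card, Fintype.card_subtype]
  exact hcardI

end count

end Cfsg.Agent.Lib.Helper21.S4018
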