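import Mathlib

/-!
helper21: local structure of `N = C_G(t) = N_G(P)` for S4018: `P` abelian normal Hall subgroup of
odd order `m`, `|C| = 2m`, `|N| = 4m`, `C` a TI-set.
-/

set_option autoImplicit false
set_option linter.unusedSectionVars false

namespace Cfsg.Agent.Lib.Helper21.S4018

section index_two

variable {G : Type*} [Group G] [Finite G]

/-- `H ≤ K` with `|K| = 2 |H|`: the product of two elements of `K` lies in `H` iff both or none
lie in `H`. -/
theorem mul_mem_iff_of_card_two_mul {H K : Subgroup G} (hle : H ≤ K)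
    (hc : Nat.card K = 2 * Nat.card H) {a b : G} (ha : a ∈ K) (hb : b ∈ K) :
    a * b ∈ H ↔ (a ∈ H ↔ b ∈ H) := by
  have hidx : (H.subgroupOf K).index = 2 := by
    have h1 := Subgroup.card_mul_index (H.subgroupOf K)
    have h2 : Nat.card (H.subgroupOf K) = Nat.card H :=
      Nat.card_congr (Subgroup.subgroupOfEquivOfLe hle).toEquiv
    rw [h2, hc] at h1
    have hpos : 0 < Nat.card H := Nat.card_pos
    have : Nat.card H * (H.subgroupOf K).index = Nat.card H * 2 := by rw [h1]; ring
    exact Nat.eq_of_mul_eq_mul_left hpos this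
  have := Subgroup.mul_mem_iff_of_index_two hidx (a := (⟨a, ha⟩ : K)) (b := ⟨b, hb⟩)
  simpa [Subgroup.mem_subgroupOf] using this

theorem mem_of_mul_self_mem_of_odd {H : Subgroup G} {y : G} (h : y * y ∈ H)
    (ho : Odd (orderOf y)) : y ∈ H := by
  obtain ⟨k, hk⟩ := ho
  have : y = (y * y) ^ (k + 1) := by
    rw [← pow_two, ← pow_mul]
    have : 2 * (k + 1) = orderOf y + 1 := by omega
    rw [this, pow_succ, pow_orderOf_eq_one, one_mul]
  rw [this]
  exact H.pow_mem h _

/-- odd order elements of `K` lie in the subgroup `H` of index two. -/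
theorem mem_of_odd_of_card_two_mul {H K : Subgroup G} (hle : H ≤ K)
    (hc : Nat.card K = 2 * Nat.card H) {y : G} (hy : y ∈ K) (ho : Odd (orderOf y)) : y ∈ H := by
  apply mem_of_mul_self_mem_of_odd _ ho
  rw [mul_mem_iff_of_card_two_mul hle hc hy hy]

theorem odd_orderOf_of_mem {H : Subgroup G} (hH : Odd (Nat.card H)) {y : G} (hy : y ∈ H) :
    Odd (orderOf y) := by
  have h1 : orderOf (⟨y, hy⟩ : H) ∣ Nat.card H := orderOf_dvd_natCard _
  rw [Subgroup.orderOf_mk] at h1
  exact Odd.of_dvd_nat hH h1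

theorem eq_one_of_mul_self_of_odd {y : G} (h : y * y = 1) (ho : Odd (orderOf y)) : y = 1 := by
  have h1 : orderOf y ∣ 2 := by
    apply orderOf_dvd_of_pow_eq_one
    rw [pow_two]; exact h
  have h2 : orderOf y = 1 := by
    rcases (Nat.dvd_prime Nat.prime_two).mp h1 with h | h
    · exact h
    · rw [h] at ho; exact absurd ho (by decide)
  exact orderOf_eq_one_iff.mp h2

end index_two


/-- local data: `P ≤ C ≤ N = C_G(t)`, orders `m, 2m, 4m` (`m` odd), `P` abelian normal in `N`,
`t ∈ C` an involution centralizing `P`, `C` a TI-set with normalizer in `N`. -/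
structure Loc (G : Type*) [Group G] (m : ℕ) (P C N : Subgroup G) (t : G) : Prop where
  hm : Odd m
  cardP : Nat.card P = m
  cardC : Nat.card C = 2 * m
  cardN : Nat.card N = 4 * m
  PC : P ≤ C
  CN : C ≤ N
  Pab : ∀ x ∈ P, ∀ y ∈ P, x * y = y * x
  Pnorm : ∀ n ∈ N, ∀ x ∈ P, n * x * n⁻¹ ∈ P
  ht : orderOf t = 2
  htC : t ∈ C
  tP : ∀ x ∈ P, Commute t x
  Ncent : ∀ g : G, g ∈ N ↔ Commute g t
  ti : ∀ g x : G, x ∈ C → x ≠ 1 → g * x * g⁻¹ ∈ C → g ∈ N

section loc

variable {G : Type*} [Group G] [Finite G] {m : ℕ} {P C N : Subgroup G} {t : G}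

theorem inv_of_invol {u : G} (hu : orderOf u = 2) : u⁻¹ = u := by
  have := pow_orderOf_eq_one u
  rw [hu, pow_two] at this
  exact inv_eq_of_mul_eq_one_left this

theorem mul_self_of_invol {u : G} (hu : orderOf u = 2) : u * u = 1 := by
  have := pow_orderOf_eq_one u
  rw [hu, pow_two] at this
  exact this

theorem Loc.cardCP (L : Loc G m P C N t) : Nat.card C = 2 * Nat.card P := by
  rw [L.cardC, L.cardP]

theorem Loc.cardNC (L : Loc G m P C N t) : Nat.card N = 2 * Nat.card C := by
  rw [L.cardC, L.cardN]; ring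

theorem Loc.oddP (L : Loc G m P C N t) : Odd (Nat.card P) := by
  rw [L.cardP]; exact L.hm

theorem Loc.odd_mem_P (L : Loc G m P C N t) {y : G} (hy : y ∈ N) (ho : Odd (orderOf y)) :
    y ∈ P :=
  mem_of_odd_of_card_two_mul L.PC L.cardCP
    (mem_of_odd_of_card_two_mul L.CN L.cardNC hy ho) ho

theorem Loc.not_mem_P_of_invol (L : Loc G m P C N t) {u : G} (hu : orderOf u = 2) : u ∉ P := by
  intro h
  have := odd_orderOf_of_mem L.oddP h
  rw [hu] at this
  exact absurd this (by decide)

theorem Loc.invol_C (L : Loc G m P C N t) {u : G} (huC : u ∈ C) (hu : orderOf u = 2) : u = t := by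
  have h1 : u * t ∈ P := by
    rw [mul_mem_iff_of_card_two_mul L.PC L.cardCP huC L.htC]
    constructor
    · intro h; exact absurd h (L.not_mem_P_of_invol hu)
    · intro h; exact absurd h (L.not_mem_P_of_invol L.ht)
  have hc : Commute t (u * t) := L.tP _ h1
  -- u = (u t) t
  have hu' : u = (u * t) * t := by
    rw [mul_assoc, mul_self_of_invol L.ht, mul_one]
  have hsq : (u * t) * (u * t) = 1 := by
    have h2 : u * u = 1 := mul_self_of_invol hu
    have h3 : t * t = 1 := mul_self_of_invol L.ht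
    have h4 : t * (u * t) = (u * t) * t := hc.eq
    calc (u * t) * (u * t) = u * (t * (u * t)) := by group
      _ = u * ((u * t) * t) := by rw [h4]
      _ = (u * u) * (t * t) := by group
      _ = 1 := by rw [h2, h3, one_mul]
  have h5 : u * t = 1 := eq_one_of_mul_self_of_odd hsq (odd_orderOf_of_mem L.oddP h1)
  have : u = t⁻¹ := eq_inv_of_mul_eq_one_left h5
  rw [this, inv_of_invol L.ht]

/-- a noncentral involution of `N` centralizes no nontrivial element of `P`. -/
theorem Loc.cent_P (L : Loc G m P C N t)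
    (hone : ∀ a b : G, orderOf a = 2 → orderOf b = 2 → IsConj a b)
    {u : G} (hu : orderOf u = 2) (hut : u ≠ t) {x : G} (hx : x ∈ P)
    (hc : Commute u x) : x = 1 := by
  by_contra hx1
  obtain ⟨g, hg⟩ := isConj_iff.mp (hone t u L.ht hu)
  -- x' = g⁻¹ x g commutes with t
  have hx' : Commute (g⁻¹ * x * g) t := by
    have h1 : u * x = x * u := hc.eq
    rw [← hg] at h1
    show g⁻¹ * x * g * t = t * (g⁻¹ * x * g)
    have h2 : g⁻¹ * (g * t * g⁻¹ * x) * g = g⁻¹ * (x * (g * t * g⁻¹)) * g := by rw [h1]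
    calc g⁻¹ * x * g * t = g⁻¹ * (x * (g * t * g⁻¹)) * g := by group
      _ = g⁻¹ * (g * t * g⁻¹ * x) * g := by rw [h2]
      _ = t * (g⁻¹ * x * g) := by group
  have hN : g⁻¹ * x * g ∈ N := (L.Ncent _).mpr hx'
  have ho : Odd (orderOf (g⁻¹ * x * g)) := by
    have : g⁻¹ * x * g = g⁻¹ * x * (g⁻¹)⁻¹ := by rw [inv_inv]
    rw [this, ← (SemiconjBy.conj_mk g⁻¹ x).orderOf_eq g⁻¹]
    exact odd_orderOf_of_mem L.oddP hx
  have hP' : g⁻¹ * x * g ∈ P := L.odd_mem_P hN ho
  have hgN : g⁻¹ ∈ N := by
    apply L.ti g⁻¹ x (L.PC hx) hx1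
    rw [inv_inv]
    exact L.PC hP'
  have hgN' : g ∈ N := by
    have := N.inv_mem hgN
    rwa [inv_inv] at this
  have hgt : Commute g t := (L.Ncent g).mp hgN'
  apply hut
  rw [← hg, hgt.eq, mul_inv_cancel_right]

/-- a noncentral involution of `N` inverts `P`. -/
theorem Loc.inverts (L : Loc G m P C N t)
    (hone : ∀ a b : G, orderOf a = 2 → orderOf b = 2 → IsConj a b)
    {u : G} (hu : orderOf u = 2) (hut : u ≠ t) (huN : Commute u t) {x : G} (hx : x ∈ P) :
    u * x * u⁻¹ = x⁻¹ := by
  have huN' : u ∈ N := (L.Ncent u).mpr huN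
  have hx' : u * x * u⁻¹ ∈ P := L.Pnorm u huN' x hx
  have hy : x * (u * x * u⁻¹) ∈ P := P.mul_mem hx hx'
  have huu : u * u = 1 := mul_self_of_invol hu
  have hui : u⁻¹ = u := inv_of_invol hu
  have hc : Commute u (x * (u * x * u⁻¹)) := by
    show u * (x * (u * x * u⁻¹)) = x * (u * x * u⁻¹) * u
    have h1 : x * (u * x * u) = (u * x * u) * x := by
      have := L.Pab x hx _ hx'
      rwa [hui] at this
    rw [hui]
    calc u * (x * (u * x * u)) = u * ((u * x * u) * x) := by rw [h1]
      _ = (u * u) * x * u * x := by group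
      _ = x * u * x := by rw [huu, one_mul]
      _ = x * u * x * (u * u) := by rw [huu, mul_one]
      _ = x * (u * x * u) * u := by group
  have h1 := L.cent_P hone hu hut hy hc
  exact (eq_inv_of_mul_eq_one_right h1)

theorem Loc.sq_P_mul_invol (L : Loc G m P C N t)
    (hone : ∀ a b : G, orderOf a = 2 → orderOf b = 2 → IsConj a b)
    {u : G} (hu : orderOf u = 2) (hut : u ≠ t) (huN : Commute u t) {x : G} (hx : x ∈ P) :
    (x * u) * (x * u) = 1 := by
  have h1 := L.inverts hone hu hut huN hx
  have hui : u⁻¹ = u := inv_of_invol hu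
  rw [hui] at h1
  calc (x * u) * (x * u) = x * (u * x * u) := by group
    _ = x * x⁻¹ := by rw [h1]
    _ = 1 := mul_inv_cancel x


theorem Loc.cent_base (L : Loc G m P C N t)
    (hone : ∀ a b : G, orderOf a = 2 → orderOf b = 2 → IsConj a b)
    {y : G} (hy : y ∈ P) (hy1 : y ≠ 1) :
    Commute t y ∧ (∀ u : G, orderOf u = 2 → Commute u y → u = t) ∧
      (∀ u : G, orderOf u = 2 → u * y * u⁻¹ = y⁻¹ → Commute u t) := by
  refine ⟨L.tP y hy, ?_, ?_⟩
  · intro u hu huy
    have h1 : u * y * u⁻¹ = y := by rw [huy.eq, mul_inv_cancel_right]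
    have huN : u ∈ N := by
      apply L.ti u y (L.PC hy) hy1
      rw [h1]; exact L.PC hy
    by_contra hut
    exact hy1 (L.cent_P hone hu hut hy huy)
  · intro u hu huy
    have huN : u ∈ N := by
      apply L.ti u y (L.PC hy) hy1
      rw [huy]; exact C.inv_mem (L.PC hy)
    exact (L.Ncent u).mp huN

theorem Loc.four_base (L : Loc G m P C N t)
    (hone : ∀ a b : G, orderOf a = 2 → orderOf b = 2 → IsConj a b)
    {u : G} (hu : orderOf u = 2) (hut : u ≠ t) (huN : Commute u t) {h : G}
    (hht : Commute h t) (hhu : Commute h u) : h = 1 ∨ h = t ∨ h = u ∨ h = t * u := by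
  classical
  set K : Subgroup G := Subgroup.centralizer {t} ⊓ Subgroup.centralizer {u} with hK
  have hmemK : ∀ k : G, k ∈ K ↔ Commute k t ∧ Commute k u := by
    intro k
    rw [hK, Subgroup.mem_inf, Subgroup.mem_centralizer_singleton_iff,
      Subgroup.mem_centralizer_singleton_iff]
    constructor
    · rintro ⟨h1, h2⟩; exact ⟨h1, h2⟩
    · rintro ⟨h1, h2⟩; exact ⟨h1.eq, h2.eq⟩
  have hKN : K ≤ N := fun k hk => (L.Ncent k).mpr ((hmemK k).mp hk).1
  -- |K| * m ≤ 4 m
  have hinj : Function.Injective (fun p : K × P => (⟨p.1.1 * p.2.1, N.mul_mem (hKN p.1.2)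
      (L.CN (L.PC p.2.2))⟩ : N)) := by
    rintro ⟨⟨k, hk⟩, ⟨x, hx⟩⟩ ⟨⟨k', hk'⟩, ⟨x', hx'⟩⟩ hp
    have hp' : k * x = k' * x' := by
      have := congrArg Subtype.val hp
      simpa using this
    -- k'⁻¹ k = x' x⁻¹ ∈ K ∩ P
    have h1 : k'⁻¹ * k = x' * x⁻¹ := by
      calc k'⁻¹ * k = k'⁻¹ * (k * x) * x⁻¹ := by group
        _ = k'⁻¹ * (k' * x') * x⁻¹ := by rw [hp']
        _ = x' * x⁻¹ := by group
    have h2 : x' * x⁻¹ ∈ P := P.mul_mem hx' (P.inv_mem hx)
    have h3 : k'⁻¹ * k ∈ K := K.mul_mem (K.inv_mem hk') hk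
    have h4 : Commute u (x' * x⁻¹) := by
      rw [← h1]; exact ((hmemK _).mp h3).2.symm
    have h5 := L.cent_P hone hu hut h2 h4
    have h6 : x' = x := by
      have := eq_inv_of_mul_eq_one_left h5
      rwa [inv_inv] at this
    have h7 : k' = k := by
      rw [h5] at h1
      have := eq_inv_of_mul_eq_one_left h1
      exact inv_injective this
    subst h6; subst h7; rfl
  have hcard : Nat.card K * m ≤ 4 * m := by
    have := Nat.card_le_card_of_injective _ hinj
    rw [Nat.card_prod, L.cardP, L.cardN] at this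
    exact this
  have hmpos : 0 < m := L.hm.pos
  have hK4 : Nat.card K ≤ 4 := Nat.le_of_mul_le_mul_right hcard hmpos
  -- the four elements
  have ht1 : t ≠ 1 := by
    intro h; have := L.ht; rw [h, orderOf_one] at this; omega
  have hu1 : u ≠ 1 := by
    intro h; rw [h, orderOf_one] at hu; omega
  have htu1 : t * u ≠ 1 := by
    intro h
    apply hut
    have : t = u⁻¹ := eq_inv_of_mul_eq_one_left h
    rw [this, inv_of_invol hu]
  let T : Set G := {1, t, u, t * u}
  have hTK : T ⊆ (K : Set G) := by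
    intro k hk
    simp only [T, Set.mem_insert_iff, Set.mem_singleton_iff] at hk
    rw [SetLike.mem_coe, hmemK]
    rcases hk with hk | hk | hk | hk
    · rw [hk]; exact ⟨Commute.one_left t, Commute.one_left u⟩
    · rw [hk]; exact ⟨Commute.refl t, huN.symm⟩
    · rw [hk]; exact ⟨huN, Commute.refl u⟩
    · rw [hk]; exact ⟨(Commute.refl t).mul_left huN, huN.symm.mul_left (Commute.refl u)⟩
  have hTcard : T.ncard = 4 := by
    have e1 : ({t * u} : Set G).ncard = 1 := Set.ncard_singleton _
    have e2 : ({u, t * u} : Set G).ncard = 2 := by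
      rw [Set.ncard_insert_of_notMem, e1]
      rw [Set.mem_singleton_iff]
      intro h
      apply ht1
      have : 1 * u = t * u := by rw [one_mul]; exact h
      exact (mul_right_cancel this).symm
    have e3 : ({t, u, t * u} : Set G).ncard = 3 := by
      rw [Set.ncard_insert_of_notMem, e2]
      simp only [Set.mem_insert_iff, Set.mem_singleton_iff]
      rintro (h | h)
      · exact hut h.symm
      · apply hu1
        have : t * 1 = t * u := by rw [mul_one]; exact h
        exact (mul_left_cancel this).symm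
    show ({1, t, u, t * u} : Set G).ncard = 4
    rw [Set.ncard_insert_of_notMem, e3]
    simp only [Set.mem_insert_iff, Set.mem_singleton_iff]
    rintro (h | h | h)
    · exact ht1 h.symm
    · exact hu1 h.symm
    · exact htu1 h.symm
  have hKcard : (K : Set G).ncard ≤ T.ncard := by
    rw [hTcard]
    have : (K : Set G).ncard = Nat.card K := (Nat.card_coe_set_eq (K : Set G)).symm
    rw [this]; exact hK4
  have hTeq : T = (K : Set G) := Set.eq_of_subset_of_ncard_le hTK hKcard (Set.toFinite _)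
  have hhK : h ∈ (K : Set G) := (hmemK h).mpr ⟨hht, hhu⟩
  rw [← hTeq] at hhK
  simpa [T] using hhK


theorem orderOf_two_of_mul_self {w : G} (h1 : w ≠ 1) (h2 : w * w = 1) : orderOf w = 2 := by
  apply orderOf_eq_prime
  · rw [pow_two]; exact h2
  · exact h1

/-- every element of `N` outside `C` is an involution. -/
theorem Loc.invol_of_not_mem_C (L : Loc G m P C N t)
    (hone : ∀ a b : G, orderOf a = 2 → orderOf b = 2 → IsConj a b)
    {s : G} (hs : orderOf s = 2) (hst : s ≠ t) (hsN : Commute s t)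
    {h : G} (hhN : h ∈ N) (hhC : h ∉ C) : orderOf h = 2 := by
  have hsN' : s ∈ N := (L.Ncent s).mpr hsN
  have hsC : s ∉ C := fun hc => hst (L.invol_C hc hs)
  have hsi : s⁻¹ = s := inv_of_invol hs
  have hti : t⁻¹ = t := inv_of_invol L.ht
  have hss : s * s = 1 := mul_self_of_invol hs
  have htt : t * t = 1 := mul_self_of_invol L.ht
  have hc : h * s ∈ C := by
    rw [mul_mem_iff_of_card_two_mul L.CN L.cardNC hhN hsN']
    exact ⟨fun h => absurd h hhC, fun h => absurd h hsC⟩
  have hh1 : h ≠ 1 := by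
    intro h1; apply hhC; rw [h1]; exact C.one_mem
  apply orderOf_two_of_mul_self hh1
  by_cases hcP : h * s ∈ P
  · have : h = (h * s) * s := by rw [mul_assoc, hss, mul_one]
    rw [this]
    exact L.sq_P_mul_invol hone hs hst hsN hcP
  · have hx : h * s * t ∈ P := by
      rw [mul_mem_iff_of_card_two_mul L.PC L.cardCP hc L.htC]
      exact ⟨fun h => absurd h hcP, fun h => absurd h (L.not_mem_P_of_invol L.ht)⟩
    -- u' = t * s
    have hu'sq : (t * s) * (t * s) = 1 := by
      calc (t * s) * (t * s) = t * (s * t) * s := by group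
        _ = t * (t * s) * s := by rw [hsN.eq]
        _ = (t * t) * (s * s) := by group
        _ = 1 := by rw [htt, hss, one_mul]
    have hu'1 : t * s ≠ 1 := by
      intro h1
      apply hst
      have : t = s⁻¹ := eq_inv_of_mul_eq_one_left h1
      rw [hsi] at this
      exact this.symm
    have hu' : orderOf (t * s) = 2 := orderOf_two_of_mul_self hu'1 hu'sq
    have hu't : t * s ≠ t := by
      intro h1
      have : t * s = t * 1 := by rw [mul_one]; exact h1
      have hs1 : s = 1 := mul_left_cancel this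
      rw [hs1, orderOf_one] at hs
      omega
    have hu'c : Commute (t * s) t := (Commute.refl t).mul_left hsN
    have : h = (h * s * t) * (t * s) := by
      calc h = h * (s * s) := by rw [hss, mul_one]
        _ = h * s * (t * t) * s := by rw [htt]; group
        _ = (h * s * t) * (t * s) := by group
    rw [this]
    exact L.sq_P_mul_invol hone hu' hu't hu'c hx

theorem Loc.count_base (L : Loc G m P C N t)
    (hone : ∀ a b : G, orderOf a = 2 → orderOf b = 2 → IsConj a b)
    {s : G} (hs : orderOf s = 2) (hst : s ≠ t) (hsN : Commute s t) :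
    Nat.card {u : G // orderOf u = 2 ∧ Commute u t} = 2 * m + 1 := by
  have hset : {u : G | orderOf u = 2 ∧ Commute u t} = insert t ((N : Set G) \ (C : Set G)) := by
    ext u
    simp only [Set.mem_ofPred_eq, Set.mem_insert_iff, Set.mem_sdiff, SetLike.mem_coe]
    constructor
    · rintro ⟨hu, hut⟩
      by_cases huC : u ∈ C
      · left; exact L.invol_C huC hu
      · right; exact ⟨(L.Ncent u).mpr hut, huC⟩
    · rintro (h | ⟨hN, hC⟩)
      · rw [h]; exact ⟨L.ht, Commute.refl t⟩
      · exact ⟨L.invol_of_not_mem_C hone hs hst hsN hN hC, (L.Ncent u).mp hN⟩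
  have hcard : (insert t ((N : Set G) \ (C : Set G))).ncard = 2 * m + 1 := by
    rw [Set.ncard_insert_of_notMem]
    · have hsub : (C : Set G) ⊆ (N : Set G) := L.CN
      rw [Set.ncard_sdiff hsub]
      have h1 : (N : Set G).ncard = 4 * m := by
        rw [← Nat.card_coe_set_eq]; exact L.cardN
      have h2 : (C : Set G).ncard = 2 * m := by
        rw [← Nat.card_coe_set_eq]; exact L.cardC
      rw [h1, h2]; omega
    · intro h
      exact h.2 L.htC
  have : Nat.card {u : G // orderOf u = 2 ∧ Commute u t} =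
      ({u : G | orderOf u = 2 ∧ Commute u t} : Set G).ncard := by
    rw [← Nat.card_coe_set_eq]; rfl
  rw [this, hset, hcard]

end loc

end Cfsg.Agent.Lib.Helper21.S4018
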