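import Mathlib
import Cfsg.Agent.Lib.Helper21.S4018A
import Cfsg.Agent.Lib.Helper21.S4018B

/-!
helper21: transport of the local facts about one involution `t` to all involutions (S4018).
-/

set_option autoImplicit false
set_option linter.unusedSectionVars false

namespace Cfsg.Agent.Lib.Helper21.S4018

/-- global hypotheses -/
structure Glob (G : Type*) [Group G] (m : ℕ) (P : Subgroup G) : Prop where
  hone : ∀ a b : G, orderOf a = 2 → orderOf b = 2 → IsConj a b
  prod : ∀ u v : G, orderOf u = 2 → orderOf v = 2 → (u * v) ^ (4 * m) = 1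
  syl : ∀ y : G, y ≠ 1 → y ^ m = 1 → ∃ g : G, g * y * g⁻¹ ∈ P

/-- facts about the base involution `t` -/
structure BaseFacts (G : Type*) [Group G] (m : ℕ) (P : Subgroup G) (t : G) : Prop where
  ht : orderOf t = 2
  four : ∀ u : G, orderOf u = 2 → u ≠ t → Commute u t → ∀ h : G, Commute h t → Commute h u →
    h = 1 ∨ h = t ∨ h = u ∨ h = t * u
  cent : ∀ y ∈ P, y ≠ 1 → Commute t y ∧ (∀ u : G, orderOf u = 2 → Commute u y → u = t) ∧
    (∀ u : G, orderOf u = 2 → u * y * u⁻¹ = y⁻¹ → Commute u t)
  cnt : Nat.card {u : G // orderOf u = 2 ∧ Commute u t} = 2 * m + 1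

section transport

variable {G : Type*} [Group G] {m : ℕ} {P : Subgroup G} {t : G}

theorem Loc.baseFacts [Finite G] {C N : Subgroup G} (L : Loc G m P C N t)
    (hone : ∀ a b : G, orderOf a = 2 → orderOf b = 2 → IsConj a b)
    {s : G} (hs : orderOf s = 2) (hst : s ≠ t) (hsN : Commute s t) : BaseFacts G m P t where
  ht := L.ht
  four := fun _ hu hut huN _ hht hhu => L.four_base hone hu hut huN hht hhu
  cent := fun _ hy hy1 => L.cent_base hone hy hy1
  cnt := L.count_base hone hs hst hsN

theorem orderOf_map_equiv (φ : G ≃* G) (x : G) : orderOf (φ x) = orderOf x :=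
  MulEquiv.orderOf_eq φ x

theorem commute_map_equiv (φ : G ≃* G) {a b : G} (h : Commute a b) : Commute (φ a) (φ b) :=
  h.map φ

theorem commute_of_map_equiv (φ : G ≃* G) {a b : G} (h : Commute (φ a) (φ b)) : Commute a b := by
  have := commute_map_equiv φ.symm h
  simpa using this

theorem BaseFacts.countHyp (B : BaseFacts G m P t) (hm : Odd m) (Gl : Glob G m P) :
    CountHyp G m where
  hm := hm
  prod := Gl.prod
  four := by
    intro w u hw hu hwu hc h hhw hhu
    obtain ⟨g, hg⟩ := isConj_iff.mp (Gl.hone t w B.ht hw)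
    -- φ = conjugation by g⁻¹ maps w to t
    let φ : G ≃* G := MulAut.conj g⁻¹
    have hφw : φ w = t := by
      show g⁻¹ * w * g⁻¹⁻¹ = t
      rw [← hg]; group
    have h1 : orderOf (φ u) = 2 := by rw [orderOf_map_equiv]; exact hu
    have h2 : φ u ≠ t := by
      intro h
      apply hwu
      rw [← hφw] at h
      exact (φ.injective h).symm
    have h3 : Commute (φ u) t := by
      rw [← hφw]; exact commute_map_equiv φ hc.symm
    have h4 : Commute (φ h) t := by
      rw [← hφw]; exact commute_map_equiv φ hhw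
    have h5 : Commute (φ h) (φ u) := commute_map_equiv φ hhu
    rcases B.four (φ u) h1 h2 h3 (φ h) h4 h5 with e | e | e | e
    · left
      have : φ h = φ 1 := by rw [map_one]; exact e
      exact φ.injective this
    · right; left
      rw [← hφw] at e
      exact φ.injective e
    · right; right; left
      exact φ.injective e
    · right; right; right
      rw [← hφw, ← map_mul] at e
      exact φ.injective e
  cent := by
    intro y hy1 hym
    obtain ⟨g, hg⟩ := Gl.syl y hy1 hym
    let φ : G ≃* G := MulAut.conj g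
    have hφy : φ y = g * y * g⁻¹ := rfl
    have hφy1 : φ y ≠ 1 := by
      intro h
      apply hy1
      have : φ y = φ 1 := by rw [map_one]; exact h
      exact φ.injective this
    obtain ⟨c1, c2, c3⟩ := B.cent (φ y) hg hφy1
    refine ⟨φ.symm t, ?_, ?_, ?_, ?_⟩
    · rw [orderOf_map_equiv]; exact B.ht
    · apply commute_of_map_equiv φ
      rw [MulEquiv.apply_symm_apply]; exact c1
    · intro u hu huy
      have h1 : orderOf (φ u) = 2 := by rw [orderOf_map_equiv]; exact hu
      have h2 := c2 (φ u) h1 (commute_map_equiv φ huy)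
      rw [← h2, MulEquiv.symm_apply_apply]
    · intro u hu huy
      have h1 : orderOf (φ u) = 2 := by rw [orderOf_map_equiv]; exact hu
      have h2 : φ u * φ y * (φ u)⁻¹ = (φ y)⁻¹ := by
        rw [← map_inv, ← map_mul, ← map_mul, huy, map_inv]
      have h3 := c3 (φ u) h1 h2
      apply commute_of_map_equiv φ
      rw [MulEquiv.apply_symm_apply]; exact h3

theorem BaseFacts.count_all (B : BaseFacts G m P t) (Gl : Glob G m P) (w : G)
    (hw : orderOf w = 2) : Nat.card {u : G // orderOf u = 2 ∧ Commute u w} = 2 * m + 1 := by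
  obtain ⟨g, hg⟩ := isConj_iff.mp (Gl.hone t w B.ht hw)
  let φ : G ≃* G := MulAut.conj g
  have hφt : φ t = w := hg
  rw [← B.cnt]
  symm
  apply Nat.card_congr
  refine Equiv.subtypeEquiv φ.toEquiv ?_
  intro u
  show orderOf u = 2 ∧ Commute u t ↔ orderOf (φ u) = 2 ∧ Commute (φ u) w
  rw [orderOf_map_equiv, ← hφt]
  constructor
  · rintro ⟨h1, h2⟩; exact ⟨h1, commute_map_equiv φ h2⟩
  · rintro ⟨h1, h2⟩; exact ⟨h1, commute_of_map_equiv φ h2⟩

/-- the number of involutions -/
theorem BaseFacts.card_invol [Finite G] (B : BaseFacts G m P t) (hm : Odd m) (Gl : Glob G m P) :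
    Nat.card {u : G // orderOf u = 2} = 1 + 2 * m * (2 * m - 1) :=
  (B.countHyp hm Gl).card_invol t B.ht (B.count_all Gl)

end transport

end Cfsg.Agent.Lib.Helper21.S4018
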