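import Mathlib
import Cfsg.Prelude.Def_OddOrderLocal
import Cfsg.Agent.Lib.Helper21.S4018A
import Cfsg.Agent.Lib.Helper21.S4018B
import Cfsg.Agent.Lib.Helper2.IndexTwo
import Cfsg.Agent.Lib.Helper2.KleinSylow

/-!
helper21: S4018, global structure from the hypotheses: Sylow 2-subgroups are Klein four groups,
one class of involutions.
-/

set_option autoImplicit false
set_option linter.unusedSectionVars false
set_option linter.style.haveILetI false
set_option linter.unusedVariables false

namespace Cfsg.Agent.Lib.Helper21.S4018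

/-- the hypotheses of S4018 together with simplicity -/
structure Hyp (G : Type*) [Group G] (P : Sylow 3 G) : Prop where
  hab : IsMulCommutative P
  hN : Nat.card (Subgroup.normalizer ((P : Subgroup G) : Set G)) = 4 * Nat.card P
  hC : Nat.card (Subgroup.centralizer (P : Set G)) = 2 * Nat.card P
  hTI : Cfsg.IsTISubset (Subgroup.centralizer (P : Set G) : Set G)
  heven : ∀ H : Subgroup G, H ≠ ⊤ → 2 ∣ Nat.card H → Nat.card H ∣ 4 * Nat.card P
  hs : IsSimpleGroup G

section setup

variable {G : Type*} [Group G] [Finite G] {P : Sylow 3 G}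

theorem Hyp.normal_eq (H : Hyp G P) (K : Subgroup G) (hK : K.Normal) : K = ⊥ ∨ K = ⊤ := by
  haveI := H.hs
  exact hK.eq_bot_or_eq_top

theorem Hyp.four_dvd (H : Hyp G P) : 4 * Nat.card P ∣ Nat.card G := by
  rw [← H.hN]
  exact Subgroup.card_subgroup_dvd_card _

theorem Hyp.card_pos (H : Hyp G P) : 0 < Nat.card P := Nat.card_pos

theorem Hyp.exists_pow (H : Hyp G P) : ∃ k : ℕ, Nat.card P = 3 ^ k :=
  IsPGroup.iff_card.mp P.2

theorem Hyp.odd_card (H : Hyp G P) : Odd (Nat.card P) := by
  obtain ⟨k, hk⟩ := H.exists_pow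
  rw [hk]
  exact Odd.pow (by decide)

/-- `G` is not commutative. -/
theorem Hyp.not_comm (H : Hyp G P) : ¬ ∀ a b : G, a * b = b * a := by
  intro hcomm
  have h2 : 2 ∣ Nat.card G := dvd_trans (Dvd.intro _ (by ring : 2 * (2 * Nat.card P) = 4 * Nat.card P))
    H.four_dvd
  haveI : Fact (Nat.Prime 2) := ⟨Nat.prime_two⟩
  obtain ⟨x, hx⟩ := exists_prime_orderOf_dvd_card' 2 h2
  have hn : (Subgroup.zpowers x).Normal := by
    constructor
    intro n hn g
    rw [hcomm g n, mul_inv_cancel_right]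
    exact hn
  have hcard : Nat.card (Subgroup.zpowers x) = 2 := by rw [Nat.card_zpowers, hx]
  rcases H.normal_eq _ hn with h | h
  · rw [h, Subgroup.card_bot] at hcard
    omega
  · rw [h, Subgroup.card_top] at hcard
    have := H.four_dvd
    rw [hcard] at this
    have hp := H.card_pos
    have : 4 * Nat.card P ≤ 2 := Nat.le_of_dvd (by norm_num) this
    omega

/-- `G` is not a `p`-group. -/
theorem Hyp.not_isPGroup (H : Hyp G P) (p : ℕ) [Fact p.Prime] : ¬ IsPGroup p G := by
  intro hp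
  haveI : Nontrivial G := by
    haveI := H.hs
    exact IsSimpleGroup.toNontrivial
  have h1 : Subgroup.center G ≠ ⊥ := by
    have := hp.center_nontrivial
    intro h
    rw [h] at this
    exact not_nontrivial _ this
  rcases H.normal_eq (Subgroup.center G) inferInstance with h | h
  · exact h1 h
  · apply H.not_comm
    intro a b
    have ha : a ∈ Subgroup.center G := by rw [h]; exact Subgroup.mem_top a
    exact (Subgroup.mem_center_iff.mp ha b).symm

theorem Hyp.sylow_ne_top (H : Hyp G P) (p : ℕ) [Fact p.Prime] (S : Sylow p G) :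
    (S : Subgroup G) ≠ ⊤ := by
  intro h
  apply H.not_isPGroup p
  have := S.2
  rw [h] at this
  intro g
  obtain ⟨k, hk⟩ := this ⟨g, Subgroup.mem_top g⟩
  refine ⟨k, ?_⟩
  have := congrArg Subtype.val hk
  simpa using this

/-- Sylow 2-subgroups have order four. -/
theorem Hyp.card_sylow_two (H : Hyp G P) (S : Sylow 2 G) : Nat.card (S : Subgroup G) = 4 := by
  haveI : Fact (Nat.Prime 2) := ⟨Nat.prime_two⟩
  obtain ⟨k, hk⟩ := IsPGroup.iff_card.mp S.2
  have h4 : 4 ∣ Nat.card G := dvd_trans (Dvd.intro _ rfl) H.four_dvd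
  -- 4 ∣ |S|
  have h4S : 4 ∣ Nat.card (S : Subgroup G) := by
    have h22 : (2 : ℕ) ^ 2 ∣ Nat.card G := by norm_num; exact h4
    have := S.pow_dvd_card_of_pow_dvd_card h22
    norm_num at this
    exact this
  have h2S : 2 ∣ Nat.card (S : Subgroup G) := dvd_trans (by norm_num) h4S
  have hdvd := H.heven (S : Subgroup G) (H.sylow_ne_top 2 S) h2S
  -- |S| = 2^k divides 4 * odd
  have hcop : Nat.Coprime (Nat.card (S : Subgroup G)) (Nat.card P) := by
    rw [hk]
    apply Nat.Coprime.pow_left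
    exact Nat.coprime_two_left.mpr H.odd_card
  have h3 : Nat.card (S : Subgroup G) ∣ 4 := Nat.Coprime.dvd_of_dvd_mul_right hcop hdvd
  exact Nat.dvd_antisymm h3 h4S


theorem isKleinFour_of_card_four_of_not_isCyclic {K : Type*} [Group K] [Finite K]
    (h4 : Nat.card K = 4) (hc : ¬ IsCyclic K) : IsKleinFour K := by
  refine ⟨h4, ?_⟩
  have hsq : ∀ x : K, x ^ 2 = 1 := by
    intro x
    have h1 : orderOf x ∣ 4 := by rw [← h4]; exact orderOf_dvd_natCard x
    have h2 : orderOf x ≠ 4 := by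
      intro h
      apply hc
      apply isCyclic_of_orderOf_eq_card x
      rw [h, h4]
    have h3 : orderOf x ∣ 2 := by
      have : (4 : ℕ) = 2 ^ 2 := by norm_num
      rw [this, Nat.dvd_prime_pow Nat.prime_two] at h1
      obtain ⟨k, hk, hk'⟩ := h1
      interval_cases k
      · rw [hk']; norm_num
      · rw [hk']; norm_num
      · exact absurd hk' (by norm_num at h2 ⊢; exact h2)
    exact orderOf_dvd_iff_pow_eq_one.mp h3
  have h1 : Monoid.exponent K ∣ 2 := Monoid.exponent_dvd_of_forall_pow_eq_one hsq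
  rcases (Nat.dvd_prime Nat.prime_two).mp h1 with h | h
  · exfalso
    have : Subsingleton K := Monoid.exp_eq_one_iff.mp h
    have : Nat.card K = 1 := Nat.card_unique
    omega
  · exact h

theorem Hyp.klein (H : Hyp G P) (S : Sylow 2 G) : IsKleinFour (S : Subgroup G) := by
  apply isKleinFour_of_card_four_of_not_isCyclic (H.card_sylow_two S)
  intro hcyc
  have h4 : 4 ∣ Nat.card G := dvd_trans (Dvd.intro _ rfl) H.four_dvd
  have heven : Even (Nat.card G) := by
    rw [even_iff_two_dvd]; exact dvd_trans (by norm_num) h4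
  obtain ⟨K, hK⟩ := Cfsg.Agent.Lib.Helper2.exists_index_two_of_cyclic_sylow heven S hcyc
  have hKn : K.Normal := Subgroup.normal_of_index_eq_two hK
  rcases H.normal_eq K hKn with h | h
  · rw [h, Subgroup.index_bot] at hK
    rw [hK] at h4
    omega
  · rw [h, Subgroup.index_top] at hK
    omega

theorem Hyp.hone (H : Hyp G P) : ∀ a b : G, orderOf a = 2 → orderOf b = 2 → IsConj a b := by
  haveI : Fact (Nat.Prime 2) := ⟨Nat.prime_two⟩
  obtain ⟨S⟩ : Nonempty (Sylow 2 G) := inferInstance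
  have hS := H.klein S
  have h13 := Cfsg.Agent.Lib.Helper2.klein_one_or_three S hS
  have h3 := Cfsg.Agent.Lib.Helper2.klein_three_iff S hS
  have hne3 : Nat.card {C : ConjClasses G // ∃ t : G, orderOf t = 2 ∧ ConjClasses.mk t = C} ≠ 3 := by
    intro h
    obtain ⟨N, hN, hc⟩ := h3.mp h
    have hcard := hc.card_mul_card
    rw [H.card_sylow_two S] at hcard
    rcases H.normal_eq N hN with h | h
    · rw [h, Subgroup.card_bot, one_mul] at hcard
      apply H.sylow_ne_top 2 S
      apply Subgroup.eq_top_of_card_eq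
      rw [H.card_sylow_two S, hcard]
    · rw [h, Subgroup.card_top] at hcard
      have : 0 < Nat.card G := Nat.card_pos
      nlinarith
  have h1 : Nat.card {C : ConjClasses G // ∃ t : G, orderOf t = 2 ∧ ConjClasses.mk t = C} = 1 := by
    rcases h13 with h | h
    · exact h
    · exact absurd h hne3
  intro a b ha hb
  have hsub : Subsingleton {C : ConjClasses G // ∃ t : G, orderOf t = 2 ∧ ConjClasses.mk t = C} :=
    (Nat.card_eq_one_iff_unique.mp h1).1
  have := hsub.elim ⟨ConjClasses.mk a, a, ha, rfl⟩ ⟨ConjClasses.mk b, b, hb, rfl⟩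
  have h2 : ConjClasses.mk a = ConjClasses.mk b := congrArg Subtype.val this
  exact ConjClasses.mk_eq_mk_iff_isConj.mp h2


/-- abbreviations -/
abbrev Hyp.Cs (_H : Hyp G P) : Subgroup G := Subgroup.centralizer ((P : Subgroup G) : Set G)

abbrev Hyp.Ns (_H : Hyp G P) : Subgroup G := Subgroup.normalizer ((P : Subgroup G) : Set G)

theorem Hyp.cardC (H : Hyp G P) : Nat.card H.Cs = 2 * Nat.card (P : Subgroup G) := H.hC

theorem Hyp.cardN (H : Hyp G P) : Nat.card H.Ns = 4 * Nat.card (P : Subgroup G) := H.hN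

theorem Hyp.Pab (H : Hyp G P) : ∀ x ∈ (P : Subgroup G), ∀ y ∈ (P : Subgroup G), x * y = y * x := by
  intro x hx y hy
  have := H.hab.is_comm.comm (⟨x, hx⟩ : P) ⟨y, hy⟩
  exact congrArg Subtype.val this

theorem Hyp.PC (H : Hyp G P) : (P : Subgroup G) ≤ H.Cs := by
  intro x hx
  rw [Subgroup.mem_centralizer_iff]
  intro y hy
  exact H.Pab y hy x hx

theorem Hyp.CN (H : Hyp G P) : H.Cs ≤ H.Ns := Subgroup.centralizer_le_normalizer _

theorem mem_normalizer_of_conj_mem {K : Subgroup G} {g : G} (h : ∀ x ∈ K, g * x * g⁻¹ ∈ K) :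
    g ∈ Subgroup.normalizer (K : Set G) := by
  rw [Subgroup.mem_normalizer_iff]
  intro x
  refine ⟨h x, ?_⟩
  intro hx
  let f : K → K := fun y => ⟨g * y.1 * g⁻¹, h y.1 y.2⟩
  have hinj : Function.Injective f := by
    intro a b hab
    have := congrArg Subtype.val hab
    simp only [f] at this
    have h2 : (a : G) = b := by
      have h3 : g * (a : G) = g * b := mul_right_cancel this
      exact mul_left_cancel h3
    exact Subtype.ext h2
  obtain ⟨y, hy⟩ := Finite.surjective_of_injective hinj ⟨g * x * g⁻¹, hx⟩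
  have := congrArg Subtype.val hy
  simp only [f] at this
  have h2 : (y : G) = x := by
    have h3 : g * (y : G) = g * x := mul_right_cancel this
    exact mul_left_cancel h3
  rw [← h2]; exact y.2

theorem Hyp.normC_le (H : Hyp G P) {g : G}
    (hg : g ∈ Subgroup.normalizer ((H.Cs : Subgroup G) : Set G)) : g ∈ H.Ns := by
  apply mem_normalizer_of_conj_mem
  intro x hx
  have h1 : g * x * g⁻¹ ∈ H.Cs := (Subgroup.mem_normalizer_iff.mp hg x).mp (H.PC hx)
  have ho : Odd (orderOf (g * x * g⁻¹)) := by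
    rw [← (SemiconjBy.conj_mk g x).orderOf_eq g]
    exact odd_orderOf_of_mem H.odd_card hx
  exact mem_of_odd_of_card_two_mul H.PC H.cardC h1 ho

theorem Hyp.ti (H : Hyp G P) (g x : G) (hx : x ∈ H.Cs) (hx1 : x ≠ 1)
    (hgx : g * x * g⁻¹ ∈ H.Cs) : g ∈ H.Ns := by
  apply H.normC_le
  by_contra hg
  exact hx1 (H.hTI g hg x hx hgx)


theorem Hyp.exists_invol (H : Hyp G P) : ∃ t : G, t ∈ H.Cs ∧ orderOf t = 2 := by
  haveI : Fact (Nat.Prime 2) := ⟨Nat.prime_two⟩
  have h2 : 2 ∣ Nat.card H.Cs := by rw [H.cardC]; exact Dvd.intro _ rfl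
  obtain ⟨x, hx⟩ := exists_prime_orderOf_dvd_card' 2 h2
  refine ⟨x.1, x.2, ?_⟩
  rw [Subgroup.orderOf_coe]; exact hx

theorem Hyp.not_mem_P_of_invol (H : Hyp G P) {u : G} (hu : orderOf u = 2) :
    u ∉ (P : Subgroup G) := by
  intro h
  have := odd_orderOf_of_mem H.odd_card h
  rw [hu] at this
  exact absurd this (by decide)

theorem Hyp.tP (H : Hyp G P) {t : G} (htC : t ∈ H.Cs) : ∀ x ∈ (P : Subgroup G), Commute t x := by
  intro x hx
  exact ((Subgroup.mem_centralizer_iff.mp htC) x hx).symm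

theorem Hyp.C_le_cent (H : Hyp G P) {t : G} (htC : t ∈ H.Cs) (ht : orderOf t = 2) :
    H.Cs ≤ Subgroup.centralizer {t} := by
  intro c hc
  rw [Subgroup.mem_centralizer_singleton_iff]
  by_cases hcP : c ∈ (P : Subgroup G)
  · exact (H.tP htC c hcP).eq.symm
  · have hx : c * t ∈ (P : Subgroup G) := by
      rw [mul_mem_iff_of_card_two_mul H.PC H.cardC hc htC]
      exact ⟨fun h => absurd h hcP, fun h => absurd h (H.not_mem_P_of_invol ht)⟩
    have h1 : t * (c * t) = (c * t) * t := (H.tP htC _ hx).eq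
    have htt : t * t = 1 := mul_self_of_invol ht
    calc c * t = (t * t) * (c * t) := by rw [htt, one_mul]
      _ = t * (t * (c * t)) := by group
      _ = t * ((c * t) * t) := by rw [h1]
      _ = t * c * (t * t) := by group
      _ = t * c := by rw [htt, mul_one]

theorem Hyp.exists_sylow_two (H : Hyp G P) {t : G} (ht : orderOf t = 2) :
    ∃ S : Sylow 2 G, t ∈ S := by
  haveI : Fact (Nat.Prime 2) := ⟨Nat.prime_two⟩
  have hp : IsPGroup 2 (Subgroup.zpowers t) := by
    apply IsPGroup.of_card (n := 1)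
    rw [Nat.card_zpowers, ht, pow_one]
  obtain ⟨S, hS⟩ := hp.exists_le_sylow
  exact ⟨S, hS (Subgroup.mem_zpowers t)⟩

theorem Hyp.cent_t_eq (H : Hyp G P) {t : G} (htC : t ∈ H.Cs) (ht : orderOf t = 2) :
    Subgroup.centralizer {t} = H.Ns := by
  have ht1 : t ≠ 1 := by
    intro h; rw [h, orderOf_one] at ht; omega
  have hle : Subgroup.centralizer {t} ≤ H.Ns := by
    intro g hg
    rw [Subgroup.mem_centralizer_singleton_iff] at hg
    apply H.ti g t htC ht1
    rw [hg, mul_inv_cancel_right]; exact htC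
  apply Subgroup.eq_of_le_of_card_ge hle
  obtain ⟨S, hS⟩ := H.exists_sylow_two ht
  have hSK := H.klein S
  have hSle : (S : Subgroup G) ≤ Subgroup.centralizer {t} := by
    intro x hx
    rw [Subgroup.mem_centralizer_singleton_iff]
    exact Cfsg.Agent.Lib.Helper2.klein_comm S hSK x hx t hS
  have h4 : 4 ∣ Nat.card (Subgroup.centralizer ({t} : Set G)) := by
    rw [← H.card_sylow_two S]; exact Subgroup.card_dvd_of_le hSle
  have hm : Nat.card (P : Subgroup G) ∣ Nat.card (Subgroup.centralizer ({t} : Set G)) :=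
    Subgroup.card_dvd_of_le (le_trans H.PC (H.C_le_cent htC ht))
  have hcop : Nat.Coprime 4 (Nat.card (P : Subgroup G)) := by
    have : (4 : ℕ) = 2 ^ 2 := by norm_num
    rw [this]
    apply Nat.Coprime.pow_left
    exact Nat.coprime_two_left.mpr H.odd_card
  have hdvd : 4 * Nat.card (P : Subgroup G) ∣ Nat.card (Subgroup.centralizer ({t} : Set G)) :=
    Nat.Coprime.mul_dvd_of_dvd_of_dvd hcop h4 hm
  rw [H.cardN]
  exact Nat.le_of_dvd Nat.card_pos hdvd

theorem Hyp.exists_data (H : Hyp G P) : ∃ (t s : G) (S : Sylow 2 G), t ∈ H.Cs ∧ orderOf t = 2 ∧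
    t ∈ S ∧ s ∈ S ∧ orderOf s = 2 ∧ s ≠ t ∧ Commute s t := by
  obtain ⟨t, htC, ht⟩ := H.exists_invol
  obtain ⟨S, hS⟩ := H.exists_sylow_two ht
  have hSK := H.klein S
  obtain ⟨a, b, ha, hb, ha1, hb1, hab, -⟩ := Cfsg.Agent.Lib.Helper2.klein_exists_gens S hSK
  by_cases hat : a = t
  · refine ⟨t, b, S, htC, ht, hS, hb, Cfsg.Agent.Lib.Helper2.klein_orderOf S hSK hb hb1, ?_, ?_⟩
    · intro h; apply hab; rw [hat, h]
    · exact Cfsg.Agent.Lib.Helper2.klein_comm S hSK b hb t hS
  · refine ⟨t, a, S, htC, ht, hS, ha, Cfsg.Agent.Lib.Helper2.klein_orderOf S hSK ha ha1, hat, ?_⟩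
    exact Cfsg.Agent.Lib.Helper2.klein_comm S hSK a ha t hS

theorem Hyp.loc (H : Hyp G P) {t : G} (htC : t ∈ H.Cs) (ht : orderOf t = 2) :
    Loc G (Nat.card (P : Subgroup G)) (P : Subgroup G) H.Cs H.Ns t where
  hm := H.odd_card
  cardP := rfl
  cardC := H.cardC
  cardN := H.cardN
  PC := H.PC
  CN := H.CN
  Pab := H.Pab
  Pnorm := fun n hn x hx => (Subgroup.mem_normalizer_iff.mp hn x).mp hx
  ht := ht
  htC := htC
  tP := H.tP htC
  Ncent := by
    intro g
    rw [← H.cent_t_eq htC ht, Subgroup.mem_centralizer_singleton_iff]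
    exact ⟨fun h => h, fun h => h.eq⟩
  ti := H.ti


theorem Hyp.syl (H : Hyp G P) (y : G) (hy1 : y ≠ 1) (hym : y ^ Nat.card (P : Subgroup G) = 1) :
    ∃ g : G, g * y * g⁻¹ ∈ (P : Subgroup G) := by
  obtain ⟨k, hk⟩ := H.exists_pow
  have hk' : Nat.card (P : Subgroup G) = 3 ^ k := hk
  have hp : IsPGroup 3 (Subgroup.zpowers y) := by
    have h1 : orderOf y ∣ 3 ^ k := by
      rw [← hk']; exact orderOf_dvd_of_pow_eq_one hym
    obtain ⟨j, -, hj⟩ := (Nat.dvd_prime_pow Nat.prime_three).mp h1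
    apply IsPGroup.of_card (n := j)
    rw [Nat.card_zpowers, hj]
  obtain ⟨Q, hQ⟩ := hp.exists_le_sylow
  obtain ⟨g, hg⟩ := MulAction.exists_smul_eq G Q P
  refine ⟨g, ?_⟩
  have hyQ : y ∈ (Q : Subgroup G) := hQ (Subgroup.mem_zpowers y)
  have h1 : g * y * g⁻¹ ∈ ((g • Q : Sylow 3 G) : Subgroup G) := by
    rw [Sylow.smul_def, Sylow.pointwise_smul_def]
    have := Subgroup.smul_mem_pointwise_smul y (MulAut.conj g) (Q : Subgroup G) hyQ
    simpa [MulAut.smul_def] using this
  rw [hg] at h1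
  exact h1

theorem Hyp.prod (H : Hyp G P) (u v : G) (hu : orderOf u = 2) (hv : orderOf v = 2) :
    (u * v) ^ (4 * Nat.card (P : Subgroup G)) = 1 := by
  by_cases huv : u = v
  · rw [huv, mul_self_of_invol hv, one_pow]
  set D : Subgroup G := Subgroup.closure {u, v} with hD
  have huD : u ∈ D := Subgroup.subset_closure (by simp)
  have hvD : v ∈ D := Subgroup.subset_closure (by simp)
  have hne : D ≠ ⊤ := by
    intro htop
    set Z : Subgroup G := Subgroup.zpowers (u * v) with hZ
    have hconj : ∀ w : G, w * (u * v) * w⁻¹ = (u * v)⁻¹ → w ∈ Subgroup.normalizer (Z : Set G) := by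
      intro w hw
      apply mem_normalizer_of_conj_mem
      intro x hx
      obtain ⟨i, rfl⟩ := Subgroup.mem_zpowers_iff.mp hx
      rw [← conj_zpow, hw]
      exact Z.zpow_mem (Z.inv_mem (Subgroup.mem_zpowers _)) i
    have hZn : Z.Normal := by
      rw [← Subgroup.normalizer_eq_top_iff]
      apply top_le_iff.mp
      rw [← htop, hD, Subgroup.closure_le]
      intro w hw
      simp only [Set.mem_insert_iff, Set.mem_singleton_iff] at hw
      rcases hw with rfl | rfl
      · exact hconj _ (invol_conj_mul hu hv)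
      · exact hconj _ (invol_conj_mul' hu hv)
    rcases H.normal_eq Z hZn with h | h
    · apply huv
      have h1 : u * v = 1 := by
        have : u * v ∈ Z := Subgroup.mem_zpowers _
        rw [h, Subgroup.mem_bot] at this
        exact this
      have : u = v⁻¹ := eq_inv_of_mul_eq_one_left h1
      rw [this, inv_of_invol hv]
    · apply H.not_comm
      intro a b
      have ha : a ∈ Z := by rw [h]; exact Subgroup.mem_top a
      have hb : b ∈ Z := by rw [h]; exact Subgroup.mem_top b
      obtain ⟨i, rfl⟩ := Subgroup.mem_zpowers_iff.mp ha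
      obtain ⟨j, rfl⟩ := Subgroup.mem_zpowers_iff.mp hb
      rw [← zpow_add, ← zpow_add, add_comm]
  have h2 : 2 ∣ Nat.card D := by
    have := orderOf_dvd_natCard (⟨u, huD⟩ : D)
    rw [Subgroup.orderOf_mk, hu] at this
    exact this
  have hdvd := H.heven D hne h2
  have huvD : u * v ∈ D := D.mul_mem huD hvD
  have h3 : orderOf (u * v) ∣ Nat.card D := by
    have := orderOf_dvd_natCard (⟨u * v, huvD⟩ : D)
    rw [Subgroup.orderOf_mk] at this
    exact this
  exact orderOf_dvd_iff_pow_eq_one.mp (dvd_trans h3 hdvd)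

end setup

end Cfsg.Agent.Lib.Helper21.S4018
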