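import Mathlib
import Cfsg.Agent.Lib.Helper21.S4018C
import Cfsg.Agent.Lib.Helper21.S4018D
import Cfsg.Agent.Lib.Lead.KleinOrder3
import Cfsg.Agent.Lib.Lead.KleinBlock3
import Cfsg.Agent.Lib.Helper6.Knoerr
import Cfsg.Agent.Lib.Helper6.LinChar
import Cfsg.Agent.Lib.Helper24.PerfectLemmas
import Cfsg.Agent.Lib.Helper24.IrrFacts

/-!
helper21: S4018, final assembly: order of `G` from the involution count, against Brauer's order
formula for Klein four Sylow 2-subgroups (lead).
-/

set_option autoImplicit false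
set_option linter.unusedSectionVars false
set_option linter.style.haveILetI false
set_option linter.unusedVariables false

namespace Cfsg.Agent.Lib.Helper21.S4018

open Cfsg

section final

universe u

variable {G : Type u} [Group G] [Finite G] {P : Sylow 3 G}

/-- orbit-stabilizer for the class of involutions -/
theorem card_invol_eq_index (hone : ∀ a b : G, orderOf a = 2 → orderOf b = 2 → IsConj a b)
    {t : G} (ht : orderOf t = 2) :
    Nat.card {u : G // orderOf u = 2} = (Subgroup.centralizer ({t} : Set G)).index := by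
  set C : Subgroup G := Subgroup.centralizer ({t} : Set G) with hC
  rw [Subgroup.index]
  have hord : ∀ g : G, orderOf (g * t * g⁻¹) = 2 := by
    intro g
    rw [← (SemiconjBy.conj_mk g t).orderOf_eq g]; exact ht
  let f : G → {u : G // orderOf u = 2} := fun g => ⟨g * t * g⁻¹, hord g⟩
  have hf : ∀ x y : G, f x = f y ↔ x⁻¹ * y ∈ C := by
    intro x y
    rw [hC, Subgroup.mem_centralizer_singleton_iff]
    simp only [f, Subtype.mk.injEq]
    constructor
    · intro h
      calc x⁻¹ * y * t = x⁻¹ * (y * t * y⁻¹) * y := by group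
        _ = x⁻¹ * (x * t * x⁻¹) * y := by rw [h]
        _ = t * (x⁻¹ * y) := by group
    · intro h
      calc x * t * x⁻¹ = x * (t * (x⁻¹ * y)) * y⁻¹ := by group
        _ = x * (x⁻¹ * y * t) * y⁻¹ := by rw [h]
        _ = y * t * y⁻¹ := by group
  let F : G ⧸ C → {u : G // orderOf u = 2} :=
    Quotient.lift f (by
      intro x y hxy
      exact (hf x y).mpr (QuotientGroup.leftRel_apply.mp hxy))
  have hFinj : Function.Injective F := by
    intro a b
    induction a using Quotient.inductionOn with | _ x => ?_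
    induction b using Quotient.inductionOn with | _ y => ?_
    intro h
    apply Quotient.sound
    exact QuotientGroup.leftRel_apply.mpr ((hf x y).mp h)
  have hFsurj : Function.Surjective F := by
    rintro ⟨e, he⟩
    obtain ⟨g, hg⟩ := isConj_iff.mp (hone t e ht he)
    exact ⟨Quotient.mk _ g, Subtype.ext hg⟩
  exact (Nat.card_congr (Equiv.ofBijective F ⟨hFinj, hFsurj⟩)).symm

/-- the order of `G` -/
theorem Hyp.card_G (H : Hyp G P) : Nat.card G =
    4 * Nat.card (P : Subgroup G) *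
      (1 + 2 * Nat.card (P : Subgroup G) * (2 * Nat.card (P : Subgroup G) - 1)) := by
  obtain ⟨t, s, S, htC, ht, htS, hsS, hs, hst, hsN⟩ := H.exists_data
  have L := H.loc htC ht
  have B := L.baseFacts H.hone hs hst hsN
  have Gl : Glob G (Nat.card (P : Subgroup G)) (P : Subgroup G) := ⟨H.hone, H.prod, H.syl⟩
  have h1 := B.card_invol H.odd_card Gl
  have h2 := card_invol_eq_index H.hone ht
  have h3 := Subgroup.card_mul_index (Subgroup.centralizer ({t} : Set G))
  rw [H.cent_t_eq htC ht, H.cardN] at h3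
  rw [H.cent_t_eq htC ht] at h2
  rw [← h3, ← h2, h1]

/-- a Sylow 2-subgroup is self-centralizing. -/
theorem Hyp.card_cent_sylow (H : Hyp G P) {t s : G} {S : Sylow 2 G} (htC : t ∈ H.Cs)
    (ht : orderOf t = 2) (htS : t ∈ S) (hsS : s ∈ S) (hs : orderOf s = 2) (hst : s ≠ t)
    (hsN : Commute s t) :
    Nat.card (Subgroup.centralizer ((S : Subgroup G) : Set G)) = 4 := by
  have L := H.loc htC ht
  have hSK := H.klein S
  have heq : Subgroup.centralizer ((S : Subgroup G) : Set G) = (S : Subgroup G) := by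
    apply le_antisymm
    · intro h hh
      rw [Subgroup.mem_centralizer_iff] at hh
      have h1 : Commute h t := (hh t htS).symm
      have h2 : Commute h s := (hh s hsS).symm
      rcases L.four_base H.hone hs hst hsN h1 h2 with e | e | e | e
      · rw [e]; exact Subgroup.one_mem _
      · rw [e]; exact htS
      · rw [e]; exact hsS
      · rw [e]; exact Subgroup.mul_mem _ htS hsS
    · intro x hx
      rw [Subgroup.mem_centralizer_iff]
      intro y hy
      exact Cfsg.Agent.Lib.Helper2.klein_comm S hSK y hy x hx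
  rw [heq]
  exact H.card_sylow_two S


open Cfsg.Agent.CharLib Cfsg.Agent.Lib.Helper24 Cfsg.Agent.Lib.Helper6
open scoped commutatorElement

theorem Hyp.perfect (H : Hyp G P) : commutator G = ⊤ := by
  rcases H.normal_eq (commutator G) inferInstance with h | h
  · exfalso
    apply H.not_comm
    intro a b
    have h1 : ⁅a, b⁆ ∈ commutator G := by
      rw [commutator_def]
      exact Subgroup.commutator_mem_commutator (Subgroup.mem_top a) (Subgroup.mem_top b)
    rw [h, Subgroup.mem_bot, commutatorElement_def] at h1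
    calc a * b = (a * b * a⁻¹ * b⁻¹) * (b * a) := by group
      _ = b * a := by rw [h1, one_mul]
  · exact h

theorem Hyp.degree_ge_two (H : Hyp G P) (χ : IrrCharacter G)
    (hχ : χ ≠ Cfsg.Agent.CharLib.trivIrr G) :
    2 ≤ charDegree (χ : G → ℂ) := by
  have hpos := irr_charDegree_pos χ
  by_contra hlt
  have h1 : charDegree (χ : G → ℂ) = 1 := by omega
  have h2 : (χ : G → ℂ) 1 = 1 := by
    rw [irr_apply_one, h1]; norm_num
  have hch : IsCharacter G (χ : G → ℂ) := IsIrrCharacter.isCharacter χ.2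
  apply hχ
  apply Subtype.ext
  funext g
  have h3 := hom_eq_one_of_perfect H.perfect (linCharUnitsHom hch h2)
    (fun a b => mul_comm _ _) g
  have h4 := linCharUnitsHom_apply hch h2 g
  rw [h3] at h4
  show (χ : G → ℂ) g = 1
  rw [← h4]; rfl


/-- the two arithmetic contradictions -/
theorem arith_pos {m A B : ℚ} (hm : 1 ≤ m) (hA : 2 ≤ A) (hB : 2 ≤ B)
    (h : (4 * m ^ 2 - 2 * m + 1) * ((A + 1) * (B + 1) * (A + B)) =
      8 * m ^ 2 * (A * B * (1 + A + B))) : False := by
  have hL : 0 < (A + 1) * (B + 1) * (A + B) := by positivity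
  have hkey : (A + 1) * (B + 1) * (A + B) ≤ 2 * (A * B * (1 + A + B)) := by
    nlinarith [mul_nonneg (sub_nonneg.mpr hA) (sub_nonneg.mpr hB),
      mul_nonneg (mul_nonneg (sub_nonneg.mpr hA) (sub_nonneg.mpr hB)) (by linarith : (0:ℚ) ≤ A + B)]
  have h1 : (4 * m ^ 2 - 2 * m + 1) * ((A + 1) * (B + 1) * (A + B)) <
      4 * m ^ 2 * ((A + 1) * (B + 1) * (A + B)) := by
    apply mul_lt_mul_of_pos_right _ hL
    linarith
  have h2 : 4 * m ^ 2 * ((A + 1) * (B + 1) * (A + B)) ≤
      4 * m ^ 2 * (2 * (A * B * (1 + A + B))) := by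
    apply mul_le_mul_of_nonneg_left hkey
    positivity
  nlinarith

theorem arith_neg {m A B C : ℚ} (hm : 1 ≤ m) (hA : 2 ≤ A) (hB : 2 ≤ B) (hC : 2 ≤ C)
    (hrel : 1 + A = B + C)
    (h : (4 * m ^ 2 - 2 * m + 1) * ((A + 1) * (B - 1) * (C - 1)) =
      8 * m ^ 2 * (A * B * C)) : False := by
  have hL : 0 < (A + 1) * (B - 1) * (C - 1) := by
    have h1 : 0 < B - 1 := by linarith
    have h2 : 0 < C - 1 := by linarith
    positivity
  have hBC : (B - 1) * (C - 1) = B * C - A := by
    have : A = B + C - 1 := by linarith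
    rw [this]; ring
  have hkey : (A + 1) * (B - 1) * (C - 1) ≤ 2 * (A * B * C) := by
    have hbc : 0 ≤ B * C := by positivity
    have : (A + 1) * (B - 1) * (C - 1) = (A + 1) * (B * C - A) := by rw [mul_assoc, hBC]
    rw [this]
    nlinarith [mul_nonneg (by linarith : (0:ℚ) ≤ A - 1) hbc, mul_nonneg (by linarith : (0:ℚ) ≤ A + 1)
      (by linarith : (0:ℚ) ≤ A)]
  have h1 : (4 * m ^ 2 - 2 * m + 1) * ((A + 1) * (B - 1) * (C - 1)) <
      4 * m ^ 2 * ((A + 1) * (B - 1) * (C - 1)) := by
    apply mul_lt_mul_of_pos_right _ hL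
    linarith
  have h2 : 4 * m ^ 2 * ((A + 1) * (B - 1) * (C - 1)) ≤ 4 * m ^ 2 * (2 * (A * B * C)) := by
    apply mul_le_mul_of_nonneg_left hkey
    positivity
  nlinarith


/-- the hypotheses of S4018 are incompatible with simplicity. -/
theorem Hyp.false (H : Hyp G P) : False := by
  haveI : Fact (Nat.Prime 2) := ⟨Nat.prime_two⟩
  obtain ⟨t, s, S, htC, ht, htS, hsS, hs, hst, hsN⟩ := H.exists_data
  obtain ⟨M, hM⟩ := exists_isPModular 2
  have ht1 : t ≠ 1 := by
    intro h; rw [h, orderOf_one] at ht; omega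
  obtain ⟨a, b, c, ε, hε, ha1, hb1, hc1, hab, hac, hbc, hmem, haz, hbz, hcz, -, -, -, hy⟩ :=
    klein_principal_block_aux hM S (H.klein S) H.hone t htS ht1
  have hcG := H.card_G
  set m := Nat.card (P : Subgroup G) with hm
  have hm1 : 1 ≤ m := Nat.card_pos
  set g₀ := m * (1 + 2 * m * (2 * m - 1)) with hg₀
  have hG : Nat.card G = 4 * g₀ := by rw [hcG, hg₀]; ring
  have hg₀odd : Odd g₀ := by
    apply Odd.mul H.odd_card
    exact ⟨m * (2 * m - 1), by ring⟩
  have hnc : ¬ ∃ N : Subgroup G, N.Normal ∧ Nat.card N = g₀ := by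
    rintro ⟨N, hN, hNc⟩
    rcases H.normal_eq N hN with h | h
    · rw [h, Subgroup.card_bot] at hNc
      apply H.sylow_ne_top 2 S
      apply Subgroup.eq_top_of_card_eq
      rw [H.card_sylow_two S, hG, ← hNc]
    · rw [h, Subgroup.card_top, hG] at hNc
      have : 0 < g₀ := hg₀odd.pos
      omega
  have htriv : ∀ χ : IrrCharacter G, χ = Cfsg.Agent.CharLib.trivIrr G ↔
      (χ : G → ℂ) = (fun _ => 1) := by
    intro χ
    constructor
    · intro h; rw [h]; rfl
    · intro h; exact Subtype.ext h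
  have hB : principalBlock M G =
      {χ : IrrCharacter G | (χ : G → ℂ) = (fun _ => 1) ∨ χ = a ∨ χ = b ∨ χ = c} := by
    ext χ
    rw [hmem χ, htriv χ]
    rfl
  have hdist : (a : G → ℂ) ≠ (fun _ => 1) ∧ (b : G → ℂ) ≠ (fun _ => 1) ∧
      (c : G → ℂ) ≠ (fun _ => 1) ∧ a ≠ b ∧ a ≠ c ∧ b ≠ c :=
    ⟨fun h => ha1 ((htriv a).mpr h), fun h => hb1 ((htriv b).mpr h),
      fun h => hc1 ((htriv c).mpr h), hab, hac, hbc⟩
  have hval : (a : G → ℂ) t = ((1 : ℤ) : ℂ) ∧ (b : G → ℂ) t = ((ε : ℤ) : ℂ) ∧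
      (c : G → ℂ) t = ((-1 : ℤ) : ℂ) := by
    refine ⟨?_, hbz, ?_⟩
    · rw [haz]; norm_num
    · rw [hcz]; norm_num
  have hform := klein_order_formula M hM g₀ hg₀odd hG hnc S t htS ht a b c 1 ε (-1) hB hdist
    ⟨Or.inl rfl, hε, Or.inr rfl⟩ hval
  -- the two centralizer orders
  have hct : Nat.card (Subgroup.centralizer ({t} : Set G)) = 4 * m := by
    rw [H.cent_t_eq htC ht]; exact H.cardN
  have hcS := H.card_cent_sylow htC ht htS hsS hs hst hsN
  rw [hct, hcS] at hform
  -- degrees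
  have hA := H.degree_ge_two a ha1
  have hB' := H.degree_ge_two b hb1
  have hC := H.degree_ge_two c hc1
  have hrel := hy 1 (by rw [orderOf_one]; exact odd_one)
  rw [irr_apply_one, irr_apply_one, irr_apply_one] at hrel
  have hrelZ : (1 : ℤ) + (charDegree (a : G → ℂ) : ℤ) + ε * (charDegree (b : G → ℂ) : ℤ) -
      (charDegree (c : G → ℂ) : ℤ) = 0 := by exact_mod_cast hrel
  have hrelQ : (1 : ℚ) + (charDegree (a : G → ℂ) : ℚ) + (ε : ℚ) * (charDegree (b : G → ℂ) : ℚ) -
      (charDegree (c : G → ℂ) : ℚ) = 0 := by exact_mod_cast hrelZ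
  set A : ℚ := (charDegree (a : G → ℂ) : ℚ) with hAdef
  set B : ℚ := (charDegree (b : G → ℂ) : ℚ) with hBdef
  set C : ℚ := (charDegree (c : G → ℂ) : ℚ) with hCdef
  have hA2 : (2 : ℚ) ≤ A := by rw [hAdef]; exact_mod_cast hA
  have hB2 : (2 : ℚ) ≤ B := by rw [hBdef]; exact_mod_cast hB'
  have hC2 : (2 : ℚ) ≤ C := by rw [hCdef]; exact_mod_cast hC
  have hmQ : (1 : ℚ) ≤ (m : ℚ) := by exact_mod_cast hm1
  have hcardQ : (Nat.card G : ℚ) = 4 * (m : ℚ) * (4 * (m : ℚ) ^ 2 - 2 * (m : ℚ) + 1) := by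
    rw [hcG]
    have h2m : 1 ≤ 2 * m := by omega
    push_cast [Nat.cast_sub h2m]
    ring
  rw [hcardQ] at hform
  push_cast at hform
  rcases hε with he | he
  · rw [he] at hform hrelQ
    push_cast at hform hrelQ
    have hCeq : C = 1 + A + B := by linarith
    have hD : (A + 1) * (B + 1) * (C + -1) ≠ 0 := by
      have h1 : 0 < C + -1 := by linarith
      have h2 : 0 < A + 1 := by linarith
      have h3 : 0 < B + 1 := by linarith
      positivity
    have hm0 : (m : ℚ) ≠ 0 := by linarith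
    have key : (4 * (m : ℚ) ^ 2 - 2 * (m : ℚ) + 1) * ((A + 1) * (B + 1) * (A + B)) =
        8 * (m : ℚ) ^ 2 * (A * B * (1 + A + B)) := by
      have h4 : (4 * (m : ℚ)) * ((4 * (m : ℚ) ^ 2 - 2 * (m : ℚ) + 1) *
          ((A + 1) * (B + 1) * (C + -1))) =
          (4 * (m : ℚ)) * (8 * (m : ℚ) ^ 2 * (A * B * C)) := by
        have e := hform
        have e' : 8 * (A * B * C / ((A + 1) * (B + 1) * (C + -1))) * (4 * (m : ℚ)) ^ 3 / 4 ^ 2 =
            (4 * (m : ℚ)) * (8 * (m : ℚ) ^ 2 * (A * B * C)) / ((A + 1) * (B + 1) * (C + -1)) := by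
          ring
        rw [e', eq_div_iff hD] at e
        rw [← e]; ring
      have h5 := mul_left_cancel₀ (by positivity : (4 * (m : ℚ)) ≠ 0) h4
      rw [hCeq] at h5
      have : (1 + A + B + -1 : ℚ) = A + B := by ring
      rw [this] at h5
      exact h5
    exact arith_pos hmQ hA2 hB2 key
  · rw [he] at hform hrelQ
    push_cast at hform hrelQ
    have hrel' : 1 + A = B + C := by linarith
    have hD : (A + 1) * (B + -1) * (C + -1) ≠ 0 := by
      have h1 : 0 < C + -1 := by linarith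
      have h2 : 0 < A + 1 := by linarith
      have h3 : 0 < B + -1 := by linarith
      positivity
    have key : (4 * (m : ℚ) ^ 2 - 2 * (m : ℚ) + 1) * ((A + 1) * (B - 1) * (C - 1)) =
        8 * (m : ℚ) ^ 2 * (A * B * C) := by
      have h4 : (4 * (m : ℚ)) * ((4 * (m : ℚ) ^ 2 - 2 * (m : ℚ) + 1) *
          ((A + 1) * (B + -1) * (C + -1))) =
          (4 * (m : ℚ)) * (8 * (m : ℚ) ^ 2 * (A * B * C)) := by
        have e := hform
        have e' : 8 * (A * B * C / ((A + 1) * (B + -1) * (C + -1))) * (4 * (m : ℚ)) ^ 3 / 4 ^ 2 =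
            (4 * (m : ℚ)) * (8 * (m : ℚ) ^ 2 * (A * B * C)) / ((A + 1) * (B + -1) * (C + -1)) := by
          ring
        rw [e', eq_div_iff hD] at e
        rw [← e]; ring
      have h5 := mul_left_cancel₀ (by positivity : (4 * (m : ℚ)) ≠ 0) h4
      have e1 : (B + -1 : ℚ) = B - 1 := by ring
      have e2 : (C + -1 : ℚ) = C - 1 := by ring
      rw [e1, e2] at h5
      exact h5
    exact arith_neg hmQ hA2 hB2 hC2 hrel' key

end final

end Cfsg.Agent.Lib.Helper21.S4018
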