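import Mathlib
import Cfsg.Agent.Lib.Helper7.DHBDefs
import Cfsg.Agent.Lib.Helper20.DHBPAR

/-!
# DHB-COMPL (market DHB of S3616, planner helper7): the complementary basic set

`T' = (Xc X) ∪ (Yᶜ) b` satisfies `Hyp` with `(k', l', m') = (2n-1-k, 2n-2-2k+m, 2n-2k+l)`.
-/

set_option autoImplicit false

namespace Cfsg.Agent.Lib.Helper21.DHBCOMPL

open Finset Cfsg.Agent.Lib.Helper7.DHB

variable {n : ℕ} [NeZero n] {X Y : Finset (ZMod n)} {k l m : ℕ}

/-- integer indicator -/
def chi (S : Finset (ZMod n)) (a : ZMod n) : ℤ := if a ∈ S then 1 else 0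

/-- integer delta at `0` -/
def dlt (a : ZMod n) : ℤ := if a = 0 then 1 else 0

theorem rep_eq_sum (S T : Finset (ZMod n)) (i : ZMod n) :
    (rep S T i : ℤ) = ∑ a, chi S a * chi T (i - a) := by
  unfold rep
  rw [Finset.card_filter, Finset.sum_product]
  push_cast
  have h1 : ∀ a : ZMod n, (∑ b ∈ T, (if a + b = i then (1 : ℤ) else 0)) = chi T (i - a) := by
    intro a
    have : ∀ b : ZMod n, (a + b = i) ↔ (i - a = b) := by
      intro b
      constructor
      · intro h; rw [← h]; ring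
      · intro h; rw [← h]; ring
    simp only [this]
    rw [Finset.sum_ite_eq]
    rfl
  simp only [h1]
  have h2 : ∀ a : ZMod n, chi S a * chi T (i - a) = if a ∈ S then chi T (i - a) else 0 := by
    intro a
    unfold chi
    split_ifs <;> simp
  simp only [h2]
  rw [Finset.sum_ite_mem, Finset.univ_inter]

theorem dif_eq_sum (S T : Finset (ZMod n)) (i : ZMod n) :
    (dif S T i : ℤ) = ∑ a, chi S a * chi T (a + i) := by
  unfold dif
  rw [Finset.card_filter, Finset.sum_product]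
  push_cast
  have h1 : ∀ a : ZMod n, (∑ b ∈ T, (if b - a = i then (1 : ℤ) else 0)) = chi T (a + i) := by
    intro a
    have : ∀ b : ZMod n, (b - a = i) ↔ (a + i = b) := by
      intro b
      constructor
      · intro h; rw [← h]; ring
      · intro h; rw [← h]; ring
    simp only [this]
    rw [Finset.sum_ite_eq]
    rfl
  simp only [h1]
  have h2 : ∀ a : ZMod n, chi S a * chi T (a + i) = if a ∈ S then chi T (a + i) else 0 := by
    intro a
    unfold chi
    split_ifs <;> simp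
  simp only [h2]
  rw [Finset.sum_ite_mem, Finset.univ_inter]

theorem sum_chi (S : Finset (ZMod n)) : ∑ a, chi S a = S.card := by
  unfold chi
  rw [Finset.sum_ite_mem, Finset.univ_inter]
  simp

theorem sum_chi_sub (S : Finset (ZMod n)) (i : ZMod n) : ∑ a, chi S (i - a) = S.card := by
  rw [← sum_chi S]
  exact Fintype.sum_equiv (Equiv.subLeft i) _ _ (fun a => rfl)

theorem sum_chi_add (S : Finset (ZMod n)) (i : ZMod n) : ∑ a, chi S (a + i) = S.card := by
  rw [← sum_chi S]
  exact Fintype.sum_equiv (Equiv.addRight i) _ _ (fun a => rfl)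

theorem sum_one : ∑ _a : ZMod n, (1 : ℤ) = n := by
  simp [ZMod.card]

theorem sum_dlt_mul (f : ZMod n → ℤ) : ∑ a, dlt a * f a = f 0 := by
  unfold dlt
  simp [ite_mul]

theorem sum_dlt_sub_mul (f : ZMod n → ℤ) (i : ZMod n) : ∑ a, dlt (i - a) * f a = f i := by
  unfold dlt
  have : ∀ a : ZMod n, (i - a = 0) ↔ (a = i) := by
    intro a
    rw [sub_eq_zero]
    exact eq_comm
  simp [ite_mul, this]

theorem chi_compl (S : Finset (ZMod n)) (a : ZMod n) : chi (Sᶜ) a = 1 - chi S a := by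
  unfold chi
  by_cases h : a ∈ S <;> simp [h]

theorem chi_Xc (h0 : (0 : ZMod n) ∉ X) (a : ZMod n) : chi (Xc X) a = 1 - dlt a - chi X a := by
  unfold chi dlt Xc
  by_cases ha : a = 0
  · subst ha
    simp [h0]
  · by_cases h : a ∈ X <;> simp [h, ha]

/-- `dif` of the complement. -/
theorem dif_compl (i : ZMod n) :
    (dif (Yᶜ) (Yᶜ) i : ℤ) + 2 * Y.card = n + dif Y Y i := by
  rw [dif_eq_sum, dif_eq_sum]
  have : ∀ a : ZMod n, chi (Yᶜ) a * chi (Yᶜ) (a + i) =
      1 - chi Y a - chi Y (a + i) + chi Y a * chi Y (a + i) := by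
    intro a
    rw [chi_compl, chi_compl]
    ring
  simp only [this]
  rw [Finset.sum_add_distrib, Finset.sum_sub_distrib, Finset.sum_sub_distrib, sum_one, sum_chi,
    sum_chi_add]
  ring

/-- `rep` of the complementary rotation part. -/
theorem rep_Xc (h0 : (0 : ZMod n) ∉ X) (i : ZMod n) :
    (rep (Xc X) (Xc X) i : ℤ) + 2 * X.card + 2 = n + dlt i + 2 * chi X i + rep X X i := by
  rw [rep_eq_sum, rep_eq_sum]
  have : ∀ a : ZMod n, chi (Xc X) a * chi (Xc X) (i - a) =
      1 - dlt (i - a) * 1 - chi X (i - a) - dlt a * 1 + dlt a * dlt (i - a) + dlt a * chi X (i - a)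
        - chi X a + dlt (i - a) * chi X a + chi X a * chi X (i - a) := by
    intro a
    rw [chi_Xc h0, chi_Xc h0]
    ring
  simp only [this]
  simp only [Finset.sum_add_distrib, Finset.sum_sub_distrib]
  rw [sum_one, sum_chi, sum_chi_sub, sum_dlt_mul, sum_dlt_mul, sum_dlt_mul, sum_dlt_sub_mul,
    sum_dlt_sub_mul]
  try simp only [sub_zero]
  ring

/-- mixed `rep` of the complement. -/
theorem rep_Xc_compl (h0 : (0 : ZMod n) ∉ X) (j : ZMod n) :
    (rep (Xc X) (Yᶜ) j : ℤ) + X.card + Y.card + 1 = n + chi Y j + rep X Y j := by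
  rw [rep_eq_sum, rep_eq_sum]
  have : ∀ a : ZMod n, chi (Xc X) a * chi (Yᶜ) (j - a) =
      1 - chi Y (j - a) - dlt a * 1 + dlt a * chi Y (j - a) - chi X a + chi X a * chi Y (j - a) := by
    intro a
    rw [chi_Xc h0, chi_compl]
    ring
  simp only [this]
  simp only [Finset.sum_add_distrib, Finset.sum_sub_distrib]
  rw [sum_one, sum_chi, sum_chi_sub, sum_dlt_mul, sum_dlt_mul]
  try simp only [sub_zero]
  ring


theorem mem_Xc {i : ZMod n} : i ∈ Xc X ↔ i ≠ 0 ∧ i ∉ X := by
  unfold Xc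
  rw [Finset.mem_erase, Finset.mem_compl]

theorem card_Xc (h0 : (0 : ZMod n) ∉ X) : (Xc X).card + X.card + 1 = n := by
  unfold Xc
  rw [Finset.card_erase_of_mem (by rw [Finset.mem_compl]; exact h0), Finset.card_compl, ZMod.card]
  have h1 : X.card < n := by
    have : X ⊂ Finset.univ := by
      rw [Finset.ssubset_univ_iff]
      intro hX
      exact h0 (hX ▸ Finset.mem_univ 0)
    have := Finset.card_lt_card this
    rwa [Finset.card_univ, ZMod.card] at this
  omega

theorem card_compl' : (Yᶜ).card + Y.card = n := by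
  have := Finset.card_compl_add_card Y
  rwa [ZMod.card] at this

/-- **COMPL**: the complementary basic set `T' = (Xc X) ∪ (Yᶜ) b` satisfies the same equations with
`(k', l', m') = (2n - 1 - k, 2n - 2 - 2k + m, 2n - 2k + l)`; moreover `m' = 0 ↔ m = k` and `m' = k' ↔ m = 0`. -/
theorem compl (h : Hyp n X Y k l m) (hX : X.Nonempty) (hX' : (Xc X).Nonempty) :
    ∃ k' l' m' : ℕ, Hyp n (Xc X) (Yᶜ) k' l' m' ∧ k + k' + 1 = 2 * n ∧ l' + 2 * k + 2 = 2 * n + m ∧
      m' + 2 * k = 2 * n + l ∧ (m' = 0 ↔ m = k) ∧ (m' = k' ↔ m = 0) := by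
  obtain ⟨hk, e2, e3⟩ := Cfsg.Agent.Lib.Helper20.DHBPAR.par h
  obtain ⟨i₁, hi₁⟩ := hX
  obtain ⟨i₀, hi₀⟩ := hX'
  have h0 := h.zero_notMem
  have hcX := card_Xc h0
  have hcY := card_compl' (Y := Y)
  have hE1 : ∀ i : ZMod n, ((rep (Xc X) (Xc X) i + dif (Yᶜ) (Yᶜ) i : ℕ) : ℤ) + 2 * k + 2 =
      2 * n + dlt i + 2 * chi X i + ((if i = 0 then k else if i ∈ X then l else m : ℕ) : ℤ) := by
    intro i
    have h1 := rep_Xc h0 i
    have h2 := dif_compl (Y := Y) i
    have h3 := h.E1 i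
    rw [← h3, ← hk]
    push_cast
    linarith
  have hE2 : ∀ j : ZMod n, ((2 * rep (Xc X) (Yᶜ) j : ℕ) : ℤ) + 2 * k + 2 =
      2 * n + 2 * chi Y j + ((if j ∈ Y then l else m : ℕ) : ℤ) := by
    intro j
    have h1 := rep_Xc_compl h0 (Y := Y) j
    have h3 := h.E2 j
    rw [← h3, ← hk]
    push_cast
    linarith
  have hi₁0 : i₁ ≠ 0 := fun hh => h0 (hh ▸ hi₁)
  obtain ⟨hi₀0, hi₀X⟩ := mem_Xc.1 hi₀
  -- the two new parameters
  have hl' : rep (Xc X) (Xc X) i₀ + dif (Yᶜ) (Yᶜ) i₀ + 2 * k + 2 = 2 * n + m := by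
    have := hE1 i₀
    simp only [dlt, chi, hi₀0, hi₀X, if_false] at this
    omega
  have hm' : rep (Xc X) (Xc X) i₁ + dif (Yᶜ) (Yᶜ) i₁ + 2 * k = 2 * n + l := by
    have := hE1 i₁
    simp only [dlt, chi, hi₁0, hi₁, if_false, if_true] at this
    omega
  have hkk : k + ((Xc X).card + (Yᶜ).card) + 1 = 2 * n := by omega
  have hkpos : 1 ≤ k := by
    have : 1 ≤ X.card := Finset.card_pos.2 ⟨i₁, hi₁⟩
    omega
  have hKpos : 1 ≤ (Xc X).card + (Yᶜ).card := by
    have : 1 ≤ (Xc X).card := Finset.card_pos.2 ⟨i₀, hi₀⟩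
    omega
  obtain ⟨K', hK'⟩ : ∃ K' : ℕ, K' = (Xc X).card + (Yᶜ).card := ⟨_, rfl⟩
  obtain ⟨L', hL'⟩ : ∃ L' : ℕ, L' = rep (Xc X) (Xc X) i₀ + dif (Yᶜ) (Yᶜ) i₀ := ⟨_, rfl⟩
  obtain ⟨M', hM'⟩ : ∃ M' : ℕ, M' = rep (Xc X) (Xc X) i₁ + dif (Yᶜ) (Yᶜ) i₁ := ⟨_, rfl⟩
  rw [← hK'] at hkk hKpos
  rw [← hL'] at hl'
  rw [← hM'] at hm'
  have hkey : ((k : ℤ)) ^ 2 + m * (k + 1) = k + l * k + 2 * m * n := by
    have e2' : (2 * (X.card : ℤ) * Y.card + m * Y.card = l * Y.card + m * n) := by exact_mod_cast e2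
    have e3' : ((X.card : ℤ) ^ 2 + Y.card ^ 2 + m * (X.card + 1) = k + l * X.card + m * n) := by
      exact_mod_cast e3
    have hk' : (k : ℤ) = X.card + Y.card := by exact_mod_cast hk.symm
    linear_combination e2' + e3' + ((k : ℤ) + X.card + Y.card + m - l) * hk'
  have hK : (K' : ℤ) = 2 * n - 1 - k := by omega
  have hM : (M' : ℤ) = 2 * n + l - 2 * k := by omega
  have hA : (K' : ℤ) * (k - m) = M' * k := by
    rw [hK, hM]
    linear_combination hkey
  have hB : (k : ℤ) * (K' - M') = m * K' := by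
    rw [hK, hM]
    linear_combination hkey
  have iff1 : M' = 0 ↔ m = k := by
    constructor
    · intro hM0
      have : (K' : ℤ) * (k - m) = 0 := by rw [hA, hM0]; simp
      rcases mul_eq_zero.1 this with h1 | h1
      · omega
      · omega
    · intro hmk
      have : (M' : ℤ) * k = 0 := by rw [← hA, hmk]; simp
      rcases mul_eq_zero.1 this with h1 | h1
      · omega
      · omega
  have iff2 : M' = K' ↔ m = 0 := by
    constructor
    · intro hMK
      have : (m : ℤ) * K' = 0 := by rw [← hB, hMK]; simp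
      rcases mul_eq_zero.1 this with h1 | h1
      · omega
      · omega
    · intro hm0
      have : (k : ℤ) * (K' - M') = 0 := by rw [hB, hm0]; simp
      rcases mul_eq_zero.1 this with h1 | h1
      · omega
      · omega
  rw [← hK'] at *
  refine ⟨K', L', M', ⟨?_, ?_, ?_, ?_⟩, hkk, hl', hm', iff1, iff2⟩
  · intro hh
    exact (mem_Xc.1 hh).1 rfl
  · intro i hi
    obtain ⟨hi0, hiX⟩ := mem_Xc.1 hi
    refine mem_Xc.2 ⟨neg_ne_zero.2 hi0, fun hh => hiX ?_⟩
    have := h.neg_mem _ hh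
    rwa [neg_neg] at this
  · intro i
    have := hE1 i
    by_cases hi0 : i = 0
    · subst hi0
      simp only [dlt, chi, h0, if_false, if_true] at this
      rw [if_pos rfl]
      omega
    · rw [if_neg hi0]
      by_cases hiX : i ∈ X
      · have hiXc : i ∉ Xc X := fun hh => (mem_Xc.1 hh).2 hiX
        rw [if_neg hiXc]
        simp only [dlt, chi, hi0, hiX, if_false, if_true] at this
        omega
      · have hiXc : i ∈ Xc X := mem_Xc.2 ⟨hi0, hiX⟩
        rw [if_pos hiXc]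
        simp only [dlt, chi, hi0, hiX, if_false] at this
        omega
  · intro j
    have := hE2 j
    by_cases hjY : j ∈ Y
    · have : j ∉ Yᶜ := by rw [Finset.mem_compl]; exact fun hh => hh hjY
      rw [if_neg this]
      have := hE2 j
      simp only [chi, hjY, if_true] at this
      omega
    · have : j ∈ Yᶜ := by rw [Finset.mem_compl]; exact hjY
      rw [if_pos this]
      have := hE2 j
      simp only [chi, hjY, if_false] at this
      omega

end Cfsg.Agent.Lib.Helper21.DHBCOMPL
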