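import Mathlib
import Cfsg.Agent.Lib.Helper7.DHBDefs
import Cfsg.Agent.Lib.Helper20.DHBPAR
import Cfsg.Agent.Lib.Helper21.DHBCOMPL

/-!
# DHB-NE (market DHB of S3616, planner helper7): in the non-degenerate case all four parts are non-empty
-/

set_option autoImplicit false
set_option linter.unusedSectionVars false

namespace Cfsg.Agent.Lib.Helper21.DHBNE

open Finset Cfsg.Agent.Lib.Helper7.DHB Cfsg.Agent.Lib.Helper21.DHBCOMPL

variable {n : ℕ} [NeZero n] {X Y : Finset (ZMod n)} {k l m : ℕ}

theorem rep_empty_left (T : Finset (ZMod n)) (j : ZMod n) : rep (∅ : Finset (ZMod n)) T j = 0 := by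
  simp [rep]

theorem rep_empty_right (S : Finset (ZMod n)) (j : ZMod n) : rep S (∅ : Finset (ZMod n)) j = 0 := by
  simp [rep]

/-- **NE**: in the non-degenerate case all four parts are non-empty. -/
theorem ne_parts (h : Hyp n X Y k l m)
    (hT' : (∃ i : ZMod n, i ≠ 0 ∧ i ∉ X) ∨ ∃ j : ZMod n, j ∉ Y) (hm0 : m ≠ 0) (hmk : m ≠ k) :
    X.Nonempty ∧ Y.Nonempty ∧ (Xc X).Nonempty ∧ (Yᶜ).Nonempty := by
  obtain ⟨hk, e2, e3⟩ := Cfsg.Agent.Lib.Helper20.DHBPAR.par h
  have h0 := h.zero_notMem
  have hcX := card_Xc h0
  have hcY := card_compl' (Y := Y)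
  have hnpos : 0 < n := Nat.pos_of_ne_zero (NeZero.ne n)
  have e2' : (2 * (X.card : ℤ) * Y.card + m * Y.card = l * Y.card + m * n) := by exact_mod_cast e2
  have e3' : ((X.card : ℤ) ^ 2 + Y.card ^ 2 + m * (X.card + 1) = k + l * X.card + m * n) := by
    exact_mod_cast e3
  have hk' : (k : ℤ) = X.card + Y.card := by exact_mod_cast hk.symm
  have hY : Y.Nonempty := by
    rw [Finset.nonempty_iff_ne_empty]
    intro hYe
    have := h.E2 0
    rw [hYe, rep_empty_right] at this
    simp at this
    exact hm0 this.symm
  have hYpos : 1 ≤ Y.card := Finset.card_pos.2 hY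
  have hX : X.Nonempty := by
    rw [Finset.nonempty_iff_ne_empty]
    intro hXe
    by_cases hYu : ∃ j, j ∉ Y
    · obtain ⟨j, hj⟩ := hYu
      have := h.E2 j
      rw [hXe, if_neg hj, rep_empty_left] at this
      exact hm0 (by omega)
    · push Not at hYu
      have hYc : Y.card = n := by
        have : Y = Finset.univ := Finset.eq_univ_iff_forall.2 hYu
        rw [this, Finset.card_univ, ZMod.card]
      have hXc : X.card = 0 := by rw [hXe]; rfl
      rcases hT' with ⟨i, hi0, -⟩ | ⟨j, hj⟩
      · have hn2 : 2 ≤ n := by
          by_contra hlt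
          have h1 : n = 1 := by omega
          subst h1
          exact hi0 (Subsingleton.elim _ _)
        rw [hXc, hYc] at e3' hk'
        have : ((n : ℤ) - 1) * (n - m) = 0 := by
          push_cast at e3' hk'
          rw [hk'] at e3'
          linear_combination e3'
        rcases mul_eq_zero.1 this with h1 | h1
        · omega
        · apply hmk
          have : (k : ℤ) = n := by rw [hk']; push_cast; ring
          omega
      · exact absurd (hYu j) hj
  have hXc : (Xc X).Nonempty := by
    rw [Finset.nonempty_iff_ne_empty]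
    intro hXce
    have hXcard : X.card + 1 = n := by rw [hXce] at hcX; simpa using hcX
    rcases hT' with ⟨i, hi0, hiX⟩ | ⟨j, hj⟩
    · have : i ∈ Xc X := mem_Xc.2 ⟨hi0, hiX⟩
      rw [hXce] at this
      exact absurd this (Finset.notMem_empty _)
    · have h1 := rep_Xc_compl h0 (Y := Y) j
      rw [hXce, rep_empty_left] at h1
      simp only [chi, hj, if_false] at h1
      have h2 := h.E2 j
      rw [if_neg hj] at h2
      have hm2 : m = 2 * Y.card := by
        have : (rep X Y j : ℤ) = Y.card := by
          have : (X.card : ℤ) + 1 = n := by exact_mod_cast hXcard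
          push_cast at h1
          linarith
        have : rep X Y j = Y.card := by exact_mod_cast this
        omega
      have hYlt : Y.card < n := by
        have : Y ⊂ Finset.univ := by
          rw [Finset.ssubset_univ_iff]
          intro hYu
          exact hj (hYu ▸ Finset.mem_univ j)
        have := Finset.card_lt_card this
        rwa [Finset.card_univ, ZMod.card] at this
      have ha : (X.card : ℤ) = n - 1 := by
        have : (X.card : ℤ) + 1 = n := by exact_mod_cast hXcard
        linarith
      have hmz : (m : ℤ) = 2 * Y.card := by exact_mod_cast hm2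
      -- l = 2 c - 2
      have hl : (l : ℤ) = 2 * Y.card - 2 := by
        have : (Y.card : ℤ) * (2 * ((n : ℤ) - 1) + 2 * Y.card - l - 2 * n) = 0 := by
          rw [ha, hmz] at e2'
          linear_combination e2'
        rcases mul_eq_zero.1 this with h3 | h3
        · omega
        · linarith
      have : ((n : ℤ) - Y.card) * (n - Y.card - 1) = 0 := by
        rw [ha, hmz, hl, hk', ha] at e3'
        linear_combination e3'
      rcases mul_eq_zero.1 this with h3 | h3
      · omega
      · apply hmk
        have : (k : ℤ) = m := by rw [hk', ha, hmz]; linarith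
        exact_mod_cast this.symm
  have hYc : (Yᶜ).Nonempty := by
    rw [Finset.nonempty_iff_ne_empty]
    intro hYce
    have hYcard : Y.card = n := by rw [hYce] at hcY; simpa using hcY
    rcases hT' with ⟨i, hi0, hiX⟩ | ⟨j, hj⟩
    · have hXc1 : 1 ≤ (Xc X).card := Finset.card_pos.2 ⟨i, mem_Xc.2 ⟨hi0, hiX⟩⟩
      have hc : (Y.card : ℤ) = n := by exact_mod_cast hYcard
      have hl : (l : ℤ) = 2 * X.card := by
        have : (n : ℤ) * (2 * X.card - l) = 0 := by
          rw [hc] at e2'
          linear_combination e2'
        rcases mul_eq_zero.1 this with h3 | h3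
        · omega
        · linarith
      have : ((n : ℤ) - X.card - 1) * (n + X.card - m) = 0 := by
        rw [hc, hl, hk', hc] at e3'
        linear_combination e3'
      rcases mul_eq_zero.1 this with h3 | h3
      · omega
      · apply hmk
        have : (k : ℤ) = m := by rw [hk', hc]; linarith
        exact_mod_cast this.symm
    · have : j ∈ Yᶜ := Finset.mem_compl.2 hj
      rw [hYce] at this
      exact absurd this (Finset.notMem_empty _)
  exact ⟨hX, hY, hXc, hYc⟩

end Cfsg.Agent.Lib.Helper21.DHBNE
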