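import Mathlib
import Cfsg.Agent.Lib.Helper9.Stability

set_option autoImplicit false

namespace Cfsg.Agent.Lib.Helper21.TypeV

open scoped commutatorElement

/-- An automorphism of a group of prime order `p` has order dividing `p - 1`. -/
theorem mulAut_pow_pred_eq_one {p : ℕ} [Fact p.Prime] {C : Type*} [Group C]
    (hC : Nat.card C = p) (φ : MulAut C) : φ ^ (p - 1) = 1 := by
  have hp : p.Prime := Fact.out
  have : Finite C := Nat.finite_of_card_ne_zero (by rw [hC]; exact hp.ne_zero)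
  have hcyc : IsCyclic C := isCyclic_of_prime_card hC
  have hcard : Nat.card (MulAut C) = p - 1 := by
    rw [IsCyclic.card_mulAut, hC, Nat.totient_prime hp]
  rw [← hcard]
  exact pow_card_eq_one'

/-- An automorphism of `B` preserving a normal subgroup `N` of prime index `p`: its
`(p-1)`-th power acts trivially on `B ⧸ N`. -/
theorem mulAut_pow_pred_mul_inv_mem {p : ℕ} [Fact p.Prime] {B : Type*} [Group B]
    (N : Subgroup B) [N.Normal] (hidx : N.index = p) (φ : MulAut B)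
    (hφ : N.map (φ : B ≃* B).toMonoidHom = N) (b : B) :
    (φ ^ (p - 1)) b * b⁻¹ ∈ N := by
  set ψ : MulAut (B ⧸ N) := QuotientGroup.congr N N φ hφ with hψ
  have hcard : Nat.card (B ⧸ N) = p := by rw [← hidx]; rfl
  have h1 : ψ ^ (p - 1) = 1 := mulAut_pow_pred_eq_one hcard ψ
  have hpow : ∀ n : ℕ, (ψ ^ n) (QuotientGroup.mk b) = QuotientGroup.mk ((φ ^ n) b) := by
    intro n
    induction n with
    | zero => simp
    | succ n ih =>
      rw [pow_succ', pow_succ', MulAut.mul_apply, ih, MulAut.mul_apply]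
      exact QuotientGroup.congr_mk N N φ hφ _
  have h2 := hpow (p - 1)
  rw [h1, MulAut.one_apply] at h2
  have h3 : ((φ ^ (p - 1)) b)⁻¹ * b ∈ N := (QuotientGroup.eq).mp h2.symm
  have h4 : (φ ^ (p - 1)) b * (((φ ^ (p - 1)) b)⁻¹ * b)⁻¹ * ((φ ^ (p - 1)) b)⁻¹ ∈ N :=
    ‹N.Normal›.conj_mem _ (N.inv_mem h3) _
  have : (φ ^ (p - 1)) b * (((φ ^ (p - 1)) b)⁻¹ * b)⁻¹ * ((φ ^ (p - 1)) b)⁻¹
      = (φ ^ (p - 1)) b * b⁻¹ := by group
  rwa [this] at h4

variable {G : Type*} [Group G]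

/-- If `k` normalizes a subgroup `C` of prime order `p` then `k ^ (p-1)` centralizes `C`. -/
theorem pow_pred_commute_of_card_prime {p : ℕ} [Fact p.Prime] {C : Subgroup G}
    (hC : Nat.card C = p) {k : G} (hk : k ∈ Subgroup.normalizer (C : Set G)) :
    ∀ c ∈ C, k ^ (p - 1) * c = c * k ^ (p - 1) := by
  intro c hc
  have h1 : (C.normalizerMonoidHom ⟨k, hk⟩) ^ (p - 1) = 1 := mulAut_pow_pred_eq_one hC _
  rw [← map_pow] at h1
  have h2 := congrArg (fun f : MulAut C => ((f ⟨c, hc⟩ : C) : G)) h1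
  simp only [Subgroup.normalizerMonoidHom_apply_apply_coe, MulAut.one_apply] at h2
  have h3 : k ^ (p - 1) * c * (k ^ (p - 1))⁻¹ = c := by simpa using h2
  calc k ^ (p - 1) * c = k ^ (p - 1) * c * (k ^ (p - 1))⁻¹ * k ^ (p - 1) := by group
    _ = c * k ^ (p - 1) := by rw [h3]


/-- If `k` normalizes `B` of order `p ^ 2` and `Z₀ ≤ B` of order `p`, then `k ^ (p-1)` acts
trivially on `B / Z₀`. -/
theorem pow_pred_commutator_mem {p : ℕ} [Fact p.Prime] {B Z₀ : Subgroup G}
    (hBcard : Nat.card B = p ^ 2) (hZ₀B : Z₀ ≤ B) (hZ₀card : Nat.card Z₀ = p) {k : G}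
    (hkB : k ∈ Subgroup.normalizer (B : Set G)) (hkZ : k ∈ Subgroup.normalizer (Z₀ : Set G)) :
    ∀ b ∈ B, k ^ (p - 1) * b * (k ^ (p - 1))⁻¹ * b⁻¹ ∈ Z₀ := by
  have hp : p.Prime := Fact.out
  intro b hb
  have hcomm : ∀ x y : B, x * y = y * x := by
    have := IsPGroup.isMulCommutative_of_card_eq_prime_sq hBcard
    exact fun x y => mul_comm' x y
  set N : Subgroup B := Z₀.subgroupOf B with hN
  have hNn : N.Normal := by
    constructor
    intro n hn g
    rw [hcomm g n, mul_assoc, mul_inv_cancel, mul_one]; exact hn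
  have hNcard : Nat.card N = p := by
    rw [hN, Nat.card_congr (Subgroup.subgroupOfEquivOfLe hZ₀B).toEquiv, hZ₀card]
  have hidx : N.index = p := by
    have h1 := N.card_mul_index
    rw [hNcard, hBcard, pow_two] at h1
    exact Nat.eq_of_mul_eq_mul_left hp.pos h1
  set φ : MulAut B := B.normalizerMonoidHom ⟨k, hkB⟩ with hφ
  have hφN : N.map (φ : B ≃* B).toMonoidHom = N := by
    ext x
    rw [Subgroup.mem_map]
    constructor
    · rintro ⟨y, hy, rfl⟩
      rw [hN, Subgroup.mem_subgroupOf] at hy ⊢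
      have : ((φ y : B) : G) = k * y * k⁻¹ := rfl
      show ((φ y : B) : G) ∈ Z₀
      rw [this]
      exact (hkZ _).mp hy
    · intro hx
      rw [hN, Subgroup.mem_subgroupOf] at hx
      have hkB' : k⁻¹ ∈ Subgroup.normalizer (B : Set G) := inv_mem hkB
      have hkZ' : k⁻¹ ∈ Subgroup.normalizer (Z₀ : Set G) := inv_mem hkZ
      have hyB : k⁻¹ * x * k ∈ B := by
        have := (hkB' _).mp x.2; simpa using this
      have hyZ : k⁻¹ * x * k ∈ Z₀ := by
        have := (hkZ' _).mp hx; simpa using this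
      refine ⟨⟨k⁻¹ * x * k, hyB⟩, ?_, ?_⟩
      · rw [hN, Subgroup.mem_subgroupOf]; exact hyZ
      · apply Subtype.ext
        show k * (k⁻¹ * x * k) * k⁻¹ = x
        group
  have key := mulAut_pow_pred_mul_inv_mem N hidx φ hφN ⟨b, hb⟩
  rw [hφ, ← map_pow, hN, Subgroup.mem_subgroupOf] at key
  simpa using key

/-- **L2** of the `typeV_alt` farm-out. -/
theorem card_dvd_pred_of_normal_sq [Finite G] {p : ℕ} [Fact p.Prime] {B Z₀ K Z : Subgroup G}
    (hBcard : Nat.card B = p ^ 2) (hZ₀B : Z₀ ≤ B) (hZ₀card : Nat.card Z₀ = p)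
    (hKB : K ≤ Subgroup.normalizer (B : Set G)) (hKZ₀ : K ≤ Subgroup.normalizer (Z₀ : Set G))
    (hKc : IsCyclic K) (hKp : (Nat.card K).Coprime p) (hZ : Nat.card Z ∣ p)
    (hfix : ∀ k ∈ K, k ≠ 1 → B ⊓ Subgroup.centralizer ({k} : Set G) ≤ Z) :
    Nat.card K ∣ p - 1 := by
  have hp : p.Prime := Fact.out
  -- every `k ∈ K` satisfies `k ^ (p-1) = 1`
  have hall : ∀ k ∈ K, k ^ (p - 1) = 1 := by
    intro k hk
    by_contra hne
    set k' := k ^ (p - 1) with hk'
    have hk'K : k' ∈ K := pow_mem hk _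
    have hcop : (orderOf k').Coprime (Nat.card B) := by
      rw [hBcard]
      apply Nat.Coprime.pow_right
      exact Nat.Coprime.coprime_dvd_left (Subgroup.orderOf_dvd_natCard K hk'K) hKp
    have h1 : ∀ z ∈ Z₀, k' * z = z * k' :=
      pow_pred_commute_of_card_prime hZ₀card (hKZ₀ hk)
    have h2 : ∀ h ∈ B, ⁅h, k'⁆ ∈ Z₀ := by
      intro h hh
      have h3 := pow_pred_commutator_mem hBcard hZ₀B hZ₀card (hKB hk) (hKZ₀ hk) h hh
      have h4 : ⁅h, k'⁆ = (k ^ (p - 1) * h * (k ^ (p - 1))⁻¹ * h⁻¹)⁻¹ := by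
        rw [commutatorElement_def, hk']; group
      rw [h4]; exact inv_mem h3
    have h5 := Cfsg.Agent.Lib.Helper9.mem_centralizer_of_stabilizes_pair B Z₀ hZ₀B k' hcop h1 h2
    have hBle : B ≤ B ⊓ Subgroup.centralizer ({k'} : Set G) := by
      intro h hh
      refine ⟨hh, ?_⟩
      show h ∈ Subgroup.centralizer ({k'} : Set G)
      rw [Subgroup.mem_centralizer_iff]
      intro x hx
      rw [Set.mem_singleton_iff] at hx
      subst hx
      exact h5 h hh
    have hBZ : B ≤ Z := hBle.trans (hfix k' hk'K hne)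
    have hdvd : p ^ 2 ∣ p := by
      rw [← hBcard]; exact (Subgroup.card_dvd_of_le hBZ).trans hZ
    have : p ^ 2 ≤ p := Nat.le_of_dvd hp.pos hdvd
    have h2p : 2 ≤ p := hp.two_le
    nlinarith
  obtain ⟨g, hg⟩ := hKc.exists_generator
  have hord : orderOf g = Nat.card K := orderOf_eq_card_of_forall_mem_zpowers hg
  rw [← hord]
  apply orderOf_dvd_of_pow_eq_one
  have := hall g g.2
  exact Subtype.ext (by simpa using this)

end Cfsg.Agent.Lib.Helper21.TypeV
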