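import Mathlib
import Cfsg.Agent.Lib.Helper17.BGUniqG

set_option autoImplicit false

namespace Cfsg.Agent.Lib.Helper21.TypeV

variable {G : Type*} [Group G] [Finite G]

/-- **L4** of the `typeV_alt` farm-out. -/
theorem pRankLE_two_of_normal_sq {p : ℕ} [Fact p.Prime] {P A : Subgroup G} (hP : IsPGroup p P)
    (hAP : A ≤ P) (hAn : P ≤ Subgroup.normalizer (A : Set G)) (hAcard : Nat.card A = p ^ 2)
    (hAc : ∀ a ∈ A, ∀ b ∈ A, a * b = b * a)
    (hΩ : ∀ d ∈ P ⊓ Subgroup.centralizer (A : Set G), d ^ p = 1 → d ∈ A) :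
    Cfsg.PRankLE p 2 ↥P := by
  have hp : p.Prime := Fact.out
  intro Y' hY'c hY'e
  set Y : Subgroup G := Y'.map P.subtype with hY
  have hYP : Y ≤ P := by
    rw [hY]; intro y hy
    obtain ⟨y', -, rfl⟩ := Subgroup.mem_map.mp hy
    exact y'.2
  have hYcard : Nat.card Y = Nat.card Y' :=
    Subgroup.card_map_of_injective P.subtype_injective
  have hYc : ∀ a ∈ Y, ∀ b ∈ Y, a * b = b * a := by
    intro a ha b hb
    obtain ⟨a', ha', rfl⟩ := Subgroup.mem_map.mp ha
    obtain ⟨b', hb', rfl⟩ := Subgroup.mem_map.mp hb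
    have h1 : (⟨a', ha'⟩ : Y') * ⟨b', hb'⟩ = ⟨b', hb'⟩ * ⟨a', ha'⟩ := mul_comm' _ _
    have h2 : a' * b' = b' * a' := congrArg Subtype.val h1
    rw [← map_mul, ← map_mul, h2]
  have hYe : ∀ a ∈ Y, a ^ p = 1 := by
    intro a ha
    obtain ⟨a', ha', rfl⟩ := Subgroup.mem_map.mp ha
    rw [← map_pow, hY'e a' ha', map_one]
  rw [← hYcard]
  set C : Subgroup G := Y ⊓ Subgroup.centralizer (A : Set G) with hC
  have hle := Cfsg.Agent.Lib.Helper17.BGU.card_le_mul_card_inf_centralizer hP hAP hAn hAc hAcard hYP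
  have hCA : C ≤ A := by
    intro d hd
    exact hΩ d ⟨hYP hd.1, hd.2⟩ (hYe d hd.1)
  have hdvd : Nat.card C ∣ p ^ 2 := by
    rw [← hAcard]; exact Subgroup.card_dvd_of_le hCA
  obtain ⟨m, hm, hCm⟩ := (Nat.dvd_prime_pow hp).mp hdvd
  rcases Nat.lt_or_ge m 2 with hm2 | hm2
  · -- `|C| ≤ p`
    have hCp : Nat.card C ≤ p := by
      rw [hCm]
      calc p ^ m ≤ p ^ 1 := Nat.pow_le_pow_right hp.pos (by omega)
        _ = p := pow_one p
    calc Nat.card Y ≤ Nat.card C * p := hle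
      _ ≤ p * p := Nat.mul_le_mul_right p hCp
      _ = p ^ 2 := (sq p).symm
  · -- `C = A`
    have hm' : m = 2 := le_antisymm hm hm2
    have hCA' : C = A := by
      apply Subgroup.eq_of_le_of_card_ge hCA
      rw [hAcard, hCm, hm']
    have hAY : A ≤ Y := by rw [← hCA']; exact inf_le_left
    have hYC : Y ≤ C := by
      intro y hy
      refine ⟨hy, ?_⟩
      show y ∈ Subgroup.centralizer (A : Set G)
      rw [Subgroup.mem_centralizer_iff]
      intro a ha
      exact hYc a (hAY ha) y hy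
    calc Nat.card Y ≤ Nat.card C := Nat.card_mono (Set.toFinite _) (by exact_mod_cast hYC)
      _ = p ^ 2 := by rw [hCm, hm']

end Cfsg.Agent.Lib.Helper21.TypeV
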