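import Mathlib
import Cfsg.Agent.S1412
import Cfsg.Agent.Lib.Helper9.BGNonabA
import Cfsg.Agent.Lib.Helper16.OmegaCentral
import Cfsg.Agent.Lib.Helper21.TypeVL2

set_option autoImplicit false

namespace Cfsg.Agent.Lib.Helper21.TypeV

variable {G : Type*} [Group G]

/-- A cyclic group `K` normalizing a subgroup `C` of prime order `p`, no nontrivial element of
which centralizes `C`, has order dividing `p - 1`. -/
theorem card_dvd_pred_of_normal_prime {p : ℕ} [Fact p.Prime] {C K : Subgroup G}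
    (hC : Nat.card C = p) (hKC : K ≤ Subgroup.normalizer (C : Set G)) (hKc : IsCyclic K)
    (hfix : ∀ k ∈ K, k ≠ 1 → ¬ C ≤ Subgroup.centralizer ({k} : Set G)) :
    Nat.card K ∣ p - 1 := by
  have hp : p.Prime := Fact.out
  have : Finite C := Nat.finite_of_card_ne_zero (by rw [hC]; exact hp.ne_zero)
  have hall : ∀ k ∈ K, k ^ (p - 1) = 1 := by
    intro k hk
    by_contra hne
    apply hfix (k ^ (p - 1)) (pow_mem hk _) hne
    intro c hc
    rw [Subgroup.mem_centralizer_iff]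
    intro x hx
    rw [Set.mem_singleton_iff] at hx
    subst hx
    exact pow_pred_commute_of_card_prime hC (hKC hk) c hc
  obtain ⟨g, hg⟩ := hKc.exists_generator
  have hord : orderOf g = Nat.card K := orderOf_eq_card_of_forall_mem_zpowers hg
  rw [← hord]
  apply orderOf_dvd_of_pow_eq_one
  have := hall g g.2
  exact Subtype.ext (by simpa using this)

/-- The elementwise-commuting product of two subgroups is their join. -/
theorem exists_mul_of_mem_sup_of_commute {P₁ P₂ : Subgroup G}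
    (hcomm : ∀ a ∈ P₁, ∀ b ∈ P₂, a * b = b * a) {x : G} (hx : x ∈ P₁ ⊔ P₂) :
    ∃ a ∈ P₁, ∃ b ∈ P₂, x = a * b := by
  let T : Subgroup G :=
    { carrier := {x | ∃ a ∈ P₁, ∃ b ∈ P₂, x = a * b}
      one_mem' := ⟨1, P₁.one_mem, 1, P₂.one_mem, by simp⟩
      mul_mem' := by
        rintro x y ⟨a, ha, b, hb, rfl⟩ ⟨a', ha', b', hb', rfl⟩
        refine ⟨a * a', P₁.mul_mem ha ha', b * b', P₂.mul_mem hb hb', ?_⟩
        have h := hcomm a' ha' b hb
        calc a * b * (a' * b') = a * (b * a') * b' := by group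
          _ = a * (a' * b) * b' := by rw [h]
          _ = a * a' * (b * b') := by group
      inv_mem' := by
        rintro x ⟨a, ha, b, hb, rfl⟩
        refine ⟨a⁻¹, P₁.inv_mem ha, b⁻¹, P₂.inv_mem hb, ?_⟩
        have h := hcomm a⁻¹ (P₁.inv_mem ha) b⁻¹ (P₂.inv_mem hb)
        rw [mul_inv_rev, h] }
  have h1 : P₁ ≤ T := fun a ha => ⟨a, ha, 1, P₂.one_mem, by simp⟩
  have h2 : P₂ ≤ T := fun b hb => ⟨1, P₁.one_mem, b, hb, by simp⟩
  exact (sup_le h1 h2) hx


/-- Conjugation by an element of `N(S)` preserves `Z(S) = S ⊓ C(S)` (one direction). -/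
theorem conj_mem_inf_centralizer_of_mem_normalizer {S : Subgroup G} {g x : G}
    (hg : g ∈ Subgroup.normalizer (S : Set G))
    (hx : x ∈ S ⊓ Subgroup.centralizer (S : Set G)) :
    g * x * g⁻¹ ∈ S ⊓ Subgroup.centralizer (S : Set G) := by
  refine ⟨(hg x).mp hx.1, ?_⟩
  show g * x * g⁻¹ ∈ Subgroup.centralizer (S : Set G)
  rw [Subgroup.mem_centralizer_iff]
  intro s hs
  have hs' : g⁻¹ * s * g ∈ S := by
    have := ((inv_mem hg : g⁻¹ ∈ Subgroup.normalizer (S : Set G)) s).mp hs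
    simpa using this
  have h1 := (Subgroup.mem_centralizer_iff.mp hx.2) (g⁻¹ * s * g) hs'
  calc s * (g * x * g⁻¹) = g * ((g⁻¹ * s * g) * x) * g⁻¹ := by group
    _ = g * (x * (g⁻¹ * s * g)) * g⁻¹ := by rw [h1]
    _ = g * x * g⁻¹ * s := by group

/-- `N(S) ≤ N(Z(S))`. -/
theorem normalizer_le_normalizer_inf_centralizer (S : Subgroup G) :
    Subgroup.normalizer (S : Set G)
      ≤ Subgroup.normalizer ((S ⊓ Subgroup.centralizer (S : Set G) : Subgroup G) : Set G) := by
  intro g hg x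
  constructor
  · exact conj_mem_inf_centralizer_of_mem_normalizer hg
  · intro hx
    have := conj_mem_inf_centralizer_of_mem_normalizer (inv_mem hg) hx
    have h2 : g⁻¹ * (g * x * g⁻¹) * g⁻¹⁻¹ = x := by group
    rwa [h2] at this

/-- **L5 modulo L1**: the reduction of the rank-two case to the extraspecial case. -/
theorem card_dvd_of_rank_two_aux [Finite G] {p : ℕ} [Fact p.Prime] (hp2 : p ≠ 2)
    (hG : Cfsg.IsMinSimpleOddOrder G) (S : Sylow p G) (hr : Cfsg.PRankLE p 2 (S : Subgroup G))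
    (hna : ¬ IsMulCommutative (S : Subgroup G)) {K Z : Subgroup G}
    (hKP : K ≤ Subgroup.normalizer ((S : Subgroup G) : Set G)) (hKc : IsCyclic K)
    (hKp : (Nat.card K).Coprime p) (hZ : Nat.card Z ∣ p)
    (hfix : ∀ k ∈ K, k ≠ 1 → (S : Subgroup G) ⊓ Subgroup.centralizer ({k} : Set G) = Z) :
    Nat.card K ∣ p - 1 ∨ Nat.card (S : Subgroup G) = p ^ 3 := by
  have hp : p.Prime := Fact.out
  rcases Cfsg.Agent.S1412.result hG p S hr with hcomm | ⟨P₁, P₂, hsup, hcomm12, hP₁na, hP₁card,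
    -, hP₂cyc, hΩ⟩
  · exact absurd hcomm hna
  set Ω : Subgroup G := P₁ ⊓ Subgroup.centralizer (P₁ : Set G) with hΩdef
  have hΩcard : Nat.card Ω = p :=
    Cfsg.Agent.Lib.Helper9.BGNonab.card_inf_centralizer_of_card_cube hP₁card hP₁na
  have hΩP₂ : Ω ≤ P₂ := by
    rw [← hΩ, Subgroup.closure_le]
    exact fun x hx => hx.1
  have hP₁S : P₁ ≤ (S : Subgroup G) := by rw [← hsup]; exact le_sup_left
  have hP₂S : P₂ ≤ (S : Subgroup G) := by rw [← hsup]; exact le_sup_right
  have hΩS : Ω ≤ (S : Subgroup G) := hΩP₂.trans hP₂S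
  have hP₂comm : ∀ a ∈ P₂, ∀ b ∈ P₂, a * b = b * a := by
    intro a ha b hb
    have := hP₂cyc.isMulCommutative
    have h1 : (⟨a, ha⟩ : P₂) * ⟨b, hb⟩ = ⟨b, hb⟩ * ⟨a, ha⟩ := mul_comm' _ _
    exact congrArg Subtype.val h1
  -- the trivial case
  by_cases hK1 : K = ⊥
  · left
    rw [hK1, Subgroup.card_bot]; exact one_dvd _
  obtain ⟨k₀, hk₀K, hk₀1⟩ : ∃ k ∈ K, k ≠ 1 := by
    by_contra hcon
    push Not at hcon
    exact hK1 ((Subgroup.eq_bot_iff_forall K).mpr hcon)
  -- `Z(S) = P₂`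
  have hZs : (S : Subgroup G) ⊓ Subgroup.centralizer ((S : Subgroup G) : Set G) = P₂ := by
    apply le_antisymm
    · intro z hz
      obtain ⟨a, ha, b, hb, rfl⟩ :=
        exists_mul_of_mem_sup_of_commute hcomm12 (by rw [hsup]; exact hz.1)
      have haΩ : a ∈ Ω := by
        refine ⟨ha, ?_⟩
        show a ∈ Subgroup.centralizer (P₁ : Set G)
        rw [Subgroup.mem_centralizer_iff]
        intro c hc
        have h1 : c * (a * b) = a * b * c := (Subgroup.mem_centralizer_iff.mp hz.2) c (hP₁S hc)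
        have h2 : c * b = b * c := hcomm12 c hc b hb
        have h3 : c * a * b = a * c * b := by
          calc c * a * b = c * (a * b) := by group
            _ = a * b * c := h1
            _ = a * (b * c) := by group
            _ = a * (c * b) := by rw [h2]
            _ = a * c * b := by group
        exact mul_right_cancel h3
      exact P₂.mul_mem (hΩP₂ haΩ) hb
    · intro b hb
      refine ⟨hP₂S hb, ?_⟩
      show b ∈ Subgroup.centralizer ((S : Subgroup G) : Set G)
      rw [Subgroup.mem_centralizer_iff]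
      intro s hs
      obtain ⟨a, ha, b', hb', rfl⟩ :=
        exists_mul_of_mem_sup_of_commute hcomm12 (by rw [hsup]; exact hs)
      have h1 := hcomm12 a ha b hb
      have h2 := hP₂comm b' hb' b hb
      calc a * b' * b = a * (b' * b) := by group
        _ = a * (b * b') := by rw [h2]
        _ = a * b * b' := by group
        _ = b * a * b' := by rw [h1]
        _ = b * (a * b') := by group
  have hKP₂ : K ≤ Subgroup.normalizer (P₂ : Set G) := by
    have := normalizer_le_normalizer_inf_centralizer (S : Subgroup G)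
    rw [hZs] at this
    exact hKP.trans this
  -- membership in `Ω`
  have hΩmem : ∀ x : G, x ∈ Ω ↔ x ∈ P₂ ∧ x ^ p = 1 := by
    intro x
    constructor
    · intro hx
      refine ⟨hΩP₂ hx, ?_⟩
      have h1 : (⟨x, hx⟩ : Ω) ^ Nat.card Ω = 1 := pow_card_eq_one'
      rw [hΩcard] at h1
      exact congrArg Subtype.val h1
    · intro hx
      rw [← hΩ]
      exact Subgroup.subset_closure hx
  have hKΩ : K ≤ Subgroup.normalizer (Ω : Set G) := by
    intro k hk x
    show x ∈ Ω ↔ k * x * k⁻¹ ∈ Ω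
    rw [hΩmem, hΩmem]
    have hkP₂ := hKP₂ hk x
    constructor
    · rintro ⟨h1, h2⟩
      refine ⟨hkP₂.mp h1, ?_⟩
      rw [conj_pow, h2]; group
    · rintro ⟨h1, h2⟩
      refine ⟨hkP₂.mpr h1, ?_⟩
      rw [conj_pow] at h2
      have h3 : x ^ p = k⁻¹ * (k * x ^ p * k⁻¹) * k := by group
      rw [h3, h2]; group
  by_cases hΩZ : Ω = Z
  · -- `K` centralizes `Ω`, hence `P₂`; so `P₂ ≤ Z = Ω ≤ P₁` and `S = P₁`
    right
    have hP₂p : IsPGroup p P₂ := S.isPGroup'.to_le hP₂S
    have hcop : (orderOf k₀).Coprime p :=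
      Nat.Coprime.coprime_dvd_left (Subgroup.orderOf_dvd_natCard K hk₀K) hKp
    have hk₀c : k₀ ∈ Subgroup.centralizer (P₂ : Set G) := by
      apply Cfsg.Agent.Lib.Helper16.centralizes_of_centralizes_omega hp2 hP₂p (hKP₂ hk₀K) hcop
      intro d hd hdp
      have hdΩ : d ∈ Ω := (hΩmem d).mpr ⟨hd, hdp⟩
      rw [hΩZ, ← hfix k₀ hk₀K hk₀1] at hdΩ
      have := (Subgroup.mem_centralizer_iff.mp hdΩ.2) k₀ (Set.mem_singleton k₀)
      exact this
    have hP₂Z : P₂ ≤ Z := by
      rw [← hfix k₀ hk₀K hk₀1]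
      intro d hd
      refine ⟨hP₂S hd, ?_⟩
      show d ∈ Subgroup.centralizer ({k₀} : Set G)
      rw [Subgroup.mem_centralizer_iff]
      intro x hx
      rw [Set.mem_singleton_iff] at hx
      subst hx
      exact ((Subgroup.mem_centralizer_iff.mp hk₀c) d hd).symm
    have hP₂P₁ : P₂ ≤ P₁ := by
      rw [← hΩZ] at hP₂Z
      exact hP₂Z.trans inf_le_left
    have hSP₁ : (S : Subgroup G) = P₁ := by
      rw [← hsup]; exact sup_eq_left.mpr hP₂P₁
    rw [hSP₁]; exact hP₁card
  · left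
    apply card_dvd_pred_of_normal_prime hΩcard hKΩ hKc
    intro k hk hk1 hle
    apply hΩZ
    have hΩZ' : Ω ≤ Z := by
      rw [← hfix k hk hk1]
      exact le_inf hΩS hle
    apply Subgroup.eq_of_le_of_card_ge hΩZ'
    rw [hΩcard]
    exact Nat.le_of_dvd hp.pos hZ


/-- **L5 with L1 as a hypothesis** (`hL1` is the conclusion of `card_dvd_pm_one_of_card_cube`
for `P := S`). -/
theorem card_dvd_of_rank_two_of_cube [Finite G] {p : ℕ} [Fact p.Prime] (hp2 : p ≠ 2)
    (hG : Cfsg.IsMinSimpleOddOrder G) (S : Sylow p G) (hr : Cfsg.PRankLE p 2 (S : Subgroup G))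
    (hna : ¬ IsMulCommutative (S : Subgroup G)) {K Z : Subgroup G}
    (hKP : K ≤ Subgroup.normalizer ((S : Subgroup G) : Set G)) (hKc : IsCyclic K)
    (hKp : (Nat.card K).Coprime p) (hZ : Nat.card Z ∣ p)
    (hfix : ∀ k ∈ K, k ≠ 1 → (S : Subgroup G) ⊓ Subgroup.centralizer ({k} : Set G) = Z)
    (hL1 : Nat.card (S : Subgroup G) = p ^ 3 → Nat.card K ∣ p - 1 ∨ Nat.card K ∣ p + 1) :
    Nat.card K ∣ p - 1 ∨ (Nat.card (S : Subgroup G) = p ^ 3 ∧ Nat.card K ∣ p + 1) := by
  rcases card_dvd_of_rank_two_aux hp2 hG S hr hna hKP hKc hKp hZ hfix with h | h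
  · exact Or.inl h
  · rcases hL1 h with h' | h'
    · exact Or.inl h'
    · exact Or.inr ⟨h, h'⟩

end Cfsg.Agent.Lib.Helper21.TypeV
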