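/-
Helper21 library: coprime automorphism groups of finite abelian p-groups (Gorenstein 5.2.2).
* `maschke_section` : Maschke for invariant sections of exponent p;
* `exists_decomp` : a proper nontrivial invariant subgroup of Ω₁(A) yields an invariant direct decomposition;
* `indecomposable_iff` : indecomposable ↔ all invariant subgroups are Ω_i ↔ Ω₁ irreducible.
-/
import Mathlib
import Cfsg.Agent.Lib.Helper20.MaschkeGroup

set_option autoImplicit false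

namespace Cfsg.Agent.Lib.Helper21.AbelianIndec

open Cfsg.Agent.Lib.Helper20

variable {A : Type*} [CommGroup A]

/-- weak invariance -/
def InvW (X : Subgroup (MulAut A)) (B : Subgroup A) : Prop := ∀ x ∈ X, ∀ b ∈ B, x b ∈ B

theorem invW_iff [Finite A] (X : Subgroup (MulAut A)) (B : Subgroup A) :
    (∀ x ∈ X, B.map x.toMonoidHom = B) ↔ InvW X B := by
  constructor
  · intro h x hx b hb
    have : x b ∈ B.map x.toMonoidHom := Subgroup.mem_map_of_mem _ hb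
    rwa [h x hx] at this
  · intro h x hx
    apply le_antisymm
    · rintro _ ⟨b, hb, rfl⟩
      exact h x hx b hb
    · intro b hb
      refine ⟨x⁻¹ b, h x⁻¹ (X.inv_mem hx) b hb, ?_⟩
      simp

theorem InvW.bot (X : Subgroup (MulAut A)) : InvW X ⊥ := by
  intro x _ b hb
  rw [Subgroup.mem_bot] at hb ⊢
  rw [hb, map_one]

theorem InvW.top (X : Subgroup (MulAut A)) : InvW X ⊤ := fun _ _ _ _ => Subgroup.mem_top _

theorem InvW.inf {X : Subgroup (MulAut A)} {B C : Subgroup A} (hB : InvW X B) (hC : InvW X C) :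
    InvW X (B ⊓ C) := fun x hx b hb => ⟨hB x hx b hb.1, hC x hx b hb.2⟩

theorem InvW.sup {X : Subgroup (MulAut A)} {B C : Subgroup A} (hB : InvW X B) (hC : InvW X C) :
    InvW X (B ⊔ C) := by
  intro x hx b hb
  obtain ⟨u, hu, w, hw, rfl⟩ := Subgroup.mem_sup.mp hb
  rw [map_mul]
  exact Subgroup.mul_mem_sup (hB x hx u hu) (hC x hx w hw)

theorem InvW.mapPow {X : Subgroup (MulAut A)} {B : Subgroup A} (hB : InvW X B) (m : ℕ) :
    InvW X (B.map (powMonoidHom m)) := by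
  rintro x hx _ ⟨b, hb, rfl⟩
  refine ⟨x b, hB x hx b hb, ?_⟩
  simp [powMonoidHom_apply]

theorem InvW.comapPow {X : Subgroup (MulAut A)} {B : Subgroup A} (hB : InvW X B) (m : ℕ) :
    InvW X (B.comap (powMonoidHom m)) := by
  intro x hx b hb
  rw [Subgroup.mem_comap, powMonoidHom_apply] at hb ⊢
  rw [← _root_.map_pow]
  exact hB x hx _ hb

/-- Maschke for sections of exponent `p`. -/
theorem maschke_section [Finite A] {p : ℕ} [Fact p.Prime] (hA : IsPGroup p A)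
    (X : Subgroup (MulAut A)) (hX : (Nat.card X).Coprime p)
    (L U D : Subgroup A) (hLU : L ≤ U) (hUD : U ≤ D)
    (hL : InvW X L) (hU : InvW X U) (hD : InvW X D)
    (hp : ∀ d ∈ D, d ^ p ∈ L) :
    ∃ U' : Subgroup A, InvW X U' ∧ L ≤ U' ∧ U' ≤ D ∧ U ⊓ U' ≤ L ∧ D ≤ U ⊔ U' := by
  classical
  let N : Subgroup ↥D := L.subgroupOf D
  let r : ↥X → (↥D →* ↥D) := fun x =>
    (x.1.toMonoidHom.comp D.subtype).codRestrict D (fun d => hD x.1 x.2 d d.2)
  have hr : ∀ (x : ↥X) (d : ↥D), ((r x d : ↥D) : A) = x.1 (d : A) := fun x d => rfl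
  have hN : ∀ x : ↥X, N ≤ N.comap (r x) := by
    intro x d hd
    rw [Subgroup.mem_comap]
    show ((r x d : ↥D) : A) ∈ L
    rw [hr]
    exact hL x.1 x.2 _ hd
  let φ : ↥X → ((↥D ⧸ N) →* (↥D ⧸ N)) := fun x => QuotientGroup.map N N (r x) (hN x)
  have hφ : ∀ (x : ↥X) (d : ↥D), φ x (QuotientGroup.mk d) = QuotientGroup.mk (r x d) :=
    fun x d => rfl
  have h1 : φ 1 = MonoidHom.id _ := by
    ext d
    simp only [MonoidHom.coe_comp, QuotientGroup.coe_mk', Function.comp_apply, MonoidHom.id_apply]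
    rw [hφ]
    congr 1
  have hmul : ∀ a b, φ (a * b) = (φ a).comp (φ b) := by
    intro a b
    ext d
    simp only [MonoidHom.coe_comp, QuotientGroup.coe_mk', Function.comp_apply]
    rw [hφ, hφ, hφ]
    congr 1
  have hQp : ∀ q : ↥D ⧸ N, q ^ p = 1 := by
    intro q
    induction q using QuotientGroup.induction_on with
    | H d =>
      rw [← QuotientGroup.mk_pow, QuotientGroup.eq_one_iff]
      show ((d ^ p : ↥D) : A) ∈ L
      rw [Subgroup.coe_pow]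
      exact hp _ d.2
  have hcop : (Nat.card ↥X).Coprime (Nat.card (↥D ⧸ N)) := by
    have hQ : IsPGroup p (↥D ⧸ N) := (hA.to_subgroup D).to_quotient N
    obtain ⟨k, hk⟩ := IsPGroup.iff_card.mp hQ
    rw [hk]
    exact Nat.Coprime.pow_right k hX
  let Ub : Subgroup (↥D ⧸ N) := (U.subgroupOf D).map (QuotientGroup.mk' N)
  have hUb : ∀ a, ∀ q ∈ Ub, φ a q ∈ Ub := by
    rintro a _ ⟨d, hd, rfl⟩
    refine ⟨r a d, ?_, rfl⟩
    show ((r a d : ↥D) : A) ∈ U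
    rw [hr]
    exact hU a.1 a.2 _ hd
  obtain ⟨W, hW1, hW2⟩ := exists_compl_of_exponent_prime (Fact.out : p.Prime) hQp Ub
  obtain ⟨W', hW'inv, hW'1, hW'2⟩ := exists_invariant_compl φ h1 hmul hcop Ub W hUb hW1 hW2
  refine ⟨(W'.comap (QuotientGroup.mk' N)).map D.subtype, ?_, ?_, ?_, ?_, ?_⟩
  · rintro x hx _ ⟨d, hd, rfl⟩
    refine ⟨r ⟨x, hx⟩ d, ?_, rfl⟩
    rw [SetLike.mem_coe, Subgroup.mem_comap] at hd ⊢
    exact hW'inv ⟨x, hx⟩ _ hd
  · intro l hl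
    refine ⟨⟨l, hUD (hLU hl)⟩, ?_, rfl⟩
    rw [SetLike.mem_coe, Subgroup.mem_comap]
    have : (QuotientGroup.mk' N) ⟨l, hUD (hLU hl)⟩ = 1 := by
      rw [QuotientGroup.mk'_apply, QuotientGroup.eq_one_iff]
      exact hl
    rw [this]
    exact W'.one_mem
  · rintro _ ⟨d, _, rfl⟩
    exact d.2
  · rintro a ⟨haU, d, hd, rfl⟩
    rw [SetLike.mem_coe, Subgroup.mem_comap] at hd
    have h2 : (QuotientGroup.mk' N) d ∈ Ub ⊓ W' := ⟨⟨d, haU, rfl⟩, hd⟩
    rw [hW'1, Subgroup.mem_bot, QuotientGroup.mk'_apply, QuotientGroup.eq_one_iff] at h2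
    exact h2
  · intro d hd
    have h2 : (QuotientGroup.mk' N) ⟨d, hd⟩ ∈ Ub ⊔ W' := by rw [hW'2]; exact Subgroup.mem_top _
    obtain ⟨u, hu, w, hw, huw⟩ := Subgroup.mem_sup.mp h2
    obtain ⟨u0, hu0, rfl⟩ := hu
    have h3 : (QuotientGroup.mk' N) (u0⁻¹ * ⟨d, hd⟩) = w := by
      rw [map_mul, map_inv, ← huw, inv_mul_cancel_left]
    have h4 : d = (u0 : A) * ((u0⁻¹ * ⟨d, hd⟩ : ↥D) : A) := by
      simp
    rw [h4]
    refine Subgroup.mul_mem_sup hu0 ⟨u0⁻¹ * ⟨d, hd⟩, ?_, rfl⟩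
    rw [SetLike.mem_coe, Subgroup.mem_comap, h3]
    exact hw


theorem mem_om {m : ℕ} {a : A} : a ∈ (⊥ : Subgroup A).comap (powMonoidHom m) ↔ a ^ m = 1 := by
  rw [Subgroup.mem_comap, powMonoidHom_apply, Subgroup.mem_bot]

theorem mem_cp {S : Subgroup A} {m : ℕ} {a : A} : a ∈ S.comap (powMonoidHom m) ↔ a ^ m ∈ S := by
  rw [Subgroup.mem_comap, powMonoidHom_apply]

theorem mem_mp {S : Subgroup A} {m : ℕ} {a : A} :
    a ∈ S.map (powMonoidHom m) ↔ ∃ s ∈ S, s ^ m = a := by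
  rw [Subgroup.mem_map]
  simp only [powMonoidHom_apply]

/-- The key decomposition: a proper nontrivial invariant subgroup of `Ω₁(A)` yields an invariant
direct decomposition of `A`. -/
theorem exists_decomp [Finite A] {p : ℕ} [Fact p.Prime] (hA : IsPGroup p A)
    (X : Subgroup (MulAut A)) (hX : (Nat.card X).Coprime p)
    (B : Subgroup A) (hB : InvW X B) (hBV : ∀ b ∈ B, b ^ p = 1) (hB1 : B ≠ ⊥)
    (hB2 : ∃ a : A, a ^ p = 1 ∧ a ∉ B) :
    ∃ H K : Subgroup A, H ≠ ⊥ ∧ K ≠ ⊥ ∧ InvW X H ∧ InvW X K ∧ H ⊓ K = ⊥ ∧ H ⊔ K = ⊤ := by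
  classical
  have hpp : p.Prime := Fact.out
  -- exponent
  obtain ⟨n, hn, hmin⟩ : ∃ n, (∀ a : A, a ^ p ^ (n + 1) = 1) ∧ ∃ a0 : A, a0 ^ p ^ n ≠ 1 := by
    have hex : ∃ n, ∀ a : A, a ^ p ^ n = 1 := by
      obtain ⟨m, hm⟩ := IsPGroup.iff_card.mp hA
      exact ⟨m, fun a => by rw [← hm]; exact pow_card_eq_one'⟩
    have hn : ∀ a : A, a ^ p ^ (Nat.find hex) = 1 := Nat.find_spec hex
    have hn0 : Nat.find hex ≠ 0 := by
      intro h0
      apply hB1
      rw [eq_bot_iff]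
      intro b _
      have := hn b
      rw [h0, pow_zero, pow_one] at this
      rw [Subgroup.mem_bot]; exact this
    obtain ⟨n', hn'⟩ := Nat.exists_eq_succ_of_ne_zero hn0
    refine ⟨n', ?_, ?_⟩
    · intro a
      have := hn a
      rwa [hn'] at this
    · by_contra hcon
      push Not at hcon
      exact Nat.find_min hex (by omega : n' < Nat.find hex) hcon
  -- W, V
  let V : Subgroup A := (⊥ : Subgroup A).comap (powMonoidHom p)
  let W : Subgroup A := (⊤ : Subgroup A).map (powMonoidHom (p ^ n))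
  have hVinv : InvW X V := (InvW.bot X).comapPow p
  have hWinv : InvW X W := (InvW.top X).mapPow (p ^ n)
  have hmemV : ∀ a, a ∈ V ↔ a ^ p = 1 := fun a => mem_om
  have hWV : W ≤ V := by
    rintro _ ⟨a, _, rfl⟩
    rw [hmemV, powMonoidHom_apply, ← pow_mul, ← pow_succ]
    exact hn a
  have hW1 : W ≠ ⊥ := by
    obtain ⟨a0, ha0⟩ := hmin
    intro h
    apply ha0
    have : a0 ^ p ^ n ∈ W := ⟨a0, Subgroup.mem_top _, rfl⟩
    rwa [h, Subgroup.mem_bot] at this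
  obtain ⟨V1, hV1inv, hV1W, hV1ne, a1, ha1V, ha1⟩ :
      ∃ V1 : Subgroup A, InvW X V1 ∧ V1 ≤ W ∧ V1 ≠ ⊥ ∧ ∃ a ∈ V, a ∉ V1 := by
    by_cases hWV' : W = V
    · obtain ⟨a, ha, haB⟩ := hB2
      refine ⟨B, hB, ?_, hB1, a, (hmemV a).mpr ha, haB⟩
      rw [hWV']
      intro b hb
      exact (hmemV b).mpr (hBV b hb)
    · have : ∃ a ∈ V, a ∉ W := by
        by_contra hcon
        push Not at hcon
        exact hWV' (le_antisymm hWV hcon)
      exact ⟨W, hWinv, le_rfl, hW1, this⟩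
  -- V2
  obtain ⟨V2, hV2inv, -, hV2V, hV12, hVsup⟩ :=
    maschke_section hA X hX ⊥ V1 V bot_le (hV1W.trans hWV) (InvW.bot X) hV1inv hVinv (by
      intro d hd
      rw [Subgroup.mem_bot]
      exact (hmemV d).mp hd)
  have hV2ne : V2 ≠ ⊥ := by
    intro h
    rw [h, sup_bot_eq] at hVsup
    exact ha1 (hVsup ha1V)
  -- P1, T
  let P1 : Subgroup A := V1.comap (powMonoidHom (p ^ n))
  let T : Subgroup A := (⊥ : Subgroup A).comap (powMonoidHom (p ^ n))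
  have hP1inv : InvW X P1 := hV1inv.comapPow _
  have hTinv : InvW X T := (InvW.bot X).comapPow _
  have hmemT : ∀ a, a ∈ T ↔ a ^ p ^ n = 1 := fun a => mem_om
  have hmemP1 : ∀ a, a ∈ P1 ↔ a ^ p ^ n ∈ V1 := fun a => mem_cp
  have hTP1 : T ≤ P1 := Subgroup.comap_mono bot_le
  -- H minimal
  have hfinH : Set.Finite {H : Subgroup A | InvW X H ∧ H ⊔ T = P1} := Set.toFinite _
  have hneH : {H : Subgroup A | InvW X H ∧ H ⊔ T = P1}.Nonempty :=
    ⟨P1, hP1inv, sup_eq_left.mpr hTP1⟩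
  obtain ⟨H, ⟨hHinv, hHT⟩, hHmin⟩ := hfinH.exists_minimal hneH
  have hHP1 : H ≤ P1 := hHT ▸ le_sup_left
  -- Claim 1
  have hc1 : ∀ v ∈ V1, ∃ h ∈ H, h ^ p ^ n = v := by
    intro v hv
    obtain ⟨a, _, rfl⟩ := hV1W hv
    rw [powMonoidHom_apply] at hv ⊢
    have haP : a ∈ H ⊔ T := by rw [hHT]; exact (hmemP1 a).mpr hv
    obtain ⟨h, hh, t, ht, rfl⟩ := Subgroup.mem_sup.mp haP
    refine ⟨h, hh, ?_⟩
    rw [mul_pow, (hmemT t).mp ht, mul_one]
  have hc1' : ∀ h ∈ H, h ^ p ^ n ∈ V1 := fun h hh => (hmemP1 h).mp (hHP1 hh)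
  -- Claim 2
  have hc2 : H ⊓ T ≤ H.map (powMonoidHom p) := by
    have hLinv : InvW X (H.map (powMonoidHom p)) := hHinv.mapPow p
    have hLH : H.map (powMonoidHom p) ≤ H := by
      rintro _ ⟨h, hh, rfl⟩
      exact H.pow_mem hh p
    obtain ⟨U', hU'inv, hLU', hU'H, hUU', hHsup⟩ :=
      maschke_section hA X hX (H.map (powMonoidHom p)) ((H ⊓ T) ⊔ H.map (powMonoidHom p)) H
        le_sup_right (sup_le inf_le_left hLH) hLinv ((hHinv.inf hTinv).sup hLinv) hHinv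
        (fun d hd => ⟨d, hd, rfl⟩)
    have hU'T : U' ⊔ T = P1 := by
      apply le_antisymm
      · exact sup_le (hU'H.trans hHP1) hTP1
      · rw [← hHT]
        refine sup_le ?_ le_sup_right
        refine hHsup.trans ?_
        refine sup_le (sup_le ?_ ?_) le_sup_left
        · exact inf_le_right.trans le_sup_right
        · exact hLU'.trans le_sup_left
    have hHU' : H ≤ U' := hHmin ⟨hU'inv, hU'T⟩ hU'H
    intro x hx
    apply hUU'
    exact ⟨Subgroup.mem_sup_left hx, hHU' hx.1⟩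
  -- Claim 3
  have hc3aux : ∀ j, j ≤ n → ∀ h ∈ H, h ^ p = 1 → ∃ h' ∈ H, h = h' ^ p ^ j := by
    intro j
    induction j with
    | zero =>
      intro _ h hh _
      exact ⟨h, hh, by rw [pow_zero, pow_one]⟩
    | succ j ih =>
      intro hj h hh hhp
      obtain ⟨h', hh', rfl⟩ := ih (by omega) h hh hhp
      have h1 : h' ^ p ^ (j + 1) = 1 := by rw [pow_succ, pow_mul]; exact hhp
      have h2 : h' ^ p ^ n = 1 := by
        obtain ⟨c, rfl⟩ := Nat.exists_eq_add_of_le hj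
        rw [pow_add, pow_mul, h1, one_pow]
      have h3 : h' ∈ H ⊓ T := ⟨hh', (hmemT h').mpr h2⟩
      obtain ⟨h'', hh'', rfl⟩ := hc2 h3
      refine ⟨h'', hh'', ?_⟩
      rw [powMonoidHom_apply, ← pow_mul, ← pow_succ']
  have hc3 : ∀ h ∈ H, h ^ p = 1 → h ∈ V1 := by
    intro h hh hhp
    obtain ⟨h', hh', rfl⟩ := hc3aux n le_rfl h hh hhp
    exact hc1' h' hh'
  -- K maximal
  have hfinK : Set.Finite {K : Subgroup A | InvW X K ∧ V2 ≤ K ∧ K ⊓ H = ⊥} := Set.toFinite _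
  have hneK : {K : Subgroup A | InvW X K ∧ V2 ≤ K ∧ K ⊓ H = ⊥}.Nonempty := by
    refine ⟨V2, hV2inv, le_rfl, ?_⟩
    rw [eq_bot_iff]
    rintro x ⟨hx2, hxH⟩
    apply hV12
    exact ⟨hc3 x hxH ((hmemV x).mp (hV2V hx2)), hx2⟩
  obtain ⟨K, ⟨hKinv, hV2K, hKH⟩, hKmax⟩ := hfinK.exists_maximal hneK
  -- Claim 4
  have hV1V : V1 ≤ V := hV1W.trans hWV
  have hc4 : K.comap (powMonoidHom p) ≤ V1 ⊔ K := by
    have hKD : K ≤ K.comap (powMonoidHom p) := fun k hk => mem_cp.mpr (K.pow_mem hk p)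
    have hV1D : V1 ≤ K.comap (powMonoidHom p) := by
      intro v hv
      rw [mem_cp, (hmemV v).mp (hV1V hv)]
      exact K.one_mem
    obtain ⟨U', hU'inv, hKU', hU'D, hUU', hDsup⟩ :=
      maschke_section hA X hX K (V1 ⊔ K) (K.comap (powMonoidHom p))
        le_sup_right (sup_le hV1D hKD) hKinv (hV1inv.sup hKinv) (hKinv.comapPow p)
        (fun d hd => mem_cp.mp hd)
    have hU'H : U' ⊓ H = ⊥ := by
      rw [eq_bot_iff]
      rintro x ⟨hxU, hxH⟩
      have hxp : x ^ p = 1 := by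
        have : x ^ p ∈ K ⊓ H := ⟨mem_cp.mp (hU'D hxU), H.pow_mem hxH p⟩
        rwa [hKH, Subgroup.mem_bot] at this
      have hxK : x ∈ K := hUU' ⟨Subgroup.mem_sup_left (hc3 x hxH hxp), hxU⟩
      have : x ∈ K ⊓ H := ⟨hxK, hxH⟩
      rwa [hKH] at this
    have hU'K : U' ≤ K := hKmax ⟨hU'inv, hV2K.trans hKU', hU'H⟩ hKU'
    refine hDsup.trans (sup_le le_rfl (hU'K.trans le_sup_right))
  -- Claim 5
  have hc5 : ∀ k, ∀ x : A, x ^ p ^ k ∈ K → x ∈ H ⊔ K := by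
    intro k
    induction k with
    | zero =>
      intro x hx
      rw [pow_zero, pow_one] at hx
      exact Subgroup.mem_sup_right hx
    | succ k ih =>
      intro x hx
      by_cases hkn : k ≤ n
      · have hy : x ^ p ^ k ∈ K.comap (powMonoidHom p) := by
          rw [mem_cp, ← pow_mul, ← pow_succ]; exact hx
        obtain ⟨v, hv, κ, hκ, hvκ⟩ := Subgroup.mem_sup.mp (hc4 hy)
        obtain ⟨h, hh, rfl⟩ := hc1 v hv
        obtain ⟨c, rfl⟩ := Nat.exists_eq_add_of_le hkn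
        have h5 : (x * (h ^ p ^ c)⁻¹) ^ p ^ k = κ := by
          rw [mul_pow, inv_pow, ← pow_mul, ← pow_add, add_comm c k, ← hvκ]
          rw [mul_comm (h ^ p ^ (k + c)), mul_inv_cancel_right]
        have h6 : x * (h ^ p ^ c)⁻¹ ∈ H ⊔ K := ih _ (h5 ▸ hκ)
        have h7 : x = (x * (h ^ p ^ c)⁻¹) * h ^ p ^ c := by rw [inv_mul_cancel_right]
        rw [h7]
        exact (H ⊔ K).mul_mem h6 (Subgroup.mem_sup_left (H.pow_mem hh _))
      · apply ih
        have : x ^ p ^ k = 1 := by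
          obtain ⟨c, rfl⟩ := Nat.exists_eq_add_of_le (by omega : n + 1 ≤ k)
          rw [pow_add, pow_mul, hn, one_pow]
        rw [this]
        exact K.one_mem
  refine ⟨H, K, ?_, ?_, hHinv, hKinv, ?_, ?_⟩
  · intro hH
    obtain ⟨v, hv, hv1⟩ : ∃ v ∈ V1, v ≠ 1 := by
      by_contra hcon
      push Not at hcon
      exact hV1ne (eq_bot_iff.mpr fun v hv => Subgroup.mem_bot.mpr (hcon v hv))
    obtain ⟨h, hh, rfl⟩ := hc1 v hv
    rw [hH, Subgroup.mem_bot] at hh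
    rw [hh, one_pow] at hv1
    exact hv1 rfl
  · intro hK
    rw [hK] at hV2K
    exact hV2ne (eq_bot_iff.mpr hV2K)
  · rw [inf_comm]; exact hKH
  · rw [eq_top_iff]
    intro x _
    apply hc5 (n + 1) x
    rw [hn]
    exact K.one_mem


theorem ii_imp_iii {p : ℕ} [Fact p.Prime] (X : Subgroup (MulAut A))
    (hii : ∀ B : Subgroup A, InvW X B → ∃ i : ℕ, ∀ a : A, a ∈ B ↔ a ^ p ^ i = 1)
    (B : Subgroup A) (hB : InvW X B) (hBp : ∀ b ∈ B, b ^ p = 1) :
    B = ⊥ ∨ ∀ a : A, a ∈ B ↔ a ^ p = 1 := by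
  obtain ⟨i, hi⟩ := hii B hB
  rcases Nat.eq_zero_or_pos i with h0 | hpos
  · left
    rw [eq_bot_iff]
    intro b hb
    have := (hi b).mp hb
    rw [h0, pow_zero, pow_one] at this
    exact Subgroup.mem_bot.mpr this
  · right
    intro a
    refine ⟨hBp a, fun ha => (hi a).mpr ?_⟩
    obtain ⟨c, rfl⟩ := Nat.exists_eq_add_of_le hpos
    rw [pow_add, pow_one, pow_mul, ha, one_pow]

theorem ii_imp_i {p : ℕ} [Fact p.Prime] (X : Subgroup (MulAut A))
    (hii : ∀ B : Subgroup A, InvW X B → ∃ i : ℕ, ∀ a : A, a ∈ B ↔ a ^ p ^ i = 1)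
    (B C : Subgroup A) (hB : InvW X B) (hC : InvW X C) (hBC : B ⊓ C = ⊥) :
    B = ⊥ ∨ C = ⊥ := by
  obtain ⟨i, hi⟩ := hii B hB
  obtain ⟨j, hj⟩ := hii C hC
  have key : ∀ (B C : Subgroup A) (i j : ℕ), (∀ a : A, a ∈ B ↔ a ^ p ^ i = 1) →
      (∀ a : A, a ∈ C ↔ a ^ p ^ j = 1) → i ≤ j → B ⊓ C = ⊥ → B = ⊥ := by
    intro B C i j hi hj hij hBC
    rw [eq_bot_iff, ← hBC]
    intro b hb
    refine ⟨hb, (hj b).mpr ?_⟩
    obtain ⟨c, rfl⟩ := Nat.exists_eq_add_of_le hij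
    rw [pow_add, pow_mul, (hi b).mp hb, one_pow]
  rcases le_total i j with h | h
  · exact Or.inl (key B C i j hi hj h hBC)
  · exact Or.inr (key C B j i hj hi h (by rw [inf_comm]; exact hBC))

theorem iii_imp_ii [Finite A] {p : ℕ} [Fact p.Prime] (hA : IsPGroup p A)
    (X : Subgroup (MulAut A))
    (hiii : ∀ B : Subgroup A, InvW X B → (∀ b ∈ B, b ^ p = 1) →
      B = ⊥ ∨ ∀ a : A, a ∈ B ↔ a ^ p = 1)
    (B : Subgroup A) (hB : InvW X B) : ∃ i : ℕ, ∀ a : A, a ∈ B ↔ a ^ p ^ i = 1 := by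
  classical
  by_cases hB1 : B = ⊥
  · refine ⟨0, fun a => ?_⟩
    rw [hB1, Subgroup.mem_bot, pow_zero, pow_one]
  obtain ⟨n, hn, b0, hb0, hb0n⟩ :
      ∃ n, (∀ b ∈ B, b ^ p ^ (n + 1) = 1) ∧ ∃ b0 ∈ B, b0 ^ p ^ n ≠ 1 := by
    have hex : ∃ n, ∀ b ∈ B, b ^ p ^ n = 1 := by
      obtain ⟨m, hm⟩ := IsPGroup.iff_card.mp hA
      exact ⟨m, fun a _ => by rw [← hm]; exact pow_card_eq_one'⟩
    have hn : ∀ b ∈ B, b ^ p ^ (Nat.find hex) = 1 := Nat.find_spec hex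
    have hn0 : Nat.find hex ≠ 0 := by
      intro h0
      apply hB1
      rw [eq_bot_iff]
      intro b hb
      have := hn b hb
      rw [h0, pow_zero, pow_one] at this
      rw [Subgroup.mem_bot]; exact this
    obtain ⟨n', hn'⟩ := Nat.exists_eq_succ_of_ne_zero hn0
    refine ⟨n', ?_, ?_⟩
    · intro a ha
      have := hn a ha
      rwa [hn'] at this
    · by_contra hcon
      push Not at hcon
      exact Nat.find_min hex (by omega : n' < Nat.find hex) hcon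
  have hB' : ∀ a : A, a ∈ B.map (powMonoidHom (p ^ n)) ↔ a ^ p = 1 := by
    have h1 := hiii (B.map (powMonoidHom (p ^ n))) (hB.mapPow _) (by
      rintro _ ⟨b, hb, rfl⟩
      rw [powMonoidHom_apply, ← pow_mul, ← pow_succ]
      exact hn b hb)
    rcases h1 with h1 | h1
    · exfalso
      apply hb0n
      have : b0 ^ p ^ n ∈ B.map (powMonoidHom (p ^ n)) := ⟨b0, hb0, rfl⟩
      rwa [h1, Subgroup.mem_bot] at this
    · exact h1
  have key : ∀ j, j ≤ n + 1 → ∀ a : A, a ^ p ^ j = 1 → a ∈ B := by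
    intro j
    induction j with
    | zero =>
      intro _ a ha
      rw [pow_zero, pow_one] at ha
      rw [ha]; exact B.one_mem
    | succ j ih =>
      intro hj a ha
      have h1 : a ^ p ^ j ∈ B.map (powMonoidHom (p ^ n)) := by
        rw [hB', ← pow_mul, ← pow_succ]; exact ha
      obtain ⟨b, hb, hba⟩ := h1
      rw [powMonoidHom_apply] at hba
      obtain ⟨c, rfl⟩ := Nat.exists_eq_add_of_le (by omega : j ≤ n)
      have h5 : (a * (b ^ p ^ c)⁻¹) ^ p ^ j = 1 := by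
        rw [mul_pow, inv_pow, ← pow_mul, ← pow_add, add_comm c j, hba, mul_inv_cancel]
      have h6 : a * (b ^ p ^ c)⁻¹ ∈ B := ih (by omega) _ h5
      have h7 : a = (a * (b ^ p ^ c)⁻¹) * b ^ p ^ c := by rw [inv_mul_cancel_right]
      rw [h7]
      exact B.mul_mem h6 (B.pow_mem hb _)
  exact ⟨n + 1, fun a => ⟨hn a, key (n + 1) le_rfl a⟩⟩

/-- The full equivalence, in the original formulation. -/
theorem indecomposable_iff [Finite A] {p : ℕ} [Fact p.Prime] (hA : IsPGroup p A)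
    (X : Subgroup (MulAut A)) (hX : (Nat.card X).Coprime p) :
    ((¬ ∃ B C : Subgroup A, B ≠ ⊥ ∧ C ≠ ⊥ ∧ (∀ x ∈ X, B.map x.toMonoidHom = B) ∧
        (∀ x ∈ X, C.map x.toMonoidHom = C) ∧ B ⊓ C = ⊥ ∧ B ⊔ C = ⊤) ↔
      (∀ B : Subgroup A, (∀ x ∈ X, B.map x.toMonoidHom = B) →
        ∃ i : ℕ, ∀ a : A, a ∈ B ↔ a ^ p ^ i = 1)) ∧
    ((∀ B : Subgroup A, (∀ x ∈ X, B.map x.toMonoidHom = B) →
        ∃ i : ℕ, ∀ a : A, a ∈ B ↔ a ^ p ^ i = 1) ↔
      (∀ B : Subgroup A, (∀ x ∈ X, B.map x.toMonoidHom = B) → (∀ b ∈ B, b ^ p = 1) →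
        B = ⊥ ∨ ∀ a : A, a ∈ B ↔ a ^ p = 1)) := by
  simp only [invW_iff]
  have h23 : (∀ B : Subgroup A, InvW X B → ∃ i : ℕ, ∀ a : A, a ∈ B ↔ a ^ p ^ i = 1) →
      (∀ B : Subgroup A, InvW X B → (∀ b ∈ B, b ^ p = 1) →
        B = ⊥ ∨ ∀ a : A, a ∈ B ↔ a ^ p = 1) := fun h B hB hBp => ii_imp_iii X h B hB hBp
  have h32 : (∀ B : Subgroup A, InvW X B → (∀ b ∈ B, b ^ p = 1) →
        B = ⊥ ∨ ∀ a : A, a ∈ B ↔ a ^ p = 1) →
      (∀ B : Subgroup A, InvW X B → ∃ i : ℕ, ∀ a : A, a ∈ B ↔ a ^ p ^ i = 1) :=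
    fun h B hB => iii_imp_ii hA X h B hB
  refine ⟨⟨?_, ?_⟩, ⟨h23, h32⟩⟩
  · intro hi
    apply h32
    intro B hB hBp
    by_contra hcon
    rw [not_or] at hcon
    obtain ⟨hB1, hB2⟩ := hcon
    apply hi
    have hB2' : ∃ a : A, a ^ p = 1 ∧ a ∉ B := by
      by_contra hc
      push Not at hc
      exact hB2 (fun a => ⟨hBp a, hc a⟩)
    obtain ⟨H, K, h1, h2, h3, h4, h5, h6⟩ := exists_decomp hA X hX B hB hBp hB1 hB2'
    exact ⟨H, K, h1, h2, h3, h4, h5, h6⟩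
  · rintro hii ⟨B, C, hB1, hC1, hB, hC, hBC, -⟩
    rcases ii_imp_i X hii B C hB hC hBC with h | h
    · exact hB1 h
    · exact hC1 h

end Cfsg.Agent.Lib.Helper21.AbelianIndec
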