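import Mathlib
import Cfsg.Prelude.Def_Solvable
import Cfsg.Agent.Lib.Helper1.Fitting
import Cfsg.Agent.Lib.Helper1.MinNormal

set_option autoImplicit false

namespace Cfsg.Agent.Lib.Helper21.BG

open Cfsg Cfsg.Agent.Lib.Helper1

universe u

variable {G : Type u} [Group G] [Finite G]

/-- Frattini argument in relative-index form -/
theorem frattini_relIndex (p : ℕ) [Fact p.Prime] (X : Subgroup G) [X.Normal] (P : Subgroup G)
    (hP : IsPGroup p P) (hle : P ≤ X) (hidx : ¬ p ∣ P.relIndex X) :
    Subgroup.normalizer (P : Set G) ⊔ X = ⊤ := by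
  have hP' : IsPGroup p (P.subgroupOf X) := hP.comap_subtype
  let Q : Sylow p X := hP'.toSylow hidx
  have h := Sylow.normalizer_sup_eq_top Q
  have hQ : ((Q : Subgroup X).map X.subtype) = P := by
    show (P.subgroupOf X).map X.subtype = P
    exact Subgroup.map_subgroupOf_eq_of_le hle
  rw [hQ] at h
  exact h

/-- the group-theoretic data for Broline-Garrison -/
theorem exists_data (K : Subgroup G) [hKn : K.Normal]
    (h : ¬ K ≤ Cfsg.fittingSubgroup G ∨
      (K = Cfsg.fittingSubgroup G ∧ Group.IsSolvable (G ⧸ K) ∧ K ≠ ⊤)) :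
    ∃ (p : ℕ) (_ : Fact p.Prime) (L P : Subgroup G), L.Normal ∧ K ≤ L ∧ IsPGroup p P ∧ P ≤ L ∧
      ¬ p ∣ P.relIndex L ∧ ¬ P.Normal ∧ L = K ⊔ P ∧
      ∀ X : Subgroup G, X.Normal → K ≤ X → X ≤ L → X = K ∨ X = L := by
  rcases h with h | ⟨hKF, hsolv, hKtop⟩
  · -- some Sylow subgroup of K is not normal in G
    by_contra hcon
    apply h
    have hall : ∀ (p : ℕ) (_ : Fact p.Prime) (P : Sylow p K),
        ((P : Subgroup K).map K.subtype).Normal := by
      intro p hp P
      by_contra hPn
      apply hcon
      refine ⟨p, hp, K, (P : Subgroup K).map K.subtype, hKn, le_rfl, ?_, ?_, ?_, hPn, ?_, ?_⟩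
      · exact P.isPGroup'.map K.subtype
      · exact Subgroup.map_subtype_le _
      · have : ((P : Subgroup K).map K.subtype).relIndex K = (P : Subgroup K).index := by
          rw [Subgroup.relIndex, Subgroup.subgroupOf,
            Subgroup.comap_map_eq_self_of_injective K.subtype_injective]
        rw [this]
        exact P.not_dvd_index
      · exact (sup_eq_left.mpr (Subgroup.map_subtype_le _)).symm
      · intro X _ hKX hXK
        exact Or.inl (le_antisymm hXK hKX)
    have htop : (Cfsg.fittingSubgroup G).subgroupOf K = ⊤ := by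
      apply eq_top_of_forall_sylow_le
      intro p hp
      obtain ⟨P⟩ : Nonempty (Sylow p K) := inferInstance
      refine ⟨P, ?_⟩
      have hn := hall p hp P
      have hnil : Group.IsNilpotent ((P : Subgroup K).map K.subtype) :=
        (P.isPGroup'.map K.subtype).isNilpotent
      have hle := le_fittingSubgroup hn hnil
      intro x hx
      rw [Subgroup.mem_subgroupOf]
      exact hle (Subgroup.mem_map_of_mem _ hx)
    exact Subgroup.subgroupOf_eq_top.mp htop
  · -- K = F(G), G/K solvable and nontrivial
    have := hsolv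
    have : Nontrivial (G ⧸ K) := by
      rw [← not_subsingleton_iff_nontrivial]
      intro hs
      exact hKtop (QuotientGroup.subgroup_eq_top_of_subsingleton K hs)
    obtain ⟨Nb, hNb⟩ := exists_isMinNormal (G := G ⧸ K)
    obtain ⟨p, hp, hNbp⟩ := hNb.exists_prime_isPGroup
    have : Fact p.Prime := ⟨hp⟩
    obtain ⟨hNbn, hNb1, hNbmin⟩ := hNb
    set L : Subgroup G := Nb.comap (QuotientGroup.mk' K) with hL
    have hLn : L.Normal := hNbn.comap _
    have hKL : K ≤ L := by
      intro k hk
      rw [hL, Subgroup.mem_comap]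
      have : (QuotientGroup.mk' K) k = 1 := (QuotientGroup.eq_one_iff k).mpr hk
      rw [this]; exact Nb.one_mem
    have hLK : L ≠ K := by
      intro hLK
      apply hNb1
      rw [eq_bot_iff]
      intro q hq
      obtain ⟨g, rfl⟩ := QuotientGroup.mk'_surjective K q
      have hg : g ∈ L := hq
      rw [hLK] at hg
      rw [Subgroup.mem_bot]
      exact (QuotientGroup.eq_one_iff g).mpr hg
    have hchief : ∀ X : Subgroup G, X.Normal → K ≤ X → X ≤ L → X = K ∨ X = L := by
      intro X hXn hKX hXL
      have hXmn : (X.map (QuotientGroup.mk' K)).Normal :=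
        hXn.map _ (QuotientGroup.mk'_surjective K)
      have hXmle : X.map (QuotientGroup.mk' K) ≤ Nb := by
        rw [Subgroup.map_le_iff_le_comap]; exact hXL
      have hcm : (X.map (QuotientGroup.mk' K)).comap (QuotientGroup.mk' K) = X := by
        rw [Subgroup.comap_map_eq, QuotientGroup.ker_mk']
        exact sup_eq_left.mpr hKX
      rcases hNbmin _ hXmn hXmle with h0 | h1
      · left
        rw [← hcm, h0]
        rw [MonoidHom.comap_bot, QuotientGroup.ker_mk']
      · right
        rw [← hcm, h1]
    have hrel : ∃ a : ℕ, K.relIndex L = p ^ a := by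
      have h1 : K.relIndex L = Nat.card Nb := by
        have hKb : K = (⊥ : Subgroup (G ⧸ K)).comap (QuotientGroup.mk' K) := by
          rw [MonoidHom.comap_bot, QuotientGroup.ker_mk']
        have : K.relIndex L = ((⊥ : Subgroup (G ⧸ K)).comap (QuotientGroup.mk' K)).relIndex L := by
          rw [← hKb]
        rw [this, Subgroup.relIndex_comap, hL,
          Subgroup.map_comap_eq_self_of_surjective (QuotientGroup.mk'_surjective K),
          Subgroup.relIndex_bot_left]
      rw [h1]
      exact IsPGroup.iff_card.mp hNbp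
    obtain ⟨a, ha⟩ := hrel
    obtain ⟨P⟩ : Nonempty (Sylow p L) := inferInstance
    set P' : Subgroup G := (P : Subgroup L).map L.subtype with hP'
    have hP'p : IsPGroup p P' := P.isPGroup'.map L.subtype
    have hP'L : P' ≤ L := Subgroup.map_subtype_le _
    have hidx : ¬ p ∣ P'.relIndex L := by
      have : P'.relIndex L = (P : Subgroup L).index := by
        rw [Subgroup.relIndex, Subgroup.subgroupOf, hP',
          Subgroup.comap_map_eq_self_of_injective L.subtype_injective]
      rw [this]
      exact P.not_dvd_index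
    have hLsup : L = K ⊔ P' := by
      apply le_antisymm _ (sup_le hKL hP'L)
      rw [← Subgroup.relIndex_eq_one]
      have h1 : (K ⊔ P').relIndex L ∣ K.relIndex L := Subgroup.relIndex_dvd_of_le_left L le_sup_left
      have h2 : (K ⊔ P').relIndex L ∣ P'.relIndex L := Subgroup.relIndex_dvd_of_le_left L le_sup_right
      rw [ha] at h1
      obtain ⟨b, _, hb⟩ := (Nat.dvd_prime_pow hp).mp h1
      rw [hb] at h2 ⊢
      rcases Nat.eq_zero_or_pos b with h0 | hpos
      · rw [h0, pow_zero]
      · exfalso
        exact hidx (dvd_trans (dvd_pow_self p hpos.ne') h2)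
    refine ⟨p, ⟨hp⟩, L, P', hLn, hKL, hP'p, hP'L, hidx, ?_, hLsup, hchief⟩
    intro hPn
    have hnil : Group.IsNilpotent P' := hP'p.isNilpotent
    have hle : P' ≤ K := by
      rw [hKF]
      exact le_fittingSubgroup hPn hnil
    apply hLK
    rw [hLsup]
    exact sup_eq_left.mpr hle

end Cfsg.Agent.Lib.Helper21.BG
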