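import Mathlib
import Cfsg.Prelude.Def_Blocks
import Cfsg.Prelude.Def_Solvable
import Cfsg.Agent.Lib.Helper21.BGGroup
import Cfsg.Agent.Lib.Helper21.BGChar

set_option autoImplicit false

namespace Cfsg.Agent.Lib.Helper21.BG

open Cfsg Cfsg.Agent.CharLib Cfsg.Agent.Lib.Helper6 Cfsg.Agent.Lib.Helper24 Cfsg.Agent.Lib.Helper25
  Cfsg.Agent.Lib.Helper2
open scoped ComplexConjugate

universe u

/-- **Broline-Garrison**: a larger degree with smaller kernel -/
theorem broline_garrison {G : Type u} [Group G] [Finite G] (χ : IrrCharacter G) (K : Subgroup G)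
    [K.Normal] (hK : ∀ g : G, g ∈ K ↔ (χ : G → ℂ) g = (χ : G → ℂ) 1)
    (h : ¬ K ≤ Cfsg.fittingSubgroup G ∨
      (K = Cfsg.fittingSubgroup G ∧ Group.IsSolvable (G ⧸ K) ∧ K ≠ ⊤)) :
    ∃ ψ : IrrCharacter G, charDegree (χ : G → ℂ) < charDegree (ψ : G → ℂ) ∧
      ∃ L : Subgroup G, (∀ g : G, g ∈ L ↔ (ψ : G → ℂ) g = (ψ : G → ℂ) 1) ∧ L < K := by
  classical
  let _ : Fintype G := Fintype.ofFinite G
  obtain ⟨p, hp, L, P, hLn, hKL, hPp, hPL, hidx, hPn, hLsup, hchief⟩ := exists_data K h
  have hNtop : Subgroup.normalizer (P : Set G) ≠ ⊤ :=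
    fun h => hPn (Subgroup.normalizer_eq_top_iff.mp h)
  obtain ⟨H, hHco, hNH⟩ : ∃ H : Subgroup G, IsCoatom H ∧ Subgroup.normalizer (P : Set G) ≤ H := by
    rcases eq_top_or_exists_le_coatom (Subgroup.normalizer (P : Set G)) with h | h
    · exact absurd h hNtop
    · exact h
  have hPH : P ≤ H := Subgroup.le_normalizer.trans hNH
  have hfr : Subgroup.normalizer (P : Set G) ⊔ L = ⊤ := frattini_relIndex p L P hPp hPL hidx
  have hHK : H ⊔ K = ⊤ := by
    rw [eq_top_iff, ← hfr, hLsup]
    apply sup_le (hNH.trans le_sup_left)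
    exact sup_le le_sup_right (hPH.trans le_sup_left)
  have hKH : ¬ K ≤ H := by
    intro hle
    apply hHco.1
    rw [← hHK]; exact (sup_eq_left.mpr hle).symm
  have hker : ∀ k ∈ K, (χ : G → ℂ) k = (χ : G → ℂ) 1 := fun k hk => (hK k).mp hk
  have hθ : IsIrrCharacter H (resFun H (χ : G → ℂ)) :=
    isIrrCharacter_resFun_of_sup_eq_top χ K hker H hHK
  let _ : Fintype H := Fintype.ofFinite H
  have hex : ∃ ψ : IrrCharacter G,
      classInner (indFun H (resFun H (χ : G → ℂ))) (ψ : G → ℂ) ≠ 0 ∧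
      charDegree (χ : G → ℂ) < charDegree (ψ : G → ℂ) := by
    by_contra hcon
    push Not at hcon
    have hvan := mem_normalCore_of_no_larger χ H hθ hcon
    have hC₀H : H.normalCore ≤ H := Subgroup.normalCore_le H
    have hKHC : ∀ g, g ∈ K → g ∈ H → g ∈ H.normalCore := by
      intro g hgK hgH
      apply hvan g hgH
      rw [(hK g).mp hgK]; exact irr_apply_one_ne_zero χ
    set X : Subgroup G := H.normalCore ⊓ L with hX
    have hXn : X.Normal := inferInstance
    have hXKn : (X ⊔ K).Normal := inferInstance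
    by_cases hcase : X ⊔ K = L
    · have hPX : P ≤ X := by
        intro u hu
        have huL : u ∈ ((X ⊔ K : Subgroup G) : Set G) := by rw [hcase]; exact hPL hu
        rw [Subgroup.mul_normal] at huL
        obtain ⟨x, hx, k, hk, rfl⟩ := Set.mem_mul.mp huL
        have hxH : x ∈ H := hC₀H (Subgroup.mem_inf.mp hx).1
        have hkH : k ∈ H := by
          have : k = x⁻¹ * (x * k) := by group
          rw [this]; exact H.mul_mem (H.inv_mem hxH) (hPH hu)
        have hkX : k ∈ X := Subgroup.mem_inf.mpr ⟨hKHC k hk hkH, hKL hk⟩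
        exact X.mul_mem hx hkX
      have hidxX : ¬ p ∣ P.relIndex X := by
        intro hd
        apply hidx
        rw [← Subgroup.relIndex_mul_relIndex P X L hPX inf_le_right]
        exact dvd_mul_of_dvd_left hd _
      have hfr2 := frattini_relIndex p X P hPp hPX hidxX
      apply hHco.1
      rw [eq_top_iff, ← hfr2]
      exact sup_le hNH (inf_le_left.trans hC₀H)
    · have hXK : X ⊔ K = K := by
        rcases hchief (X ⊔ K) hXKn le_sup_right (sup_le inf_le_right hKL) with h1 | h1
        · exact h1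
        · exact absurd h1 hcase
      have hXleK : X ≤ K := by rw [← hXK]; exact le_sup_left
      have hLneK : L ≠ K := by
        intro h; apply hcase; rw [hXK, h]
      have hvanL : ∀ l ∈ L, l ∉ K → (χ : G → ℂ) l = 0 := by
        intro l hl hlK
        have hl' : l ∈ ((K ⊔ P : Subgroup G) : Set G) := by rw [← hLsup]; exact hl
        rw [Subgroup.normal_mul] at hl'
        obtain ⟨k, hk, u, hu, rfl⟩ := Set.mem_mul.mp hl'
        rw [apply_mul_of_mem_ker χ K hker hk u]
        by_contra hne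
        have huC : u ∈ H.normalCore := hvan u (hPH hu) hne
        have huK : u ∈ K := hXleK (Subgroup.mem_inf.mpr ⟨huC, hPL hu⟩)
        exact hlK (K.mul_mem hk huK)
      let _ : Fintype L := Fintype.ofFinite L
      have hsum : ∑ l : L, (χ : G → ℂ) l =
          (Nat.card {l : L // (l : G) ∈ K} : ℂ) * (χ : G → ℂ) 1 := by
        have hval : ∀ l : L, (χ : G → ℂ) l = if (l : G) ∈ K then (χ : G → ℂ) 1 else 0 := by
          intro l
          split_ifs with h
          · exact (hK l).mp h
          · exact hvanL l l.2 h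
        rw [Finset.sum_congr rfl (fun l _ => hval l), Finset.sum_ite, Finset.sum_const_zero,
          add_zero, Finset.sum_const, nsmul_eq_mul, ← Fintype.card_subtype,
          Nat.card_eq_fintype_card]
      have hpos : 0 < Nat.card {l : L // (l : G) ∈ K} :=
        Nat.card_pos_iff.mpr ⟨⟨⟨⟨1, L.one_mem⟩, K.one_mem⟩⟩, inferInstance⟩
      have hSne : ∑ l : L, (χ : G → ℂ) l ≠ 0 := by
        rw [hsum]
        exact mul_ne_zero (by exact_mod_cast hpos.ne') (irr_apply_one_ne_zero χ)
      apply hLneK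
      apply le_antisymm _ hKL
      intro l hl
      have := apply_mul_sum_normal χ L ⟨l, hl⟩
      rw [hK]
      rw [mul_comm] at this
      exact mul_left_cancel₀ hSne this
  obtain ⟨ψ, hψne, hψdeg⟩ := hex
  refine ⟨ψ, hψdeg, irrKer ψ, mem_irrKer ψ, ?_⟩
  have hψc : IsCharacter G (ψ : G → ℂ) := IsIrrCharacter.isCharacter ψ.2
  have hfrob := frobenius_reciprocity H (resFun H (χ : G → ℂ)) (IsCharacter.isClassFunction hψc)
  have hne1 : classInner (resFun H (χ : G → ℂ)) (resFun H (ψ : G → ℂ)) ≠ 0 := by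
    rw [hfrob] at hψne; exact hψne
  have hne2 : classInner (resFun H (ψ : G → ℂ)) (resFun H (χ : G → ℂ)) ≠ 0 := by
    intro h0; apply hne1; rw [← classInner_conj_symm, h0, map_zero]
  have hMH : irrKer ψ ≤ H := by
    by_contra hMH
    have hsup : H ⊔ irrKer ψ = ⊤ := by
      apply hHco.2
      apply lt_of_le_of_ne le_sup_left
      intro h
      apply hMH
      rw [h]; exact le_sup_right
    have hψH : IsIrrCharacter H (resFun H (ψ : G → ℂ)) :=
      isIrrCharacter_resFun_of_sup_eq_top ψ (irrKer ψ)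
        (fun k hk => (mem_irrKer ψ k).mp hk) H hsup
    have hirr := classInner_irr hθ hψH
    rw [hirr] at hne1
    have heq : resFun H (χ : G → ℂ) = resFun H (ψ : G → ℂ) := by
      by_contra hne; rw [if_neg hne] at hne1; exact hne1 rfl
    have h1 : (χ : G → ℂ) 1 = (ψ : G → ℂ) 1 := congrFun heq 1
    rw [irr_apply_one χ, irr_apply_one ψ] at h1
    have h2 : charDegree (χ : G → ℂ) = charDegree (ψ : G → ℂ) := by exact_mod_cast h1
    omega
  have hMK : irrKer ψ ≤ K := by
    intro m hm
    have hmH := hMH hm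
    have h1 : resFun H (ψ : G → ℂ) ⟨m, hmH⟩ = resFun H (ψ : G → ℂ) 1 := (mem_irrKer ψ m).mp hm
    have h2 := constituent_apply_eq (isCharacter_resFun H hψc) hθ hne2 ⟨m, hmH⟩ h1
    exact (hK m).mpr h2
  refine lt_of_le_of_ne hMK ?_
  intro h
  apply hKH; rw [← h]; exact hMH

end Cfsg.Agent.Lib.Helper21.BG
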