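import Mathlib
import Cfsg.Prelude.Def_Blocks
import Cfsg.Prelude.Def_Solvable
import Cfsg.Agent.Lib.Helper21.BGMain

set_option autoImplicit false

namespace Cfsg.Agent.Lib.Helper21.BG

open Cfsg Cfsg.Agent.CharLib Cfsg.Agent.Lib.Helper6 Cfsg.Agent.Lib.Helper24 Cfsg.Agent.Lib.Helper25
  Cfsg.Agent.Lib.Helper1
open scoped ComplexConjugate

universe u

theorem isNilpotent_of_inj {A B : Type*} [Group A] [Group B] (f : A →* B)
    (hf : Function.Injective f) (hB : Group.IsNilpotent B) : Group.IsNilpotent A := by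
  have : Group.IsNilpotent f.range := Subgroup.isNilpotent f.range
  exact Group.nilpotent_of_mulEquiv (MonoidHom.ofInjective hf).symm

theorem isNilpotent_quot_of_isNilpotent {G : Type*} [Group G] (A B : Subgroup G)
    (hB : Group.IsNilpotent B) (_h : (A.subgroupOf B).Normal) :
    Group.IsNilpotent (↥B ⧸ A.subgroupOf B) :=
  Group.nilpotent_of_surjective (QuotientGroup.mk' _) (QuotientGroup.mk'_surjective _)

theorem isNilpotent_quot_comap {G G' : Type*} [Group G] [Group G'] (φ : G →* G')
    (A' B' : Subgroup G') (h' : (A'.subgroupOf B').Normal)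
    (hnil : Group.IsNilpotent (↥B' ⧸ A'.subgroupOf B'))
    (h : ((A'.comap φ).subgroupOf (B'.comap φ)).Normal) :
    Group.IsNilpotent (↥(B'.comap φ) ⧸ (A'.comap φ).subgroupOf (B'.comap φ)) := by
  let f : ↥(B'.comap φ) →* ↥B' ⧸ A'.subgroupOf B' :=
    (QuotientGroup.mk' _).comp (φ.subgroupComap B')
  have hmem : ∀ x : ↥(B'.comap φ), f x = 1 ↔ x ∈ (A'.comap φ).subgroupOf (B'.comap φ) := by
    intro x
    show (QuotientGroup.mk' (A'.subgroupOf B')) (φ.subgroupComap B' x) = 1 ↔ _
    rw [QuotientGroup.mk'_apply, QuotientGroup.eq_one_iff, Subgroup.mem_subgroupOf,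
      Subgroup.mem_subgroupOf]
    rfl
  have hker : (A'.comap φ).subgroupOf (B'.comap φ) ≤ f.ker := by
    intro x hx
    rw [MonoidHom.mem_ker]
    exact (hmem x).mpr hx
  apply isNilpotent_of_inj (QuotientGroup.lift _ f hker) _ hnil
  rw [injective_iff_map_eq_one]
  intro q hq
  obtain ⟨x, rfl⟩ := QuotientGroup.mk_surjective q
  rw [QuotientGroup.lift_mk] at hq
  rw [QuotientGroup.eq_one_iff]
  exact (hmem x).mp hq

theorem isNilpotent_quot_step {G G' : Type*} [Group G] [Group G'] (φ : G →* G')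
    (A B : Subgroup G) (A' B' : Subgroup G') (hA : A = A'.comap φ) (hB : B = B'.comap φ)
    (h' : (A'.subgroupOf B').Normal)
    (hnil : Group.IsNilpotent (↥B' ⧸ A'.subgroupOf B')) :
    ∀ h : (A.subgroupOf B).Normal, Group.IsNilpotent (↥B ⧸ A.subgroupOf B) := by
  subst hA hB
  intro h
  exact isNilpotent_quot_comap φ A' B' h' hnil h

/-- the set of character degrees -/
def cdSet (G : Type u) [Group G] : Set ℕ :=
  {d : ℕ | ∃ χ : IrrCharacter G, charDegree (χ : G → ℂ) = d}

theorem cdSet_finite (G : Type u) [Group G] [Finite G] : (cdSet G).Finite :=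
  Set.finite_range (fun χ : IrrCharacter G => charDegree (χ : G → ℂ))

theorem cdSet_nonempty (G : Type u) [Group G] [Finite G] : (cdSet G).Nonempty :=
  ⟨_, ⟨⟨(1 : G → ℂ), isIrrCharacter_one⟩, rfl⟩⟩

theorem card_cd_eq (G : Type u) [Group G] :
    Nat.card {d : ℕ // ∃ χ : IrrCharacter G, charDegree (χ : G → ℂ) = d} = (cdSet G).ncard :=
  _root_.Nat.card_coe_set_eq (cdSet G)

/-- a nonnilpotent finite solvable group has strictly more character degrees than the quotient by
its Fitting subgroup -/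
theorem cdSet_quotient_fitting_ssubset (G : Type u) [Group G] [Finite G]
    (hsolv : Group.IsSolvable G) (hF : Cfsg.fittingSubgroup G ≠ ⊤) :
    haveI := fittingSubgroup_normal G
    cdSet (G ⧸ Cfsg.fittingSubgroup G) ⊂ cdSet G := by
  have := fittingSubgroup_normal G
  set F := Cfsg.fittingSubgroup G with hFdef
  have hsub : cdSet (G ⧸ F) ⊆ cdSet G := by
    rintro d ⟨θ, rfl⟩
    exact ⟨inflateIrr F θ, rfl⟩
  have hne : Nonempty (IrrCharacter (G ⧸ F)) := ⟨⟨(1 : G ⧸ F → ℂ), isIrrCharacter_one⟩⟩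
  obtain ⟨θ, hθmax⟩ := Finite.exists_max (fun θ : IrrCharacter (G ⧸ F) => charDegree (θ : G ⧸ F → ℂ))
  set χ : IrrCharacter G := inflateIrr F θ with hχ
  have hFK : F ≤ irrKer χ := by
    intro x hx
    rw [mem_irrKer]
    exact inflateIrr_mem_ker F θ x hx
  have hyp : ¬ irrKer χ ≤ Cfsg.fittingSubgroup G ∨
      (irrKer χ = Cfsg.fittingSubgroup G ∧ Group.IsSolvable (G ⧸ irrKer χ) ∧ irrKer χ ≠ ⊤) := by
    by_cases hle : irrKer χ ≤ Cfsg.fittingSubgroup G
    · right
      have heq : irrKer χ = Cfsg.fittingSubgroup G := le_antisymm hle hFK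
      refine ⟨heq, inferInstance, ?_⟩
      rw [heq]; exact hF
    · left; exact hle
  obtain ⟨ψ, hψ, -⟩ := broline_garrison χ (irrKer χ) (mem_irrKer χ) hyp
  refine ⟨hsub, fun hcon => ?_⟩
  obtain ⟨θ', hθ'⟩ := hcon ⟨ψ, rfl⟩
  have h1 : charDegree (θ' : G ⧸ F → ℂ) ≤ charDegree (θ : G ⧸ F → ℂ) := hθmax θ'
  have h2 : charDegree (χ : G → ℂ) = charDegree (θ : G ⧸ F → ℂ) := rfl
  omega

theorem fittingSubgroup_ne_bot (G : Type u) [Group G] [Finite G] [Nontrivial G]
    (hsolv : Group.IsSolvable G) : Cfsg.fittingSubgroup G ≠ ⊥ := by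
  obtain ⟨N, hN⟩ := exists_isMinNormal (G := G)
  obtain ⟨p, hp, hNp⟩ := hN.exists_prime_isPGroup
  have : Fact p.Prime := ⟨hp⟩
  have hnil : Group.IsNilpotent N := hNp.isNilpotent
  have hle := le_fittingSubgroup hN.1 hnil
  intro h
  rw [h, le_bot_iff] at hle
  exact hN.2.1 hle

/-- Garrison: the nilpotent length is at most the number of character degrees -/
theorem garrison_aux : ∀ (m : ℕ) (G : Type u) [Group G] [Finite G], Nat.card G = m →
    Group.IsSolvable G → ∀ k : ℕ, (cdSet G).ncard ≤ k + 1 →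
    ∃ N : Fin (k + 2) → Subgroup G, N 0 = ⊥ ∧ N (Fin.last (k + 1)) = ⊤ ∧ Monotone N ∧
      (∀ i, (N i).Normal) ∧
      ∀ i : Fin (k + 1), ∀ h : ((N i.castSucc).subgroupOf (N i.succ)).Normal,
        Group.IsNilpotent (↥(N i.succ) ⧸ (N i.castSucc).subgroupOf (N i.succ)) := by
  intro m
  induction m using Nat.strong_induction_on with
  | _ m ih =>
    intro G _ _ hcard hsolv k hk
    by_cases hF : Cfsg.fittingSubgroup G = ⊤
    · -- G is nilpotent
      have hnilF := fittingSubgroup_isNilpotent G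
      rw [hF] at hnilF
      have hnilG : Group.IsNilpotent G := Group.nilpotent_of_mulEquiv Subgroup.topEquiv
      refine ⟨Fin.cons ⊥ (fun _ => ⊤), Fin.cons_zero _ _, ?_, ?_, ?_, ?_⟩
      · rw [← Fin.succ_last, Fin.cons_succ]
      · rw [Fin.monotone_iff_le_succ]
        intro i
        rw [Fin.cons_succ]
        exact le_top
      · intro i
        refine Fin.cases ?_ (fun j => ?_) i
        · rw [Fin.cons_zero]; infer_instance
        · rw [Fin.cons_succ]; infer_instance
      · intro i h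
        apply isNilpotent_quot_of_isNilpotent
        infer_instance
    · -- the Fitting quotient has fewer degrees
      have hFn := fittingSubgroup_normal G
      have hnt : Nontrivial G := by
        by_contra hnt
        rw [not_nontrivial_iff_subsingleton] at hnt
        exact hF (Subsingleton.elim _ _)
      have hFbot := fittingSubgroup_ne_bot G hsolv
      have hlt : Nat.card (G ⧸ Cfsg.fittingSubgroup G) < m := by
        have h1 := Subgroup.card_eq_card_quotient_mul_card_subgroup (Cfsg.fittingSubgroup G)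
        have h2 : 1 < Nat.card (Cfsg.fittingSubgroup G) :=
          (Subgroup.one_lt_card_iff_ne_bot _).mpr hFbot
        have h3 : 0 < Nat.card (G ⧸ Cfsg.fittingSubgroup G) := Nat.card_pos
        rw [← hcard, h1]
        nlinarith
      have hss := cdSet_quotient_fitting_ssubset G hsolv hF
      have hlt2 := Set.ncard_lt_ncard hss (cdSet_finite G)
      have hpos : 0 < (cdSet (G ⧸ Cfsg.fittingSubgroup G)).ncard :=
        (Set.ncard_pos (cdSet_finite _)).mpr (cdSet_nonempty _)
      obtain ⟨k', rfl⟩ : ∃ k', k = k' + 1 := ⟨k - 1, by omega⟩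
      have hk' : (cdSet (G ⧸ Cfsg.fittingSubgroup G)).ncard ≤ k' + 1 := by omega
      obtain ⟨Nb, hNb0, hNbl, hNbm, hNbn, hNbq⟩ :=
        ih _ hlt (G ⧸ Cfsg.fittingSubgroup G) rfl inferInstance k' hk'
      refine ⟨Fin.cons ⊥ (fun i => (Nb i).comap (QuotientGroup.mk' (Cfsg.fittingSubgroup G))),
        Fin.cons_zero _ _, ?_, ?_, ?_, ?_⟩
      · rw [← Fin.succ_last, Fin.cons_succ, hNbl, Subgroup.comap_top]
      · rw [Fin.monotone_iff_le_succ]
        intro i
        refine Fin.cases ?_ (fun j => ?_) i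
        · rw [Fin.castSucc_zero, Fin.cons_zero]; exact bot_le
        · rw [← Fin.succ_castSucc, Fin.cons_succ, Fin.cons_succ]
          exact Subgroup.comap_mono (Fin.monotone_iff_le_succ.mp hNbm j)
      · intro i
        refine Fin.cases ?_ (fun j => ?_) i
        · rw [Fin.cons_zero]; infer_instance
        · rw [Fin.cons_succ]
          have := hNbn j
          infer_instance
      · intro i
        refine Fin.cases ?_ (fun j => ?_) i
        · intro h
          apply isNilpotent_quot_of_isNilpotent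
          rw [Fin.cons_succ, hNb0, MonoidHom.comap_bot, QuotientGroup.ker_mk']
          exact fittingSubgroup_isNilpotent G
        · have := hNbn j.castSucc
          have h' : ((Nb j.castSucc).subgroupOf (Nb j.succ)).Normal := inferInstance
          apply isNilpotent_quot_step (QuotientGroup.mk' (Cfsg.fittingSubgroup G)) _ _
            (Nb j.castSucc) (Nb j.succ) _ _ h' (hNbq j h')
          · rw [← Fin.succ_castSucc, Fin.cons_succ]
          · rw [Fin.cons_succ]

/-- Garrison's theorem in the form of the statement -/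
theorem garrison {G : Type u} [Group G] [Finite G] (hsolv : Group.IsSolvable G) (n : ℕ)
    (hcd : Nat.card {d : ℕ // ∃ χ : IrrCharacter G, charDegree (χ : G → ℂ) = d} = n) :
    ∃ N : Fin (n + 1) → Subgroup G, N 0 = ⊥ ∧ N (Fin.last n) = ⊤ ∧ Monotone N ∧
      (∀ i, (N i).Normal) ∧
      ∀ i : Fin n, ∀ h : (N i.castSucc).subgroupOf (N i.succ) |>.Normal,
        Group.IsNilpotent (↥(N i.succ) ⧸ (N i.castSucc).subgroupOf (N i.succ)) := by
  rw [card_cd_eq] at hcd
  have hpos : 0 < (cdSet G).ncard := (Set.ncard_pos (cdSet_finite G)).mpr (cdSet_nonempty G)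
  obtain ⟨k, rfl⟩ : ∃ k, n = k + 1 := ⟨n - 1, by omega⟩
  exact garrison_aux _ G rfl hsolv k hcd.le

end Cfsg.Agent.Lib.Helper21.BG
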