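/-
helper21: S4503 PART H leaf BRH-CNT (`count_le`): at least half of the non-trivial non-exceptional characters of
the principal block have sign `-1`.
-/
import Mathlib
import Cfsg.Prelude.Def_BlockRank
import Cfsg.Agent.Lib.Helper6.BRHDefs

set_option autoImplicit false

namespace Cfsg.Agent.Lib.Helper21.BRHCNT

open Cfsg Cfsg.Agent.Lib.Helper8.DOM Cfsg.Agent.Lib.Helper27.DO Cfsg.Agent.CharLib
open Cfsg.Agent.Lib.Helper6.BRH
open scoped ComplexConjugate

universe u

variable {G : Type u} [Group G] [Finite G] {p : ℕ} [Fact p.Prime] {M : Ideal AlgInt}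

omit [Finite G] in
theorem charDegree_trivIrr : charDegree ((trivIrr G : IrrCharacter G) : G → ℂ) = 1 := by
  apply charDegree_eq_of_apply_one
  show (1 : G → ℂ) 1 = ((1 : ℕ) : ℂ)
  simp

/-- CNT : at least half of the non-trivial non-exceptional characters have sign `-1`. -/
theorem count_le (P : Subgroup G) (hP : Nat.card P = p) {X Y : Set (IrrCharacter G)}
    {v : IrrCharacter G → ℤ} {ε : ℤ} (d : B0 p P X Y v ε)
    (hf : (Cz P).relIndex (Nz P) < p - 1)
    (hYdeg : ε = 1 → ∀ ψ0 ∈ Y, charDegree (ψ0 : G → ℂ) = (Cz P).relIndex (Nz P))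
    (hminus : ∀ η ∈ X, v η = -1 → charDegree (η : G → ℂ) = p - 1)
    (hplus : ∀ η ∈ X, v η = 1 → η ≠ trivIrr G → p + 1 ≤ charDegree (η : G → ℂ)) :
    (Cz P).relIndex (Nz P) ≤ 2 * Nat.card {η : IrrCharacter G | η ∈ X ∧ v η = -1} + 1 := by
  classical
  have hp : p.Prime := Fact.out
  set f := (Cz P).relIndex (Nz P) with hfdef
  -- `Y` is nonempty
  have hfpos : 0 < f := by
    rcases Nat.eq_zero_or_pos f with h0 | h0
    · have := d.dvd
      rw [← hfdef, h0, zero_dvd_iff] at this
      have := hp.two_le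
      omega
    · exact h0
  have hYcard : 0 < Nat.card Y := by
    rw [d.cardY]
    exact Nat.div_pos (Nat.le_of_dvd (by have := hp.two_le; omega) d.dvd) hfpos
  have hYne : Y.Nonempty := by
    by_contra hne
    rw [Set.not_nonempty_iff_eq_empty] at hne
    rw [hne] at hYcard
    simp at hYcard
  obtain ⟨ψ0, hψ0⟩ := hYne
  -- `v 1 = 1`
  have hv1 : v (trivIrr G) = 1 := by
    have hdvd : p ∣ Nat.card P := by rw [hP]
    obtain ⟨x, hx⟩ := exists_prime_orderOf_dvd_card' p hdvd
    have hxo : p ∣ orderOf ((x : P) : G) := by rw [Subgroup.orderOf_coe, hx]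
    have h1 := d.valX (trivIrr G) d.trivX (x : G) hxo
    have h2 : ((trivIrr G : IrrCharacter G) : G → ℂ) (x : G) = 1 := rfl
    rw [h2] at h1
    exact_mod_cast h1.symm
  -- the upper bound
  have hup : ε * (charDegree (ψ0 : G → ℂ) : ℤ) ≤ (f : ℤ) := by
    rcases d.sgn with h1 | h1
    · rw [hYdeg h1 ψ0 hψ0, h1, one_mul]
    · rw [h1]
      have : (0 : ℤ) ≤ (charDegree (ψ0 : G → ℂ) : ℤ) := Int.natCast_nonneg _
      have : (0 : ℤ) ≤ (f : ℤ) := Int.natCast_nonneg _
      linarith
  -- the sum over `X`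
  have hX : (X : Set (IrrCharacter G)).Finite := Set.toFinite X
  have hsum : ∑ᶠ η ∈ X, v η * (charDegree (η : G → ℂ) : ℤ) =
      ∑ η ∈ hX.toFinset, v η * (charDegree (η : G → ℂ) : ℤ) :=
    finsum_mem_eq_finite_toFinset_sum _ hX
  have hcX : Nat.card X = f := d.cardX
  have hcardX : hX.toFinset.card = f := by
    rw [← hcX, Nat.card_coe_set_eq, Set.ncard_eq_toFinset_card X hX]
  have hA : {η : IrrCharacter G | η ∈ X ∧ v η = -1} =
      ↑(hX.toFinset.filter (fun η => v η = -1)) := by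
    ext η
    simp
  have hcardA : Nat.card {η : IrrCharacter G | η ∈ X ∧ v η = -1} =
      (hX.toFinset.filter (fun η => v η = -1)).card := by
    rw [hA, Nat.card_coe_set_eq, Set.ncard_coe_finset]
  have hterm : ∀ η ∈ hX.toFinset, ((p : ℤ) + 1) - (p : ℤ) * (if η = trivIrr G then 1 else 0)
      - 2 * (p : ℤ) * (if v η = -1 then 1 else 0) ≤ v η * (charDegree (η : G → ℂ) : ℤ) := by
    intro η hη
    have hηX : η ∈ X := (Set.Finite.mem_toFinset hX).mp hη
    by_cases ht : η = trivIrr G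
    · rw [if_pos ht, ht, hv1, if_neg (by norm_num), charDegree_trivIrr]
      push_cast
      linarith
    · rw [if_neg ht]
      rcases d.sgnX η hηX with h1 | h1
      · rw [h1, if_neg (by norm_num)]
        have := hplus η hηX h1 ht
        have : ((p : ℤ) + 1) ≤ (charDegree (η : G → ℂ) : ℤ) := by exact_mod_cast this
        linarith
      · rw [h1, if_pos rfl, hminus η hηX h1]
        have h2 := hp.two_le
        push_cast [Nat.cast_sub (by omega : 1 ≤ p)]
        linarith
  have hlow := Finset.sum_le_sum hterm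
  rw [Finset.sum_sub_distrib, Finset.sum_sub_distrib, Finset.sum_const, ← Finset.mul_sum,
    ← Finset.mul_sum, Finset.sum_ite_eq' , if_pos ((Set.Finite.mem_toFinset hX).mpr d.trivX),
    Finset.sum_boole, hcardX, ← hcardA, ← hsum, ← d.degY ψ0 hψ0] at hlow
  have hp2 : (2 : ℤ) ≤ (p : ℤ) := by exact_mod_cast hp.two_le
  set a := Nat.card {η : IrrCharacter G | η ∈ X ∧ v η = -1} with hadef
  have hkey : (p : ℤ) * ((f : ℤ) - 1) ≤ (p : ℤ) * (2 * (a : ℤ)) := by
    simp only [nsmul_eq_mul] at hlow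
    nlinarith
  have h3 : (f : ℤ) - 1 ≤ 2 * (a : ℤ) := le_of_mul_le_mul_left hkey (by linarith)
  omega

end Cfsg.Agent.Lib.Helper21.BRHCNT
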