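/-
helper21: S4503 PART H leaf BRH-DEGREL (`degY_rel`): the degree relation `ε ψ0(1) = ∑_X v η(1)` in `ℤ`.
-/
import Mathlib
import Cfsg.Prelude.Def_BlockRank
import Cfsg.Agent.Lib.Helper6.BRHDefs

set_option autoImplicit false

namespace Cfsg.Agent.Lib.Helper21.BRHDEGREL

open Cfsg Cfsg.Agent.Lib.Helper8.DOM Cfsg.Agent.Lib.Helper27.DO Cfsg.Agent.CharLib
open Cfsg.Agent.Lib.Helper6.BRH
open scoped ComplexConjugate

universe u

variable {G : Type u} [Group G] [Finite G] {p : ℕ} [Fact p.Prime] {M : Ideal AlgInt}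

/-- DEGREL : the degree relation `ε ψ0(1) = ∑_X v η(1)` in `ℤ`. -/
theorem degY_rel (X Y : Set (IrrCharacter G)) (v : IrrCharacter G → ℤ) (ε : ℤ)
    (hrel : ∀ ψ ∈ Y, ∀ g : G, ¬ p ∣ orderOf g →
      (ε : ℂ) * (ψ : G → ℂ) g = ∑ᶠ χ ∈ X, (v χ : ℂ) * (χ : G → ℂ) g) :
    ∀ ψ0 ∈ Y, ε * (charDegree (ψ0 : G → ℂ) : ℤ) =
      ∑ᶠ η ∈ X, v η * (charDegree (η : G → ℂ) : ℤ) := by
  intro ψ0 hψ0
  have h1 : ¬ p ∣ orderOf (1 : G) := by
    rw [orderOf_one]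
    exact (Fact.out : p.Prime).one_lt.ne' ∘ Nat.dvd_one.mp
  have h := hrel ψ0 hψ0 1 h1
  have hX : (X : Set (IrrCharacter G)).Finite := Set.toFinite X
  have hcast : ((∑ᶠ η ∈ X, v η * (charDegree (η : G → ℂ) : ℤ) : ℤ) : ℂ) =
      ∑ᶠ χ ∈ X, (v χ : ℂ) * (χ : G → ℂ) 1 := by
    have h2 := (Int.castAddHom ℂ).map_finsum_mem
      (fun η : IrrCharacter G => v η * (charDegree (η : G → ℂ) : ℤ)) hX
    simp only [Int.coe_castAddHom] at h2
    rw [h2]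
    apply finsum_mem_congr rfl
    intro χ _
    rw [apply_one_eq]
    push_cast
    rfl
  apply Int.cast_injective (α := ℂ)
  rw [hcast, ← h, apply_one_eq]
  push_cast
  rfl

end Cfsg.Agent.Lib.Helper21.BRHDEGREL
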