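/-
helper21: S4503 PART H leaf BRH-PFIX (`psum_constituent`): a constituent of `Λ = ψ ψ̄'` has no `P`-fixed points
when `∑_{x∈P} Λ(x) = 0`.
-/
import Mathlib
import Cfsg.Prelude.Def_BlockRank
import Cfsg.Agent.Lib.Helper6.BRHDefs
import Cfsg.Agent.Lib.Helper6.DefectOrder

set_option autoImplicit false

namespace Cfsg.Agent.Lib.Helper21.BRHPFIX

open Cfsg Cfsg.Agent.Lib.Helper8.DOM Cfsg.Agent.Lib.Helper27.DO Cfsg.Agent.CharLib
open Cfsg.Agent.Lib.Helper6.BRH
open scoped ComplexConjugate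

universe u

variable {G : Type u} [Group G] [Finite G] {p : ℕ} [Fact p.Prime] {M : Ideal AlgInt}

omit [Finite G] in
theorem finsum_mem_subgroup (P : Subgroup G) [Fintype P] (F : G → ℂ) :
    ∑ᶠ x ∈ (P : Set G), F x = ∑ u : P, F (u : G) := by
  rw [← finsum_set_coe_eq_finsum_mem (P : Set G)]
  exact finsum_eq_sum_of_fintype (fun u : P => F (u : G))

/-- PFIX : a constituent of `Λ = ψ ψ̄'` has no `P`-fixed points. -/
theorem psum_constituent (P : Subgroup G) (ψ ψ' : IrrCharacter G) (mL : IrrCharacter G → ℕ)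
    (hL : (fun g => (ψ : G → ℂ) g * conj ((ψ' : G → ℂ) g)) =
      ∑ᶠ η : IrrCharacter G, mL η • (η : G → ℂ))
    (hP0 : ∑ᶠ x ∈ (P : Set G), (ψ : G → ℂ) x * conj ((ψ' : G → ℂ) x) = 0) :
    ∀ ζ : IrrCharacter G, mL ζ ≠ 0 → ∑ᶠ x ∈ (P : Set G), (ζ : G → ℂ) x = 0 := by
  classical
  let _ : Fintype G := Fintype.ofFinite _
  let _ : Fintype (IrrCharacter G) := Fintype.ofFinite _
  let _ : Fintype P := Fintype.ofFinite _
  -- the sums over `P` are natural multiples of `|P|`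
  have hn : ∀ η : IrrCharacter G, ∃ n : ℕ, ∑ u : P, (η : G → ℂ) (u : G) = (Nat.card P : ℂ) * (n : ℂ) :=
    fun η => Cfsg.Agent.Lib.Helper6.exists_sum_subgroup_eq (η : G → ℂ)
      (IsIrrCharacter.isCharacter η.2) P
  choose n hn using hn
  -- pointwise decomposition of `Λ`
  have hpt : ∀ g : G, (ψ : G → ℂ) g * conj ((ψ' : G → ℂ) g) =
      ∑ η : IrrCharacter G, (mL η : ℂ) * (η : G → ℂ) g := by
    intro g
    have h1 := congrFun hL g
    rw [finsum_eq_sum_of_fintype, Finset.sum_apply] at h1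
    rw [h1]
    apply Finset.sum_congr rfl
    intro η _
    rw [Pi.smul_apply, nsmul_eq_mul]
  rw [finsum_mem_subgroup] at hP0
  have h2 : ∑ u : P, (ψ : G → ℂ) (u : G) * conj ((ψ' : G → ℂ) (u : G)) =
      ((∑ η : IrrCharacter G, mL η * (Nat.card P * n η) : ℕ) : ℂ) := by
    simp_rw [hpt]
    rw [Finset.sum_comm]
    push_cast
    apply Finset.sum_congr rfl
    intro η _
    rw [← Finset.mul_sum, hn η]
  rw [h2] at hP0
  have h3 : ∑ η : IrrCharacter G, mL η * (Nat.card P * n η) = 0 := by exact_mod_cast hP0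
  intro ζ hζ
  have h4 : mL ζ * (Nat.card P * n ζ) = 0 :=
    (Finset.sum_eq_zero_iff.mp h3) ζ (Finset.mem_univ ζ)
  have h5 : Nat.card P * n ζ = 0 := by
    rcases Nat.mul_eq_zero.mp h4 with h | h
    · exact absurd h hζ
    · exact h
  rw [finsum_mem_subgroup, hn ζ]
  exact_mod_cast h5

end Cfsg.Agent.Lib.Helper21.BRHPFIX
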