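/-
helper21: S4503 PART H leaf BRH-Y0 (`degY_of_pos`): if `ε = 1` the exceptional characters of the principal block
have degree `f = |N : C|`.
-/
import Mathlib
import Cfsg.Prelude.Def_BlockRank
import Cfsg.Agent.Lib.Helper6.BRHDefs

set_option autoImplicit false

namespace Cfsg.Agent.Lib.Helper21.BRHY0

open Cfsg Cfsg.Agent.Lib.Helper8.DOM Cfsg.Agent.Lib.Helper27.DO Cfsg.Agent.CharLib
open Cfsg.Agent.Lib.Helper6.BRH
open scoped ComplexConjugate

universe u

variable {G : Type u} [Group G] [Finite G] {p : ℕ} [Fact p.Prime] {M : Ideal AlgInt}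

/-- Y0 : if `ε = 1` the exceptional characters have degree `f`. -/
theorem degY_of_pos (P : Subgroup G) (hP : Nat.card P = p) {X Y : Set (IrrCharacter G)}
    {v : IrrCharacter G → ℤ} {ε : ℤ} (d : B0 p P X Y v ε) (hε : ε = 1)
    (mA mL : IrrCharacter G → ℕ)
    (hY : ∑ᶠ η ∈ Y, ((mA η : ℤ) - (mL η : ℤ)) = -ε)
    (hfix : ∀ ζ : IrrCharacter G, mL ζ ≠ 0 → ∑ᶠ x ∈ (P : Set G), (ζ : G → ℂ) x = 0) :
    ∀ ψ0 ∈ Y, charDegree (ψ0 : G → ℂ) = (Cz P).relIndex (Nz P) := by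
  classical
  -- a member of `Y` occurring in `Λ`
  have hex : ∃ ψ1 ∈ Y, mL ψ1 ≠ 0 := by
    by_contra hcon
    push Not at hcon
    have hnn : 0 ≤ ∑ᶠ η ∈ Y, ((mA η : ℤ) - (mL η : ℤ)) := by
      apply finsum_nonneg
      intro η
      apply finsum_nonneg
      intro hη
      rw [hcon η hη]
      simp
    rw [hY, hε] at hnn
    omega
  obtain ⟨ψ1, hψ1, hm1⟩ := hex
  -- its degree is `f`
  have hsplit : (P : Set G) = insert (1 : G) {x : G | x ∈ P ∧ x ≠ 1} := by
    ext x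
    simp only [SetLike.mem_coe, Set.mem_insert_iff, Set.mem_ofPred_eq]
    constructor
    · intro hx
      by_cases h1 : x = 1
      · exact Or.inl h1
      · exact Or.inr ⟨hx, h1⟩
    · rintro (h1 | ⟨hx, _⟩)
      · rw [h1]; exact P.one_mem
      · exact hx
  have h1 := hfix ψ1 hm1
  rw [hsplit, finsum_mem_insert _ (by simp) (Set.toFinite _), d.psumY ψ1 hψ1, hε, apply_one_eq] at h1
  have hdeg1 : charDegree (ψ1 : G → ℂ) = (Cz P).relIndex (Nz P) := by
    have h2 : ((charDegree (ψ1 : G → ℂ) : ℕ) : ℂ) = (((Cz P).relIndex (Nz P) : ℕ) : ℂ) := by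
      push_cast at h1 ⊢
      linear_combination h1
    exact_mod_cast h2
  -- all of `Y` have the same degree
  intro ψ0 hψ0
  have e0 := d.degY ψ0 hψ0
  have e1 := d.degY ψ1 hψ1
  rw [hε, one_mul] at e0 e1
  have : (charDegree (ψ0 : G → ℂ) : ℤ) = (charDegree (ψ1 : G → ℂ) : ℤ) := e0.trans e1.symm
  rw [← hdeg1]
  exact_mod_cast this

end Cfsg.Agent.Lib.Helper21.BRHY0
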