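import Mathlib
import Cfsg.Prelude.Def_Characters
import Cfsg.Agent.Lib.Helper24.BSWDefs
import Cfsg.Agent.Lib.Helper1.BSWCDefs
import Cfsg.Agent.Lib.Helper10.PowTwistChar

/-!
# S3282 (Brauer-Suzuki-Wall), batch 2, leaf E4: `pairCount y = invCount y` off the involutions
-/

set_option autoImplicit false
open Cfsg Cfsg.Agent.Lib.Helper24.BSW Cfsg.Agent.CharLib Cfsg.Agent.Lib.Helper1.BSWC
open scoped ComplexConjugate

namespace Cfsg.Agent.Lib.Helper21.BSWCE4

universe u

variable {G : Type u} [Group G] [Fintype G]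

omit [Fintype G] in
theorem mul_self_of_orderOf_two {u : G} (hu : orderOf u = 2) : u * u = 1 := by
  have := pow_orderOf_eq_one u
  rwa [hu, pow_two] at this

omit [Fintype G] in
theorem inv_eq_self_of_orderOf_two {u : G} (hu : orderOf u = 2) : u⁻¹ = u :=
  inv_eq_of_mul_eq_one_right (mul_self_of_orderOf_two hu)

omit [Fintype G] in
/-- **E4** -/
theorem pairCount_eq_invCount [Finite G] (y : G) (hy : orderOf y ≠ 2) : pairCount y = invCount y := by
  unfold pairCount invCount
  apply Nat.card_congr
  refine ⟨fun p => ⟨p.1.1, p.2.1, ?_⟩, fun u => ⟨(u.1, u.1⁻¹ * y), u.2.1, ?_, ?_⟩, ?_, ?_⟩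
  · -- `u y u⁻¹ = y⁻¹`
    obtain ⟨⟨u, v⟩, hu, hv, huv⟩ := p
    simp only at hu hv huv ⊢
    have hui := inv_eq_self_of_orderOf_two hu
    have hvi := inv_eq_self_of_orderOf_two hv
    rw [← huv, mul_inv_rev, hui, hvi]
    calc u * (u * v) * u = (u * u) * v * u := by group
      _ = v * u := by rw [mul_self_of_orderOf_two hu, one_mul]
  · -- `u⁻¹ y` is an involution
    obtain ⟨u, hu, huy⟩ := u
    simp only
    have huu := mul_self_of_orderOf_two hu
    have hui := inv_eq_self_of_orderOf_two hu
    apply orderOf_eq_prime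
    · rw [pow_two, hui]
      have h1 : y * u = u * y⁻¹ := by
        calc y * u = u * (u * y * u⁻¹)⁻¹⁻¹ * u * u := by
              rw [inv_inv, hui]
              calc y * u = (u * u) * y * (u * u) * u := by rw [huu]; group
                _ = u * (u * y * u) * u * u := by group
          _ = u * y⁻¹ * (u * u) := by rw [huy, inv_inv]; group
          _ = u * y⁻¹ := by rw [huu, mul_one]
      calc u * y * (u * y) = u * (y * u) * y := by group
        _ = u * (u * y⁻¹) * y := by rw [h1]
        _ = (u * u) := by group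
        _ = 1 := huu
    · intro h1
      apply hy
      have : y = u := by
        calc y = u * (u⁻¹ * y) := by group
          _ = u := by rw [h1, mul_one]
      rw [this]
      exact hu
  · obtain ⟨u, hu, huy⟩ := u
    simp
  · rintro ⟨⟨u, v⟩, hu, hv, huv⟩
    apply Subtype.ext
    simp only
    rw [← huv]
    simp
  · rintro ⟨u, hu, huy⟩
    rfl

end Cfsg.Agent.Lib.Helper21.BSWCE4
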