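import Mathlib
import Cfsg.Prelude.Def_Characters
import Cfsg.Agent.Lib.Helper24.BSWDefs
import Cfsg.Agent.Lib.Helper1.BSWCDefs
import Cfsg.Agent.Lib.Helper10.PowTwistChar
import Cfsg.Agent.Lib.Helper21.BSWCE4
import Cfsg.Agent.Lib.Helper16.BSWB1
import Cfsg.Agent.Lib.Helper16.BSWB2
import Cfsg.Agent.Lib.Helper16.BSWB3
import Cfsg.Agent.Lib.Helper5.BSWB4

/-!
# S3282 (Brauer-Suzuki-Wall), batch 2, leaf E1: `pairCount = |K|` on `KK`
-/

set_option autoImplicit false
open Cfsg Cfsg.Agent.Lib.Helper24.BSW Cfsg.Agent.CharLib Cfsg.Agent.Lib.Helper1.BSWC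
open scoped ComplexConjugate

namespace Cfsg.Agent.Lib.Helper21.BSWCE1

open Cfsg.Agent.Lib.Helper21.BSWCE4

universe u

variable {G : Type u} [Group G] [Fintype G]

omit [Fintype G] in
theorem orderOf_conj_eq (c a : G) : orderOf (c * a * c⁻¹) = orderOf a :=
  (MulAut.conj c).orderOf_eq a

omit [Fintype G] in
theorem orderOf_conj_eq' (c a : G) : orderOf (c⁻¹ * a * c) = orderOf a := by
  simpa using orderOf_conj_eq c⁻¹ a

omit [Fintype G] in
/-- `pairCount` is a class function -/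
theorem pairCount_conj (x g : G) : pairCount (x * g * x⁻¹) = pairCount g := by
  unfold pairCount
  apply Nat.card_congr
  refine ⟨fun p => ⟨(x⁻¹ * p.1.1 * x, x⁻¹ * p.1.2 * x), ?_, ?_, ?_⟩,
    fun p => ⟨(x * p.1.1 * x⁻¹, x * p.1.2 * x⁻¹), ?_, ?_, ?_⟩, ?_, ?_⟩
  · simp only; rw [orderOf_conj_eq']; exact p.2.1
  · simp only; rw [orderOf_conj_eq']; exact p.2.2.1
  · simp only
    calc x⁻¹ * p.1.1 * x * (x⁻¹ * p.1.2 * x) = x⁻¹ * (p.1.1 * p.1.2) * x := by group
      _ = x⁻¹ * (x * g * x⁻¹) * x := by rw [p.2.2.2]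
      _ = g := by group
  · simp only; rw [orderOf_conj_eq]; exact p.2.1
  · simp only; rw [orderOf_conj_eq]; exact p.2.2.1
  · simp only
    calc x * p.1.1 * x⁻¹ * (x * p.1.2 * x⁻¹) = x * (p.1.1 * p.1.2) * x⁻¹ := by group
      _ = x * g * x⁻¹ := by rw [p.2.2.2]
  · rintro ⟨⟨u, v⟩, hu, hv, huv⟩
    apply Subtype.ext
    simp only
    ext <;> simp only <;> group
  · rintro ⟨⟨u, v⟩, hu, hv, huv⟩
    apply Subtype.ext
    simp only
    ext <;> simp only <;> group

/-- the count for `1 ≠ g ∈ K` -/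
theorem pairCount_of_mem_K {t s : G} {K : Subgroup G} (h : Hyp t s K) (g : G) (hgK : g ∈ K)
    (hg1 : g ≠ 1) : pairCount g = Nat.card K := by
  have hB1 := (Cfsg.Agent.Lib.Helper16.BSWB1.card_centralizer h).1
  have hB2 := Cfsg.Agent.Lib.Helper16.BSWB2.eq_t_of_mem h
  have hB3 := Cfsg.Agent.Lib.Helper16.BSWB3.mem_cent_cases h
  have hB4 := Cfsg.Agent.Lib.Helper5.BSWB4.conj_mem_cent h
  have hcount : Nat.card {u : G // u ∈ Subgroup.centralizer ({t} : Set G) ∧ u ∉ K} = Nat.card K := by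
    have h1 : Nat.card {u : G // u ∈ Subgroup.centralizer ({t} : Set G) ∧ u ∉ K} =
        (((Subgroup.centralizer ({t} : Set G) : Subgroup G) : Set G) \ (K : Set G)).ncard := rfl
    rw [h1, Set.ncard_sdiff (fun x hx => h.hKH hx)]
    have h2 : ((Subgroup.centralizer ({t} : Set G) : Subgroup G) : Set G).ncard =
        Nat.card (Subgroup.centralizer ({t} : Set G)) := rfl
    have h3 : (K : Set G).ncard = Nat.card K := rfl
    rw [h2, h3, hB1]
    omega
  rw [← hcount]
  unfold pairCount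
  apply Nat.card_congr
  refine ⟨fun p => ⟨p.1.1, ?_, ?_⟩, fun u => ⟨(u.1, u.1⁻¹ * g), ?_, ?_, ?_⟩, ?_, ?_⟩
  · -- `u ∈ C(t)`
    obtain ⟨⟨u, v⟩, hu, hv, huv⟩ := p
    simp only at hu hv huv ⊢
    have hui := inv_eq_self_of_orderOf_two hu
    have hvi := inv_eq_self_of_orderOf_two hv
    have hinv : u * g * u⁻¹ = g⁻¹ := by
      rw [← huv, mul_inv_rev, hui, hvi]
      calc u * (u * v) * u = (u * u) * v * u := by group
        _ = v * u := by rw [mul_self_of_orderOf_two hu, one_mul]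
    exact hB4 u g hgK hg1 (by rw [hinv]; exact K.inv_mem hgK)
  · -- `u ∉ K`
    obtain ⟨⟨u, v⟩, hu, hv, huv⟩ := p
    simp only at hu hv huv ⊢
    intro huK
    have hut := hB2 u huK hu
    have hvK : v ∈ K := by
      have : v = u⁻¹ * g := by rw [← huv]; group
      rw [this]
      exact K.mul_mem (K.inv_mem huK) hgK
    have hvt := hB2 v hvK hv
    apply hg1
    rw [← huv, hut, hvt]
    have := mul_self_of_orderOf_two h.ht
    exact this
  · exact (by
      obtain ⟨u, huH, huK⟩ := u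
      rcases hB3 u huH with hK | ⟨_, h2, _⟩
      · exact absurd hK huK
      · exact h2)
  · -- `u⁻¹ g` is an involution
    obtain ⟨u, huH, huK⟩ := u
    simp only
    rcases hB3 u huH with hK | ⟨_, hu, hinvK⟩
    · exact absurd hK huK
    · have hui := inv_eq_self_of_orderOf_two hu
      have huu := mul_self_of_orderOf_two hu
      have hinv := hinvK g hgK
      rw [hui] at hinv ⊢
      apply orderOf_eq_prime
      · rw [pow_two]
        calc u * g * (u * g) = (u * g * u) * g := by group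
          _ = g⁻¹ * g := by rw [hinv]
          _ = 1 := inv_mul_cancel g
      · intro h1
        apply huK
        have : u = g⁻¹ := eq_inv_of_mul_eq_one_left h1
        rw [this]
        exact K.inv_mem hgK
  · obtain ⟨u, huH, huK⟩ := u
    simp
  · rintro ⟨⟨u, v⟩, hu, hv, huv⟩
    apply Subtype.ext
    simp only
    rw [← huv]
    simp
  · rintro ⟨u, huH, huK⟩
    rfl

/-- **E1** -/
theorem pairCount_of_mem_KK {t s : G} {K : Subgroup G} (h : Hyp t s K) (g : G) (hg : g ∈ KK K) :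
    pairCount g = Nat.card K := by
  obtain ⟨hg1, x, hx⟩ := hg
  rw [← pairCount_conj x g]
  apply pairCount_of_mem_K h _ hx
  intro h1
  apply hg1
  calc g = x⁻¹ * (x * g * x⁻¹) * x := by group
    _ = 1 := by rw [h1]; group

end Cfsg.Agent.Lib.Helper21.BSWCE1
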