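/-
helper21: S0997 (Brauer-Tuan), the degree step for the case `t = 2`, `ε = -1`, `w = 1`:
if `ξ ≠ ξ'` are irreducible characters that agree on the `p`-regular elements and have exactly one common
constituent on `P` (`∑_{x ∈ P} ξ(x) conj ξ'(x) = p`), then every irreducible `η` which is `-1` on the `p`-singular
elements, of degree `u p - 1`, has `u ≤ 2`.   (`Φ`-trick: `⟨ξ conj ξ', η⟩ ≥ 1`; `P`-average of `ξ conj ξ'` is `1`.)
-/
import Mathlib
import Cfsg.Agent.Lib.Helper6.BRHDefs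
import Cfsg.Agent.Lib.Helper6.BRHPHI
import Cfsg.Agent.Lib.Helper6.CharExtra
import Cfsg.Agent.Lib.Helper5.BRCSPEC
import Cfsg.Agent.Lib.Lead.CharDecomp

set_option autoImplicit false
set_option linter.unusedSectionVars false

namespace Cfsg.Agent.Lib.Helper21.BTDEG

open Cfsg Cfsg.Agent.CharLib Cfsg.Agent.Lib.Helper6.BRH Cfsg.Agent.Lib.Helper24.BRC
open scoped ComplexConjugate

universe u

variable {G : Type u} [Group G] [Finite G] {p : ℕ} [Fact p.Prime]

/-- a non-identity element of a subgroup of order `p` is `p`-singular -/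
theorem dvd_orderOf_of_mem (P : Subgroup G) (hP : Nat.card P = p) {x : G} (hx : x ∈ P) (hx1 : x ≠ 1) :
    p ∣ orderOf x := by
  have hpp : p.Prime := Fact.out
  have h1 : orderOf (⟨x, hx⟩ : P) ∣ Nat.card P := orderOf_dvd_natCard _
  rw [hP, Subgroup.orderOf_mk] at h1
  rcases (Nat.dvd_prime hpp).mp h1 with h | h
  · exact absurd (orderOf_eq_one_iff.mp h) hx1
  · rw [h]

/-- the sum over `P` of a class function that is `c` on `P \ 1` -/
theorem sum_P_eq (P : Subgroup G) (hP : Nat.card P = p) (F : G → ℂ) (c : ℂ)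
    (hF : ∀ x ∈ P, x ≠ 1 → F x = c) :
    ∑ᶠ x ∈ (P : Set G), F x = F 1 + ((p : ℂ) - 1) * c := by
  classical
  let _ : Fintype G := Fintype.ofFinite G
  have hfin : (P : Set G).Finite := Set.toFinite _
  rw [finsum_mem_eq_finite_toFinset_sum _ hfin]
  have h1 : (1 : G) ∈ hfin.toFinset := by
    rw [Set.Finite.mem_toFinset]; exact P.one_mem
  rw [← Finset.add_sum_erase _ _ h1]
  congr 1
  have h2 : ∀ x ∈ hfin.toFinset.erase 1, F x = c := by
    intro x hx
    rw [Finset.mem_erase, Set.Finite.mem_toFinset] at hx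
    exact hF x hx.2 hx.1
  rw [Finset.sum_congr rfl h2, Finset.sum_const, Finset.card_erase_of_mem h1]
  have h3 : hfin.toFinset.card = p := by
    rw [← Set.ncard_eq_toFinset_card (P : Set G) hfin, ← Nat.card_coe_set_eq]
    exact hP
  rw [h3, nsmul_eq_mul]
  have hpp : p.Prime := Fact.out
  have : ((p - 1 : ℕ) : ℂ) = (p : ℂ) - 1 := by
    rw [Nat.cast_sub hpp.one_lt.le]; simp
  rw [this]

/-- **BT-DEG**: the `Φ`-trick and the `P`-average. -/
theorem u_le_two (P : Subgroup G) (hP : Nat.card P = p)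
    (ξ ξ' : IrrCharacter G) (hne : ξ ≠ ξ')
    (hreg : ∀ g : G, ¬ p ∣ orderOf g → (ξ' : G → ℂ) g = (ξ : G → ℂ) g)
    (hPavg : ∑ᶠ x ∈ (P : Set G), (ξ : G → ℂ) x * conj ((ξ' : G → ℂ) x) = (p : ℂ))
    (η : IrrCharacter G) (hη : ∀ g : G, p ∣ orderOf g → (η : G → ℂ) g = -1)
    (u : ℕ) (hdeg : charDegree (η : G → ℂ) + 1 = u * p) : u ≤ 2 := by
  classical
  let _ : Fintype G := Fintype.ofFinite G
  let _ : Fintype (IrrCharacter G) := Fintype.ofFinite _
  have hpp : p.Prime := Fact.out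
  have hp0 : (p : ℂ) ≠ 0 := by exact_mod_cast hpp.ne_zero
  -- the two products are characters
  have hΦA : IsCharacter G ((ξ : G → ℂ) * (fun g => conj ((ξ : G → ℂ) g))) :=
    IsCharacter.mul (IsIrrCharacter.isCharacter ξ.2) (IsCharacter.conj (IsIrrCharacter.isCharacter ξ.2))
  have hΦL : IsCharacter G ((ξ : G → ℂ) * (fun g => conj ((ξ' : G → ℂ) g))) :=
    IsCharacter.mul (IsIrrCharacter.isCharacter ξ.2) (IsCharacter.conj (IsIrrCharacter.isCharacter ξ'.2))
  obtain ⟨mA, hmA, -⟩ := Cfsg.Agent.Lib.Helper6.IsCharacter.exists_decomp_sum hΦA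
  obtain ⟨mL, hmL, -⟩ := Cfsg.Agent.Lib.Helper6.IsCharacter.exists_decomp_sum hΦL
  have hA : (fun g => (ξ : G → ℂ) g * conj ((ξ : G → ℂ) g)) =
      ∑ᶠ χ : IrrCharacter G, mA χ • (χ : G → ℂ) := by
    rw [finsum_eq_sum_of_fintype]; exact hmA
  have hL : (fun g => (ξ : G → ℂ) g * conj ((ξ' : G → ℂ) g)) =
      ∑ᶠ χ : IrrCharacter G, mL χ • (χ : G → ℂ) := by
    rw [finsum_eq_sum_of_fintype]; exact hmL
  -- the `Φ`-trick
  have hS : ∀ g : G, p ∣ orderOf g → ∑ᶠ χ ∈ ({η} : Set (IrrCharacter G)), (χ : G → ℂ) g = ((-1 : ℤ) : ℂ) := by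
    intro g hg
    rw [finsum_mem_singleton, hη g hg]; simp
  have hphi := Cfsg.Agent.Lib.Helper6.BRHPHI.phi_pairing (p := p) ξ ξ' hne hreg mA mL hA hL {η} (-1) hS
  rw [finsum_mem_singleton] at hphi
  have hmLη : 1 ≤ mL η := by omega
  -- the `P`-average of `ξ conj ξ'`
  have hsumP : ∀ χ : IrrCharacter G, ∑ᶠ x ∈ (P : Set G), (χ : G → ℂ) x = (p : ℂ) * (aP P χ : ℂ) := by
    intro χ
    rw [Cfsg.Agent.Lib.Helper5.BRCSPEC.aP_spec, hP, ← mul_assoc, mul_inv_cancel₀ hp0, one_mul]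
  have hfin : (P : Set G).Finite := Set.toFinite _
  have hLP : ∑ᶠ x ∈ (P : Set G), (ξ : G → ℂ) x * conj ((ξ' : G → ℂ) x) =
      (p : ℂ) * ∑ χ : IrrCharacter G, (mL χ : ℂ) * (aP P χ : ℂ) := by
    have h1 : ∀ x : G, (ξ : G → ℂ) x * conj ((ξ' : G → ℂ) x) =
        ∑ χ : IrrCharacter G, (mL χ : ℂ) * (χ : G → ℂ) x := by
      intro x
      have h := congrFun hmL x
      rw [Finset.sum_apply] at h
      simp only [Pi.smul_apply, nsmul_eq_mul] at h
      exact h
    rw [finsum_mem_eq_finite_toFinset_sum _ hfin, Finset.sum_congr rfl (fun x _ => h1 x),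
      Finset.sum_comm, Finset.mul_sum]
    apply Finset.sum_congr rfl
    intro χ _
    rw [← Finset.mul_sum, ← finsum_mem_eq_finite_toFinset_sum _ hfin, hsumP χ]
    ring
  rw [hPavg] at hLP
  have hone : ∑ χ : IrrCharacter G, mL χ * aP P χ = 1 := by
    have h2 : (p : ℂ) * 1 = (p : ℂ) * ∑ χ : IrrCharacter G, (mL χ : ℂ) * (aP P χ : ℂ) := by
      rw [mul_one]; exact hLP
    have h3 := mul_left_cancel₀ hp0 h2
    have h4 : ((1 : ℕ) : ℂ) = ((∑ χ : IrrCharacter G, mL χ * aP P χ : ℕ) : ℂ) := by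
      push_cast; exact h3
    exact_mod_cast h4.symm
  -- the `P`-average of `η`
  have haPη : aP P η + 1 = u := by
    have h1 := hsumP η
    rw [sum_P_eq P hP (η : G → ℂ) (-1)
      (fun x hx hx1 => hη x (dvd_orderOf_of_mem P hP hx hx1)), apply_one_eq] at h1
    have h2 : ((charDegree (η : G → ℂ) + 1 : ℕ) : ℂ) = ((u * p : ℕ) : ℂ) := by rw [hdeg]
    push_cast at h2
    have h3 : (p : ℂ) * ((aP P η : ℂ) + 1) = (p : ℂ) * (u : ℂ) := by
      have : (charDegree (η : G → ℂ) : ℂ) = (u : ℂ) * (p : ℂ) - 1 := by rw [← h2]; ring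
      rw [this] at h1
      linear_combination -h1
    have h4 := mul_left_cancel₀ hp0 h3
    exact_mod_cast h4
  -- conclusion
  have hle : mL η * aP P η ≤ 1 := by
    rw [← hone]
    exact Finset.single_le_sum (f := fun χ => mL χ * aP P χ) (fun _ _ => Nat.zero_le _) (Finset.mem_univ η)
  have : aP P η ≤ 1 := by
    calc aP P η = 1 * aP P η := (one_mul _).symm
      _ ≤ mL η * aP P η := Nat.mul_le_mul_right _ hmLη
      _ ≤ 1 := hle
  omega

end Cfsg.Agent.Lib.Helper21.BTDEG
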