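/-
helper21: S0997 (Brauer-Tuan), case `t = 2`, `ε = -1`, `w = 1`: the two exceptional characters have exactly one common
constituent on `P`:  `∑_{x ∈ P} ξ(x) conj ξ'(x) = p`.   (`normY'` = helper6's `BRCOUT.normY` without `Special`.)
-/
import Mathlib
import Cfsg.Prelude.Def_BlockRank
import Cfsg.Prelude.Def_Perm
import Cfsg.Agent.Lib.Helper24.BRCDefs
import Cfsg.Agent.Lib.Helper6.BRCTools
import Cfsg.Agent.Lib.Helper6.BRCOUT

set_option autoImplicit false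
set_option linter.unusedSectionVars false

namespace Cfsg.Agent.Lib.Helper21.BTPAVG

open Cfsg Cfsg.Agent.Lib.Helper8.DOM Cfsg.Agent.Lib.Helper27.DO Cfsg.Agent.CharLib
open Cfsg.Agent.Lib.Helper6.BRH Cfsg.Agent.Lib.Helper24.BRC
open Cfsg.Agent.Lib.Helper6.BRCTools Cfsg.Agent.Lib.Helper6.BRCOUT
open scoped ComplexConjugate

universe u

variable {G : Type u} [Group G] [Finite G] {p : ℕ} [Fact p.Prime]
variable {P : Subgroup G} {X Y : Set (IrrCharacter G)} {v : IrrCharacter G → ℤ} {ε : ℤ}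

/-- `normY` of helper6's `BRCOUT` without `Special` (same proof) -/
theorem normY' (hB : B0X p P X Y v ε) (hP : Nat.card P = p) (hSyl : ¬ p ∣ P.index) (hC : Cz P = P) :
    ∀ ψ ∈ Y, ∑ᶠ x ∈ {x : G | x ∈ P ∧ x ≠ 1}, Complex.normSq ((ψ : G → ℂ) x) =
      (fI P : ℝ) * ((p : ℝ) - (fI P : ℝ)) := by
  classical
  let _ : Fintype G := Fintype.ofFinite G
  let _ : Fintype (IrrCharacter G) := Fintype.ofFinite _
  intro ψ hψ
  have hpp : p.Prime := Fact.out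
  have d := hB.b0
  set f := fI P with hfdef
  have hXfin : X.Finite := Set.toFinite X
  set Xf := hXfin.toFinset with hXf
  have hmemX : ∀ η, η ∈ Xf ↔ η ∈ X := fun η => Set.Finite.mem_toFinset hXfin
  have hcardX : Xf.card = f := by
    show Xf.card = (Cz P).relIndex (Nz P)
    rw [← d.cardX, Nat.card_coe_set_eq, Set.ncard_eq_toFinset_card X hXfin]
  have hψX : ψ ∉ Xf := fun h => (Set.disjoint_left.mp d.disj ((hmemX ψ).mp h)) hψ
  have hεsq : (ε : ℂ) * (ε : ℂ) = 1 := by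
    rcases d.sgn with h | h <;> rw [h] <;> norm_num
  have hvsq : ∀ η ∈ Xf, (v η : ℂ) * (v η : ℂ) = 1 := by
    intro η hη
    rcases d.sgnX η ((hmemX η).mp hη) with h | h <;> rw [h] <;> norm_num
  -- the coefficients
  set c : IrrCharacter G → ℂ := fun χ => if χ = ψ then -(ε : ℂ) else (v χ : ℂ) with hcdef
  set Φ : G → ℂ := ∑ χ ∈ insert ψ Xf, c χ • (χ : G → ℂ) with hΦdef
  have hΦ : ∀ g : G, Φ g = ∑ᶠ χ ∈ X, (v χ : ℂ) * (χ : G → ℂ) g - (ε : ℂ) * (ψ : G → ℂ) g := by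
    intro g
    rw [hΦdef, Finset.sum_insert hψX, finsum_mem_eq_finite_toFinset_sum _ hXfin]
    simp only [Pi.add_apply, Pi.smul_apply, Finset.sum_apply, smul_eq_mul]
    rw [hcdef]
    simp only [if_true]
    have h1 : ∑ χ ∈ Xf, (if χ = ψ then -(ε : ℂ) else (v χ : ℂ)) * (χ : G → ℂ) g =
        ∑ χ ∈ Xf, (v χ : ℂ) * (χ : G → ℂ) g := by
      apply Finset.sum_congr rfl
      intro χ hχ
      rw [if_neg (fun h : χ = ψ => hψX (by rw [← h]; exact hχ))]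
    rw [h1]
    ring
  have hΦreg : ∀ g : G, ¬ p ∣ orderOf g → Φ g = 0 := by
    intro g hg
    rw [hΦ g, ← hB.relY ψ hψ g hg, sub_self]
  have hΦsing : ∀ g : G, p ∣ orderOf g → Φ g = (f : ℂ) - (ε : ℂ) * (ψ : G → ℂ) g := by
    intro g hg
    rw [hΦ g, finsum_mem_eq_finite_toFinset_sum _ hXfin]
    have h1 : ∑ χ ∈ Xf, (v χ : ℂ) * (χ : G → ℂ) g = ∑ _χ ∈ Xf, (1 : ℂ) := by
      apply Finset.sum_congr rfl
      intro χ hχ
      rw [d.valX χ ((hmemX χ).mp hχ) g hg, hvsq χ hχ]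
    rw [h1, Finset.sum_const, hcardX, nsmul_eq_mul, mul_one]
  have hΦcf : IsClassFunction G Φ := by
    rw [hΦdef]
    apply IsClassFunction.sum
    intro χ _
    exact IsClassFunction.smul _ (IsCharacter.isClassFunction (IsIrrCharacter.isCharacter χ.2))
  -- the norm of `Φ`
  have hnorm : ∑ g : G, Φ g * conj (Φ g) = (Nat.card G : ℂ) * ((f : ℂ) + 1) := by
    have h1 := classInner_comb (insert ψ Xf) c
    rw [← hΦdef] at h1
    have h2 : ∑ χ ∈ insert ψ Xf, c χ * conj (c χ) = (f : ℂ) + 1 := by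
      rw [Finset.sum_insert hψX, hcdef]
      simp only [if_true]
      have h3 : ∑ χ ∈ Xf, (if χ = ψ then -(ε : ℂ) else (v χ : ℂ)) *
          conj (if χ = ψ then -(ε : ℂ) else (v χ : ℂ)) = ∑ _χ ∈ Xf, (1 : ℂ) := by
        apply Finset.sum_congr rfl
        intro χ hχ
        rw [if_neg (fun h : χ = ψ => hψX (by rw [← h]; exact hχ)), map_intCast, hvsq χ hχ]
      rw [h3, Finset.sum_const, hcardX, nsmul_eq_mul, mul_one, map_neg, map_intCast]
      linear_combination hεsq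
    rw [h2] at h1
    unfold classInner at h1
    have hG0 : (Nat.card G : ℂ) ≠ 0 := Nat.cast_ne_zero.mpr Nat.card_pos.ne'
    rw [← h1, ← mul_assoc, mul_inv_cancel₀ hG0, one_mul]
  -- the sum over the singular elements
  have hF : IsClassFunction G (fun g => Φ g * conj (Φ g)) := by
    intro g k
    show Φ (k * g * k⁻¹) * conj (Φ (k * g * k⁻¹)) = Φ g * conj (Φ g)
    rw [hΦcf g k]
  have hsum := sum_singular P hP hSyl hC (fun g => Φ g * conj (Φ g)) hF (by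
    intro g hg
    show Φ g * conj (Φ g) = 0
    rw [hΦreg g hg, zero_mul])
  rw [hnorm] at hsum
  -- the sum over `P#`
  have hAfin : {x : G | x ∈ P ∧ x ≠ 1}.Finite := Set.toFinite _
  set Af := hAfin.toFinset with hAf
  have hcardA : Af.card = p - 1 := card_Psharp P hP
  have hmemA : ∀ x, x ∈ Af ↔ (x ∈ P ∧ x ≠ 1) := fun x => Set.Finite.mem_toFinset hAfin
  have hsingA : ∀ x ∈ Af, p ∣ orderOf x := by
    intro x hx
    rw [Cfsg.Agent.Lib.Helper29.DOTI.orderOf_eq_of_mem P hP ((hmemA x).mp hx).1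
      ((hmemA x).mp hx).2]
  have hpsum : ∑ x ∈ Af, (ψ : G → ℂ) x = -(ε : ℂ) * (f : ℂ) := by
    rw [← d.psumY ψ hψ, finsum_mem_eq_finite_toFinset_sum _ hAfin]
  have hpsumc : ∑ x ∈ Af, conj ((ψ : G → ℂ) x) = -(ε : ℂ) * (f : ℂ) := by
    rw [← map_sum, hpsum, map_mul, map_neg, map_intCast, Complex.conj_natCast]
  set S : ℂ := ∑ x ∈ Af, (ψ : G → ℂ) x * conj ((ψ : G → ℂ) x) with hSdef
  have hP1 : ∑ᶠ x ∈ {x : G | x ∈ P ∧ x ≠ 1}, Φ x * conj (Φ x) =
      ((p : ℂ) + 1) * (f : ℂ) ^ 2 + S := by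
    rw [finsum_mem_eq_finite_toFinset_sum _ hAfin]
    have h1 : ∀ x ∈ Af, Φ x * conj (Φ x) =
        (f : ℂ) ^ 2 - (f : ℂ) * (ε : ℂ) * conj ((ψ : G → ℂ) x) - (f : ℂ) * (ε : ℂ) * (ψ : G → ℂ) x +
          (ψ : G → ℂ) x * conj ((ψ : G → ℂ) x) := by
      intro x hx
      rw [hΦsing x (hsingA x hx), map_sub, map_mul, map_intCast, Complex.conj_natCast]
      linear_combination ((ψ : G → ℂ) x * conj ((ψ : G → ℂ) x)) * hεsq
    rw [Finset.sum_congr rfl h1, Finset.sum_add_distrib, Finset.sum_sub_distrib,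
      Finset.sum_sub_distrib, Finset.sum_const, ← Finset.mul_sum, ← Finset.mul_sum, hpsum, hpsumc,
      hcardA, nsmul_eq_mul, Nat.cast_sub hpp.one_le, Nat.cast_one, ← hSdef]
    linear_combination (2 * (f : ℂ) ^ 2) * hεsq
  rw [hP1] at hsum
  have hp0 : (p : ℂ) ≠ 0 := Nat.cast_ne_zero.mpr hpp.ne_zero
  have hG0 : (Nat.card G : ℂ) ≠ 0 := Nat.cast_ne_zero.mpr Nat.card_pos.ne'
  have hSval : S = (f : ℂ) * ((p : ℂ) - (f : ℂ)) := by
    have h1 : (f : ℂ) * ((f : ℂ) + 1) * (p : ℂ) = ((p : ℂ) + 1) * (f : ℂ) ^ 2 + S := by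
      have h2 : (Nat.card G : ℂ) * ((f : ℂ) * ((f : ℂ) + 1) * (p : ℂ)) =
          (Nat.card G : ℂ) * (((p : ℂ) + 1) * (f : ℂ) ^ 2 + S) := by
        have h3 : (Nat.card G : ℂ) * (p : ℂ)⁻¹ * (((p : ℂ) + 1) * (f : ℂ) ^ 2 + S) * (p : ℂ) =
            (Nat.card G : ℂ) * (((p : ℂ) + 1) * (f : ℂ) ^ 2 + S) := by
          field_simp
        rw [← h3, ← hsum]
        ring
      exact mul_left_cancel₀ hG0 h2
    linear_combination -h1
  -- back to the reals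
  have hreal : ((∑ᶠ x ∈ {x : G | x ∈ P ∧ x ≠ 1}, Complex.normSq ((ψ : G → ℂ) x) : ℝ) : ℂ) = S := by
    rw [finsum_mem_eq_finite_toFinset_sum _ hAfin, hSdef]
    push_cast
    apply Finset.sum_congr rfl
    intro x _
    rw [Complex.mul_conj]
  have hfin : ((∑ᶠ x ∈ {x : G | x ∈ P ∧ x ≠ 1}, Complex.normSq ((ψ : G → ℂ) x) : ℝ) : ℂ) =
      (((f : ℝ) * ((p : ℝ) - (f : ℝ)) : ℝ) : ℂ) := by
    rw [hreal, hSval]
    push_cast
    rfl
  exact_mod_cast hfin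


/-- `Y = {ξ, ξ'}` when `t = 2` -/
theorem Y_eq_pair (hB : B0X p P X Y v ε) (h2f : 2 * fI P + 1 = p)
    (ξ ξ' : IrrCharacter G) (hξ : ξ ∈ Y) (hξ' : ξ' ∈ Y) (hne : ξ ≠ ξ') : Y = {ξ, ξ'} := by
  classical
  have hfin : Y.Finite := Set.toFinite Y
  have hcard : Y.ncard = 2 := by
    rw [← Nat.card_coe_set_eq, hB.b0.cardY]
    have hf : 0 < fI P := by
      rcases Nat.eq_zero_or_pos (fI P) with h | h
      · have hpp : p.Prime := Fact.out
        have := hpp.one_lt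
        rw [h] at h2f; omega
      · exact h
    show (p - 1) / fI P = 2
    have : p - 1 = 2 * fI P := by omega
    rw [this, Nat.mul_div_cancel _ hf]
  have hsub : ({ξ, ξ'} : Set (IrrCharacter G)) ⊆ Y := by
    intro χ hχ
    rcases hχ with rfl | rfl
    · exact hξ
    · exact hξ'
  have hpair : ({ξ, ξ'} : Set (IrrCharacter G)).ncard = 2 := Set.ncard_pair hne
  exact (Set.eq_of_subset_of_ncard_le hsub (by rw [hcard, hpair]) hfin).symm

/-- **BT-PAVG**: the two exceptional characters have exactly one common constituent on `P`. -/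
theorem pavg (hB : B0X p P X Y v ε) (hP : Nat.card P = p) (hSyl : ¬ p ∣ P.index) (hC : Cz P = P)
    (hε : ε = -1) (h2f : 2 * fI P + 1 = p)
    (ξ ξ' : IrrCharacter G) (hξ : ξ ∈ Y) (hξ' : ξ' ∈ Y) (hne : ξ ≠ ξ')
    (hdeg : charDegree (ξ : G → ℂ) + fI P = p) (hdeg' : charDegree (ξ' : G → ℂ) + fI P = p) :
    ∑ᶠ x ∈ (P : Set G), (ξ : G → ℂ) x * conj ((ξ' : G → ℂ) x) = (p : ℂ) := by
  classical
  let _ : Fintype G := Fintype.ofFinite G
  have hpp : p.Prime := Fact.out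
  have hY := Y_eq_pair hB h2f ξ ξ' hξ hξ' hne
  have hAfin : {x : G | x ∈ P ∧ x ≠ 1}.Finite := Set.toFinite _
  -- `ξ + ξ' = 1` on `P#`
  have hsum : ∀ x ∈ {x : G | x ∈ P ∧ x ≠ 1}, (ξ' : G → ℂ) x = 1 - (ξ : G → ℂ) x := by
    intro x hx
    have hord : p ∣ orderOf x := by
      rw [Cfsg.Agent.Lib.Helper29.DOTI.orderOf_eq_of_mem P hP hx.1 hx.2]
    have h := hB.b0.sumY x hord
    rw [hY, finsum_mem_pair hne, hε] at h
    push_cast at h
    linear_combination h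
  rw [finsum_P_split P (fun x => (ξ : G → ℂ) x * conj ((ξ' : G → ℂ) x))]
  have h1 : ∑ᶠ x ∈ {x : G | x ∈ P ∧ x ≠ 1}, (ξ : G → ℂ) x * conj ((ξ' : G → ℂ) x) =
      ∑ᶠ x ∈ {x : G | x ∈ P ∧ x ≠ 1}, ((ξ : G → ℂ) x - (ξ : G → ℂ) x * conj ((ξ : G → ℂ) x)) := by
    apply finsum_mem_congr rfl
    intro x hx
    rw [hsum x hx, map_sub, map_one]
    ring
  rw [h1, finsum_mem_eq_finite_toFinset_sum _ hAfin, Finset.sum_sub_distrib,
    ← finsum_mem_eq_finite_toFinset_sum _ hAfin, ← finsum_mem_eq_finite_toFinset_sum _ hAfin,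
    hB.b0.psumY ξ hξ, hε]
  have hn := normY' hB hP hSyl hC ξ hξ
  have hn' : ∑ᶠ x ∈ {x : G | x ∈ P ∧ x ≠ 1}, (ξ : G → ℂ) x * conj ((ξ : G → ℂ) x) =
      (fI P : ℂ) * ((p : ℂ) - (fI P : ℂ)) := by
    have h2 : ((∑ᶠ x ∈ {x : G | x ∈ P ∧ x ≠ 1}, Complex.normSq ((ξ : G → ℂ) x) : ℝ) : ℂ) =
        (((fI P : ℝ) * ((p : ℝ) - (fI P : ℝ)) : ℝ) : ℂ) := by rw [hn]
    rw [finsum_mem_eq_finite_toFinset_sum _ hAfin] at h2 ⊢
    push_cast at h2
    rw [← h2]
    apply Finset.sum_congr rfl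
    intro x _
    rw [Complex.mul_conj]
  rw [hn', apply_one_eq, apply_one_eq, Complex.conj_natCast]
  have hd : (charDegree (ξ : G → ℂ) : ℂ) = (p : ℂ) - (fI P : ℂ) := by
    have : ((charDegree (ξ : G → ℂ) + fI P : ℕ) : ℂ) = (p : ℂ) := by rw [hdeg]
    push_cast at this
    linear_combination this
  have hd' : (charDegree (ξ' : G → ℂ) : ℂ) = (p : ℂ) - (fI P : ℂ) := by
    have : ((charDegree (ξ' : G → ℂ) + fI P : ℕ) : ℂ) = (p : ℂ) := by rw [hdeg']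
    push_cast at this
    linear_combination this
  have hpf : (p : ℂ) = 2 * (fI P : ℂ) + 1 := by
    have : ((2 * fI P + 1 : ℕ) : ℂ) = (p : ℂ) := by rw [h2f]
    push_cast at this
    exact this.symm
  rw [hd, hd', hpf]
  push_cast
  ring

end Cfsg.Agent.Lib.Helper21.BTPAVG
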