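/-
helper21: S0997 (Brauer-Tuan), case `t = 2`, `ε = -1`, `w = 1`, WITHOUT `C_G(P) = P`: the two exceptional characters have exactly one common
constituent on `P`:  `∑_{x ∈ P} ξ(x) conj ξ'(x) = p`.   (`ξ + ξ' = ρ_P + 1_P` on `P`, and `⟨ξ|_P, 1_P⟩ = 1`.)
-/
import Mathlib
import Cfsg.Prelude.Def_BlockRank
import Cfsg.Agent.Lib.Helper24.BRCDefs
import Cfsg.Agent.Lib.Helper6.BRCTools
import Cfsg.Agent.Lib.Helper6.CharExtra
import Cfsg.Agent.Lib.Lead.CharMore
import Cfsg.Agent.Lib.Helper21.BTPAVG

set_option autoImplicit false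
set_option linter.unusedSectionVars false

namespace Cfsg.Agent.Lib.Helper21.BTPAVG2

open Cfsg Cfsg.Agent.Lib.Helper8.DOM Cfsg.Agent.Lib.Helper27.DO Cfsg.Agent.CharLib
open Cfsg.Agent.Lib.Helper6.BRH Cfsg.Agent.Lib.Helper24.BRC
open Cfsg.Agent.Lib.Helper6.BRCTools
open scoped ComplexConjugate

universe u

variable {G : Type u} [Group G] [Finite G] {p : ℕ} [Fact p.Prime]
variable {P : Subgroup G} {X Y : Set (IrrCharacter G)} {v : IrrCharacter G → ℤ} {ε : ℤ}

/-- a group of prime order is commutative -/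
theorem comm_of_card (P : Subgroup G) (hP : Nat.card P = p) : ∀ a b : P, a * b = b * a := by
  have hcyc : IsCyclic P := isCyclic_of_prime_card hP
  intro a b
  let _ := IsCyclic.commGroup (α := P)
  exact mul_comm a b

/-- **BT-PAVG** without `C_G(P) = P`. -/
theorem pavg (bx : B0X p P X Y v ε) (hP : Nat.card P = p)
    (hε : ε = -1) (h2f : 2 * fI P + 1 = p)
    (ξ ξ' : IrrCharacter G) (hξ : ξ ∈ Y) (hξ' : ξ' ∈ Y) (hne : ξ ≠ ξ')
    (hdeg : charDegree (ξ : G → ℂ) + fI P = p) (hdeg' : charDegree (ξ' : G → ℂ) + fI P = p) :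
    ∑ᶠ x ∈ (P : Set G), (ξ : G → ℂ) x * conj ((ξ' : G → ℂ) x) = (p : ℂ) := by
  classical
  let _ : Fintype G := Fintype.ofFinite G
  let _ : Fintype P := Fintype.ofFinite P
  let _ : Fintype (IrrCharacter P) := Fintype.ofFinite _
  have hpp : p.Prime := Fact.out
  have hp0 : (p : ℂ) ≠ 0 := by exact_mod_cast hpp.ne_zero
  have hY := Cfsg.Agent.Lib.Helper21.BTPAVG.Y_eq_pair bx h2f ξ ξ' hξ hξ' hne
  have hd : (charDegree (ξ : G → ℂ) : ℂ) = (p : ℂ) - (fI P : ℂ) := by
    have : ((charDegree (ξ : G → ℂ) + fI P : ℕ) : ℂ) = (p : ℂ) := by rw [hdeg]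
    push_cast at this
    linear_combination this
  have hd' : (charDegree (ξ' : G → ℂ) : ℂ) = (p : ℂ) - (fI P : ℂ) := by
    have : ((charDegree (ξ' : G → ℂ) + fI P : ℕ) : ℂ) = (p : ℂ) := by rw [hdeg']
    push_cast at this
    linear_combination this
  have hpf : (p : ℂ) = 2 * (fI P : ℂ) + 1 := by
    have : ((2 * fI P + 1 : ℕ) : ℂ) = (p : ℂ) := by rw [h2f]
    push_cast at this
    exact this.symm
  -- the restrictions
  set a : P → ℂ := fun h => (ξ : G → ℂ) h with hadef
  set b : P → ℂ := fun h => (ξ' : G → ℂ) h with hbdef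
  have ha : IsCharacter P a := IsCharacter.restrict (IsIrrCharacter.isCharacter ξ.2) P
  have hb : IsCharacter P b := IsCharacter.restrict (IsIrrCharacter.isCharacter ξ'.2) P
  obtain ⟨m, hm, hmi⟩ := Cfsg.Agent.Lib.Helper6.IsCharacter.exists_decomp_sum ha
  obtain ⟨n, hn, hni⟩ := Cfsg.Agent.Lib.Helper6.IsCharacter.exists_decomp_sum hb
  -- the sum over `P` as an inner product on `P`
  have h1 : ∑ᶠ x ∈ (P : Set G), (ξ : G → ℂ) x * conj ((ξ' : G → ℂ) x) = (p : ℂ) * classInner a b := by
    unfold classInner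
    rw [hP, ← mul_assoc, mul_inv_cancel₀ hp0, one_mul, ← finsum_set_coe_eq_finsum_mem,
      finsum_eq_sum_of_fintype]
    rfl
  -- `⟨a, b⟩ = ∑ m n`
  have h2 : classInner a b = ∑ l : IrrCharacter P, (m l : ℂ) * (n l : ℂ) := by
    have h3 : classInner a b = classInner (∑ l : IrrCharacter P, m l • (l : P → ℂ)) b := by rw [← hm]
    rw [h3, classInner_sum_left]
    apply Finset.sum_congr rfl
    intro l _
    have h4 : m l • (l : P → ℂ) = (m l : ℂ) • (l : P → ℂ) := by rw [Nat.cast_smul_eq_nsmul]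
    rw [h4, classInner_smul_left, ← classInner_conj_symm, hni l, Complex.conj_natCast]
  -- `a + b` on `P`
  have hab : ∀ h : P, a h + b h = if h = 1 then (p : ℂ) + 1 else 1 := by
    intro h
    by_cases hh : h = 1
    · rw [if_pos hh, hh]
      show (ξ : G → ℂ) ((1 : P) : G) + (ξ' : G → ℂ) ((1 : P) : G) = _
      rw [Subgroup.coe_one, apply_one_eq, apply_one_eq, hd, hd', hpf]
      ring
    · rw [if_neg hh]
      have hx1 : (h : G) ≠ 1 := fun h0 => hh (Subtype.ext h0)
      have hord : p ∣ orderOf (h : G) := by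
        rw [Cfsg.Agent.Lib.Helper29.DOTI.orderOf_eq_of_mem P hP h.2 hx1]
      have hs := bx.b0.sumY (h : G) hord
      rw [hY, finsum_mem_pair hne, hε] at hs
      push_cast at hs
      show (ξ : G → ℂ) (h : G) + (ξ' : G → ℂ) (h : G) = 1
      linear_combination hs
  -- the irreducible characters of `P` are linear
  have hlin : ∀ l : IrrCharacter P, (l : P → ℂ) 1 = 1 :=
    comm_iff_forall_irr_apply_one.mp (comm_of_card P hP)
  -- `m + n`
  have h5 : ∀ l : IrrCharacter P, (m l : ℂ) + (n l : ℂ) = 1 + (if l = trivIrr P then 1 else 0) := by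
    intro l
    rw [← hmi l, ← hni l, ← classInner_add_left]
    unfold classInner
    have h6 : ∀ h : P, (a + b) h * conj ((l : P → ℂ) h) =
        conj ((l : P → ℂ) h) + (if h = 1 then (p : ℂ) * conj ((l : P → ℂ) 1) else 0) := by
      intro h
      rw [Pi.add_apply, hab h]
      by_cases hh : h = 1
      · rw [if_pos hh, if_pos hh, hh]; ring
      · rw [if_neg hh, if_neg hh]; ring
    rw [Finset.sum_congr rfl (fun h _ => h6 h), Finset.sum_add_distrib, Finset.sum_ite_eq' Finset.univ (1 : P),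
      if_pos (Finset.mem_univ _), hlin l, map_one, mul_one]
    have h7 : ∑ h : P, conj ((l : P → ℂ) h) = (p : ℂ) * (if l = trivIrr P then 1 else 0) := by
      have h8 := classInner_irr' (trivIrr P) l
      unfold classInner at h8
      rw [hP] at h8
      have h9 : ∑ h : P, ((trivIrr P : IrrCharacter P) : P → ℂ) h * conj ((l : P → ℂ) h) =
          ∑ h : P, conj ((l : P → ℂ) h) := by
        apply Finset.sum_congr rfl
        intro h _
        have : ((trivIrr P : IrrCharacter P) : P → ℂ) h = 1 := rfl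
        rw [this, one_mul]
      rw [h9] at h8
      have h10 : (if l = trivIrr P then (1 : ℂ) else 0) = if trivIrr P = l then 1 else 0 := by
        by_cases hl : l = trivIrr P
        · rw [if_pos hl, if_pos hl.symm]
        · rw [if_neg hl, if_neg (fun h => hl h.symm)]
      rw [h10, ← h8, ← mul_assoc, mul_inv_cancel₀ hp0, one_mul]
    rw [h7, hP]
    field_simp
    ring
  have h5' : ∀ l : IrrCharacter P, m l + n l = 1 + (if l = trivIrr P then 1 else 0) := by
    intro l
    have := h5 l
    by_cases hl : l = trivIrr P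
    · rw [if_pos hl] at this ⊢
      exact_mod_cast this
    · rw [if_neg hl] at this ⊢
      have h' : ((m l + n l : ℕ) : ℂ) = ((1 : ℕ) : ℂ) := by push_cast; rw [this]; ring
      have h'' : m l + n l = 1 := by exact_mod_cast h'
      omega
  -- the multiplicity of the trivial character in `a`
  have hm1 : m (trivIrr P) = 1 := by
    have h6 := hmi (trivIrr P)
    unfold classInner at h6
    have h7 : ∑ h : P, a h * conj (((trivIrr P : IrrCharacter P) : P → ℂ) h) =
        ∑ᶠ x ∈ (P : Set G), (ξ : G → ℂ) x := by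
      rw [← finsum_set_coe_eq_finsum_mem, finsum_eq_sum_of_fintype]
      apply Finset.sum_congr rfl
      intro h _
      have : ((trivIrr P : IrrCharacter P) : P → ℂ) h = 1 := rfl
      rw [this, map_one, mul_one]
    rw [h7, finsum_P_split, apply_one_eq, bx.b0.psumY ξ hξ, hε, hd, hP] at h6
    have h8 : (m (trivIrr P) : ℂ) = 1 := by
      rw [← h6]
      simp only [fI]
      push_cast
      field_simp
      ring
    exact_mod_cast h8
  have hn1 : n (trivIrr P) = 1 := by
    have := h5' (trivIrr P)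
    rw [if_pos rfl, hm1] at this
    omega
  -- conclusion
  have h6 : ∑ l : IrrCharacter P, m l * n l = 1 := by
    rw [Finset.sum_eq_single (trivIrr P)]
    · rw [hm1, hn1]
    · intro l _ hl
      have := h5' l
      rw [if_neg hl] at this
      have : m l = 0 ∨ n l = 0 := by omega
      rcases this with h | h <;> rw [h] <;> simp
    · intro h; exact absurd (Finset.mem_univ _) h
  rw [h1, h2]
  have h7 : (∑ l : IrrCharacter P, (m l : ℂ) * (n l : ℂ)) = ((∑ l : IrrCharacter P, m l * n l : ℕ) : ℂ) := by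
    push_cast; rfl
  rw [h7, h6]
  simp

end Cfsg.Agent.Lib.Helper21.BTPAVG2
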