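/-
helper21: S0997 (Brauer-Tuan, planner helper19), leaf BT-DEGNEG (frozen statement in notes/S0997_leaves.lean):
`t = 2`, `ε = -1`, exceptional degree `p - f`: every `η ∈ X` of sign `-1` has degree `p - 1`.
(`Φ`-trick `⟨ξ conj ξ', η⟩ ≥ 1` + `P`-average `⟨ξ|_P, ξ'|_P⟩ = 1` give `η(1) ∈ {p-1, 2p-1}`; `2p-1` is odd.)
-/
import Mathlib
import Cfsg.Prelude.Def_BlockRank
import Cfsg.Agent.Lib.Helper6.BRHDefs
import Cfsg.Agent.Lib.Helper24.BRCDefs
import Cfsg.Agent.Lib.Helper6.BRCTools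
import Cfsg.Agent.Lib.Helper21.BTDEG
import Cfsg.Agent.Lib.Helper21.BTPAVG2

set_option autoImplicit false
set_option linter.unusedSectionVars false

namespace Cfsg.Agent.Lib.Helper21.BTDEGNEG

open Cfsg Cfsg.Agent.Lib.Helper8.DOM Cfsg.Agent.Lib.Helper27.DO Cfsg.Agent.CharLib
open Cfsg.Agent.Lib.Helper6.BRH Cfsg.Agent.Lib.Helper24.BRC
open scoped ComplexConjugate

universe u

variable {G : Type u} [Group G] [Finite G] {p : ℕ} [Fact p.Prime]

variable {X Y : Set (IrrCharacter G)} {v : IrrCharacter G → ℤ} {ε : ℤ}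

/-- **BT-DEGNEG**. -/
theorem deg_of_neg (P : Subgroup G) (hP : Nat.card P = p) (hSyl : ¬ p ∣ P.index) (bx : B0X p P X Y v ε) (hε : ε = -1)
    (hf : 2 * fI P + 1 = p) (hdegY : ∀ ψ ∈ Y, charDegree (ψ : G → ℂ) + fI P = p)
    (heven : ∀ η ∈ X, η ≠ trivIrr G → 2 ∣ charDegree (η : G → ℂ))
    (hdX : ∀ η ∈ X, (charDegree (η : G → ℂ) : ℤ) ≡ v η [ZMOD p]) :
    ∀ η ∈ X, v η = -1 → charDegree (η : G → ℂ) = p - 1 := by
  classical
  have hpp : p.Prime := Fact.out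
  -- two exceptional characters
  have hf0 : 0 < fI P := by
    rcases Nat.eq_zero_or_pos (fI P) with h | h
    · have := hpp.one_lt
      rw [h] at hf; omega
    · exact h
  have hcard : Y.ncard = 2 := by
    rw [← Nat.card_coe_set_eq, bx.b0.cardY]
    show (p - 1) / fI P = 2
    have : p - 1 = 2 * fI P := by omega
    rw [this, Nat.mul_div_cancel _ hf0]
  obtain ⟨ξ, ξ', hne, hY⟩ := Set.ncard_eq_two.mp hcard
  have hξ : ξ ∈ Y := by rw [hY]; exact Set.mem_insert _ _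
  have hξ' : ξ' ∈ Y := by rw [hY]; exact Set.mem_insert_of_mem _ rfl
  have hPavg := Cfsg.Agent.Lib.Helper21.BTPAVG2.pavg bx hP hε hf ξ ξ' hξ hξ' hne
    (hdegY ξ hξ) (hdegY ξ' hξ')
  intro η hη hv
  -- the degree
  have hmod := hdX η hη
  rw [hv] at hmod
  have hdvd : (p : ℤ) ∣ (charDegree (η : G → ℂ) : ℤ) + 1 := by
    have := hmod.symm.dvd
    simpa using this
  obtain ⟨u, hu⟩ : ∃ u : ℕ, charDegree (η : G → ℂ) + 1 = u * p := by
    have h1 : (p : ℤ) ∣ ((charDegree (η : G → ℂ) + 1 : ℕ) : ℤ) := by push_cast; exact hdvd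
    obtain ⟨u, hu⟩ := Int.natCast_dvd_natCast.mp h1
    exact ⟨u, by rw [hu, mul_comm]⟩
  have hηsing : ∀ g : G, p ∣ orderOf g → (η : G → ℂ) g = -1 := by
    intro g hg
    rw [bx.b0.valX η hη g hg, hv]
    simp
  have hu2 := Cfsg.Agent.Lib.Helper21.BTDEG.u_le_two P hP ξ ξ' hne
    (fun g hg => bx.regY ξ' hξ' ξ hξ g hg) hPavg η hηsing u hu
  have hu1 : 1 ≤ u := by
    rcases Nat.eq_zero_or_pos u with h | h
    · rw [h, zero_mul] at hu; omega
    · exact h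
  have hηne : η ≠ trivIrr G := by
    intro h
    have h1 := Cfsg.Agent.Lib.Helper6.BRCTools.v_triv P hP bx.b0
    rw [← h, hv] at h1
    omega
  have h2 := heven η hη hηne
  have hp2 : 2 ≤ p := hpp.two_le
  interval_cases u
  · omega
  · exfalso
    omega

end Cfsg.Agent.Lib.Helper21.BTDEGNEG
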