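/-
helper21: S0997 (Brauer-Tuan): when `C_G(P) = P` the irreducible characters outside the principal block vanish on `P \ 1`
(= helper6's `BRCOUT.out_zero` without `Special`).
-/
import Mathlib
import Cfsg.Prelude.Def_BlockRank
import Cfsg.Prelude.Def_Perm
import Cfsg.Agent.Lib.Helper24.BRCDefs
import Cfsg.Agent.Lib.Helper6.BRCTools
import Cfsg.Agent.Lib.Helper6.BRCOUT
import Cfsg.Agent.Lib.Helper21.BTPAVG

set_option autoImplicit false
set_option linter.unusedSectionVars false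

namespace Cfsg.Agent.Lib.Helper21.BTOUT

open Cfsg Cfsg.Agent.Lib.Helper8.DOM Cfsg.Agent.Lib.Helper27.DO Cfsg.Agent.CharLib
open Cfsg.Agent.Lib.Helper6.BRH Cfsg.Agent.Lib.Helper24.BRC
open Cfsg.Agent.Lib.Helper6.BRCTools Cfsg.Agent.Lib.Helper6.BRCOUT
open scoped ComplexConjugate

universe u

variable {G : Type u} [Group G] [Finite G] {p : ℕ} [Fact p.Prime]
variable {P : Subgroup G} {X Y : Set (IrrCharacter G)} {v : IrrCharacter G → ℤ} {ε : ℤ}

/-- `out_zero` of helper6's `BRCOUT` without `Special` (same proof) -/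
theorem out_zero_of (hB : B0X p P X Y v ε) (hP : Nat.card P = p) (hC : Cz P = P)
    (hnormY : ∀ ψ ∈ Y, ∑ᶠ x ∈ {x : G | x ∈ P ∧ x ≠ 1}, Complex.normSq ((ψ : G → ℂ) x) =
      (fI P : ℝ) * ((p : ℝ) - (fI P : ℝ))) :
    ∀ χ : IrrCharacter G, χ ∉ X ∪ Y → ∀ x ∈ P, x ≠ 1 → (χ : G → ℂ) x = 0 := by
  classical
  let _ : Fintype G := Fintype.ofFinite G
  let _ : Fintype (IrrCharacter G) := Fintype.ofFinite _
  have hpp : p.Prime := Fact.out
  have d := hB.b0
  set f := fI P with hfdef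
  have hXfin : X.Finite := Set.toFinite X
  have hYfin : Y.Finite := Set.toFinite Y
  set Xf := hXfin.toFinset with hXf
  set Yf := hYfin.toFinset with hYf
  have hmemX : ∀ η, η ∈ Xf ↔ η ∈ X := fun η => Set.Finite.mem_toFinset hXfin
  have hmemY : ∀ η, η ∈ Yf ↔ η ∈ Y := fun η => Set.Finite.mem_toFinset hYfin
  have hcardX : Xf.card = f := by
    show Xf.card = (Cz P).relIndex (Nz P)
    rw [← d.cardX, Nat.card_coe_set_eq, Set.ncard_eq_toFinset_card X hXfin]
  have hcardY : Yf.card = (p - 1) / f := by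
    show Yf.card = (p - 1) / (Cz P).relIndex (Nz P)
    rw [← d.cardY, Nat.card_coe_set_eq, Set.ncard_eq_toFinset_card Y hYfin]
  have hdisj : Disjoint Xf Yf := by
    rw [Finset.disjoint_left]
    intro η h1 h2
    exact (Set.disjoint_left.mp d.disj ((hmemX η).mp h1)) ((hmemY η).mp h2)
  have hAfin : {x : G | x ∈ P ∧ x ≠ 1}.Finite := Set.toFinite _
  set Af := hAfin.toFinset with hAf
  have hcardA : Af.card = p - 1 := card_Psharp P hP
  have hmemA : ∀ x, x ∈ Af ↔ (x ∈ P ∧ x ≠ 1) := fun x => Set.Finite.mem_toFinset hAfin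
  have hsingA : ∀ x ∈ Af, p ∣ orderOf x := by
    intro x hx
    rw [Cfsg.Agent.Lib.Helper29.DOTI.orderOf_eq_of_mem P hP ((hmemA x).mp hx).1
      ((hmemA x).mp hx).2]
  -- column orthogonality
  have hcol : ∀ x ∈ Af, ∑ χ : IrrCharacter G, Complex.normSq ((χ : G → ℂ) x) = (p : ℝ) := by
    intro x hx
    have h1 := sum_irr_mul_conj x x
    have h2 : classIndicator x x = 1 := by
      unfold classIndicator
      rw [if_pos (IsConj.refl x)]
    rw [h2, one_mul, centralizer_singleton_eq P hP ((hmemA x).mp hx).1 ((hmemA x).mp hx).2,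
      hC, hP] at h1
    have h3 : ((∑ χ : IrrCharacter G, Complex.normSq ((χ : G → ℂ) x) : ℝ) : ℂ) = ((p : ℝ) : ℂ) := by
      push_cast
      rw [← h1]
      apply Finset.sum_congr rfl
      intro χ _
      rw [Complex.mul_conj]
    exact_mod_cast h3
  set T : IrrCharacter G → ℝ := fun χ => ∑ x ∈ Af, Complex.normSq ((χ : G → ℂ) x) with hT
  have hTnn : ∀ χ, 0 ≤ T χ := fun χ => Finset.sum_nonneg (fun x _ => Complex.normSq_nonneg _)
  have htotal : ∑ χ : IrrCharacter G, T χ = ((p - 1 : ℕ) : ℝ) * (p : ℝ) := by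
    rw [hT]
    simp only
    rw [Finset.sum_comm, Finset.sum_congr rfl hcol, Finset.sum_const, hcardA, nsmul_eq_mul]
  have hTX : ∑ χ ∈ Xf, T χ = (f : ℝ) * ((p - 1 : ℕ) : ℝ) := by
    have h1 : ∀ χ ∈ Xf, T χ = ((p - 1 : ℕ) : ℝ) := by
      intro χ hχ
      rw [hT]
      simp only
      have h2 : ∀ x ∈ Af, Complex.normSq ((χ : G → ℂ) x) = 1 := by
        intro x hx
        rw [d.valX χ ((hmemX χ).mp hχ) x (hsingA x hx)]
        rcases d.sgnX χ ((hmemX χ).mp hχ) with h | h <;> rw [h] <;> simp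
      rw [Finset.sum_congr rfl h2, Finset.sum_const, hcardA, nsmul_eq_mul, mul_one]
    rw [Finset.sum_congr rfl h1, Finset.sum_const, hcardX, nsmul_eq_mul]
  have hft : (p - 1) / f * f = p - 1 := Nat.div_mul_cancel d.dvd
  have hTY : ∑ χ ∈ Yf, T χ = ((p - 1 : ℕ) : ℝ) * ((p : ℝ) - (f : ℝ)) := by
    have h1 : ∀ χ ∈ Yf, T χ = (f : ℝ) * ((p : ℝ) - (f : ℝ)) := by
      intro χ hχ
      rw [hT]
      simp only
      rw [← hnormY χ ((hmemY χ).mp hχ), finsum_mem_eq_finite_toFinset_sum _ hAfin]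
    rw [Finset.sum_congr rfl h1, Finset.sum_const, hcardY, nsmul_eq_mul, ← mul_assoc]
    congr 1
    exact_mod_cast hft
  have hrest : ∑ χ ∈ (Finset.univ \ (Xf ∪ Yf)), T χ = 0 := by
    have h1 := Finset.sum_sdiff (f := T) (Finset.subset_univ (Xf ∪ Yf))
    rw [Finset.sum_union hdisj, htotal, hTX, hTY] at h1
    have hp1 : ((p - 1 : ℕ) : ℝ) = (p : ℝ) - 1 := by
      rw [Nat.cast_sub hpp.one_le, Nat.cast_one]
    rw [hp1] at h1
    linarith
  intro χ hχ x hxP hx1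
  have hχmem : χ ∈ Finset.univ \ (Xf ∪ Yf) := by
    rw [Finset.mem_sdiff, Finset.mem_union, hmemX, hmemY]
    exact ⟨Finset.mem_univ _, hχ⟩
  have h1 : T χ = 0 :=
    (Finset.sum_eq_zero_iff_of_nonneg (fun χ _ => hTnn χ)).mp hrest χ hχmem
  have h2 : Complex.normSq ((χ : G → ℂ) x) = 0 :=
    (Finset.sum_eq_zero_iff_of_nonneg (fun x _ => Complex.normSq_nonneg _)).mp h1 x
      ((hmemA x).mpr ⟨hxP, hx1⟩)
  exact Complex.normSq_eq_zero.mp h2


end Cfsg.Agent.Lib.Helper21.BTOUT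

namespace Cfsg.Agent.Lib.Helper21.BTOUT

open Cfsg Cfsg.Agent.Lib.Helper8.DOM Cfsg.Agent.Lib.Helper27.DO Cfsg.Agent.CharLib
open Cfsg.Agent.Lib.Helper6.BRH Cfsg.Agent.Lib.Helper24.BRC
open scoped ComplexConjugate

universe u

variable {G : Type u} [Group G] [Finite G] {p : ℕ} [Fact p.Prime]

variable {X Y : Set (IrrCharacter G)} {v : IrrCharacter G → ℤ} {ε : ℤ}

/-- **BT-OUT**: the characters outside `B_0` vanish on `P \ 1`. -/
theorem out_zero (P : Subgroup G) (hP : Nat.card P = p) (hSyl : ¬ p ∣ P.index) (hC : Cz P = P) (bx : B0X p P X Y v ε) :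
    ∀ χ : IrrCharacter G, χ ∉ X ∪ Y → ∀ x ∈ P, x ≠ 1 → (χ : G → ℂ) x = 0 :=
  out_zero_of bx hP hC (Cfsg.Agent.Lib.Helper21.BTPAVG.normY' bx hP hSyl hC)

end Cfsg.Agent.Lib.Helper21.BTOUT
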