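import Mathlib

/-!
Central extensions defined by a biadditive cocycle (helper21): for `f : A →+ A →+ C` the set `A × C` with
`(a, c) * (a', c') = (a + a', c + c' + f a a')`.
-/

set_option autoImplicit false

namespace Cfsg.Agent.Lib.Helper21

open scoped commutatorElement

/-- The extension of `A` by `C` defined by the biadditive cocycle `f`. -/
structure BilinExt {A C : Type*} [AddCommGroup A] [AddCommGroup C] (f : A →+ A →+ C) where
  /-- component in the quotient -/
  fst : A
  /-- component in the kernel -/
  snd : C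

namespace BilinExt

variable {A C : Type*} [AddCommGroup A] [AddCommGroup C] (f : A →+ A →+ C)

@[ext]
theorem ext' {x y : BilinExt f} (h1 : x.fst = y.fst) (h2 : x.snd = y.snd) : x = y := by
  cases x; cases y; simp_all

instance : Mul (BilinExt f) := ⟨fun x y => ⟨x.fst + y.fst, x.snd + y.snd + f x.fst y.fst⟩⟩
instance : One (BilinExt f) := ⟨⟨0, 0⟩⟩
instance : Inv (BilinExt f) := ⟨fun x => ⟨-x.fst, -x.snd + f x.fst x.fst⟩⟩

@[simp] theorem mul_fst (x y : BilinExt f) : (x * y).fst = x.fst + y.fst := rfl
@[simp] theorem mul_snd (x y : BilinExt f) : (x * y).snd = x.snd + y.snd + f x.fst y.fst := rfl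
@[simp] theorem one_fst : (1 : BilinExt f).fst = 0 := rfl
@[simp] theorem one_snd : (1 : BilinExt f).snd = 0 := rfl
@[simp] theorem inv_fst (x : BilinExt f) : (x⁻¹).fst = -x.fst := rfl
@[simp] theorem inv_snd (x : BilinExt f) : (x⁻¹).snd = -x.snd + f x.fst x.fst := rfl

instance : Group (BilinExt f) where
  mul_assoc x y z := by
    apply ext'
    · simp [add_assoc]
    · simp only [mul_snd, mul_fst, map_add, AddMonoidHom.add_apply]; abel
  one_mul x := by apply ext' <;> simp
  mul_one x := by apply ext' <;> simp
  inv_mul_cancel x := by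
    apply ext'
    · simp
    · simp only [mul_snd, inv_snd, inv_fst, map_neg, AddMonoidHom.neg_apply, one_snd]; abel

/-- the projection onto `A` -/
def proj : BilinExt f →* Multiplicative A where
  toFun x := Multiplicative.ofAdd x.fst
  map_one' := rfl
  map_mul' _ _ := rfl

@[simp] theorem proj_apply (x : BilinExt f) : proj f x = Multiplicative.ofAdd x.fst := rfl

theorem proj_surjective : Function.Surjective (proj f) := fun a => ⟨⟨Multiplicative.toAdd a, 0⟩, rfl⟩

theorem mem_ker_proj (x : BilinExt f) : x ∈ (proj f).ker ↔ x.fst = 0 := by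
  rw [MonoidHom.mem_ker, proj_apply]
  exact Iff.rfl

/-- the kernel of the projection is `C` -/
def kerEquiv : (proj f).ker ≃* Multiplicative C where
  toFun x := Multiplicative.ofAdd x.1.snd
  invFun c := ⟨⟨0, Multiplicative.toAdd c⟩, (mem_ker_proj f _).mpr rfl⟩
  left_inv x := by
    apply Subtype.ext
    apply ext'
    · exact ((mem_ker_proj f _).mp x.2).symm
    · rfl
  right_inv c := rfl
  map_mul' x y := by
    have hx : x.1.fst = 0 := (mem_ker_proj f _).mp x.2
    show Multiplicative.ofAdd (x.1.snd + y.1.snd + f x.1.fst y.1.fst) = _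
    rw [hx, map_zero, AddMonoidHom.zero_apply, add_zero]
    rfl

theorem ker_proj_le_center : (proj f).ker ≤ Subgroup.center (BilinExt f) := by
  intro x hx
  have hx0 : x.fst = 0 := (mem_ker_proj f _).mp hx
  rw [Subgroup.mem_center_iff]
  intro g
  apply ext'
  · simp [hx0]
  · simp only [mul_snd, hx0, map_zero, AddMonoidHom.zero_apply]; abel

theorem commutator_fst (x y : BilinExt f) : (⁅x, y⁆).fst = 0 := by
  rw [commutatorElement_def]; simp

theorem commutator_snd (x y : BilinExt f) : (⁅x, y⁆).snd = f x.fst y.fst - f y.fst x.fst := by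
  rw [commutatorElement_def]
  simp only [mul_snd, mul_fst, inv_snd, inv_fst, map_add, map_neg, AddMonoidHom.add_apply,
    AddMonoidHom.neg_apply]
  abel

/-- powers of kernel elements -/
theorem zero_mk_pow (c : C) (k : ℕ) : (⟨0, c⟩ : BilinExt f) ^ k = ⟨0, k • c⟩ := by
  induction k with
  | zero => rw [pow_zero, zero_smul]; rfl
  | succ k ih =>
    rw [pow_succ, ih]
    apply ext'
    · simp
    · simp [succ_nsmul]

/-- the underlying equivalence with `A × C` -/
def equivProd : BilinExt f ≃ A × C where
  toFun x := (x.fst, x.snd)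
  invFun x := ⟨x.1, x.2⟩
  left_inv _ := rfl
  right_inv _ := rfl

instance [Finite A] [Finite C] : Finite (BilinExt f) := Finite.of_equiv _ (equivProd f).symm

/-- if the antisymmetrisation of `f` takes a value generating `C`, the kernel lies in the commutator subgroup -/
theorem ker_proj_le_commutator (a a' : A) (hgen : ∀ c : C, ∃ k : ℕ, c = k • (f a a' - f a' a)) :
    (proj f).ker ≤ commutator (BilinExt f) := by
  intro x hx
  have hx0 : x.fst = 0 := (mem_ker_proj f _).mp hx
  obtain ⟨k, hk⟩ := hgen x.snd
  have h1 : ⁅(⟨a, 0⟩ : BilinExt f), (⟨a', 0⟩ : BilinExt f)⁆ = ⟨0, f a a' - f a' a⟩ := by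
    apply ext'
    · exact commutator_fst f _ _
    · exact commutator_snd f _ _
  have h2 : x = (⁅(⟨a, 0⟩ : BilinExt f), (⟨a', 0⟩ : BilinExt f)⁆) ^ k := by
    rw [h1, zero_mk_pow]
    apply ext'
    · exact hx0
    · exact hk
  rw [h2]
  apply Subgroup.pow_mem
  rw [commutator_def]
  exact Subgroup.commutator_mem_commutator (Subgroup.mem_top _) (Subgroup.mem_top _)

end BilinExt

end Cfsg.Agent.Lib.Helper21
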