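import Cfsg.Agent.Lib.Helper6.HKFirstMain
import Cfsg.Agent.Lib.Helper23.RankQuotApp
import Cfsg.Agent.Lib.Helper23.SubsecD
import Cfsg.Agent.Lib.Helper17.BlkDefZero

/-!
# S4607 leaf C4: a block with a defect group of order 2 has exactly two irreducible characters
-/

set_option autoImplicit false

namespace Cfsg.Agent.Lib.Helper21.BlkGlueC4

open Cfsg Cfsg.Agent.Lib.Helper23 Cfsg.Agent.Lib.Helper17.BlkDefZero

universe u

/-- LEAF C4: a block with a defect group of order 2 has exactly two characters. -/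
theorem card_block_eq_two {G : Type u} [Group G] [Fintype G] (p : ℕ) [Fact p.Prime]
    (M : Ideal AlgInt) (hM : IsPModular p M) (B : Set (IrrCharacter G)) (hB : IsPBlock M B)
    (D : Subgroup G) (hD : IsDefectGroup p M B D) (h2 : Nat.card D = 2) : Nat.card B = 2 := by
  classical
  have hp : p.Prime := Fact.out
  have hprime : M.IsPrime := Cfsg.Agent.Lib.Helper24.isPrime_of_isPModular hM
  let _ : Fintype (IrrCharacter G) := Fintype.ofFinite _
  -- the defect is 1
  have hcardD := Cfsg.Agent.Lib.Helper6.card_defectGroup_eq hM B hB D hD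
  rw [h2] at hcardD
  have hδ1 : blockDefect p B = 1 := by
    rcases hδ : blockDefect p B with _ | _ | k
    · rw [hδ, pow_zero] at hcardD; omega
    · rfl
    · exfalso
      rw [hδ] at hcardD
      have h4 : 2 ^ 2 ≤ p ^ 2 := Nat.pow_le_pow_left hp.two_le 2
      have h5 : p ^ 2 ≤ p ^ (k + 1 + 1) := Nat.pow_le_pow_right hp.pos (by omega)
      omega
  -- no member of `B` has defect zero
  have hnz : ∀ χ ∈ B, ¬ IsDefZero p χ := by
    intro χ hχ h
    have h0 := (blockDefect_blockOf_eq_zero_iff p M hM χ).mpr h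
    rw [blockOf_eq_of_mem hB hχ, hδ1] at h0
    exact one_ne_zero h0
  have hdef : (Nat.card G).factorization p - minVal p B = 1 := hδ1
  -- so every member has height zero
  have hheight : ∀ χ ∈ B, blockHeight p B (χ : G → ℂ) = 0 := by
    intro χ hχ
    rw [blockHeight_eq_zero_iff hχ]
    have h1 := minVal_le (p := p) hχ
    have h3 : ¬ (Nat.card G).factorization p ≤ (charDegree (χ : G → ℂ)).factorization p := hnz χ hχ
    omega
  -- the involution
  obtain ⟨z, hz1, hzu⟩ := (Nat.card_eq_two_iff' (1 : D)).mp h2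
  have hzG : (z : G) ≠ 1 := fun h => hz1 (Subtype.ext h)
  have hDmem : ∀ d ∈ D, d = 1 ∨ d = (z : G) := by
    intro d hd
    by_cases h1 : d = 1
    · exact Or.inl h1
    · right
      have := hzu ⟨d, hd⟩ (fun h => h1 (congrArg Subtype.val h))
      exact congrArg Subtype.val this
  have hord : orderOf (z : G) = p ^ blockDefect p B := by
    rw [← hcardD]
    have hdvd : orderOf z ∣ 2 := by rw [← h2]; exact orderOf_dvd_natCard z
    rw [Subgroup.orderOf_coe]
    rcases (Nat.dvd_prime Nat.prime_two).mp hdvd with h | h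
    · exact absurd (orderOf_eq_one_iff.mp h) hz1
    · exact h
  set H : Subgroup G := Subgroup.centralizer ({(z : G)} : Set G) with hH
  have hmemH : ∀ g : G, g ∈ H ↔ (z : G) * g = g * (z : G) := by
    intro g
    rw [hH, Subgroup.mem_centralizer_iff]
    constructor
    · intro h; exact h _ rfl
    · intro h y hy; rw [Set.mem_singleton_iff.mp hy]; exact h
  have hNH : Subgroup.normalizer (D : Set G) ≤ H := by
    intro g hg
    rw [Subgroup.mem_normalizer_iff] at hg
    have h1 : g * (z : G) * g⁻¹ ∈ D := (hg (z : G)).mp z.2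
    rw [hmemH]
    rcases hDmem _ h1 with h | h
    · exfalso
      apply hzG
      have : (z : G) = g⁻¹ * (g * (z : G) * g⁻¹) * g := by group
      rw [this, h]; group
    · calc (z : G) * g = (g * (z : G) * g⁻¹) * g := by rw [h]
        _ = g * (z : G) := by group
  have hDH : D ≤ H := fun d hd => Subgroup.le_normalizer hd |> fun h => hNH h
  have hPZ : D.subgroupOf H ≤ Subgroup.center H := by
    intro x hx
    rw [Subgroup.mem_subgroupOf] at hx
    rw [Subgroup.mem_center_iff]
    intro y
    apply Subtype.ext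
    rw [Subgroup.coe_mul, Subgroup.coe_mul]
    rcases hDmem _ hx with h | h
    · rw [h, mul_one, one_mul]
    · rw [h]
      exact ((hmemH (y : G)).mp y.2).symm
  have hP : IsPGroup p D := isPGroup_of_isDefectGroup' p M B D hD
  obtain ⟨c, hc, hcD, hind⟩ :=
    Cfsg.Agent.Lib.Helper6.HKFirstMain.exists_block_H_induced hM D H hP hNH B hB hD
  have hrank : blockRank p c = 1 := blockRank_eq_one_of_central p hM c hc (D.subgroupOf H) hcD hPZ
  have hcc := Cfsg.Agent.Lib.Helper6.card_defectGroup_eq hM c hc (D.subgroupOf H) hcD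
  have hcardsub : Nat.card (D.subgroupOf H) = 2 := by
    rw [← h2]
    exact Nat.card_congr (Subgroup.subgroupOfEquivOfLe hDH).toEquiv
  rw [hcardsub] at hcc
  -- Broué's inequality
  set B₀ : Finset (IrrCharacter G) := Finset.univ.filter (· ∈ B) with hB₀
  have hB₀mem : ∀ χ ∈ B₀, χ ∈ B ∧ blockHeight p B (χ : G → ℂ) = 0 := by
    intro χ hχ
    have hχB : χ ∈ B := (Finset.mem_filter.mp hχ).2
    exact ⟨hχB, hheight χ hχB⟩
  have hineq := Cfsg.Agent.Lib.Helper23.Subsec.heightZero_sq_le hM (z : G) ⟨_, hord⟩ B hB c hind B₀ hB₀mem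
  have hcardB : Nat.card B = B₀.card := by
    rw [Nat.card_eq_fintype_card, Fintype.card_subtype]
  have hle : B₀.card ≤ 2 := by
    have h4 : ((p : ℝ)) ^ (2 * blockDefect p c) = 4 := by
      rw [mul_comm, pow_mul]
      have : ((p : ℝ)) ^ blockDefect p c = 2 := by exact_mod_cast hcc.symm
      rw [this]; norm_num
    rw [h4, hrank] at hineq
    have h5 : ((B₀.card : ℝ)) ^ 2 ≤ 4 := by simpa using hineq
    by_contra hcon
    rw [not_le] at hcon
    have h6 : (3 : ℝ) ≤ (B₀.card : ℝ) := by exact_mod_cast hcon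
    nlinarith
  -- `B` is not empty and not a singleton
  obtain ⟨χ₀, hχ₀⟩ : B.Nonempty := by
    obtain ⟨χ₁, rfl⟩ := hB
    exact ⟨χ₁, Cfsg.Agent.Lib.Helper6.mem_blockOf_self χ₁⟩
  have hne1 : B₀.card ≠ 1 := by
    intro h1
    rw [Finset.card_eq_one] at h1
    obtain ⟨χ, hχ⟩ := h1
    have hBχ : B = {χ} := by
      ext ψ
      have : ψ ∈ B₀ ↔ ψ ∈ ({χ} : Finset (IrrCharacter G)) := by rw [hχ]
      rw [hB₀, Finset.mem_filter, Finset.mem_singleton] at this
      simpa using this
    have hχB : χ ∈ B := by rw [hBχ]; rfl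
    apply hnz χ hχB
    rw [isDefZero_iff_not_dvd]
    rw [Cfsg.Agent.S0914.result p M hM χ, blockOf_eq_of_mem hB hχB, hBχ]
  have hne0 : B₀.card ≠ 0 := by
    intro h0
    rw [Finset.card_eq_zero] at h0
    have : χ₀ ∈ B₀ := Finset.mem_filter.mpr ⟨Finset.mem_univ _, hχ₀⟩
    rw [h0] at this
    exact absurd this (Finset.notMem_empty _)
  rw [hcardB]
  omega

end Cfsg.Agent.Lib.Helper21.BlkGlueC4
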