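/-
helper21: linear algebra for S4081 (three automorphism orbits, mixed order).
-/
import Mathlib

set_option autoImplicit false
set_option linter.style.haveILetI false
set_option linter.unusedSimpArgs false

namespace Cfsg.Agent.Lib.Helper21.S4081

open Polynomial

section LinA

variable {p q : ℕ} [hp : Fact p.Prime] [hq : Fact q.Prime]
variable {V : Type*} [AddCommGroup V] [Module (ZMod p) V]

theorem aeval_intertwine (θ A B : Module.End (ZMod p) V) (h : θ * A = B * θ) (g : (ZMod p)[X]) :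
    θ * aeval A g = aeval B g * θ := by
  have hn : ∀ n : ℕ, θ * A ^ n = B ^ n * θ := by
    intro n
    induction n with
    | zero => simp
    | succ n ih => rw [pow_succ, ← mul_assoc, ih, mul_assoc, h, ← mul_assoc, ← pow_succ]
  induction g using Polynomial.induction_on' with
  | add f g hf hg => rw [map_add, map_add, mul_add, add_mul, hf, hg]
  | monomial n a =>
    rw [aeval_monomial, aeval_monomial, ← mul_assoc, ← Algebra.commutes, mul_assoc, hn, mul_assoc]

/-- the cyclic `F_p[T]`-submodule generated by `v`, as a set -/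
def Wset (T : Module.End (ZMod p) V) (v : V) : Set V :=
  Set.range fun g : (ZMod p)[X] => (aeval T g) v

theorem self_mem_Wset (T : Module.End (ZMod p) V) (v : V) : v ∈ Wset T v := ⟨1, by simp⟩

theorem sub_mem_Wset {T : Module.End (ZMod p) V} {v a b : V} (ha : a ∈ Wset T v)
    (hb : b ∈ Wset T v) : a - b ∈ Wset T v := by
  obtain ⟨g, rfl⟩ := ha
  obtain ⟨h, rfl⟩ := hb
  exact ⟨g - h, by simp [map_sub, LinearMap.sub_apply]⟩

theorem Wset_subset {T : Module.End (ZMod p) V} {v w : V} (hw : w ∈ Wset T v) :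
    Wset T w ⊆ Wset T v := by
  obtain ⟨g, rfl⟩ := hw
  rintro _ ⟨h, rfl⟩
  exact ⟨h * g, by simp [map_mul, Module.End.mul_apply]⟩

theorem image_Wset_subset {T θ : Module.End (ZMod p) V} {k : ℕ} (h : θ * T = T ^ k * θ) (v : V) :
    θ '' Wset T v ⊆ Wset T (θ v) := by
  rintro _ ⟨_, ⟨g, rfl⟩, rfl⟩
  refine ⟨g.comp (X ^ k), ?_⟩
  have h1 := aeval_intertwine θ T (T ^ k) h g
  have h2 : aeval T (g.comp (X ^ k)) = aeval (T ^ k) g := by
    rw [aeval_comp]; simp
  simp only [h2]
  have := congrArg (fun f => f v) h1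
  simpa [Module.End.mul_apply] using this.symm

theorem injective_of_ne_zero [Finite V] (T : Module.End (ZMod p) V)
    (hT : ∀ v w : V, v ≠ 0 → w ≠ 0 → ∃ θ : Module.End (ZMod p) V,
      Function.Injective θ ∧ θ v = w ∧ ∃ k : ℕ, θ * T = T ^ k * θ)
    (g : (ZMod p)[X]) (hg : aeval T g ≠ 0) (v : V) (hv : aeval T g v = 0) : v = 0 := by
  by_contra hv0
  have hcard : ∀ v w : V, v ≠ 0 → w ≠ 0 → (Wset T v).ncard ≤ (Wset T w).ncard := by
    intro v w hv hw
    obtain ⟨θ, hinj, hθ, k, hk⟩ := hT v w hv hw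
    have := image_Wset_subset hk v
    rw [hθ] at this
    calc (Wset T v).ncard = (θ '' Wset T v).ncard := (Set.ncard_image_of_injective _ hinj).symm
      _ ≤ (Wset T w).ncard := Set.ncard_le_ncard this (Set.toFinite _)
  have hW4 : ∀ v w : V, v ≠ 0 → w ≠ 0 → w ∈ Wset T v → Wset T w = Wset T v := by
    intro v w hv hw hmem
    exact Set.eq_of_subset_of_ncard_le (Wset_subset hmem) (hcard v w hv hw) (Set.toFinite _)
  obtain ⟨w, hw⟩ : ∃ w, aeval T g w ≠ 0 := by
    by_contra h
    push Not at h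
    exact hg (LinearMap.ext h)
  have hw0 : w ≠ 0 := by rintro rfl; simp at hw
  have hru : aeval T g (v + w) = aeval T g w := by simp [map_add, hv]
  have hu0 : v + w ≠ 0 := by
    intro h; rw [h] at hru; simp at hru; exact hw hru.symm
  have h1 : Wset T (aeval T g w) = Wset T w := hW4 w _ hw0 hw ⟨g, rfl⟩
  have h2 : Wset T (aeval T g w) = Wset T (v + w) := hW4 (v + w) _ hu0 hw ⟨g, hru⟩
  have h3 : Wset T (v + w) = Wset T w := h2.symm.trans h1
  have hvW : v ∈ Wset T w := by
    have : (v + w) - w ∈ Wset T w := sub_mem_Wset (h3 ▸ self_mem_Wset T (v + w)) (self_mem_Wset T w)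
    simpa using this
  have h4 : Wset T v = Wset T w := hW4 w v hw0 hv0 hvW
  have : w ∈ Wset T v := h4 ▸ self_mem_Wset T w
  obtain ⟨h, rfl⟩ := this
  apply hw
  have hc : aeval T g * aeval T h = aeval T h * aeval T g := by
    rw [← map_mul, ← map_mul, mul_comm]
  calc aeval T g (aeval T h v) = (aeval T g * aeval T h) v := rfl
    _ = (aeval T h * aeval T g) v := by rw [hc]
    _ = aeval T h (aeval T g v) := rfl
    _ = 0 := by rw [hv, map_zero]

theorem aeval_cyclotomic_eq_zero (T : Module.End (ZMod p) V) (hTq : T ^ q = 1)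
    (hfpf : ∀ v, T v = v → v = 0) : aeval T (cyclotomic q (ZMod p)) = 0 := by
  rw [cyclotomic_prime]
  simp only [map_sum, map_pow, aeval_X]
  have h1 : (T - 1) * ∑ i ∈ Finset.range q, T ^ i = 0 := by rw [mul_geom_sum, hTq, sub_self]
  apply LinearMap.ext
  intro v
  have := congrArg (fun f => f v) h1
  simp only [Module.End.mul_apply, LinearMap.sub_apply, Module.End.one_apply,
    LinearMap.zero_apply] at this
  exact hfpf _ (sub_eq_zero.mp this)

theorem irreducible_minpoly_of_trans [Finite V] [Nontrivial V] (T : Module.End (ZMod p) V)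
    (hinj : ∀ g : (ZMod p)[X], aeval T g ≠ 0 → ∀ v : V, aeval T g v = 0 → v = 0) :
    Irreducible (minpoly (ZMod p) T) := by
  have hint : IsIntegral (ZMod p) T := Algebra.IsIntegral.isIntegral T
  have hmonic : (minpoly (ZMod p) T).Monic := minpoly.monic hint
  have hm0 : minpoly (ZMod p) T ≠ 0 := hmonic.ne_zero
  have hmT : aeval T (minpoly (ZMod p) T) = 0 := minpoly.aeval _ _
  have key : ∀ a b : (ZMod p)[X], minpoly (ZMod p) T = a * b → aeval T a = 0 → IsUnit b := by
    intro a b hab ha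
    obtain ⟨c, hc⟩ := minpoly.dvd (ZMod p) T ha
    have h0 : minpoly (ZMod p) T * 1 = minpoly (ZMod p) T * (c * b) := by
      rw [mul_one, ← mul_assoc, ← hc, ← hab]
    have h1 := mul_left_cancel₀ hm0 h0
    exact IsUnit.of_mul_eq_one c (by rw [mul_comm]; exact h1.symm)
  rw [irreducible_iff]
  refine ⟨fun hu => minpoly.ne_one (ZMod p) T (hmonic.eq_one_of_isUnit hu), ?_⟩
  intro a b hab
  have hprod : aeval T a * aeval T b = 0 := by rw [← map_mul, ← hab, hmT]
  by_cases ha : aeval T a = 0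
  · exact Or.inr (key a b hab ha)
  · left
    have hb : aeval T b = 0 := by
      apply LinearMap.ext
      intro v
      have := congrArg (fun f => f v) hprod
      simp only [Module.End.mul_apply, LinearMap.zero_apply] at this
      exact hinj a ha _ this
    exact key b a (by rw [hab, mul_comm]) hb

theorem orderOf_eq_of_trans [Finite V] [Nontrivial V] (hpq : p ≠ q) (T : Module.End (ZMod p) V)
    (hTq : T ^ q = 1) (hfpf : ∀ v, T v = v → v = 0)
    (hT : ∀ v w : V, v ≠ 0 → w ≠ 0 → ∃ θ : Module.End (ZMod p) V,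
      Function.Injective θ ∧ θ v = w ∧ ∃ k : ℕ, θ * T = T ^ k * θ)
    (hK : ∀ k, 0 < k → k < q → ∃ θ : Module.End (ZMod p) V,
      Function.Injective θ ∧ θ * T = T ^ k * θ) :
    orderOf (p : ZMod q) = q - 1 := by
  have hcyc := aeval_cyclotomic_eq_zero T hTq hfpf
  have hirr := irreducible_minpoly_of_trans T (injective_of_ne_zero T hT)
  have hmT : aeval T (minpoly (ZMod p) T) = 0 := minpoly.aeval _ _
  have hdvd : minpoly (ZMod p) T ∣ cyclotomic q (ZMod p) := minpoly.dvd _ _ hcyc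
  have hcop : p.Coprime q := (Nat.coprime_primes hp.out hq.out).mpr hpq
  -- degree
  have hdeg := natDegree_of_dvd_cyclotomic_of_irreducible (K := ZMod p) (p := p) (f := 1) (n := q)
    (by simp [ZMod.card]) hcop hdvd hirr
  have hord : orderOf (ZMod.unitOfCoprime (p ^ 1) (hcop.pow_left 1)) = orderOf (p : ZMod q) := by
    rw [← orderOf_units, ZMod.coe_unitOfCoprime]; simp
  rw [hord] at hdeg
  -- upper bound
  have hp0 : (p : ZMod q) ≠ 0 := by
    intro h
    rw [ZMod.natCast_eq_zero_iff] at h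
    exact hpq ((Nat.prime_dvd_prime_iff_eq hq.out hp.out).mp h).symm
  have hle : orderOf (p : ZMod q) ≤ q - 1 :=
    Nat.le_of_dvd (Nat.sub_pos_of_lt hq.out.one_lt) (ZMod.orderOf_dvd_card_sub_one hp0)
  -- lower bound via roots in AdjoinRoot
  haveI : Fact (Irreducible (minpoly (ZMod p) T)) := ⟨hirr⟩
  set L := AdjoinRoot (minpoly (ZMod p) T) with hL
  set ξ : L := AdjoinRoot.root (minpoly (ZMod p) T) with hξ
  have hroot : ∀ k, 0 < k → k < q → aeval (ξ ^ k) (minpoly (ZMod p) T) = 0 := by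
    intro k hk0 hkq
    obtain ⟨θ, hθinj, hθ⟩ := hK k hk0 hkq
    have h1 := aeval_intertwine θ T (T ^ k) hθ (minpoly (ZMod p) T)
    rw [hmT, mul_zero] at h1
    have hsurj : Function.Surjective θ := Finite.injective_iff_surjective.mp hθinj
    have h2 : aeval (T ^ k) (minpoly (ZMod p) T) = 0 := by
      apply LinearMap.ext
      intro v
      obtain ⟨u, rfl⟩ := hsurj v
      have := congrArg (fun f => f u) h1
      simpa [Module.End.mul_apply] using this.symm
    have h3 : aeval T ((minpoly (ZMod p) T).comp (X ^ k)) = 0 := by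
      rw [aeval_comp]; simpa using h2
    obtain ⟨c, hc⟩ := minpoly.dvd (ZMod p) T h3
    have h4 : aeval ξ ((minpoly (ZMod p) T).comp (X ^ k)) = 0 := by
      rw [hc, map_mul, AdjoinRoot.aeval_eq, AdjoinRoot.mk_self, zero_mul]
    rw [aeval_comp] at h4
    simpa using h4
  have hm0 : minpoly (ZMod p) T ≠ 0 := hirr.ne_zero
  have hξq : ξ ^ q = 1 := by
    have h1 : minpoly (ZMod p) T ∣ (X ^ q - 1 : (ZMod p)[X]) :=
      hdvd.trans (cyclotomic.dvd_X_pow_sub_one q _)
    obtain ⟨c, hc⟩ := h1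
    have : aeval ξ (X ^ q - 1 : (ZMod p)[X]) = 0 := by
      rw [hc, map_mul, AdjoinRoot.aeval_eq, AdjoinRoot.mk_self, zero_mul]
    simpa [sub_eq_zero] using this
  have hξ1 : ξ ≠ 1 := by
    intro h1
    obtain ⟨c, hc⟩ := hdvd
    have h2 : aeval ξ (cyclotomic q (ZMod p)) = 0 := by
      rw [hc, map_mul, AdjoinRoot.aeval_eq, AdjoinRoot.mk_self, zero_mul]
    rw [h1] at h2
    have h3 : aeval (1 : L) (cyclotomic q (ZMod p)) = (q : L) := by
      rw [aeval_def, eval₂_eq_eval_map, map_cyclotomic, eval_one_cyclotomic_prime]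
    rw [h3] at h2
    haveI : CharP L p := charP_of_injective_algebraMap (algebraMap (ZMod p) L).injective p
    rw [CharP.cast_eq_zero_iff L p] at h2
    exact hpq ((Nat.prime_dvd_prime_iff_eq hp.out hq.out).mp h2)
  have hordξ : orderOf ξ = q := orderOf_eq_prime hξq hξ1
  have hsub : (Finset.Ico 1 q).image (fun k => ξ ^ k) ⊆
      ((minpoly (ZMod p) T).aroots L).toFinset := by
    intro y hy
    obtain ⟨k, hk, rfl⟩ := Finset.mem_image.mp hy
    rw [Finset.mem_Ico] at hk
    rw [Multiset.mem_toFinset, mem_aroots]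
    exact ⟨hm0, hroot k hk.1 hk.2⟩
  have hcardimg : ((Finset.Ico 1 q).image (fun k => ξ ^ k)).card = q - 1 := by
    rw [Finset.card_image_of_injOn, Nat.card_Ico]
    intro a ha b hb hab
    rw [Finset.coe_Ico, Set.mem_Ico] at ha hb
    exact pow_injOn_Iio_orderOf (x := ξ) (by rw [hordξ]; exact ha.2) (by rw [hordξ]; exact hb.2) hab
  have hge : q - 1 ≤ (minpoly (ZMod p) T).natDegree := by
    calc q - 1 = ((Finset.Ico 1 q).image (fun k => ξ ^ k)).card := hcardimg.symm
      _ ≤ ((minpoly (ZMod p) T).aroots L).toFinset.card := Finset.card_le_card hsub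
      _ ≤ Multiset.card ((minpoly (ZMod p) T).aroots L) := Multiset.toFinset_card_le _
      _ ≤ ((minpoly (ZMod p) T).map (algebraMap _ L)).natDegree := card_roots' _
      _ = (minpoly (ZMod p) T).natDegree := natDegree_map _
  omega

theorem toZMod_pow {V : Type*} [AddCommGroup V] [Module (ZMod p) V] (X : AddMonoid.End V) (k : ℕ)
    (u : V) : ((AddMonoidHom.toZModLinearMap p X : Module.End (ZMod p) V) ^ k) u = (X ^ k) u := by
  induction k generalizing u with
  | zero => simp
  | succ k ih =>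
    rw [pow_succ, pow_succ, Module.End.mul_apply, AddMonoid.End.coe_mul, Function.comp_apply, ih]
    rfl

theorem orderOf_eq_of_trans_aux' [Finite V] [Nontrivial V] (hpq : p ≠ q)
    (X : AddMonoid.End V) (hXq : X ^ q = 1) (hfpf : ∀ v, X v = v → v = 0)
    (hT : ∀ v w : V, v ≠ 0 → w ≠ 0 → ∃ θ : V ≃+ V, θ v = w ∧
      ∃ k : ℕ, ∀ u, θ (X u) = (X ^ k) (θ u))
    (hK : ∀ k, 0 < k → k < q → ∃ θ : V ≃+ V, ∀ u, θ (X u) = (X ^ k) (θ u)) :
    orderOf (p : ZMod q) = q - 1 := by
  have hTq : (AddMonoidHom.toZModLinearMap p X : Module.End (ZMod p) V) ^ q = 1 := by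
    apply LinearMap.ext
    intro u
    rw [toZMod_pow, hXq]; rfl
  have conv : ∀ (θ : V ≃+ V) (k : ℕ), (∀ u, θ (X u) = (X ^ k) (θ u)) →
      (AddMonoidHom.toZModLinearMap p θ.toAddMonoidHom : Module.End (ZMod p) V) *
        (AddMonoidHom.toZModLinearMap p X : Module.End (ZMod p) V) =
      (AddMonoidHom.toZModLinearMap p X : Module.End (ZMod p) V) ^ k *
        (AddMonoidHom.toZModLinearMap p θ.toAddMonoidHom : Module.End (ZMod p) V) := by
    intro θ k h
    apply LinearMap.ext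
    intro u
    rw [Module.End.mul_apply, Module.End.mul_apply, toZMod_pow]
    exact h u
  apply orderOf_eq_of_trans hpq (AddMonoidHom.toZModLinearMap p X : Module.End (ZMod p) V) hTq
    (fun v hv => hfpf v hv)
  · intro v w hv hw
    obtain ⟨θ, hθ, k, hk⟩ := hT v w hv hw
    exact ⟨AddMonoidHom.toZModLinearMap p θ.toAddMonoidHom, θ.injective, hθ, k, conv θ k hk⟩
  · intro k hk0 hkq
    obtain ⟨θ, hθ⟩ := hK k hk0 hkq
    exact ⟨AddMonoidHom.toZModLinearMap p θ.toAddMonoidHom, θ.injective, conv θ k hθ⟩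

omit [Module (ZMod p) V] in
theorem orderOf_eq_of_trans' [Finite V] [Nontrivial V] (hpq : p ≠ q) (hpV : ∀ v : V, p • v = 0)
    (X : AddMonoid.End V) (hXq : X ^ q = 1) (hfpf : ∀ v, X v = v → v = 0)
    (hT : ∀ v w : V, v ≠ 0 → w ≠ 0 → ∃ θ : V ≃+ V, θ v = w ∧
      ∃ k : ℕ, ∀ u, θ (X u) = (X ^ k) (θ u))
    (hK : ∀ k, 0 < k → k < q → ∃ θ : V ≃+ V, ∀ u, θ (X u) = (X ^ k) (θ u)) :
    orderOf (p : ZMod q) = q - 1 := by
  letI : Module (ZMod p) V := AddCommGroup.zmodModule (n := p) hpV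
  exact orderOf_eq_of_trans_aux' (p := p) (q := q) hpq X hXq hfpf hT hK

end LinA

section LinC

variable {p q : ℕ} [hp : Fact p.Prime] [hq : Fact q.Prime]

theorem irreducible_cyclotomic_of_orderOf (hpq : p ≠ q) (hord : orderOf (p : ZMod q) = q - 1) :
    Irreducible (cyclotomic q (ZMod p)) := by
  have hndvd : ¬ p ∣ q := fun h => hpq ((Nat.prime_dvd_prime_iff_eq hp.out hq.out).mp h)
  apply ZMod.irreducible_of_dvd_cyclotomic_of_natDegree hndvd dvd_rfl
  rw [natDegree_cyclotomic, Nat.totient_prime hq.out, ← hord, ← orderOf_units,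
    ZMod.coe_unitOfCoprime]

/-- `V` with scalar multiplication twisted by a ring endomorphism. -/
def Tw {K : Type*} [Semiring K] (_σ : K →+* K) (V : Type*) : Type _ := V

instance {K : Type*} [Semiring K] (σ : K →+* K) (V : Type*) [AddCommGroup V] :
    AddCommGroup (Tw σ V) := inferInstanceAs (AddCommGroup V)

instance {K : Type*} [Semiring K] (σ : K →+* K) (V : Type*) [AddCommGroup V] [Module K V] :
    Module K (Tw σ V) := Module.compHom V σ

instance {K : Type*} [Semiring K] (σ : K →+* K) (V : Type*) [Finite V] :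
    Finite (Tw σ V) := inferInstanceAs (Finite V)

/-- the identity map into the twisted module -/
def toTw {K : Type*} [Semiring K] (σ : K →+* K) (V : Type*) [AddCommGroup V] : V ≃+ Tw σ V :=
  AddEquiv.refl V

theorem toTw_smul {K : Type*} [Semiring K] (σ : K →+* K) (V : Type*) [AddCommGroup V] [Module K V]
    (r : K) (v : V) : r • toTw σ V v = toTw σ V ((σ r) • v) := rfl

/-- field version: transitivity and Frobenius twist -/
theorem field_trans {K V : Type*} [Field K] [Finite K] [AddCommGroup V] [Module K V] [Finite V]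
    (v w : V) (hv : v ≠ 0) (hw : w ≠ 0) : ∃ g : V ≃ₗ[K] V, g v = w := by
  let f₀ : (K ∙ v) ≃ₗ[K] (K ∙ w) :=
    (LinearEquiv.toSpanNonzeroSingleton K V v hv).symm ≪≫ₗ
      LinearEquiv.toSpanNonzeroSingleton K V w hw
  obtain ⟨g, hg⟩ := Submodule.exists_linearEquiv_restrict_eq f₀
  refine ⟨g, ?_⟩
  have h1 := hg ⟨v, Submodule.mem_span_singleton_self v⟩
  rw [← h1]
  have h2 : (LinearEquiv.toSpanNonzeroSingleton K V v hv).symm
      ⟨v, Submodule.mem_span_singleton_self v⟩ = 1 := by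
    rw [LinearEquiv.symm_apply_eq]
    exact (LinearEquiv.toSpanNonzeroSingleton_one K V v hv).symm
  simp only [f₀, LinearEquiv.trans_apply, h2, LinearEquiv.toSpanNonzeroSingleton_one]

theorem field_twist {K V : Type*} [Field K] [Finite K] [AddCommGroup V] [Module K V] [Finite V]
    (σ : K →+* K) : ∃ g : V ≃+ V, ∀ (r : K) (v : V), g (r • v) = (σ r) • g v := by
  have hfin : Module.finrank K V = Module.finrank K (Tw σ V) := by
    have h1 := Module.natCard_eq_pow_finrank (K := K) (V := V)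
    have h2 := Module.natCard_eq_pow_finrank (K := K) (V := Tw σ V)
    have h3 : Nat.card (Tw σ V) = Nat.card V := rfl
    rw [h3, h1] at h2
    exact Nat.pow_right_injective (Finite.one_lt_card (α := K)) h2
  let e : V ≃ₗ[K] Tw σ V := LinearEquiv.ofFinrankEq V (Tw σ V) hfin
  refine ⟨e.toAddEquiv.trans (toTw σ V).symm, fun r v => ?_⟩
  have h1 : e (r • v) = r • e v := e.map_smul r v
  show (toTw σ V).symm (e (r • v)) = σ r • (toTw σ V).symm (e v)
  rw [h1]
  apply (toTw σ V).injective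
  rw [← toTw_smul, AddEquiv.apply_symm_apply, AddEquiv.apply_symm_apply]

theorem exists_equivs_aux (hpq : p ≠ q) (hord : orderOf (p : ZMod q) = q - 1)
    {V : Type*} [AddCommGroup V] [Finite V] [Module (ZMod p) V]
    (T : Module.End (ZMod p) V) (hTq : T ^ q = 1) (hfpf : ∀ v, T v = v → v = 0) :
    (∀ v w : V, v ≠ 0 → w ≠ 0 → ∃ θ : V ≃+ V, θ v = w ∧ ∀ u, θ (T u) = T (θ u)) ∧
    (∃ θ : V ≃+ V, ∀ u, θ (T u) = (T ^ p) (θ u)) := by
  have hΦ := aeval_cyclotomic_eq_zero T hTq (fun v hv => hfpf v hv)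
  have hirr := irreducible_cyclotomic_of_orderOf hpq hord
  haveI : Fact (Irreducible (cyclotomic q (ZMod p))) := ⟨hirr⟩
  let f : AdjoinRoot (cyclotomic q (ZMod p)) →+* Module.End (ZMod p) V :=
    Ideal.Quotient.lift (Ideal.span {cyclotomic q (ZMod p)}) (aeval T).toRingHom (by
      intro a ha
      obtain ⟨c, rfl⟩ := Ideal.mem_span_singleton.mp ha
      simp [hΦ])
  have hfroot : f (AdjoinRoot.root _) = T := by
    show Ideal.Quotient.lift _ _ _ (Ideal.Quotient.mk _ X) = T
    rw [Ideal.Quotient.lift_mk]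
    simp
  letI : Module (AdjoinRoot (cyclotomic q (ZMod p))) V := Module.compHom V f
  have hsmul : ∀ (r : AdjoinRoot (cyclotomic q (ZMod p))) (v : V), r • v = f r v := fun r v => rfl
  have hrootk : ∀ (k : ℕ) (v : V),
      ((AdjoinRoot.root (cyclotomic q (ZMod p))) ^ k) • v = (T ^ k) v := by
    intro k v
    rw [hsmul, map_pow, hfroot]
  have hroot : ∀ (v : V), (AdjoinRoot.root (cyclotomic q (ZMod p))) • v = T v := by
    intro v
    have := hrootk 1 v
    simpa using this
  haveI : Module.Finite (ZMod p) (AdjoinRoot (cyclotomic q (ZMod p))) :=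
    (AdjoinRoot.powerBasis hirr.ne_zero).finite
  haveI : Finite (AdjoinRoot (cyclotomic q (ZMod p))) := Module.finite_of_finite (ZMod p)
  refine ⟨?_, ?_⟩
  · intro v w hv hw
    obtain ⟨g, hg⟩ := field_trans (K := AdjoinRoot (cyclotomic q (ZMod p))) v w hv hw
    refine ⟨g.toAddEquiv, hg, fun u => ?_⟩
    rw [← hroot, ← hroot]
    exact g.map_smul _ _
  · haveI : CharP (AdjoinRoot (cyclotomic q (ZMod p))) p :=
      charP_of_injective_algebraMap
        (algebraMap (ZMod p) (AdjoinRoot (cyclotomic q (ZMod p)))).injective p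
    obtain ⟨g, hg⟩ := field_twist (K := AdjoinRoot (cyclotomic q (ZMod p))) (V := V)
      (frobenius (AdjoinRoot (cyclotomic q (ZMod p))) p)
    refine ⟨g, fun u => ?_⟩
    rw [← hroot, hg, frobenius_def, hrootk]

theorem exists_equivs_aux' (hpq : p ≠ q) (hord : orderOf (p : ZMod q) = q - 1)
    {V : Type*} [AddCommGroup V] [Finite V] [Module (ZMod p) V]
    (X : AddMonoid.End V) (hXq : X ^ q = 1) (hfpf : ∀ v, X v = v → v = 0) :
    (∀ v w : V, v ≠ 0 → w ≠ 0 → ∃ θ : V ≃+ V, θ v = w ∧ ∀ u, θ (X u) = X (θ u)) ∧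
    (∃ θ : V ≃+ V, ∀ u, θ (X u) = (X ^ p) (θ u)) := by
  have hTq : (AddMonoidHom.toZModLinearMap p X : Module.End (ZMod p) V) ^ q = 1 := by
    apply LinearMap.ext
    intro u
    rw [toZMod_pow, hXq]; rfl
  obtain ⟨h1, θ, hθ⟩ := exists_equivs_aux hpq hord
    (AddMonoidHom.toZModLinearMap p X : Module.End (ZMod p) V) hTq (fun v hv => hfpf v hv)
  refine ⟨h1, θ, fun u => ?_⟩
  rw [← toZMod_pow (p := p)]
  exact hθ u

theorem exists_equivs (hpq : p ≠ q) (hord : orderOf (p : ZMod q) = q - 1)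
    {V : Type*} [AddCommGroup V] [Finite V] (hpV : ∀ v : V, p • v = 0)
    (X : AddMonoid.End V) (hXq : X ^ q = 1) (hfpf : ∀ v, X v = v → v = 0) :
    (∀ v w : V, v ≠ 0 → w ≠ 0 → ∃ θ : V ≃+ V, θ v = w ∧ ∀ u, θ (X u) = X (θ u)) ∧
    (∃ θ : V ≃+ V, ∀ u, θ (X u) = (X ^ p) (θ u)) := by
  letI : Module (ZMod p) V := AddCommGroup.zmodModule (n := p) hpV
  exact exists_equivs_aux' (p := p) (q := q) hpq hord X hXq hfpf

end LinC

section Ring

theorem natCast_eq_zero_of_geom {E : Type*} [Ring E] (α β : E) (hc : Commute α β) (q : ℕ)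
    (hq : 0 < q)
    (h1 : ∀ k < q, ∑ i ∈ Finset.range q, (α * β ^ k) ^ i = 0)
    (h2 : ∀ i, 0 < i → i < q → ∑ k ∈ Finset.range q, (β ^ i) ^ k = 0) : (q : E) = 0 := by
  have h3 : ∑ k ∈ Finset.range q, ∑ i ∈ Finset.range q, (α * β ^ k) ^ i = 0 :=
    Finset.sum_eq_zero (fun k hk => h1 k (Finset.mem_range.mp hk))
  rw [Finset.sum_comm] at h3
  have h4 : ∀ i, ∑ k ∈ Finset.range q, (α * β ^ k) ^ i =
      α ^ i * ∑ k ∈ Finset.range q, (β ^ i) ^ k := by
    intro i
    rw [Finset.mul_sum]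
    apply Finset.sum_congr rfl
    intro k _
    rw [(hc.pow_right k).mul_pow, ← pow_mul, ← pow_mul, mul_comm k i]
  simp only [h4] at h3
  rw [Finset.sum_eq_single_of_mem 0 (Finset.mem_range.mpr hq)] at h3
  · simpa using h3
  · intro i hi hi0
    rw [h2 i (Nat.pos_of_ne_zero hi0) (Finset.mem_range.mp hi), mul_zero]

theorem geom_sum_eq_zero_of_fpf {V : Type*} [AddCommGroup V] (c : AddMonoid.End V) (q : ℕ)
    (hcq : c ^ q = 1) (hfpf : ∀ v, c v = v → v = 0) : ∑ i ∈ Finset.range q, c ^ i = 0 := by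
  have h1 : (c - 1) * ∑ i ∈ Finset.range q, c ^ i = 0 := by rw [mul_geom_sum, hcq, sub_self]
  ext v
  have := congrArg (fun f => f v) h1
  simp only [AddMonoid.End.coe_mul, Function.comp_apply, AddMonoidHom.sub_apply,
    AddMonoid.End.coe_one, id_eq, AddMonoidHom.zero_apply] at this
  exact hfpf _ (sub_eq_zero.mp this)

end Ring

end Cfsg.Agent.Lib.Helper21.S4081
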