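/-
helper21: group-theoretic translation layer for S4081.
-/
import Mathlib
import Cfsg.Agent.Lib.Helper21.S4081A

set_option autoImplicit false
set_option linter.style.haveILetI false
set_option linter.unusedSimpArgs false
set_option linter.unusedSectionVars false

namespace Cfsg.Agent.Lib.Helper21.S4081

open scoped IsMulCommutative

section Conj

variable {G : Type*} [Group G] (N : Subgroup G) [N.Normal] [IsMulCommutative N]

/-- conjugation action of `G` on the abelian normal subgroup `N`, written additively -/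
noncomputable def cjEnd : G →* AddMonoid.End (Additive N) where
  toFun g := AddMonoidHom.mk'
    (fun v => Additive.ofMul (⟨g * ((Additive.toMul v : N) : G) * g⁻¹,
      Subgroup.Normal.conj_mem inferInstance _ (Additive.toMul v).2 g⟩ : N))
    (by
      intro a b
      apply Additive.toMul.injective
      apply Subtype.ext
      simp [conj_mul])
  map_one' := by
    refine AddMonoidHom.ext fun v => ?_
    refine Additive.toMul.injective (Subtype.ext ?_)
    show (1 : G) * ((Additive.toMul v : N) : G) * (1 : G)⁻¹ = ((Additive.toMul v : N) : G)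
    simp
  map_mul' a b := by
    refine AddMonoidHom.ext fun v => ?_
    refine Additive.toMul.injective (Subtype.ext ?_)
    show (a * b) * ((Additive.toMul v : N) : G) * (a * b)⁻¹ =
      a * (b * ((Additive.toMul v : N) : G) * b⁻¹) * a⁻¹
    simp [mul_assoc]

theorem cjEnd_apply (g : G) (v : Additive N) :
    ((Additive.toMul ((cjEnd N g) v) : N) : G) = g * ((Additive.toMul v : N) : G) * g⁻¹ := rfl

theorem cjEnd_pow (g : G) (k : ℕ) : cjEnd N g ^ k = cjEnd N (g ^ k) := (map_pow _ _ _).symm

/-- restriction to `N` of an automorphism preserving `N`, written additively -/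
noncomputable def resAut (ψ : MulAut G) (hψ : ∀ g, ψ g ∈ N ↔ g ∈ N) :
    Additive N ≃+ Additive N where
  toFun v := Additive.ofMul (⟨ψ ((Additive.toMul v : N) : G), (hψ _).mpr (Additive.toMul v).2⟩ : N)
  invFun v := Additive.ofMul (⟨ψ.symm ((Additive.toMul v : N) : G),
    (hψ _).mp (by rw [MulEquiv.apply_symm_apply]; exact (Additive.toMul v).2)⟩ : N)
  left_inv v := by
    refine Additive.toMul.injective (Subtype.ext ?_)
    show ψ.symm (ψ ((Additive.toMul v : N) : G)) = _
    simp
  right_inv v := by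
    refine Additive.toMul.injective (Subtype.ext ?_)
    show ψ (ψ.symm ((Additive.toMul v : N) : G)) = _
    simp
  map_add' a b := by
    refine Additive.toMul.injective (Subtype.ext ?_)
    show ψ (((Additive.toMul a : N) : G) * ((Additive.toMul b : N) : G)) =
      ψ ((Additive.toMul a : N) : G) * ψ ((Additive.toMul b : N) : G)
    simp

theorem resAut_apply (ψ : MulAut G) (hψ : ∀ g, ψ g ∈ N ↔ g ∈ N) (v : Additive N) :
    ((Additive.toMul (resAut N ψ hψ v) : N) : G) = ψ ((Additive.toMul v : N) : G) := rfl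

theorem resAut_cjEnd (ψ : MulAut G) (hψ : ∀ g, ψ g ∈ N ↔ g ∈ N) (g : G) (v : Additive N) :
    resAut N ψ hψ (cjEnd N g v) = cjEnd N (ψ g) (resAut N ψ hψ v) := by
  refine Additive.toMul.injective (Subtype.ext ?_)
  show ψ (g * ((Additive.toMul v : N) : G) * g⁻¹) =
    ψ g * ψ ((Additive.toMul v : N) : G) * (ψ g)⁻¹
  simp

theorem exists_conj_eq [Finite N] (y : G) (hy : ∀ a ∈ N, y * a * y⁻¹ = a → a = 1) (u : G)
    (hu : u ∈ N) : ∃ g ∈ N, g * (u * y) * g⁻¹ = y := by
  let f : N → N := fun g => ⟨(g : G)⁻¹ * (y * g * y⁻¹),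
    N.mul_mem (N.inv_mem g.2) (Subgroup.Normal.conj_mem inferInstance _ g.2 y)⟩
  have hinj : Function.Injective f := by
    intro g h hgh
    have h1 : (g : G)⁻¹ * (y * g * y⁻¹) = (h : G)⁻¹ * (y * h * y⁻¹) := congrArg Subtype.val hgh
    have h2 : y * ((g : G) * (h : G)⁻¹) * y⁻¹ = (g : G) * (h : G)⁻¹ := by
      have h3 : y * (g : G) * y⁻¹ = (g : G) * (h : G)⁻¹ * (y * h * y⁻¹) := by
        rw [mul_assoc (g : G), ← h1]; group
      calc y * ((g : G) * (h : G)⁻¹) * y⁻¹ = (y * g * y⁻¹) * (y * h * y⁻¹)⁻¹ := by group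
        _ = (g : G) * (h : G)⁻¹ := by rw [h3]; group
    have h3 := hy _ (N.mul_mem g.2 (N.inv_mem h.2)) h2
    exact Subtype.ext (mul_inv_eq_one.mp h3)
  have hsurj := Finite.injective_iff_surjective.mp hinj
  obtain ⟨g, hg⟩ := hsurj ⟨u, hu⟩
  have hg' : (g : G)⁻¹ * (y * g * y⁻¹) = u := congrArg Subtype.val hg
  refine ⟨g, g.2, ?_⟩
  rw [← hg']; group

theorem exists_decomp [Finite G] (x : G) (hc : N.IsComplement' (Subgroup.zpowers x)) (g : G) :
    ∃ u ∈ N, ∃ i : ℕ, g = u * x ^ i := by
  obtain ⟨⟨u, h⟩, rfl⟩ := hc.2 g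
  obtain ⟨i, hi⟩ := (mem_powers_iff_mem_zpowers.mpr h.2)
  exact ⟨u, u.2, i, by simp [← hi]⟩

theorem exists_aut_of_compat [Finite G] (x : G) (hc : N.IsComplement' (Subgroup.zpowers x))
    (θ : Additive N ≃+ Additive N) (k : ℕ) (hk : (orderOf x).Coprime k)
    (hθ : ∀ u, θ (cjEnd N x u) = (cjEnd N x ^ k) (θ u)) :
    ∃ ψ : MulAut G, ψ x = x ^ k ∧
      ∀ u : Additive N, ψ ((Additive.toMul u : N) : G) = ((Additive.toMul (θ u) : N) : G) := by
  classical
  let e := SemidirectProduct.mulEquivSubgroup hc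
  let fn : N ≃* N := MulEquiv.toAdditive.symm θ
  have hfn : ∀ u : N, fn u = Additive.toMul (θ (Additive.ofMul u)) := fun u => rfl
  have hcardH : Nat.card (Subgroup.zpowers x) = orderOf x := Nat.card_zpowers x
  let fg : Subgroup.zpowers x ≃* Subgroup.zpowers x :=
    MulEquiv.ofBijective (powMonoidHom k : Subgroup.zpowers x →* Subgroup.zpowers x)
      (powCoprime (by rw [hcardH]; exact hk)).bijective
  have hfg : ∀ h : Subgroup.zpowers x, ((fg h : Subgroup.zpowers x) : G) = (h : G) ^ k :=
    fun h => rfl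
  let Θ : AddMonoid.End (Additive N) := θ.toAddMonoidHom
  have hsemi : SemiconjBy Θ (cjEnd N x) (cjEnd N x ^ k) := by
    apply AddMonoidHom.ext
    intro u
    exact hθ u
  have hcompat : ∀ (h : Subgroup.zpowers x) (u : Additive N),
      θ (cjEnd N (h : G) u) = cjEnd N ((h : G) ^ k) (θ u) := by
    intro h u
    obtain ⟨i, hi⟩ := mem_powers_iff_mem_zpowers.mpr h.2
    have h1 := (hsemi.pow_right i).eq
    have h2 := congrArg (fun f => f u) h1
    simp only [AddMonoid.End.coe_mul, Function.comp_apply] at h2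
    have hi' : x ^ i = (h : G) := hi
    rw [← hi', ← cjEnd_pow N x i, ← pow_mul, mul_comm, pow_mul, ← cjEnd_pow N (x ^ k) i,
      ← cjEnd_pow N x k]
    exact h2
  have hcongr : ∀ g : Subgroup.zpowers x,
      MulEquiv.trans ((N.normalizerMonoidHom.comp (Subgroup.inclusion
        (N.normalizer_eq_top ▸ le_top))) g) fn =
      fn.trans ((N.normalizerMonoidHom.comp (Subgroup.inclusion
        (N.normalizer_eq_top ▸ le_top))) (fg g)) := by
    intro g
    apply MulEquiv.ext
    intro n
    have := hcompat g (Additive.ofMul n)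
    apply Subtype.ext
    have h3 := congrArg (fun v => ((Additive.toMul v : N) : G)) this
    exact h3
  refine ⟨e.symm.trans ((SemidirectProduct.congr fn fg hcongr).trans e), ?_, ?_⟩
  · have hx : e ⟨1, ⟨x, Subgroup.mem_zpowers x⟩⟩ = x := by
      rw [SemidirectProduct.mulEquivSubgroup_apply]; simp
    have hx' : e.symm x = ⟨1, ⟨x, Subgroup.mem_zpowers x⟩⟩ := by
      rw [MulEquiv.symm_apply_eq]; exact hx.symm
    show e ((SemidirectProduct.congr fn fg hcongr) (e.symm x)) = x ^ k
    rw [hx', SemidirectProduct.mulEquivSubgroup_apply]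
    simp [hfg]
  · intro u
    have hu : e ⟨Additive.toMul u, 1⟩ = ((Additive.toMul u : N) : G) := by
      rw [SemidirectProduct.mulEquivSubgroup_apply]; simp
    have hu' : e.symm ((Additive.toMul u : N) : G) = ⟨Additive.toMul u, 1⟩ := by
      rw [MulEquiv.symm_apply_eq]; exact hu.symm
    show e ((SemidirectProduct.congr fn fg hcongr) (e.symm _)) = _
    rw [hu', SemidirectProduct.mulEquivSubgroup_apply]
    simp [hfn]

end Conj

end Cfsg.Agent.Lib.Helper21.S4081
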