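import Mathlib
import Cfsg.Agent.Lib.Helper21.S4081B

set_option autoImplicit false
set_option linter.unusedSectionVars false

namespace Cfsg.Agent.Lib.Helper21.Camina

open Cfsg.Agent.Lib.Helper21.S4081
open scoped IsMulCommutative

variable {G : Type*} [Group G]

section EndLemmas

theorem end_sum_apply {M ι : Type*} [AddCommMonoid M] (s : Finset ι) (f : ι → AddMonoid.End M)
    (v : M) : (∑ x ∈ s, f x) v = ∑ x ∈ s, f x v := by
  classical
  induction s using Finset.induction_on with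
  | empty => simp
  | insert a s ha ih =>
    rw [Finset.sum_insert ha, Finset.sum_insert ha, ← ih]
    rfl


variable (V : Subgroup G) [V.Normal] [IsMulCommutative V]

theorem cj_fix_iff (g : G) (v : Additive V) :
    cjEnd V g v = v ↔ g * ((Additive.toMul v : V) : G) * g⁻¹ = ((Additive.toMul v : V) : G) := by
  constructor
  · intro h
    rw [← cjEnd_apply, h]
  · intro h
    apply Additive.toMul.injective
    apply Subtype.ext
    rw [cjEnd_apply, h]

theorem eq_bot_of_natCast_eq_zero [Finite G] (n : ℕ) (hn : (Nat.card V).Coprime n)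
    (h0 : (n : AddMonoid.End (Additive V)) = 0) : V = ⊥ := by
  rw [Subgroup.eq_bot_iff_forall]
  intro v hv
  have h1 : (n : AddMonoid.End (Additive V)) (Additive.ofMul (⟨v, hv⟩ : V)) = 0 := by
    rw [h0]
    rfl
  rw [AddMonoid.End.natCast_apply] at h1
  have h2 : (⟨v, hv⟩ : V) ^ n = 1 := by
    have := congrArg Additive.toMul h1
    simpa using this
  have h3 : orderOf (⟨v, hv⟩ : V) ∣ n := orderOf_dvd_of_pow_eq_one h2
  have h4 : orderOf (⟨v, hv⟩ : V) ∣ Nat.card V := orderOf_dvd_natCard _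
  have h5 := Nat.eq_one_of_dvd_coprimes hn h4 h3
  have h6 := orderOf_eq_one_iff.mp h5
  exact congrArg Subtype.val h6

/-- fixed-point-free elements give fixed-point-free endomorphisms -/
theorem cj_fpf (g : G) (hg : ∀ v ∈ V, g * v * g⁻¹ = v → v = 1) :
    ∀ v : Additive V, cjEnd V g v = v → v = 0 := by
  intro v hv
  have h1 := (cj_fix_iff V g v).mp hv
  have h2 := hg _ (Additive.toMul v : V).2 h1
  apply Additive.toMul.injective
  apply Subtype.ext
  exact h2

/-- A Frobenius-like group `Q ⋊ ⟨h⟩` cannot act on a nontrivial abelian group `V` of order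
coprime to `|Q|` with `C_V(Q) = 1` and all conjugates of `h` fixed-point-free. -/
theorem false_of_frobenius_action [Finite G] (hV1 : V ≠ ⊥) (Q : Subgroup G)
    (hVQ : (Nat.card V).Coprime (Nat.card Q)) (h : G) (s : ℕ) (hs : 0 < s) (hhs : h ^ s = 1)
    (hhQ : ∀ y ∈ Q, h * y * h⁻¹ ∈ Q)
    (hCQ : ∀ i, 0 < i → i < s → ∀ y ∈ Q, h ^ i * y = y * h ^ i → y = 1)
    (hCV : ∀ y ∈ Q, ∀ v ∈ V, (y * h * y⁻¹) * v * (y * h * y⁻¹)⁻¹ = v → v = 1)
    (hCVQ : ∀ v ∈ V, (∀ y ∈ Q, y * v * y⁻¹ = v) → v = 1) : False := by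
  classical
  have : Fintype Q := Fintype.ofFinite _
  have hSQ : ∑ x : Q, cjEnd V (x : G) = 0 := by
    refine AddMonoidHom.ext fun v => ?_
    have hfix : ∀ y : Q, cjEnd V (y : G) ((∑ x : Q, cjEnd V (x : G)) v) =
        (∑ x : Q, cjEnd V (x : G)) v := by
      intro y
      rw [end_sum_apply, map_sum]
      rw [← Equiv.sum_comp (Equiv.mulLeft y) (fun x : Q => (cjEnd V (x : G)) v)]
      apply Finset.sum_congr rfl
      intro x _
      simp only [Equiv.coe_mulLeft, Subgroup.coe_mul, map_mul]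
      rfl
    have hw1 : ((Additive.toMul ((∑ x : Q, cjEnd V (x : G)) v) : V) : G) = 1 := by
      apply hCVQ _ (Additive.toMul ((∑ x : Q, cjEnd V (x : G)) v) : V).2
      intro y hy
      exact (cj_fix_iff V y _).mp (hfix ⟨y, hy⟩)
    show (∑ x : Q, cjEnd V (x : G)) v = 0
    apply Additive.toMul.injective
    apply Subtype.ext
    exact hw1
  have hhQi : ∀ (i : ℕ) (y : G), y ∈ Q → h ^ i * y * (h ^ i)⁻¹ ∈ Q := by
    intro i
    induction i with
    | zero => intro y hy; simpa using hy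
    | succ i ih =>
      intro y hy
      have := hhQ _ (ih y hy)
      have e : h ^ (i + 1) * y * (h ^ (i + 1))⁻¹ = h * (h ^ i * y * (h ^ i)⁻¹) * h⁻¹ := by
        rw [pow_succ']; group
      rw [e]; exact this
  have hgeom : ∀ y : Q, ∑ i ∈ Finset.range s, cjEnd V ((y : G) * h * (y : G)⁻¹) ^ i = 0 := by
    intro y
    apply geom_sum_eq_zero_of_fpf
    · rw [cjEnd_pow, conj_pow, hhs, mul_one, mul_inv_cancel, map_one]
    · exact cj_fpf V _ (hCV y y.2)
  have hdouble : ∑ y : Q, ∑ i ∈ Finset.range s, cjEnd V ((y : G) * h * (y : G)⁻¹) ^ i = 0 :=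
    Finset.sum_eq_zero (fun y _ => hgeom y)
  rw [Finset.sum_comm] at hdouble
  have hinner : ∀ i, 0 < i → i < s → ∑ y : Q, cjEnd V ((y : G) * h * (y : G)⁻¹) ^ i = 0 := by
    intro i hi0 his
    let φ : Q → Q := fun y => ⟨(y : G) * h ^ i * (y : G)⁻¹ * (h ^ i)⁻¹, by
      have := hhQi i _ (Q.inv_mem y.2)
      have e : (y : G) * h ^ i * (y : G)⁻¹ * (h ^ i)⁻¹ =
          (y : G) * (h ^ i * (y : G)⁻¹ * (h ^ i)⁻¹) := by group
      rw [e]; exact Q.mul_mem y.2 this⟩
    have hφinj : Function.Injective φ := by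
      intro y y' hyy
      have h1 : (y : G) * h ^ i * (y : G)⁻¹ * (h ^ i)⁻¹ =
          (y' : G) * h ^ i * (y' : G)⁻¹ * (h ^ i)⁻¹ := congrArg Subtype.val hyy
      have h2 : (y : G) * h ^ i * (y : G)⁻¹ = (y' : G) * h ^ i * (y' : G)⁻¹ := mul_right_cancel h1
      have h3 : h ^ i * ((y' : G)⁻¹ * y) = ((y' : G)⁻¹ * y) * h ^ i := by
        calc h ^ i * ((y' : G)⁻¹ * y)
            = (y' : G)⁻¹ * ((y' : G) * h ^ i * (y' : G)⁻¹) * y := by group
          _ = (y' : G)⁻¹ * ((y : G) * h ^ i * (y : G)⁻¹) * y := by rw [h2]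
          _ = ((y' : G)⁻¹ * y) * h ^ i := by group
      have h4 := hCQ i hi0 his _ (Q.mul_mem (Q.inv_mem y'.2) y.2) h3
      apply Subtype.ext
      have : (y : G) = y' * ((y' : G)⁻¹ * y) := by group
      rw [this, h4, mul_one]
    have hφbij : Function.Bijective φ := Finite.injective_iff_bijective.mp hφinj
    have e1 : ∀ y : Q, cjEnd V ((y : G) * h * (y : G)⁻¹) ^ i =
        cjEnd V ((φ y : Q) : G) * cjEnd V (h ^ i) := by
      intro y
      rw [cjEnd_pow, conj_pow, ← map_mul]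
      congr 1
      show _ = (y : G) * h ^ i * (y : G)⁻¹ * (h ^ i)⁻¹ * h ^ i
      group
    simp only [e1]
    rw [← Finset.sum_mul]
    have e2 : ∑ y : Q, cjEnd V ((φ y : Q) : G) = ∑ x : Q, cjEnd V (x : G) :=
      Equiv.sum_comp (Equiv.ofBijective φ hφbij) (fun x : Q => cjEnd V (x : G))
    rw [e2, hSQ, zero_mul]
  rw [Finset.sum_eq_single_of_mem 0 (Finset.mem_range.mpr hs)] at hdouble
  · simp only [pow_zero, Finset.sum_const, Finset.card_univ, nsmul_eq_mul, mul_one] at hdouble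
    have hcard : Nat.card Q = Fintype.card Q := Nat.card_eq_fintype_card
    rw [← hcard] at hdouble
    exact hV1 (eq_bot_of_natCast_eq_zero V _ hVQ hdouble)
  · intro i hi hi0
    exact hinner i (Nat.pos_of_ne_zero hi0) (Finset.mem_range.mp hi)

/-- `C_q × C_q` cannot act on a nontrivial abelian `q'`-group with all nonidentity elements
fixed-point-free. -/
theorem false_of_rank_two [Finite G] (hV1 : V ≠ ⊥) (q : ℕ) (hq : q.Prime)
    (hVq : (Nat.card V).Coprime q) (g₁ g₂ : G)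
    (h1 : ∀ v ∈ V, g₁ ^ q * v * (g₁ ^ q)⁻¹ = v) (h2 : ∀ v ∈ V, g₂ ^ q * v * (g₂ ^ q)⁻¹ = v)
    (h12 : ∀ v ∈ V, (g₁ * g₂) * v * (g₁ * g₂)⁻¹ = (g₂ * g₁) * v * (g₂ * g₁)⁻¹)
    (hfpf : ∀ i j : ℕ, ¬ (q ∣ i ∧ q ∣ j) → ∀ v ∈ V,
      (g₁ ^ i * g₂ ^ j) * v * (g₁ ^ i * g₂ ^ j)⁻¹ = v → v = 1) : False := by
  have hone : ∀ g : G, (∀ v ∈ V, g * v * g⁻¹ = v) → cjEnd V g = 1 := by
    intro g hg
    refine AddMonoidHom.ext fun v => ?_
    exact (cj_fix_iff V g v).mpr (hg _ (Additive.toMul v : V).2)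
  have hα : cjEnd V g₁ ^ q = 1 := by rw [cjEnd_pow]; exact hone _ h1
  have hβ : cjEnd V g₂ ^ q = 1 := by rw [cjEnd_pow]; exact hone _ h2
  have hcomm : Commute (cjEnd V g₁) (cjEnd V g₂) := by
    show cjEnd V g₁ * cjEnd V g₂ = cjEnd V g₂ * cjEnd V g₁
    rw [← map_mul, ← map_mul]
    refine AddMonoidHom.ext fun v => ?_
    apply Additive.toMul.injective
    apply Subtype.ext
    have e1 := cjEnd_apply V (g₁ * g₂) v
    have e2 := cjEnd_apply V (g₂ * g₁) v
    exact e1.trans ((h12 _ (Additive.toMul v : V).2).trans e2.symm)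
  have hcast := natCast_eq_zero_of_geom (cjEnd V g₁) (cjEnd V g₂) hcomm q hq.pos ?_ ?_
  · exact hV1 (eq_bot_of_natCast_eq_zero V q hVq hcast)
  · intro k hk
    apply geom_sum_eq_zero_of_fpf
    · rw [(hcomm.pow_right k).mul_pow, hα, ← pow_mul, mul_comm k q, pow_mul, hβ, one_pow, one_mul]
    · have : cjEnd V g₁ * cjEnd V g₂ ^ k = cjEnd V (g₁ ^ 1 * g₂ ^ k) := by
        simp only [map_mul, map_pow, pow_one]
      rw [this]
      apply cj_fpf
      apply hfpf 1 k
      rintro ⟨h, -⟩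
      exact hq.one_lt.ne' (Nat.dvd_one.mp h)
  · intro i hi0 hiq
    apply geom_sum_eq_zero_of_fpf
    · rw [← pow_mul, mul_comm i q, pow_mul, hβ, one_pow]
    · have : cjEnd V g₂ ^ i = cjEnd V (g₁ ^ 0 * g₂ ^ i) := by
        rw [pow_zero, one_mul, map_pow]
      rw [this]
      apply cj_fpf
      apply hfpf 0 i
      rintro ⟨-, h⟩
      exact absurd (Nat.le_of_dvd hi0 h) (not_le.mpr hiq)

end EndLemmas

end Cfsg.Agent.Lib.Helper21.Camina
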