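import Mathlib
import Cfsg.Agent.Lib.Helper21.CaminaD
import Cfsg.Agent.Lib.Helper21.CaminaE

set_option autoImplicit false

namespace Cfsg.Agent.Lib.Helper21.Camina

universe u

open scoped IsMulCommutative

variable {G : Type*} [Group G]

/-- `Z(R)` as a subgroup of `G` -/
def zsub (R : Subgroup G) : Subgroup G := R ⊓ Subgroup.centralizer (R : Set G)

instance zsub_normal (R : Subgroup G) [R.Normal] : (zsub R).Normal := by
  unfold zsub
  infer_instance

instance zsub_comm (R : Subgroup G) : IsMulCommutative (zsub R) := by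
  refine .of_setLike_mul_comm ?_
  intro a ha b hb
  exact (Subgroup.mem_centralizer_iff.mp hb.2 a ha.1)

theorem zsub_le (R : Subgroup G) : zsub R ≤ R := inf_le_left

theorem zsub_ne_bot [Finite G] (R : Subgroup G) (r : ℕ) [Fact r.Prime] (hR : IsPGroup r R)
    (hR1 : R ≠ ⊥) : zsub R ≠ ⊥ := by
  have : Nontrivial R := (Subgroup.nontrivial_iff_ne_bot R).mpr hR1
  have hc := hR.center_nontrivial
  obtain ⟨z, hz⟩ := exists_ne (1 : Subgroup.center R)
  intro hbot
  apply hz
  have hmem : ((z : R) : G) ∈ zsub R := by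
    refine ⟨(z : R).2, ?_⟩
    show ((z : R) : G) ∈ Subgroup.centralizer (R : Set G)
    rw [Subgroup.mem_centralizer_iff]
    intro h hh
    have := (Subgroup.mem_center_iff.mp z.2) ⟨h, hh⟩
    exact congrArg Subtype.val this
  rw [hbot, Subgroup.mem_bot] at hmem
  apply Subtype.ext
  apply Subtype.ext
  exact hmem

theorem zsub_le_centralizer (R : Subgroup G) : R ≤ Subgroup.centralizer (zsub R : Set G) := by
  intro x hx
  rw [Subgroup.mem_centralizer_iff]
  intro v hv
  exact (Subgroup.mem_centralizer_iff.mp hv.2 x hx).symm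


/-- a nontrivial `r`-subgroup has order divisible by `r` -/
theorem dvd_card_of_pgroup [Finite G] (R : Subgroup G) (r : ℕ) [Fact r.Prime] (hR : IsPGroup r R)
    (hR1 : R ≠ ⊥) : r ∣ Nat.card R := by
  obtain ⟨k, hk⟩ := IsPGroup.iff_card.mp hR
  rcases Nat.eq_zero_or_pos k with h | h
  · exfalso
    rw [h, pow_zero] at hk
    exact hR1 (Subgroup.card_eq_one.mp hk)
  · rw [hk]
    exact dvd_pow_self r h.ne'

theorem orderOf_dvd_of_pgroup [Finite G] (R : Subgroup G) (r : ℕ) [Fact r.Prime]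
    (hR : IsPGroup r R) {x : G} (hx : x ∈ R) : ∃ j, orderOf x ∣ r ^ j := by
  obtain ⟨k, hk⟩ := IsPGroup.iff_card.mp hR
  exact ⟨k, by rw [← hk]; exact Subgroup.orderOf_dvd_natCard R hx⟩

/-- Step 1: for a bad prime `q` and `r ≠ q`, the Sylow `r`-subgroups of `N` are normal in `G`
(given the induction hypothesis for proper subgroups). -/
theorem sylow_normal_step {G : Type u} [Group G] [Finite G] {N : Subgroup G} [N.Normal]
    (hc : IsCam N) (q : ℕ) [Fact q.Prime] (hqN : q ∣ Nat.card N) (hqI : q ∣ N.index)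
    (h3 : ¬ IsPrimePow N.index)
    (ih : ∀ (H : Type u) [Group H] [Finite H], Nat.card H < Nat.card G →
      ∀ (K : Subgroup H) [K.Normal], K ≠ ⊥ → K ≠ ⊤ → IsCam K →
        (∀ x ∈ K, x ≠ 1 → Subgroup.centralizer ({x} : Set H) ≤ K) ∨
          IsPrimePow (Nat.card K) ∨ IsPrimePow K.index)
    (r : ℕ) [Fact r.Prime] (hrq : r ≠ q) (R : Sylow r N) :
    ((R : Subgroup N).map N.subtype).Normal := by
  have hq : q.Prime := Fact.out
  have hr : r.Prime := Fact.out
  set R' : Subgroup G := (R : Subgroup N).map N.subtype with hR'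
  have hR'N : R' ≤ N := by
    rintro _ ⟨x, -, rfl⟩
    exact x.2
  have hR'p : IsPGroup r R' := R.2.map N.subtype
  by_cases hbot : R' = ⊥
  · rw [hbot]; infer_instance
  set M : Subgroup G := Subgroup.normalizer (R' : Set G) with hM
  have hMN : M ⊔ N = ⊤ := Sylow.normalizer_sup_eq_top R
  by_cases hMtop : M = ⊤
  · exact Subgroup.normalizer_eq_top_iff.mp hMtop
  exfalso
  have hcardM : Nat.card M < Nat.card G := by
    have h1 := M.card_mul_index
    have h2 : 1 < M.index := Subgroup.one_lt_index_of_ne_top hMtop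
    have h3 : 0 < Nat.card M := Nat.card_pos
    nlinarith
  have hgex := exists_in_sup hc M hMN q hqI
  obtain ⟨g, hgM, hgN, k, hgo⟩ := hgex
  have hK1 : N.subgroupOf M ≠ ⊥ := by
    intro h
    apply hbot
    rw [Subgroup.eq_bot_iff_forall]
    intro x hx
    have hxM : x ∈ M := Subgroup.le_normalizer hx
    have : (⟨x, hxM⟩ : M) ∈ N.subgroupOf M := Subgroup.mem_subgroupOf.mpr (hR'N hx)
    rw [h, Subgroup.mem_bot] at this
    exact congrArg Subtype.val this
  have hK2 : N.subgroupOf M ≠ ⊤ := by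
    intro h
    have : (⟨g, hgM⟩ : M) ∈ N.subgroupOf M := by rw [h]; exact Subgroup.mem_top _
    exact hgN (Subgroup.mem_subgroupOf.mp this)
  have halt := ih M hcardM (N.subgroupOf M) hK1 hK2 (isCam_subgroupOf hc M hMN)
  obtain ⟨j, hj⟩ := card_inf_eq_prime_pow hc M hMN q hqN hqI h3 halt
  have hle : R' ≤ N ⊓ M := le_inf hR'N Subgroup.le_normalizer
  have h4 : r ∣ Nat.card (N ⊓ M : Subgroup G) :=
    (dvd_card_of_pgroup R' r hR'p hbot).trans (Subgroup.card_dvd_of_le hle)
  rw [hj] at h4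
  exact hrq ((Nat.prime_dvd_prime_iff_eq hr hq).mp (hr.dvd_of_dvd_pow h4))

end Cfsg.Agent.Lib.Helper21.Camina
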