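import Mathlib
import Cfsg.Agent.Lib.Helper21.CaminaF

set_option autoImplicit false

namespace Cfsg.Agent.Lib.Helper21.Camina

universe u

open scoped IsMulCommutative

theorem conj_eq_of_mem_centralizer {G : Type*} [Group G] {S : Set G} {x : G}
    (hx : x ∈ Subgroup.centralizer S) {v : G} (hv : v ∈ S) : x * v * x⁻¹ = v := by
  have := Subgroup.mem_centralizer_iff.mp hx v hv
  rw [← this, mul_inv_cancel_right]

/-- Case I: all Sylow subgroups of `N` normal in `G`. -/
theorem false_of_case_one {G : Type*} [Group G] [Finite G] {N : Subgroup G} [N.Normal]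
    (hc : IsCam N) (q : ℕ) [Fact q.Prime] (hqN : q ∣ Nat.card N) (hqI : q ∣ N.index)
    (r : ℕ) [Fact r.Prime] (hrq : r ≠ q) (hrN : r ∣ Nat.card N)
    (hall : ∀ (t : ℕ) [Fact t.Prime] (T : Sylow t N),
      ((T : Subgroup N).map N.subtype).Normal) : False := by
  have hq : q.Prime := Fact.out
  have hr : r.Prime := Fact.out
  obtain ⟨R⟩ : Nonempty (Sylow r N) := inferInstance
  set R' : Subgroup G := (R : Subgroup N).map N.subtype with hR'
  have : R'.Normal := hall r R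
  have hR'N : R' ≤ N := by
    rintro _ ⟨x, -, rfl⟩
    exact x.2
  have hR'p : IsPGroup r R' := R.2.map N.subtype
  have hbot : R' ≠ ⊥ := by
    intro h
    rw [hR', Subgroup.map_eq_bot_iff_of_injective _ N.subtype_injective] at h
    exact R.ne_bot_of_dvd_card hrN h
  have hV1 := zsub_ne_bot R' r hR'p hbot
  have hVN : zsub R' ≤ N := (zsub_le R').trans hR'N
  have hVp : IsPGroup r (zsub R') := hR'p.to_le (zsub_le R')
  have hNC : N ≤ Subgroup.centralizer (zsub R' : Set G) := by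
    apply le_of_sylows
    intro t _
    by_cases htr : t = r
    · rw [htr]
      exact ⟨R, zsub_le_centralizer R'⟩
    · obtain ⟨T⟩ : Nonempty (Sylow t N) := inferInstance
      refine ⟨T, ?_⟩
      have hTn : ((T : Subgroup N).map N.subtype).Normal := hall t T
      have hT'p : IsPGroup t ((T : Subgroup N).map N.subtype) := T.2.map N.subtype
      have hdisj : Disjoint ((T : Subgroup N).map N.subtype) R' :=
        IsPGroup.disjoint_of_ne t r htr _ _ hT'p hR'p
      intro x hx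
      rw [Subgroup.mem_centralizer_iff]
      intro v hv
      exact (Subgroup.commute_of_normal_of_disjoint _ _ hTn inferInstance hdisj x v hx
        (zsub_le R' hv)).eq.symm
  obtain ⟨g₁, g₂, hg1, hg2, hcomm, hind⟩ := exists_rank_two hc q hqN hqI
  obtain ⟨a, ha⟩ := IsPGroup.iff_card.mp hVp
  have hVq : (Nat.card (zsub R')).Coprime q := by
    rw [ha]
    exact Nat.Coprime.pow_left a ((Nat.coprime_primes hr hq).mpr hrq)
  refine false_of_rank_two (zsub R') hV1 q hq hVq g₁ g₂ ?_ ?_ ?_ ?_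
  · intro v hv
    exact conj_eq_of_mem_centralizer (hNC hg1) hv
  · intro v hv
    exact conj_eq_of_mem_centralizer (hNC hg2) hv
  · intro v hv
    have h1 := conj_eq_of_mem_centralizer (hNC hcomm) hv
    calc g₁ * g₂ * v * (g₁ * g₂)⁻¹
        = (g₂ * g₁) * ((g₁⁻¹ * g₂⁻¹ * g₁ * g₂) * v * (g₁⁻¹ * g₂⁻¹ * g₁ * g₂)⁻¹) * (g₂ * g₁)⁻¹ := by
          group
      _ = g₂ * g₁ * v * (g₂ * g₁)⁻¹ := by rw [h1]
  · intro i j hij v hv hfix
    have hxN : g₁ ^ i * g₂ ^ j ∉ N := fun h => hij (hind i j h)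
    have hxq : (g₁ ^ i * g₂ ^ j) ^ q ∈ N := by
      rw [← QuotientGroup.eq_one_iff]
      have e1 : ((g₁ : G) : G ⧸ N) ^ q = 1 := by
        rw [← QuotientGroup.mk_pow]; exact (QuotientGroup.eq_one_iff _).mpr hg1
      have e2 : ((g₂ : G) : G ⧸ N) ^ q = 1 := by
        rw [← QuotientGroup.mk_pow]; exact (QuotientGroup.eq_one_iff _).mpr hg2
      have e3 : Commute ((g₁ : G) : G ⧸ N) ((g₂ : G) : G ⧸ N) := by
        have := (QuotientGroup.eq_one_iff (N := N) _).mpr hcomm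
        rw [QuotientGroup.mk_mul, QuotientGroup.mk_mul, QuotientGroup.mk_mul,
          QuotientGroup.mk_inv, QuotientGroup.mk_inv] at this
        show ((g₁ : G) : G ⧸ N) * ((g₂ : G) : G ⧸ N) = ((g₂ : G) : G ⧸ N) * ((g₁ : G) : G ⧸ N)
        have h2 : ((g₁ : G) : G ⧸ N) * ((g₂ : G) : G ⧸ N) =
            ((g₂ : G) : G ⧸ N) * ((g₁ : G) : G ⧸ N) *
            ((((g₁ : G) : G ⧸ N))⁻¹ * (((g₂ : G) : G ⧸ N))⁻¹ * ((g₁ : G) : G ⧸ N) *
              ((g₂ : G) : G ⧸ N)) := by group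
        rw [h2, this, mul_one]
      rw [QuotientGroup.mk_pow, QuotientGroup.mk_mul, QuotientGroup.mk_pow, QuotientGroup.mk_pow,
        (e3.pow_pow i j).mul_pow, ← pow_mul, ← pow_mul, mul_comm i q, mul_comm j q, pow_mul,
        pow_mul, e1, e2, one_pow, one_pow, one_mul]
    have hxv : g₁ ^ i * g₂ ^ j * v = v * (g₁ ^ i * g₂ ^ j) := by
      calc g₁ ^ i * g₂ ^ j * v = (g₁ ^ i * g₂ ^ j * v * (g₁ ^ i * g₂ ^ j)⁻¹) * (g₁ ^ i * g₂ ^ j) := by
            group
        _ = v * (g₁ ^ i * g₂ ^ j) := by rw [hfix]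
    obtain ⟨b, hb⟩ := orderOf_dvd_of_pgroup (zsub R') r hVp hv
    exact eq_one_of_comm_of_pow_mem hc hq hr (Ne.symm hrq) hxN hxq (hVN hv) hxv hb

/-- Case II: some Sylow `q`-subgroup of `N` is not normal in `G`. -/
theorem false_of_case_two {G : Type u} [Group G] [Finite G] {N : Subgroup G} [N.Normal]
    (hc : IsCam N) (q : ℕ) [Fact q.Prime] (hqN : q ∣ Nat.card N) (hqI : q ∣ N.index)
    (h3 : ¬ IsPrimePow N.index)
    (ih : ∀ (H : Type u) [Group H] [Finite H], Nat.card H < Nat.card G →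
      ∀ (K : Subgroup H) [K.Normal], K ≠ ⊥ → K ≠ ⊤ → IsCam K →
        (∀ x ∈ K, x ≠ 1 → Subgroup.centralizer ({x} : Set H) ≤ K) ∨
          IsPrimePow (Nat.card K) ∨ IsPrimePow K.index)
    (r : ℕ) [Fact r.Prime] (hrq : r ≠ q) (hrN : r ∣ Nat.card N)
    (R : Sylow r N) (hRn : ((R : Subgroup N).map N.subtype).Normal)
    (s : ℕ) [Fact s.Prime] (hsq : s ≠ q) (hsr : s ≠ r) (hsI : s ∣ N.index)
    (Q0 : Sylow q N) (hQ0 : ¬ ((Q0 : Subgroup N).map N.subtype).Normal) : False := by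
  have hq : q.Prime := Fact.out
  have hr : r.Prime := Fact.out
  have hs : s.Prime := Fact.out
  set R' : Subgroup G := (R : Subgroup N).map N.subtype with hR'
  have : R'.Normal := hRn
  have hR'N : R' ≤ N := by
    rintro _ ⟨x, -, rfl⟩
    exact x.2
  have hR'p : IsPGroup r R' := R.2.map N.subtype
  have hbot : R' ≠ ⊥ := by
    intro h
    rw [hR', Subgroup.map_eq_bot_iff_of_injective _ N.subtype_injective] at h
    exact R.ne_bot_of_dvd_card hrN h
  have hV1 := zsub_ne_bot R' r hR'p hbot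
  have hVN : zsub R' ≤ N := (zsub_le R').trans hR'N
  have hVp : IsPGroup r (zsub R') := hR'p.to_le (zsub_le R')
  set Q' : Subgroup G := (Q0 : Subgroup N).map N.subtype with hQ'
  have hQ'N : Q' ≤ N := by
    rintro _ ⟨x, -, rfl⟩
    exact x.2
  have hQ'bot : Q' ≠ ⊥ := by
    intro h
    rw [hQ', Subgroup.map_eq_bot_iff_of_injective _ N.subtype_injective] at h
    exact Q0.ne_bot_of_dvd_card hqN h
  set M : Subgroup G := Subgroup.normalizer (Q' : Set G) with hM
  have hMN : M ⊔ N = ⊤ := Sylow.normalizer_sup_eq_top Q0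
  have hMtop : M ≠ ⊤ := fun h => hQ0 (Subgroup.normalizer_eq_top_iff.mp h)
  have hcardM : Nat.card M < Nat.card G := by
    have h1 := M.card_mul_index
    have h2 : 1 < M.index := Subgroup.one_lt_index_of_ne_top hMtop
    have h3 : 0 < Nat.card M := Nat.card_pos
    nlinarith
  obtain ⟨h, hhM, hhN, k, hho⟩ := exists_in_sup hc M hMN s hsI
  have hK1 : N.subgroupOf M ≠ ⊥ := by
    intro hb
    apply hQ'bot
    rw [Subgroup.eq_bot_iff_forall]
    intro x hx
    have hxM : x ∈ M := Subgroup.le_normalizer hx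
    have : (⟨x, hxM⟩ : M) ∈ N.subgroupOf M := Subgroup.mem_subgroupOf.mpr (hQ'N hx)
    rw [hb, Subgroup.mem_bot] at this
    exact congrArg Subtype.val this
  have hK2 : N.subgroupOf M ≠ ⊤ := by
    intro ht
    have : (⟨h, hhM⟩ : M) ∈ N.subgroupOf M := by rw [ht]; exact Subgroup.mem_top _
    exact hhN (Subgroup.mem_subgroupOf.mp this)
  have halt := ih M hcardM (N.subgroupOf M) hK1 hK2 (isCam_subgroupOf hc M hMN)
  obtain ⟨j, hj⟩ := card_inf_eq_prime_pow hc M hMN q hqN hqI h3 halt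
  obtain ⟨a, ha⟩ := IsPGroup.iff_card.mp hVp
  have hVQ : (Nat.card (zsub R')).Coprime (Nat.card (N ⊓ M : Subgroup G)) := by
    rw [ha, hj]
    exact Nat.Coprime.pow _ _ ((Nat.coprime_primes hr hq).mpr hrq)
  have hQord : ∀ y ∈ (N ⊓ M : Subgroup G), orderOf y ∣ q ^ j := by
    intro y hy
    rw [← hj]
    exact Subgroup.orderOf_dvd_natCard _ hy
  have hspos : 0 < s ^ k := pow_pos hs.pos k
  have hhs : h ^ (s ^ k) = 1 := by rw [← hho]; exact pow_orderOf_eq_one h
  refine false_of_frobenius_action (zsub R') hV1 (N ⊓ M) hVQ h (s ^ k) hspos hhs ?_ ?_ ?_ ?_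
  · intro y hy
    refine ⟨?_, ?_⟩
    · exact (inferInstance : N.Normal).conj_mem y hy.1 h
    · exact M.mul_mem (M.mul_mem hhM hy.2) (M.inv_mem hhM)
  · intro i hi0 hik y hy hcomm
    have hiN : h ^ i ∉ N := by
      intro hin
      have h1 : orderOf (h ^ i) ∣ q ^ j := hQord _ ⟨hin, M.pow_mem hhM i⟩
      have h2 : orderOf (h ^ i) ∣ s ^ k := by rw [← hho]; exact orderOf_pow_dvd i
      have h3 : h ^ i = 1 := eq_one_of_orderOf_dvd_pow hq hs (Ne.symm hsq) h1 h2
      have h4 : orderOf h ∣ i := orderOf_dvd_of_pow_eq_one h3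
      rw [hho] at h4
      exact absurd (Nat.le_of_dvd hi0 h4) (not_le.mpr hik)
    have h1 := pow_orderOf_eq_one_of_comm hc hiN hy.1 hcomm
    have h2 : orderOf y ∣ s ^ k :=
      (orderOf_dvd_of_pow_eq_one h1).trans (by rw [← hho]; exact orderOf_pow_dvd i)
    exact eq_one_of_orderOf_dvd_pow hq hs (Ne.symm hsq) (hQord y hy) h2
  · intro y hy v hv hfix
    have hxN : y * h * y⁻¹ ∉ N := by
      intro hin
      apply hhN
      have := (inferInstance : N.Normal).conj_mem _ hin y⁻¹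
      simpa [mul_assoc] using this
    have hxpow : (y * h * y⁻¹) ^ (s ^ k) = 1 := by
      rw [conj_pow, hhs, mul_one, mul_inv_cancel]
    have hxv : y * h * y⁻¹ * v = v * (y * h * y⁻¹) := by
      calc y * h * y⁻¹ * v = (y * h * y⁻¹ * v * (y * h * y⁻¹)⁻¹) * (y * h * y⁻¹) := by group
        _ = v * (y * h * y⁻¹) := by rw [hfix]
    have h1 := pow_orderOf_eq_one_of_comm hc hxN (hVN hv) hxv
    have h2 : orderOf v ∣ s ^ k :=
      (orderOf_dvd_of_pow_eq_one h1).trans (orderOf_dvd_of_pow_eq_one hxpow)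
    obtain ⟨b, hb⟩ := orderOf_dvd_of_pgroup (zsub R') r hVp hv
    exact eq_one_of_orderOf_dvd_pow hs hr hsr h2 hb
  · intro v hv hfix
    have hvM : v ∈ M := by
      apply Subgroup.centralizer_le_normalizer
      rw [Subgroup.mem_centralizer_iff]
      intro y hy
      have hyQ : y ∈ (N ⊓ M : Subgroup G) := ⟨hQ'N hy, Subgroup.le_normalizer hy⟩
      have := hfix y hyQ
      calc y * v = (y * v * y⁻¹) * y := by group
        _ = v * y := by rw [this]
    obtain ⟨b, hb⟩ := orderOf_dvd_of_pgroup (zsub R') r hVp hv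
    exact eq_one_of_orderOf_dvd_pow hq hr (Ne.symm hrq) (hQord v ⟨hVN hv, hvM⟩) hb

theorem exists_other_prime {n q : ℕ} (hn : n ≠ 0) (hq : q.Prime) (hqn : q ∣ n)
    (h : ¬ IsPrimePow n) : ∃ r : ℕ, r.Prime ∧ r ≠ q ∧ r ∣ n := by
  by_contra hno
  push Not at hno
  apply h
  have h1 : n = q ^ n.primeFactorsList.length := by
    apply Nat.eq_prime_pow_of_unique_prime_dvd hn
    intro d hd hdn
    by_contra hne
    exact hno d hd hne hdn
  rw [isPrimePow_nat_iff]
  refine ⟨q, n.primeFactorsList.length, hq, ?_, h1.symm⟩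
  rcases Nat.eq_zero_or_pos n.primeFactorsList.length with h0 | h0
  · exfalso
    rw [h0, pow_zero] at h1
    rw [h1] at hqn
    exact hq.one_lt.ne' (Nat.dvd_one.mp hqn)
  · exact h0

theorem camina_main : ∀ (n : ℕ) (G : Type u) [Group G] [Finite G], Nat.card G = n →
    ∀ (N : Subgroup G) [N.Normal], N ≠ ⊥ → N ≠ ⊤ → IsCam N →
      (∀ x ∈ N, x ≠ 1 → Subgroup.centralizer ({x} : Set G) ≤ N) ∨
        IsPrimePow (Nat.card N) ∨ IsPrimePow N.index := by
  intro n
  induction n using Nat.strong_induction_on with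
  | _ n IH =>
  intro G _ _ hn N _ hN1 hN2 hc
  by_contra hcon
  rw [not_or, not_or] at hcon
  obtain ⟨ha, hb, hcI⟩ := hcon
  have ih : ∀ (H : Type u) [Group H] [Finite H], Nat.card H < Nat.card G →
      ∀ (K : Subgroup H) [K.Normal], K ≠ ⊥ → K ≠ ⊤ → IsCam K →
        (∀ x ∈ K, x ≠ 1 → Subgroup.centralizer ({x} : Set H) ≤ K) ∨
          IsPrimePow (Nat.card K) ∨ IsPrimePow K.index := by
    intro H _ _ hH K _ hK1 hK2 hKc
    exact IH (Nat.card H) (hn ▸ hH) H rfl K hK1 hK2 hKc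
  obtain ⟨q, hq, hqN, hqI⟩ := exists_bad_prime hc ha
  have : Fact q.Prime := ⟨hq⟩
  obtain ⟨r, hr, hrq, hrN⟩ := exists_other_prime Nat.card_pos.ne' hq hqN hb
  obtain ⟨s, hs, hsq, hsI⟩ := exists_other_prime (Subgroup.index_ne_zero_of_finite) hq hqI hcI
  have : Fact r.Prime := ⟨hr⟩
  have : Fact s.Prime := ⟨hs⟩
  have step1 : ∀ (q' : ℕ) [Fact q'.Prime], q' ∣ Nat.card N → q' ∣ N.index →
      ∀ (r' : ℕ) [Fact r'.Prime], r' ≠ q' → ∀ R : Sylow r' N,
        ((R : Subgroup N).map N.subtype).Normal :=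
    fun q' _ h1 h2 r' _ h3 R => sylow_normal_step hc q' h1 h2 hcI ih r' h3 R
  by_cases hQ : ∀ Q0 : Sylow q N, ((Q0 : Subgroup N).map N.subtype).Normal
  · apply false_of_case_one hc q hqN hqI r hrq hrN
    intro t _ T
    by_cases htq : t = q
    · revert T
      rw [htq]
      exact hQ
    · exact step1 q hqN hqI t htq T
  · push Not at hQ
    obtain ⟨Q0, hQ0⟩ := hQ
    have hsN : ¬ s ∣ Nat.card N := by
      intro hsN
      exact hQ0 (step1 s hsN hsI q (Ne.symm hsq) Q0)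
    have hsr : s ≠ r := by
      intro h
      rw [h] at hsN
      exact hsN hrN
    obtain ⟨R⟩ : Nonempty (Sylow r N) := inferInstance
    exact false_of_case_two hc q hqN hqI hcI ih r hrq hrN R (step1 q hqN hqI r hrq R) s hsq hsr
      hsI Q0 hQ0

theorem camina_trichotomy {G : Type u} [Group G] [Finite G] (N : Subgroup G) [N.Normal]
    (hN1 : N ≠ ⊥) (hN2 : N ≠ ⊤)
    (hcam : ∀ g : G, g ∉ N → ∀ n ∈ N, ∃ x : G, x * g * x⁻¹ = g * n) :
    (∀ x ∈ N, x ≠ 1 → Subgroup.centralizer ({x} : Set G) ≤ N) ∨ IsPrimePow (Nat.card N) ∨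
      IsPrimePow N.index :=
  camina_main (Nat.card G) G rfl N hN1 hN2 hcam

end Cfsg.Agent.Lib.Helper21.Camina
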