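import Mathlib

/-!
Central extensions of dihedral-like groups (helper21): if `Γ = ⟨α, ξ⟩ Z` with `Z` central and
`ξ α ξ⁻¹ = α⁻¹ z`, `z ∈ Z`, then `Γ' ≤ ⟨α⁻² z⟩`.
-/

set_option autoImplicit false

namespace Cfsg.Agent.Lib.Helper21

open scoped commutatorElement

theorem conj_inv_of_conj_inv {Γ : Type*} [Group Γ] {g b : Γ} (h : g * b * g⁻¹ = b⁻¹) :
    g⁻¹ * b * g = b⁻¹ := by
  have h' : g⁻¹ * b⁻¹ * g = b := by rw [← h]; group
  calc g⁻¹ * b * g = (g⁻¹ * b⁻¹ * g)⁻¹ := by group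
    _ = b⁻¹ := by rw [h']

theorem mem_normalizer_zpowers {Γ : Type*} [Group Γ] (g β : Γ) (h1 : g * β * g⁻¹ ∈ Subgroup.zpowers β)
    (h2 : g⁻¹ * β * g ∈ Subgroup.zpowers β) : g ∈ Subgroup.normalizer ((Subgroup.zpowers β : Subgroup Γ) : Set Γ) := by
  rw [Subgroup.mem_normalizer_iff]
  intro h
  constructor
  · intro hh
    obtain ⟨k, rfl⟩ := Subgroup.mem_zpowers_iff.mp hh
    rw [← conj_zpow]
    exact Subgroup.zpow_mem _ h1 k
  · intro hh
    obtain ⟨k, hk⟩ := Subgroup.mem_zpowers_iff.mp hh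
    have h3 : h = g⁻¹ * (g * h * g⁻¹) * g := by group
    have h4 : g⁻¹ * β ^ k * g = (g⁻¹ * β * g) ^ k := by
      have := conj_zpow (a := g⁻¹) (b := β) (i := k)
      rw [inv_inv] at this
      exact this.symm
    rw [h3, ← hk, h4]
    exact Subgroup.zpow_mem _ h2 k

section
variable {Γ : Type*} [Group Γ] (Z : Subgroup Γ) (hZc : Z ≤ Subgroup.center Γ) (α ξ z : Γ) (hz : z ∈ Z)
  (hconj : ξ * α * ξ⁻¹ = α⁻¹ * z)

include hZc hz hconj

omit hconj in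
theorem dihext_comm_z (g : Γ) : g * z = z * g :=
  ((Subgroup.mem_center_iff.mp (hZc hz)) g)

omit hconj in
theorem dihext_alpha_comm : α * (α⁻¹ * α⁻¹ * z) = (α⁻¹ * α⁻¹ * z) * α := by
  have h := dihext_comm_z Z hZc z hz α
  calc α * (α⁻¹ * α⁻¹ * z) = α⁻¹ * z := by group
    _ = α⁻¹ * α⁻¹ * (α * z) := by group
    _ = α⁻¹ * α⁻¹ * (z * α) := by rw [h]
    _ = (α⁻¹ * α⁻¹ * z) * α := by group

theorem dihext_xi_conj : ξ * (α⁻¹ * α⁻¹ * z) * ξ⁻¹ = (α⁻¹ * α⁻¹ * z)⁻¹ := by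
  have h1 : ξ * α⁻¹ * ξ⁻¹ = (α⁻¹ * z)⁻¹ := by
    rw [← hconj]; group
  have h2 : ξ * z * ξ⁻¹ = z := by
    rw [dihext_comm_z Z hZc z hz ξ]; group
  have hza : α * z = z * α := dihext_comm_z Z hZc z hz α
  have hza' : z⁻¹ * α = α * z⁻¹ := by
    calc z⁻¹ * α = z⁻¹ * (α * z) * z⁻¹ := by group
      _ = z⁻¹ * (z * α) * z⁻¹ := by rw [hza]
      _ = α * z⁻¹ := by group
  have hzc : Commute z⁻¹ α := hza'
  calc ξ * (α⁻¹ * α⁻¹ * z) * ξ⁻¹ = (ξ * α⁻¹ * ξ⁻¹) * (ξ * α⁻¹ * ξ⁻¹) * (ξ * z * ξ⁻¹) := by group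
    _ = (α⁻¹ * z)⁻¹ * (α⁻¹ * z)⁻¹ * z := by rw [h1, h2]
    _ = z⁻¹ * α * (z⁻¹ * α) * z := by group
    _ = z⁻¹ * α * (α * z⁻¹) * z := by rw [hza']
    _ = (z⁻¹ * α) * α := by group
    _ = (α * z⁻¹) * α := by rw [hza']
    _ = α * (z⁻¹ * α) := by group
    _ = α * (α * z⁻¹) := by rw [hza']
    _ = z⁻¹ * α * α := by rw [← hza', ← mul_assoc, ← hza']
    _ = (α⁻¹ * α⁻¹ * z)⁻¹ := by simp [mul_inv_rev, mul_assoc]

theorem dihext_commutator : ⁅ξ, α⁆ = α⁻¹ * α⁻¹ * z := by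
  have hza : α⁻¹ * z = z * α⁻¹ := by
    have := dihext_comm_z Z hZc z hz α⁻¹
    exact this
  rw [commutatorElement_def, hconj, mul_assoc, ← hza]; group

/-- `ξ α^m ξ⁻¹ = α^(-m) z^m` -/
theorem dihext_conj_pow (m : ℕ) : ξ * α ^ m * ξ⁻¹ = (α⁻¹) ^ m * z ^ m := by
  have hza : Commute α⁻¹ z := dihext_comm_z Z hZc z hz α⁻¹
  rw [← hza.mul_pow, ← hconj, conj_pow]

/-- if `ξ` commutes with `α ^ m` then `β ^ m = 1`. -/
theorem dihext_beta_pow (m : ℕ) (hm : ξ * α ^ m = α ^ m * ξ) : (α⁻¹ * α⁻¹ * z) ^ m = 1 := by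
  have hza : Commute α⁻¹ z := dihext_comm_z Z hZc z hz α⁻¹
  have h1 := dihext_conj_pow Z hZc α ξ z hz hconj m
  rw [hm, mul_assoc, mul_inv_cancel, mul_one] at h1
  have h2 : Commute (α⁻¹ * α⁻¹) z := hza.mul_left hza
  rw [h2.mul_pow, (Commute.refl α⁻¹).mul_pow, mul_assoc, ← h1, inv_pow, inv_mul_cancel]

variable (hgen : Subgroup.closure ({α, ξ} : Set Γ) ⊔ Z = ⊤)
include hgen

theorem dihext_normal : (Subgroup.zpowers (α⁻¹ * α⁻¹ * z)).Normal := by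
  rw [← Subgroup.normalizer_eq_top_iff, eq_top_iff, ← hgen]
  have hαc := dihext_alpha_comm Z hZc α z hz
  have hξc := dihext_xi_conj Z hZc α ξ z hz hconj
  apply sup_le
  · rw [Subgroup.closure_le]
    intro g hg
    rcases hg with hg | hg
    · rw [hg]
      apply mem_normalizer_zpowers
      · have : α * (α⁻¹ * α⁻¹ * z) * α⁻¹ = α⁻¹ * α⁻¹ * z := by rw [hαc]; group
        rw [this]; exact Subgroup.mem_zpowers _
      · have : α⁻¹ * (α⁻¹ * α⁻¹ * z) * α = α⁻¹ * α⁻¹ * z := by rw [mul_assoc, ← hαc]; group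
        rw [this]; exact Subgroup.mem_zpowers _
    · rw [Set.mem_singleton_iff] at hg
      rw [hg]
      apply mem_normalizer_zpowers
      · rw [hξc]; exact Subgroup.inv_mem _ (Subgroup.mem_zpowers _)
      · have : ξ⁻¹ * (α⁻¹ * α⁻¹ * z) * ξ = (α⁻¹ * α⁻¹ * z)⁻¹ := conj_inv_of_conj_inv hξc
        rw [this]; exact Subgroup.inv_mem _ (Subgroup.mem_zpowers _)
  · intro c hc
    have hcc := Subgroup.mem_center_iff.mp (hZc hc)
    rw [Subgroup.mem_normalizer_iff]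
    intro h
    have : c * h * c⁻¹ = h := by rw [← hcc h]; group
    rw [this]

theorem dihext_commutator_le : commutator Γ ≤ Subgroup.zpowers (α⁻¹ * α⁻¹ * z) := by
  have hN : (Subgroup.zpowers (α⁻¹ * α⁻¹ * z)).Normal := dihext_normal Z hZc α ξ z hz hconj hgen
  set N := Subgroup.zpowers (α⁻¹ * α⁻¹ * z) with hNdef
  set π := QuotientGroup.mk' N with hπ
  have hβN : α⁻¹ * α⁻¹ * z ∈ N := Subgroup.mem_zpowers _
  -- generators commute in the quotient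
  have hcl : Subgroup.closure (({α, ξ} : Set Γ) ∪ (Z : Set Γ)) = ⊤ := by
    rw [Subgroup.closure_union, Subgroup.closure_eq, hgen]
  have hcomm_gen : ∀ a ∈ π '' (({α, ξ} : Set Γ) ∪ (Z : Set Γ)), ∀ b ∈ π '' (({α, ξ} : Set Γ) ∪ (Z : Set Γ)),
      a * b = b * a := by
    have hξα : π ξ * π α = π α * π ξ := by
      have h1 : ⁅ξ, α⁆ ∈ N := by
        rw [dihext_commutator Z hZc α ξ z hz hconj]; exact hβN
      have h2 : π ⁅ξ, α⁆ = 1 := (QuotientGroup.eq_one_iff _).mpr h1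
      rw [map_commutatorElement, commutatorElement_eq_one_iff_commute] at h2
      exact h2
    have hcen : ∀ c ∈ Z, ∀ g : Γ, π c * π g = π g * π c := by
      intro c hc g
      rw [← map_mul, ← map_mul, (Subgroup.mem_center_iff.mp (hZc hc)) g]
    rintro _ ⟨a, ha, rfl⟩ _ ⟨b, hb, rfl⟩
    rcases ha with (rfl | ha) | ha
    · rcases hb with (rfl | hb) | hb
      · rfl
      · rw [Set.mem_singleton_iff] at hb; subst hb; exact hξα.symm
      · exact (hcen b hb a).symm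
    · rw [Set.mem_singleton_iff] at ha; subst ha
      rcases hb with (rfl | hb) | hb
      · exact hξα
      · rw [Set.mem_singleton_iff] at hb; subst hb; rfl
      · exact (hcen b hb a).symm
    · exact hcen a ha b
  have hcommQ := Subgroup.isMulCommutative_closure hcomm_gen
  have htop : Subgroup.closure (π '' (({α, ξ} : Set Γ) ∪ (Z : Set Γ))) = ⊤ := by
    rw [← MonoidHom.map_closure, hcl, ← MonoidHom.range_eq_map, MonoidHom.range_eq_top]
    exact QuotientGroup.mk'_surjective N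
  have hcommAll : ∀ a b : Γ ⧸ N, a * b = b * a := by
    intro a b
    have ha : a ∈ Subgroup.closure (π '' (({α, ξ} : Set Γ) ∪ (Z : Set Γ))) := by rw [htop]; trivial
    have hb : b ∈ Subgroup.closure (π '' (({α, ξ} : Set Γ) ∪ (Z : Set Γ))) := by rw [htop]; trivial
    have := hcommQ.is_comm.comm ⟨a, ha⟩ ⟨b, hb⟩
    exact congrArg Subtype.val this
  rw [commutator_def, Subgroup.commutator_le]
  intro g _ h _
  have h2 : π ⁅g, h⁆ = 1 := by
    rw [map_commutatorElement, commutatorElement_eq_one_iff_commute]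
    exact hcommAll _ _
  exact (QuotientGroup.eq_one_iff _).mp h2

end

/-- Elements of the kernel of a stem-like extension are powers `β ^ k` with `orderOf (σ β) ∣ k`. -/
theorem dihext_ker_mem {Γ G : Type*} [Group Γ] [Group G] (σ : Γ →* G) (hc : σ.ker ≤ Subgroup.center Γ)
    (hd : σ.ker ≤ commutator Γ) (α ξ z : Γ) (hz : z ∈ σ.ker) (hconj : ξ * α * ξ⁻¹ = α⁻¹ * z)
    (hgen : Subgroup.closure ({α, ξ} : Set Γ) ⊔ σ.ker = ⊤) (c : Γ) (hcm : c ∈ σ.ker) :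
    ∃ j : ℤ, c = ((α⁻¹ * α⁻¹ * z) ^ (orderOf (σ (α⁻¹ * α⁻¹ * z)))) ^ j := by
  have h1 := dihext_commutator_le σ.ker hc α ξ z hz hconj hgen
  obtain ⟨k, hk⟩ := Subgroup.mem_zpowers_iff.mp (h1 (hd hcm))
  have h2 : (σ (α⁻¹ * α⁻¹ * z)) ^ k = 1 := by
    rw [← map_zpow, hk]; exact hcm
  obtain ⟨j, hj⟩ := orderOf_dvd_iff_zpow_eq_one.mpr h2
  refine ⟨j, ?_⟩
  rw [← hk, hj, zpow_mul, zpow_natCast]

/-- generation of `Γ` by lifts of generators together with the kernel. -/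
theorem sup_ker_eq_top_of_closure {Γ G : Type*} [Group Γ] [Group G] (σ : Γ →* G)
    (α ξ : Γ) (hG : Subgroup.closure ({σ α, σ ξ} : Set G) = ⊤) :
    Subgroup.closure ({α, ξ} : Set Γ) ⊔ σ.ker = ⊤ := by
  rw [← Subgroup.comap_map_eq, MonoidHom.map_closure]
  have : σ '' ({α, ξ} : Set Γ) = {σ α, σ ξ} := by
    rw [Set.image_pair]
  rw [this, hG, Subgroup.comap_top]

end Cfsg.Agent.Lib.Helper21
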