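import Mathlib
import Cfsg.Agent.Lib.Helper21.StemDihedral
import Cfsg.Agent.Lib.Helper21.SchurMult

/-!
Stem extensions of dihedral groups (helper21).
-/

set_option autoImplicit false

namespace Cfsg.Agent.Lib.Helper21

theorem dih_closure (n : ℕ) [NeZero n] :
    Subgroup.closure ({DihedralGroup.r 1, DihedralGroup.sr 0} : Set (DihedralGroup n)) = ⊤ := by
  rw [eq_top_iff]
  intro g _
  have ha : ∀ i : ZMod n, (DihedralGroup.r i : DihedralGroup n) ∈
      Subgroup.closure ({DihedralGroup.r 1, DihedralGroup.sr 0} : Set (DihedralGroup n)) := by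
    intro i
    have h1 : (DihedralGroup.r i : DihedralGroup n) = (DihedralGroup.r 1) ^ i.val := by
      rw [DihedralGroup.r_one_pow, ZMod.natCast_zmod_val]
    rw [h1]
    exact Subgroup.pow_mem _ (Subgroup.subset_closure (by simp)) _
  rcases g with i | i
  · exact ha i
  · have h1 : (DihedralGroup.sr i : DihedralGroup n) = DihedralGroup.sr 0 * DihedralGroup.r i := by
      simp
    rw [h1]
    exact Subgroup.mul_mem _ (Subgroup.subset_closure (by simp)) (ha i)

/-- common set-up for stem extensions of dihedral groups -/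
theorem dih_stem_setup (n : ℕ) [NeZero n] {Γ : Type} [Group Γ] (σ : Γ →* DihedralGroup n)
    (hσ : Cfsg.IsStemExtension σ) :
    ∃ β : Γ, β ^ n = 1 ∧ σ β = ((DihedralGroup.r 1 : DihedralGroup n) ^ 2)⁻¹ ∧
      ∀ c ∈ σ.ker, ∃ j : ℤ, c = (β ^ (orderOf (σ β))) ^ j := by
  obtain ⟨hs, hc, hd⟩ := hσ
  obtain ⟨α, hα⟩ := hs (DihedralGroup.r 1)
  obtain ⟨ξ, hξ⟩ := hs (DihedralGroup.sr 0)
  set z := α * (ξ * α * ξ⁻¹) with hzdef
  have hz : z ∈ σ.ker := by
    rw [MonoidHom.mem_ker, hzdef]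
    simp only [map_mul, map_inv, hα, hξ]
    rw [DihedralGroup.inv_sr, DihedralGroup.sr_mul_r, DihedralGroup.sr_mul_sr, DihedralGroup.r_mul_r,
      DihedralGroup.one_def]
    congr 1
    ring
  have hconj : ξ * α * ξ⁻¹ = α⁻¹ * z := by rw [hzdef]; group
  have hgen : Subgroup.closure ({α, ξ} : Set Γ) ⊔ σ.ker = ⊤ := by
    apply sup_ker_eq_top_of_closure
    rw [hα, hξ]; exact dih_closure n
  refine ⟨α⁻¹ * α⁻¹ * z, ?_, ?_, ?_⟩
  · apply dihext_beta_pow σ.ker hc α ξ z hz hconj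
    have hw : α ^ n ∈ σ.ker := by
      rw [MonoidHom.mem_ker, map_pow, hα, DihedralGroup.r_one_pow_n]
    exact (Subgroup.mem_center_iff.mp (hc hw)) ξ
  · rw [map_mul, map_mul, map_inv, hα, MonoidHom.mem_ker.mp hz, mul_one, pow_two, mul_inv_rev]
  · intro c hcm
    exact dihext_ker_mem σ hc hd α ξ z hz hconj hgen c hcm

end Cfsg.Agent.Lib.Helper21
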