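import Mathlib
import Cfsg.Prelude.Def_Blocks
import Cfsg.Agent.Lib.Helper6.Gallagher
import Cfsg.Agent.Lib.Helper6.Clifford
import Cfsg.Agent.Lib.Helper6.CliffordCorr
import Cfsg.Agent.Lib.Helper6.CTripleA
import Cfsg.Agent.Lib.Helper6.LinChar
import Cfsg.Agent.Lib.Helper24.IrrFacts

set_option autoImplicit false

namespace Cfsg.Agent.Lib.Helper21.ES

open Cfsg Cfsg.Agent.CharLib Cfsg.Agent.Lib.Helper6 Cfsg.Agent.Lib.Helper24 Cfsg.Agent.Lib.Helper6.CTriple
open scoped ComplexConjugate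

universe u

variable {Q : Type u} [Group Q] [Fintype Q]

theorem indFun_central_mem (Z : Subgroup Q) (hZc : Z ≤ Subgroup.center Q) (φ : Z → ℂ) (z : Z) :
    indFun Z φ (z : Q) = (Z.index : ℂ) * φ z := by
  rw [indFun_apply]
  have h : ∀ x : Q, extendByZero Z φ (x⁻¹ * (z : Q) * x) = φ z := by
    intro x
    have hx : x⁻¹ * (z : Q) * x = (z : Q) := by
      have := Subgroup.mem_center_iff.mp (hZc z.2) x
      rw [mul_assoc, ← this, inv_mul_cancel_left]
    rw [hx, extendByZero_coe]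
  rw [Finset.sum_congr rfl (fun x _ => h x), Finset.sum_const, Finset.card_univ, nsmul_eq_mul]
  have hcard : (Fintype.card Q : ℂ) = (Nat.card Z : ℂ) * (Z.index : ℂ) := by
    rw [← Nat.cast_mul, Subgroup.card_mul_index, Nat.card_eq_fintype_card]
  have hZ0 : (Nat.card Z : ℂ) ≠ 0 := by exact_mod_cast (Nat.card_pos (α := Z)).ne'
  rw [hcard]
  field_simp

theorem indFun_central_not_mem (Z : Subgroup Q) (hZc : Z ≤ Subgroup.center Q) (φ : Z → ℂ)
    {g : Q} (hg : g ∉ Z) : indFun Z φ g = 0 := by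
  rw [indFun_apply, Finset.sum_eq_zero, mul_zero]
  intro x _
  apply extendByZero_not_mem
  intro h
  apply hg
  have h2 := Subgroup.mem_center_iff.mp (hZc h) x
  have h4 : x⁻¹ * g * x = g := by
    have h3 : x * (x⁻¹ * g * x) = g * x := by group
    rw [h3] at h2
    exact (mul_right_cancel h2).symm
  rwa [h4] at h

theorem es_ramified {p : ℕ} [hp : Fact p.Prime]
    (Z : Subgroup Q) (hZc : Z ≤ Subgroup.center Q) (hZp : Nat.card Z = p)
    (hcomm : ∀ g : Q, g ∉ Z → ∃ y : Q, y⁻¹ * g * y * g⁻¹ ∈ Z ∧ y⁻¹ * g * y * g⁻¹ ≠ 1)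
    (n : ℕ) (hn : Nat.card Q = p ^ (2 * n + 1))
    (lam : Z →* ℂˣ) (hlam : ∃ z, lam z ≠ 1) :
    ∃ χ : IrrCharacter Q, indFun Z (fun z => ((lam z : ℂˣ) : ℂ)) =
      fun g => ((p ^ n : ℕ) : ℂ) * (χ : Q → ℂ) g := by
  classical
  let _ : Fintype Z := Fintype.ofFinite Z
  set θ : Z → ℂ := fun z => ((lam z : ℂˣ) : ℂ) with hθdef
  have hθ : IsIrrCharacter Z θ := isIrrCharacter_of_hom lam
  have hidx : Z.index = p ^ (2 * n) := by
    have h := Subgroup.card_mul_index Z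
    rw [hZp, hn, pow_succ'] at h
    exact Nat.eq_of_mul_eq_mul_left hp.out.pos h
  have hθ1 : θ 1 = 1 := by simp [hθdef]
  have hne : indFun Z θ ≠ 0 := by
    intro h0
    have h1 := indFun_central_mem Z hZc θ 1
    rw [Subgroup.coe_one, h0, Pi.zero_apply, hθ1, mul_one] at h1
    have : Z.index = 0 := by exact_mod_cast h1.symm
    exact Subgroup.index_ne_zero_of_finite this
  obtain ⟨χf, hχirr, hχne⟩ :=
    IsCharacter.exists_constituent (IsCharacter.indFun Z (IsIrrCharacter.isCharacter hθ)) hne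
  let χ : IrrCharacter Q := ⟨χf, hχirr⟩
  obtain ⟨mu, hmu⟩ := exists_centralHom χ Z hZc
  have hmu1 : ∀ z : Z, χf (z : Q) = ((mu z : ℂˣ) : ℂ) * χf 1 := by
    intro z
    have := hmu z 1
    rwa [mul_one] at this
  have hres : (fun h : Z => χf h) = (χf 1) • (fun z : Z => ((mu z : ℂˣ) : ℂ)) := by
    funext z
    rw [Pi.smul_apply, smul_eq_mul, mul_comm]
    exact hmu1 z
  have hfr := frobenius_reciprocity Z θ (IsCharacter.isClassFunction (IsIrrCharacter.isCharacter hχirr))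
  rw [hfr, hres, classInner_smul_right, classInner_irr hθ (isIrrCharacter_of_hom mu)] at hχne
  have hmulam : θ = fun z => ((mu z : ℂˣ) : ℂ) := by
    by_contra hcon
    rw [if_neg hcon, mul_zero] at hχne
    exact hχne rfl
  have hmu' : ∀ z, mu z = lam z := fun z => Units.ext (congrFun hmulam z).symm
  have hvan : ∀ g : Q, g ∉ Z → χf g = 0 := by
    intro g hg
    obtain ⟨y, hyZ, hy1⟩ := hcomm g hg
    set c : Z := ⟨y⁻¹ * g * y * g⁻¹, hyZ⟩ with hcdef
    have h1 := hmu c g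
    have h2 : (c : Q) * g = y⁻¹ * g * y⁻¹⁻¹ := by
      rw [hcdef]; simp
    have h3 : χf (y⁻¹ * g * y⁻¹⁻¹) = χf g := (IsCharacter.isClassFunction (IsIrrCharacter.isCharacter hχirr)) g y⁻¹
    change χf ((c : Q) * g) = _ at h1
    rw [h2, h3] at h1
    have hc1 : ((mu c : ℂˣ) : ℂ) ≠ 1 := by
      rw [hmu' c]
      intro h
      have hlc : lam c = 1 := Units.ext h
      obtain ⟨z, hz⟩ := hlam
      apply hz
      have hcne : c ≠ 1 := fun h => hy1 (congrArg Subtype.val h)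
      have hzc : z ∈ Subgroup.zpowers c := mem_zpowers_of_prime_card hZp hcne
      obtain ⟨k, rfl⟩ := Subgroup.mem_zpowers_iff.mp hzc
      rw [map_zpow, hlc, one_zpow]
    by_contra hχg
    apply hc1
    have h5 : ((mu c : ℂˣ) : ℂ) * χf g = 1 * χf g := by rw [one_mul]; exact h1.symm
    exact mul_right_cancel₀ hχg h5
  -- degree
  obtain ⟨d, hd⟩ : ∃ d : ℕ, χf 1 = (d : ℂ) := ⟨_, irr_apply_one χ⟩
  have hd0 : (d : ℂ) ≠ 0 := by
    rw [← hd]; exact irr_apply_one_ne_zero χ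
  have hpn0 : ((p ^ (2 * n) : ℕ) : ℂ) ≠ 0 := by
    exact_mod_cast (pow_pos hp.out.pos _).ne'
  -- χ = c • indFun
  have hprop : χf = ((d : ℂ) / ((p ^ (2 * n) : ℕ) : ℂ)) • indFun Z θ := by
    funext g
    rw [Pi.smul_apply, smul_eq_mul]
    by_cases hg : g ∈ Z
    · have h1 := indFun_central_mem Z hZc θ ⟨g, hg⟩
      change indFun Z θ g = _ at h1
      rw [h1, hidx]
      have h2 := hmu1 ⟨g, hg⟩
      change χf g = _ at h2
      rw [h2, hd, hmu' ⟨g, hg⟩]
      change _ = _ * (_ * ((lam ⟨g, hg⟩ : ℂˣ) : ℂ))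
      field_simp
    · rw [hvan g hg, indFun_central_not_mem Z hZc θ hg, mul_zero]
  have hself := classInner_irr hχirr hχirr
  rw [if_pos rfl] at hself
  have hfr2 : classInner (indFun Z θ) χf = (d : ℂ) := by
    rw [hfr, hres, classInner_smul_right, classInner_irr hθ (isIrrCharacter_of_hom mu),
      if_pos hmulam, mul_one, hd, Complex.conj_natCast]
  have hdd : (d : ℂ) * (d : ℂ) = ((p ^ (2 * n) : ℕ) : ℂ) := by
    have h1 : classInner χf χf =
        ((d : ℂ) / ((p ^ (2 * n) : ℕ) : ℂ)) * classInner (indFun Z θ) χf := by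
      conv_lhs => rw [hprop]
      rw [classInner_smul_left]
      congr 1
      exact hprop.symm ▸ rfl
    rw [hself, hfr2] at h1
    field_simp at h1
    linear_combination -h1
  have hdn : d = p ^ n := by
    have h1 : d * d = p ^ (2 * n) := by exact_mod_cast hdd
    have h2 : d ^ 2 = (p ^ n) ^ 2 := by rw [sq, h1, ← pow_mul, mul_comm]
    exact Nat.pow_left_injective (by norm_num : 2 ≠ 0) h2
  refine ⟨χ, ?_⟩
  funext g
  change indFun Z θ g = ((p ^ n : ℕ) : ℂ) * χf g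
  have h1 := congrFun hprop g
  rw [Pi.smul_apply, smul_eq_mul] at h1
  rw [h1, hdn]
  have hpn : ((p ^ n : ℕ) : ℂ) ≠ 0 := by exact_mod_cast (pow_pos hp.out.pos _).ne'
  have h2 : ((p ^ (2 * n) : ℕ) : ℂ) = ((p ^ n : ℕ) : ℂ) * ((p ^ n : ℕ) : ℂ) := by
    rw [← Nat.cast_mul, ← pow_add, two_mul]
  rw [h2]
  field_simp

end Cfsg.Agent.Lib.Helper21.ES
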