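import Mathlib

set_option autoImplicit false

namespace Cfsg.Agent.Lib.Helper21.Ram

/-- integer variance argument: `c` nonnegative integers with sum `e` and
`c * (sum of squares) = c + e^2 - 1` force `c ∣ e - 1` or `c ∣ e + 1` -/
theorem dvd_of_sum_sq {ι : Type*} (s : Finset ι) (a : ι → ℕ) (e : ℕ)
    (hsum : ∑ i ∈ s, a i = e)
    (hsq : (s.card : ℤ) * ∑ i ∈ s, (a i : ℤ) ^ 2 = (s.card : ℤ) + (e : ℤ) ^ 2 - 1) :
    (s.card : ℤ) ∣ (e : ℤ) - 1 ∨ (s.card : ℤ) ∣ (e : ℤ) + 1 := by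
  set c : ℤ := (s.card : ℤ) with hc
  have hc0 : 0 ≤ c := by positivity
  rcases eq_or_lt_of_le hc0 with h0 | hcpos
  · -- c = 0: then s is empty, e = 0, and hsq reads 0 = -1
    exfalso
    have hs : s = ∅ := by
      rw [← Finset.card_eq_zero]
      have : (s.card : ℤ) = 0 := h0.symm
      exact_mod_cast this
    rw [hs, Finset.sum_empty] at hsum
    rw [← h0, ← hsum] at hsq
    simp at hsq
  -- division with remainder
  set q : ℤ := (e : ℤ) / c with hq
  set r : ℤ := (e : ℤ) % c with hr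
  have hr0 : 0 ≤ r := Int.emod_nonneg _ hcpos.ne'
  have hrc : r < c := Int.emod_lt_of_pos _ hcpos
  have he : (e : ℤ) = c * q + r := (Int.mul_ediv_add_emod _ _).symm
  -- deviations
  have hsumZ : ∑ i ∈ s, ((a i : ℤ) - q) = r := by
    rw [Finset.sum_sub_distrib, Finset.sum_const, nsmul_eq_mul]
    have : ∑ i ∈ s, (a i : ℤ) = (e : ℤ) := by exact_mod_cast congrArg (Nat.cast : ℕ → ℤ) hsum
    rw [this, he, ← hc]
    ring
  have hsqZ : c * ∑ i ∈ s, ((a i : ℤ) - q) ^ 2 = c + r ^ 2 - 1 := by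
    have h1 : ∑ i ∈ s, ((a i : ℤ) - q) ^ 2 =
        ∑ i ∈ s, (a i : ℤ) ^ 2 - 2 * q * ∑ i ∈ s, (a i : ℤ) + c * q ^ 2 := by
      have : ∀ i ∈ s, ((a i : ℤ) - q) ^ 2 = (a i : ℤ) ^ 2 - 2 * q * (a i : ℤ) + q ^ 2 := by
        intro i _; ring
      rw [Finset.sum_congr rfl this, Finset.sum_add_distrib, Finset.sum_sub_distrib,
        Finset.sum_const, nsmul_eq_mul, ← Finset.mul_sum, ← hc]
    have h2 : ∑ i ∈ s, (a i : ℤ) = (e : ℤ) := by exact_mod_cast congrArg (Nat.cast : ℕ → ℤ) hsum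
    rw [h1, h2, mul_add, mul_sub, hsq, he]
    ring
  -- d^2 ≥ d for integers
  have hge : r ≤ ∑ i ∈ s, ((a i : ℤ) - q) ^ 2 := by
    rw [← hsumZ]
    apply Finset.sum_le_sum
    intro i _
    have : ∀ d : ℤ, d ≤ d ^ 2 := by
      intro d
      rcases le_or_gt d 0 with h | h
      · have := sq_nonneg d; linarith
      · nlinarith
    exact this _
  -- c * r ≤ c + r^2 - 1
  have hkey : c * r ≤ c + r ^ 2 - 1 := by
    rw [← hsqZ]
    exact mul_le_mul_of_nonneg_left hge hc0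
  -- cases on r
  rcases eq_or_lt_of_le hr0 with hr00 | hrpos
  · -- r = 0: c * (sum - 1) = -1 so c ∣ 1
    have h3 : c * (∑ i ∈ s, ((a i : ℤ) - q) ^ 2 - 1) = -1 := by
      rw [mul_sub, hsqZ, ← hr00]; ring
    have h4 : c ∣ 1 := by
      have : c ∣ -1 := ⟨_, h3.symm⟩
      exact (Int.dvd_neg).mp this
    left
    exact dvd_trans h4 (one_dvd _)
  · by_cases hr1 : r = 1
    · left
      rw [he, hr1]
      exact ⟨q, by ring⟩
    · have hr2 : 2 ≤ r := by omega
      -- c (r - 1) ≤ (r - 1)(r + 1) so c ≤ r + 1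
      have h5 : c * (r - 1) ≤ (r - 1) * (r + 1) := by nlinarith
      have h6 : c ≤ r + 1 := by
        have hpos : 0 < r - 1 := by omega
        by_contra hcon
        push Not at hcon
        nlinarith
      have h7 : r = c - 1 := by omega
      right
      rw [he, h7]
      exact ⟨q + 1, by ring⟩

end Cfsg.Agent.Lib.Helper21.Ram
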