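import Mathlib
import Cfsg.Prelude.Def_Blocks
import Cfsg.Agent.Lib.Helper6.CyclicExtRep
import Cfsg.Agent.Lib.Helper6.Gallagher2
import Cfsg.Agent.Lib.Helper6.CharExtra
import Cfsg.Agent.Lib.Helper25.Inflate
import Cfsg.Agent.Lib.Lead.CharMore

set_option autoImplicit false

namespace Cfsg.Agent.Lib.Helper21.Ram

open Cfsg Cfsg.Agent.CharLib Cfsg.Agent.Lib.Helper6 Cfsg.Agent.Lib.Helper24 Cfsg.Agent.Lib.Helper25
open scoped ComplexConjugate

universe u

variable {H : Type u} [Group H] [Fintype H]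

/-- a character lying over a multiple of an invariant irreducible character of a normal
subgroup with cyclic quotient decomposes along the Gallagher parametrisation -/
theorem exists_decomp_over_invariant (N₁ : Subgroup H) [hN : N₁.Normal]
    (hcyc : IsCyclic (H ⧸ N₁)) {θ₁ : N₁ → ℂ} (hθ₁ : IsIrrCharacter N₁ θ₁)
    (hinv : ∀ (g : H) (n : N₁), θ₁ ⟨g * n * g⁻¹, hN.conj_mem (n : H) n.2 g⟩ = θ₁ n)
    {Φ : H → ℂ} (hΦ : IsCharacter H Φ) (e : ℕ) (hΦN : ∀ n : N₁, Φ n = e * θ₁ n) :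
    ∃ (s : Finset (IrrCharacter H)) (a : IrrCharacter H → ℕ), s.card = N₁.index ∧
      ∑ ψ ∈ s, a ψ = e ∧ ((∑ ψ ∈ s, (a ψ) ^ 2 : ℕ) : ℂ) = classInner Φ Φ := by
  classical
  let _ : Fintype N₁ := Fintype.ofFinite N₁
  let _ := fintypeIrr H
  obtain ⟨θh, hθh, hext⟩ := exists_irr_extension_of_cyclic N₁ hcyc hθ₁ hinv
  have hres : resFun N₁ θh = θ₁ := funext hext
  have hresirr : IsIrrCharacter N₁ (resFun N₁ θh) := by rw [hres]; exact hθ₁
  have hbij := gallagher_bijOn N₁ hθh hresirr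
  rw [hres] at hbij
  have hcardN : (Nat.card N₁ : ℂ) ≠ 0 := by exact_mod_cast (Nat.card_pos (α := N₁)).ne'
  -- members of B are linear and trivial on N₁
  have hBlin : ∀ β : H → ℂ, IsIrrCharacter H β →
      classInner (indFun N₁ (1 : N₁ → ℂ)) β ≠ 0 → (β 1 = 1 ∧ ∀ n : N₁, β n = 1) := by
    intro β hβ hne
    obtain ⟨-, hconst⟩ := apply_mul_of_indFun_one_ne_zero N₁ hβ hne
    have hker : ∀ n ∈ N₁, β n = β 1 := fun n hn => by
      have := hconst ⟨n, hn⟩ 1
      rwa [mul_one] at this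
    obtain ⟨β₀, hβ₀⟩ := exists_inflateIrr_eq N₁ ⟨β, hβ⟩ hker
    have hcomm : ∀ a b : H ⧸ N₁, a * b = b * a := fun a b => mul_comm' a b
    have h1 := (comm_iff_forall_irr_apply_one (G := H ⧸ N₁)).mp hcomm β₀
    have hβ1 : β 1 = 1 := by
      have h2 : (inflateIrr N₁ β₀ : H → ℂ) 1 = β 1 := by rw [hβ₀]
      rw [inflateIrr_apply, QuotientGroup.mk_one, h1] at h2
      exact h2.symm
    exact ⟨hβ1, fun n => by rw [hker n n.2, hβ1]⟩
  -- the finite sets
  set t : Finset (IrrCharacter H) :=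
    Finset.univ.filter (fun β => classInner (indFun N₁ (1 : N₁ → ℂ)) (β : H → ℂ) ≠ 0) with ht
  set s : Finset (IrrCharacter H) :=
    Finset.univ.filter (fun ψ => classInner (indFun N₁ θ₁) (ψ : H → ℂ) ≠ 0) with hs
  -- cardinality of t
  have htcard : t.card = N₁.index := by
    have hcl : IsClassFunction H (indFun N₁ (1 : N₁ → ℂ)) := indFun_isClassFunction N₁ _
    have hdec := classFunction_eq_sum hcl
    have hcoef : ∀ β : IrrCharacter H, classInner (indFun N₁ (1 : N₁ → ℂ)) (β : H → ℂ) =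
        if β ∈ t then 1 else 0 := by
      intro β
      split_ifs with hmem
      · have hne := (Finset.mem_filter.mp hmem).2
        obtain ⟨-, h2⟩ := hBlin β.1 β.2 hne
        rw [classInner_indFun_one N₁ (IsCharacter.isClassFunction (IsIrrCharacter.isCharacter β.2)),
          Finset.sum_congr rfl (fun n _ => h2 n), Finset.sum_const, Finset.card_univ,
          nsmul_eq_mul, mul_one, ← Nat.card_eq_fintype_card, Complex.conj_natCast,
          inv_mul_cancel₀ hcardN]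
      · by_contra hne
        exact hmem (Finset.mem_filter.mpr ⟨Finset.mem_univ _, hne⟩)
    have h1 := congrFun hdec 1
    rw [Finset.sum_apply, indFun_apply_one] at h1
    have h2 : ∑ β : IrrCharacter H, (classInner (indFun N₁ (1 : N₁ → ℂ)) (β : H → ℂ) •
        (β : H → ℂ)) 1 = (t.card : ℂ) := by
      have : ∀ β : IrrCharacter H, (classInner (indFun N₁ (1 : N₁ → ℂ)) (β : H → ℂ) •
          (β : H → ℂ)) 1 = if β ∈ t then 1 else 0 := by
        intro β
        rw [Pi.smul_apply, smul_eq_mul, hcoef β]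
        split_ifs with hmem
        · have hne := (Finset.mem_filter.mp hmem).2
          rw [(hBlin β.1 β.2 hne).1, mul_one]
        · rw [zero_mul]
      rw [Finset.sum_congr rfl (fun β _ => this β), Finset.sum_ite_mem, Finset.univ_inter,
        Finset.sum_const, nsmul_eq_mul, mul_one]
    rw [h2, Pi.one_apply, mul_one] at h1
    have h3 : (Nat.card H : ℂ) = (Nat.card N₁ : ℂ) * (N₁.index : ℂ) := by
      rw [← Nat.cast_mul, Subgroup.card_mul_index]
    rw [h3, ← mul_assoc, inv_mul_cancel₀ hcardN, one_mul] at h1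
    exact_mod_cast h1.symm
  -- bijection between t and s
  have hst : t.card = s.card := by
    apply Finset.card_bij (fun (β : IrrCharacter H) (hβ : β ∈ t) =>
      (⟨(β : H → ℂ) * θh, (hbij.mapsTo (show (β : H → ℂ) ∈ {β | IsIrrCharacter H β ∧
        classInner (indFun N₁ (1 : N₁ → ℂ)) β ≠ 0} from
          ⟨β.2, (Finset.mem_filter.mp hβ).2⟩)).1⟩ : IrrCharacter H))
    · intro β hβ
      rw [hs, Finset.mem_filter]
      exact ⟨Finset.mem_univ _, (hbij.mapsTo (show (β : H → ℂ) ∈ {β | IsIrrCharacter H β ∧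
        classInner (indFun N₁ (1 : N₁ → ℂ)) β ≠ 0} from
          ⟨β.2, (Finset.mem_filter.mp hβ).2⟩)).2⟩
    · intro β₁ hβ₁ β₂ hβ₂ heq
      have h1 : (β₁ : H → ℂ) * θh = (β₂ : H → ℂ) * θh := congrArg Subtype.val heq
      exact Subtype.ext (hbij.injOn ⟨β₁.2, (Finset.mem_filter.mp hβ₁).2⟩
        ⟨β₂.2, (Finset.mem_filter.mp hβ₂).2⟩ h1)
    · intro ψ hψ
      obtain ⟨β, ⟨hβirr, hβne⟩, hβψ⟩ := hbij.surjOn (show (ψ : H → ℂ) ∈ {ψ | IsIrrCharacter H ψ ∧
        classInner (indFun N₁ θ₁) ψ ≠ 0} from ⟨ψ.2, (Finset.mem_filter.mp hψ).2⟩)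
      refine ⟨⟨β, hβirr⟩, Finset.mem_filter.mpr ⟨Finset.mem_univ _, hβne⟩, ?_⟩
      exact Subtype.ext hβψ
  -- properties of members of s
  have hsprop : ∀ ψ ∈ s, (ψ : H → ℂ) 1 = θ₁ 1 ∧ resFun N₁ (ψ : H → ℂ) = θ₁ := by
    intro ψ hψ
    obtain ⟨β, ⟨hβirr, hβne⟩, hβψ⟩ := hbij.surjOn (show (ψ : H → ℂ) ∈ {ψ | IsIrrCharacter H ψ ∧
      classInner (indFun N₁ θ₁) ψ ≠ 0} from ⟨ψ.2, (Finset.mem_filter.mp hψ).2⟩)
    obtain ⟨hβ1, hβN⟩ := hBlin β hβirr hβne
    have hβψ' : (ψ : H → ℂ) = β * θh := hβψ.symm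
    constructor
    · rw [hβψ', Pi.mul_apply, hβ1, one_mul]
      exact hext 1
    · funext n
      rw [resFun_apply, hβψ', Pi.mul_apply, hβN n, one_mul]
      exact hext n
  -- the multiplicities
  have hΦcf : IsClassFunction H Φ := IsCharacter.isClassFunction hΦ
  have hnat : ∀ ψ : IrrCharacter H, ∃ n : ℕ, classInner Φ (ψ : H → ℂ) = n := fun ψ =>
    IsCharacter.classInner_nat hΦ (IsIrrCharacter.isCharacter ψ.2)
  choose a ha using hnat
  have hdecΦ : Φ = ∑ ψ : IrrCharacter H, (a ψ : ℂ) • (ψ : H → ℂ) := by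
    have := classFunction_eq_sum hΦcf
    rw [Finset.sum_congr rfl (fun ψ _ => by rw [ha ψ])] at this
    exact this
  have hθ₁norm : classInner θ₁ θ₁ = 1 := by rw [classInner_irr hθ₁ hθ₁, if_pos rfl]
  -- inner products with the induced character
  have hIψ : ∀ ψ : IrrCharacter H, classInner (ψ : H → ℂ) (indFun N₁ θ₁) =
      if ψ ∈ s then 1 else 0 := by
    intro ψ
    split_ifs with hmem
    · rw [← classInner_conj_symm, frobenius_reciprocity N₁ θ₁
        (IsCharacter.isClassFunction (IsIrrCharacter.isCharacter ψ.2))]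
      have : (fun n : N₁ => (ψ : H → ℂ) n) = θ₁ := (hsprop ψ hmem).2
      rw [this, hθ₁norm, map_one]
    · rw [← classInner_conj_symm]
      have : classInner (indFun N₁ θ₁) (ψ : H → ℂ) = 0 := by
        by_contra hne
        exact hmem (Finset.mem_filter.mpr ⟨Finset.mem_univ _, hne⟩)
      rw [this, map_zero]
  -- sum of the multiplicities over s
  have hsum_e : ((∑ ψ ∈ s, a ψ : ℕ) : ℂ) = (e : ℂ) := by
    have h1 : classInner Φ (indFun N₁ θ₁) = (e : ℂ) := by
      rw [← classInner_conj_symm, frobenius_reciprocity N₁ θ₁ hΦcf]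
      have : (fun n : N₁ => Φ n) = (e : ℂ) • θ₁ := by
        funext n
        rw [hΦN n, Pi.smul_apply, smul_eq_mul]
      rw [this, classInner_smul_right, hθ₁norm, mul_one, Complex.conj_conj]
    rw [← h1]
    conv_rhs => rw [hdecΦ]
    rw [classInner_sum_left]
    push_cast
    rw [← Finset.sum_filter_add_sum_filter_not Finset.univ (fun ψ => ψ ∈ s)]
    have hz : ∑ ψ ∈ Finset.univ.filter (fun ψ => ¬ ψ ∈ s),
        classInner ((a ψ : ℂ) • (ψ : H → ℂ)) (indFun N₁ θ₁) = 0 := by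
      apply Finset.sum_eq_zero
      intro ψ hψ
      rw [classInner_smul_left, hIψ ψ, if_neg (Finset.mem_filter.mp hψ).2, mul_zero]
    rw [hz, add_zero]
    have hfil : Finset.univ.filter (fun ψ => ψ ∈ s) = s := by
      ext ψ; simp
    rw [hfil]
    apply Finset.sum_congr rfl
    intro ψ hψ
    rw [classInner_smul_left, hIψ ψ, if_pos hψ, mul_one]
  have hsum_eN : ∑ ψ ∈ s, a ψ = e := by exact_mod_cast hsum_e
  -- multiplicities vanish outside s
  have hθ₁1 : θ₁ 1 = ((charDegree θ₁ : ℕ) : ℂ) := irr_apply_one ⟨θ₁, hθ₁⟩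
  have hθ₁pos : 0 < charDegree θ₁ := irr_charDegree_pos ⟨θ₁, hθ₁⟩
  have hzero : ∀ ψ : IrrCharacter H, ψ ∉ s → a ψ = 0 := by
    have h1 : Φ 1 = (e : ℂ) * θ₁ 1 := hΦN 1
    have h2 := congrFun hdecΦ 1
    rw [Finset.sum_apply, h1] at h2
    have h3 : ∀ ψ : IrrCharacter H, ((a ψ : ℂ) • (ψ : H → ℂ)) 1 =
        ((a ψ * charDegree (ψ : H → ℂ) : ℕ) : ℂ) := by
      intro ψ
      rw [Pi.smul_apply, smul_eq_mul, irr_apply_one ψ]
      push_cast
      rfl
    rw [Finset.sum_congr rfl (fun ψ _ => h3 ψ), hθ₁1] at h2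
    have h4 : e * charDegree θ₁ = ∑ ψ : IrrCharacter H, a ψ * charDegree (ψ : H → ℂ) := by
      exact_mod_cast h2
    rw [← Finset.sum_filter_add_sum_filter_not Finset.univ (fun ψ => ψ ∈ s)] at h4
    have hfil : Finset.univ.filter (fun ψ => ψ ∈ s) = s := by
      ext ψ; simp
    rw [hfil] at h4
    have h5 : ∑ ψ ∈ s, a ψ * charDegree (ψ : H → ℂ) = e * charDegree θ₁ := by
      rw [← hsum_eN, Finset.sum_mul]
      apply Finset.sum_congr rfl
      intro ψ hψ
      have h6 : (ψ : H → ℂ) 1 = θ₁ 1 := (hsprop ψ hψ).1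
      rw [irr_apply_one ψ, hθ₁1] at h6
      have h7 : charDegree (ψ : H → ℂ) = charDegree θ₁ := by exact_mod_cast h6
      rw [h7]
    rw [h5] at h4
    have h8 : ∑ ψ ∈ Finset.univ.filter (fun ψ => ¬ ψ ∈ s), a ψ * charDegree (ψ : H → ℂ) = 0 := by
      omega
    intro ψ hψ
    have h9 := (Finset.sum_eq_zero_iff.mp h8) ψ (Finset.mem_filter.mpr ⟨Finset.mem_univ _, hψ⟩)
    rcases Nat.mul_eq_zero.mp h9 with h | h
    · exact h
    · exact absurd h (irr_charDegree_pos ψ).ne'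
  -- the norm
  refine ⟨s, a, by rw [← hst, htcard], hsum_eN, ?_⟩
  have hnorm : classInner Φ Φ = ∑ ψ : IrrCharacter H, (a ψ : ℂ) * (a ψ : ℂ) := by
    have h1 : classInner Φ Φ =
        classInner (∑ ψ : IrrCharacter H, (a ψ : ℂ) • (ψ : H → ℂ)) Φ := by
      rw [← hdecΦ]
    rw [h1, classInner_sum_left]
    apply Finset.sum_congr rfl
    intro ψ _
    rw [classInner_smul_left, ← classInner_conj_symm, ha ψ, Complex.conj_natCast]
  rw [hnorm, ← Finset.sum_filter_add_sum_filter_not Finset.univ (fun ψ => ψ ∈ s)]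
  have hfil : Finset.univ.filter (fun ψ => ψ ∈ s) = s := by
    ext ψ; simp
  have hz : ∑ ψ ∈ Finset.univ.filter (fun ψ => ¬ ψ ∈ s), (a ψ : ℂ) * (a ψ : ℂ) = 0 := by
    apply Finset.sum_eq_zero
    intro ψ hψ
    rw [hzero ψ (Finset.mem_filter.mp hψ).2, Nat.cast_zero, mul_zero]
  rw [hz, add_zero, hfil]
  push_cast
  apply Finset.sum_congr rfl
  intro ψ _
  ring

end Cfsg.Agent.Lib.Helper21.Ram
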