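import Mathlib

set_option autoImplicit false

namespace Cfsg.Agent.Lib.Helper21.Ram

universe u

variable {Γ : Type u} [Group Γ]

/-- a subgroup `H` over `N` mapping isomorphically onto the cyclic quotient `Γ/G` -/
theorem exists_complement_lift (G N : Subgroup Γ) [hG : G.Normal] [hN : N.Normal] (hNG : N ≤ G)
    (hGlt : G ≠ ⊤) (hcyc : IsCyclic (Γ ⧸ G))
    (hfrob : ∀ x : Γ, x ∉ G → ∀ g : Γ, g ∈ G → x * g * x⁻¹ * g⁻¹ ∈ N → g ∈ N) :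
    ∃ H : Subgroup Γ, N ≤ H ∧ H ⊓ G = N ∧ H ⊔ G = ⊤ ∧ IsCyclic (↥H ⧸ N.subgroupOf H) ∧
      N.relIndex H = G.index := by
  obtain ⟨q₀, hq₀⟩ := IsCyclic.exists_generator (α := Γ ⧸ G)
  obtain ⟨x₀, rfl⟩ := QuotientGroup.mk_surjective q₀
  have hx₀ : x₀ ∉ G := by
    intro h
    apply hGlt
    rw [eq_top_iff]
    intro γ _
    have h1 : ((x₀ : Γ) : Γ ⧸ G) = 1 := (QuotientGroup.eq_one_iff x₀).mpr h
    obtain ⟨i, hi⟩ := Subgroup.mem_zpowers_iff.mp (hq₀ (γ : Γ ⧸ G))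
    rw [h1, one_zpow] at hi
    exact (QuotientGroup.eq_one_iff γ).mp hi.symm
  set H : Subgroup Γ := N ⊔ Subgroup.zpowers x₀ with hH
  have hNH : N ≤ H := le_sup_left
  have hx₀H : x₀ ∈ H := le_sup_right (α := Subgroup Γ) (Subgroup.mem_zpowers x₀)
  have hdecomp : ∀ y ∈ H, ∃ n ∈ N, ∃ i : ℤ, y = n * x₀ ^ i := by
    intro y hy
    have hy' : y ∈ ((N ⊔ Subgroup.zpowers x₀ : Subgroup Γ) : Set Γ) := hy
    rw [Subgroup.normal_mul] at hy'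
    obtain ⟨n, hn, z, hz, rfl⟩ := Set.mem_mul.mp hy'
    obtain ⟨i, rfl⟩ := Subgroup.mem_zpowers_iff.mp hz
    exact ⟨n, hn, i, rfl⟩
  have hsup : H ⊔ G = ⊤ := by
    rw [eq_top_iff]
    intro γ _
    obtain ⟨i, hi⟩ := Subgroup.mem_zpowers_iff.mp (hq₀ (γ : Γ ⧸ G))
    rw [← QuotientGroup.mk_zpow, QuotientGroup.eq] at hi
    have : γ = x₀ ^ i * ((x₀ ^ i)⁻¹ * γ) := by group
    rw [this]
    exact Subgroup.mul_mem _ (le_sup_left (α := Subgroup Γ) (H.zpow_mem hx₀H i))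
      (le_sup_right (α := Subgroup Γ) hi)
  have hHG : H ⊓ G = N := by
    apply le_antisymm _ (le_inf hNH hNG)
    rintro y ⟨hyH, hyG⟩
    obtain ⟨n, hn, i, rfl⟩ := hdecomp y hyH
    have hzG : x₀ ^ i ∈ G := by
      have : x₀ ^ i = n⁻¹ * (n * x₀ ^ i) := by group
      rw [this]
      exact G.mul_mem (G.inv_mem (hNG hn)) hyG
    have hcomm : x₀ * x₀ ^ i * x₀⁻¹ * (x₀ ^ i)⁻¹ = 1 := by
      have := (Commute.refl x₀).zpow_right i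
      rw [this.eq]
      group
    have hzN : x₀ ^ i ∈ N := hfrob x₀ hx₀ (x₀ ^ i) hzG (by rw [hcomm]; exact N.one_mem)
    exact N.mul_mem hn hzN
  refine ⟨H, hNH, hHG, hsup, ?_, ?_⟩
  · refine ⟨⟨((⟨x₀, hx₀H⟩ : H) : ↥H ⧸ N.subgroupOf H), fun q => ?_⟩⟩
    obtain ⟨h, rfl⟩ := QuotientGroup.mk_surjective q
    obtain ⟨n, hn, i, hi⟩ := hdecomp h h.2
    refine ⟨i, ?_⟩
    show ((⟨x₀, hx₀H⟩ : H) : ↥H ⧸ N.subgroupOf H) ^ i = (h : ↥H ⧸ N.subgroupOf H)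
    rw [← QuotientGroup.mk_zpow, QuotientGroup.eq, Subgroup.mem_subgroupOf]
    have : (((⟨x₀, hx₀H⟩ : H) ^ i)⁻¹ * h : H) = ((x₀ ^ i)⁻¹ * (h : Γ) : Γ) := by
      push_cast
      rfl
    rw [this, hi]
    have h2 : (x₀ ^ i)⁻¹ * (n * x₀ ^ i) = (x₀ ^ i)⁻¹ * n * ((x₀ ^ i)⁻¹)⁻¹ := by group
    rw [h2]
    exact hN.conj_mem n hn _
  · rw [← hHG, Subgroup.inf_relIndex_left, ← Subgroup.relIndex_sup_right, hsup,
      Subgroup.relIndex_top_right]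

end Cfsg.Agent.Lib.Helper21.Ram
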