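import Mathlib
import Cfsg.Prelude.Def_Blocks
import Cfsg.Agent.Lib.Helper6.Gallagher
import Cfsg.Agent.Lib.Helper6.Clifford
import Cfsg.Agent.Lib.Helper6.IndFun

set_option autoImplicit false

namespace Cfsg.Agent.Lib.Helper21.Ram

open Cfsg Cfsg.Agent.CharLib Cfsg.Agent.Lib.Helper6
open scoped ComplexConjugate

universe u

variable {Γ : Type u} [Group Γ] [Fintype Γ] [DecidableEq Γ]

/-- number of `x` conjugating `y` into `H` -/
noncomputable def cnt (H : Subgroup Γ) [DecidablePred (· ∈ H)] (y : Γ) : ℕ :=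
  (Finset.univ.filter (fun x : Γ => x⁻¹ * y * x ∈ H)).card

variable (G N H : Subgroup Γ) [hG : G.Normal] [hN : N.Normal]
  [DecidablePred (· ∈ H)] [DecidablePred (· ∈ G)] [DecidablePred (· ∈ N)]

omit [DecidableEq Γ] hG [DecidablePred (· ∈ G)] [DecidablePred (· ∈ N)] in
theorem cnt_of_mem (hNH : N ≤ H) {y : Γ} (hy : y ∈ N) : cnt H y = Fintype.card Γ := by
  unfold cnt
  rw [Finset.filter_true_of_mem, Finset.card_univ]
  intro x _
  apply hNH
  have := hN.conj_mem y hy x⁻¹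
  rwa [inv_inv] at this

omit [DecidableEq Γ] [DecidablePred (· ∈ G)] [DecidablePred (· ∈ N)] in
theorem cnt_of_mem_not_mem (hHG : H ⊓ G = N) {y : Γ} (hyG : y ∈ G) (hyN : y ∉ N) :
    cnt H y = 0 := by
  unfold cnt
  rw [Finset.card_eq_zero, Finset.filter_eq_empty_iff]
  intro x _ hx
  apply hyN
  have h1 : x⁻¹ * y * x ∈ G := by
    have := hG.conj_mem y hyG x⁻¹
    rwa [inv_inv] at this
  have h2 : x⁻¹ * y * x ∈ N := by
    rw [← hHG]; exact ⟨hx, h1⟩
  have := hN.conj_mem _ h2 x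
  convert this using 1
  group

omit [DecidableEq Γ] [DecidablePred (· ∈ G)] [DecidablePred (· ∈ N)] in
theorem cnt_le (hNH : N ≤ H) (hHG : H ⊓ G = N) (hsup : H ⊔ G = ⊤)
    (hfrob : ∀ x : Γ, x ∉ G → ∀ g : Γ, g ∈ G → x * g * x⁻¹ * g⁻¹ ∈ N → g ∈ N)
    {y : Γ} (hy : y ∉ G) : cnt H y ≤ Nat.card H := by
  classical
  unfold cnt
  by_cases hemp : (Finset.univ.filter (fun x : Γ => x⁻¹ * y * x ∈ H)) = ∅
  · rw [hemp, Finset.card_empty]; exact Nat.zero_le _
  obtain ⟨x₁, hx₁⟩ := Finset.nonempty_iff_ne_empty.mpr hemp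
  have hx₁H : x₁⁻¹ * y * x₁ ∈ H := (Finset.mem_filter.mp hx₁).2
  have hx₁G : x₁⁻¹ * y * x₁ ∉ G := by
    intro h
    apply hy
    have := hG.conj_mem _ h x₁
    convert this using 1
    group
  have hkey : ∀ x : Γ, x⁻¹ * y * x ∈ H → x₁⁻¹ * x ∈ H := by
    intro x hx
    set h₁ := x₁⁻¹ * y * x₁ with hh₁
    set u := x₁⁻¹ * x with hu
    have hu' : u⁻¹ * h₁ * u = x⁻¹ * y * x := by rw [hu, hh₁]; group
    have humem : u ∈ ((G ⊔ H : Subgroup Γ) : Set Γ) := by
      rw [sup_comm, hsup]; trivial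
    rw [Subgroup.normal_mul] at humem
    obtain ⟨g, hg, h', hh', hgu⟩ := Set.mem_mul.mp humem
    have h3 : g⁻¹ * h₁ * g ∈ H := by
      have h4 : h' * (u⁻¹ * h₁ * u) * h'⁻¹ ∈ H :=
        H.mul_mem (H.mul_mem hh' (by rw [hu']; exact hx)) (H.inv_mem hh')
      have h5 : h' * (u⁻¹ * h₁ * u) * h'⁻¹ = g⁻¹ * h₁ * g := by
        rw [← hgu]; group
      rwa [h5] at h4
    have h6 : h₁ * g⁻¹ * h₁⁻¹ * (g⁻¹)⁻¹ ∈ N := by
      rw [← hHG]
      constructor
      · have : h₁ * g⁻¹ * h₁⁻¹ * (g⁻¹)⁻¹ = h₁ * (g⁻¹ * h₁ * g)⁻¹ := by group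
        rw [this]
        exact H.mul_mem hx₁H (H.inv_mem h3)
      · have h7 : h₁ * g⁻¹ * h₁⁻¹ ∈ G := hG.conj_mem _ (G.inv_mem hg) h₁
        exact G.mul_mem h7 (G.inv_mem (G.inv_mem hg))
    have h8 : g⁻¹ ∈ N := hfrob h₁ hx₁G g⁻¹ (G.inv_mem hg) h6
    have h9 : g ∈ H := hNH (by simpa using N.inv_mem h8)
    rw [← hgu]
    exact H.mul_mem h9 hh'
  rw [Nat.card_eq_fintype_card, ← Finset.card_univ]
  apply Finset.card_le_card_of_injOn (fun x => if hx : x₁⁻¹ * x ∈ H then ⟨x₁⁻¹ * x, hx⟩ else 1)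
  · intro x _
    exact Finset.mem_univ _
  · intro a ha b hb hab
    have ha' := hkey a (Finset.mem_filter.mp ha).2
    have hb' := hkey b (Finset.mem_filter.mp hb).2
    simp only [dif_pos ha', dif_pos hb'] at hab
    have := congrArg Subtype.val hab
    simpa using this

omit [DecidableEq Γ] hG hN in
theorem sum_cnt : ∑ y : Γ, cnt H y = Fintype.card Γ * Nat.card H := by
  classical
  unfold cnt
  simp only [Finset.card_filter]
  rw [Finset.sum_comm]
  have : ∀ x : Γ, ∑ y : Γ, (if x⁻¹ * y * x ∈ H then 1 else 0) = Nat.card H := by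
    intro x
    rw [← Finset.card_filter, Nat.card_eq_fintype_card, ← Finset.card_univ (α := H)]
    symm
    apply Finset.card_bij (fun (h : H) _ => x * h * x⁻¹)
    · intro h _
      rw [Finset.mem_filter]
      refine ⟨Finset.mem_univ _, ?_⟩
      have : x⁻¹ * (x * (h : Γ) * x⁻¹) * x = h := by group
      rw [this]; exact h.2
    · intro a _ b _ hab
      apply Subtype.ext
      have := congrArg (fun z => x⁻¹ * z * x) hab
      simpa [mul_assoc] using this
    · intro y hy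
      refine ⟨⟨x⁻¹ * y * x, (Finset.mem_filter.mp hy).2⟩, Finset.mem_univ _, ?_⟩
      show x * (x⁻¹ * y * x) * x⁻¹ = y
      group
  rw [Finset.sum_congr rfl (fun x _ => this x), Finset.sum_const, Finset.card_univ, smul_eq_mul]

omit [DecidableEq Γ] in
theorem cnt_of_not_mem (hNG : N ≤ G) (hNH : N ≤ H) (hHG : H ⊓ G = N) (hsup : H ⊔ G = ⊤)
    (hfrob : ∀ x : Γ, x ∉ G → ∀ g : Γ, g ∈ G → x * g * x⁻¹ * g⁻¹ ∈ N → g ∈ N)
    (hsize : Fintype.card Γ * Nat.card N = Nat.card G * Nat.card H)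
    {y : Γ} (hy : y ∉ G) : cnt H y = Nat.card H := by
  classical
  by_contra hne
  have hlt : cnt H y < Nat.card H := lt_of_le_of_ne (cnt_le G N H hNH hHG hsup hfrob hy) hne
  have hsum := sum_cnt H
  -- split the sum
  have h1 : ∑ z : Γ, cnt H z = ∑ z ∈ Finset.univ.filter (fun z => z ∈ G), cnt H z +
      ∑ z ∈ Finset.univ.filter (fun z => ¬ z ∈ G), cnt H z :=
    (Finset.sum_filter_add_sum_filter_not _ _ _).symm
  have h2 : ∑ z ∈ Finset.univ.filter (fun z => z ∈ G), cnt H z =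
      Nat.card N * Fintype.card Γ := by
    have : ∀ z ∈ Finset.univ.filter (fun z => z ∈ G), cnt H z =
        if z ∈ N then Fintype.card Γ else 0 := by
      intro z hz
      split_ifs with hzN
      · exact cnt_of_mem N H hNH hzN
      · exact cnt_of_mem_not_mem G N H hHG (Finset.mem_filter.mp hz).2 hzN
    rw [Finset.sum_congr rfl this, Finset.sum_ite, Finset.sum_const_zero, add_zero,
      Finset.sum_const, smul_eq_mul, Finset.filter_filter]
    congr 1
    rw [Nat.card_eq_fintype_card, Fintype.card_subtype]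
    congr 1
    ext z
    simp only [Finset.mem_filter, Finset.mem_univ, true_and]
    exact ⟨fun h => h.2, fun h => ⟨hNG h, h⟩⟩
  have h3 : ∑ z ∈ Finset.univ.filter (fun z => ¬ z ∈ G), cnt H z <
      ∑ z ∈ Finset.univ.filter (fun z => ¬ z ∈ G), Nat.card H := by
    apply Finset.sum_lt_sum
    · intro z hz
      exact cnt_le G N H hNH hHG hsup hfrob (Finset.mem_filter.mp hz).2
    · exact ⟨y, Finset.mem_filter.mpr ⟨Finset.mem_univ _, hy⟩, hlt⟩
  rw [Finset.sum_const, smul_eq_mul] at h3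
  have h4 : (Finset.univ.filter (fun z : Γ => ¬ z ∈ G)).card + Nat.card G = Fintype.card Γ := by
    have := Finset.card_filter_add_card_filter_not (s := (Finset.univ : Finset Γ)) (fun z => z ∈ G)
    rw [Finset.card_univ] at this
    rw [← this, Nat.card_eq_fintype_card, Fintype.card_subtype]
    ring
  rw [h1, h2] at hsum
  nlinarith

omit [DecidableEq Γ] hG hN [DecidablePred (· ∈ G)] [DecidablePred (· ∈ N)] in
theorem indFun_one_eq_cnt (y : Γ) :
    indFun H (fun _ => (1 : ℂ)) y = (Nat.card H : ℂ)⁻¹ * (cnt H y : ℂ) := by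
  rw [indFun_apply]
  simp only [extendByZero_one]
  rw [Finset.sum_boole]
  rfl

end Cfsg.Agent.Lib.Helper21.Ram
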