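import Mathlib
import Cfsg.Prelude.Def_Blocks
import Cfsg.Agent.Lib.Helper21.RamCount

set_option autoImplicit false

namespace Cfsg.Agent.Lib.Helper21.Ram

open Cfsg Cfsg.Agent.CharLib Cfsg.Agent.Lib.Helper6
open scoped ComplexConjugate

universe u

variable {Γ : Type u} [Group Γ] [Fintype Γ]

/-- the norm of the restriction to `H` of a class function, in the Frobenius situation -/
theorem classInner_resFun_self_frob (G N H : Subgroup Γ) [hG : G.Normal] [hN : N.Normal]
    [Fintype H] [DecidablePred (· ∈ H)] [DecidablePred (· ∈ G)] [DecidablePred (· ∈ N)]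
    (hNG : N ≤ G) (hNH : N ≤ H) (hHG : H ⊓ G = N) (hsup : H ⊔ G = ⊤)
    (hfrob : ∀ x : Γ, x ∉ G → ∀ g : Γ, g ∈ G → x * g * x⁻¹ * g⁻¹ ∈ N → g ∈ N)
    (hsize : Fintype.card Γ * Nat.card N = Nat.card G * Nat.card H)
    {χh : Γ → ℂ} (hχh : IsClassFunction Γ χh) :
    classInner (resFun H χh) (resFun H χh) = (Nat.card Γ : ℂ)⁻¹ * (Nat.card H : ℂ)⁻¹ *
      ((Nat.card Γ : ℂ) * ∑ y : Γ, (if y ∈ N then χh y * conj (χh y) else 0) +
        (Nat.card H : ℂ) * ∑ y : Γ, (if y ∈ G then 0 else χh y * conj (χh y))) := by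
  classical
  have hfr := frobenius_reciprocity H (resFun H χh) hχh
  have h1 : indFun H (resFun H χh) = indFun H (fun _ => (1 : ℂ)) * χh := by
    rw [← indFun_mul_resFun H _ hχh]
    congr 1
    funext h
    rw [Pi.mul_apply, one_mul]
  have h2 : classInner (resFun H χh) (resFun H χh) = classInner (indFun H (resFun H χh)) χh :=
    hfr.symm
  rw [h2, h1]
  unfold classInner
  rw [mul_assoc]
  congr 1
  rw [Finset.mul_sum, Finset.mul_sum, ← Finset.sum_add_distrib, Finset.mul_sum]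
  apply Finset.sum_congr rfl
  intro y _
  rw [Pi.mul_apply, indFun_one_eq_cnt]
  have hH0 : (Nat.card H : ℂ) ≠ 0 := by exact_mod_cast (Nat.card_pos (α := H)).ne'
  by_cases hyN : y ∈ N
  · have hΓ : (Fintype.card Γ : ℂ) = (Nat.card Γ : ℂ) := by rw [Nat.card_eq_fintype_card]
    rw [if_pos hyN, if_pos (hNG hyN), cnt_of_mem N H hNH hyN, mul_zero, add_zero, hΓ]
    ring
  · by_cases hyG : y ∈ G
    · rw [if_neg hyN, if_pos hyG, cnt_of_mem_not_mem G N H hHG hyG hyN]
      simp
    · rw [if_neg hyN, if_neg hyG, cnt_of_not_mem G N H hNG hNH hHG hsup hfrob hsize hyG]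
      field_simp
      ring

end Cfsg.Agent.Lib.Helper21.Ram
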