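import Mathlib
import Cfsg.Prelude.Def_Blocks
import Cfsg.Agent.Lib.Helper6.Gallagher
import Cfsg.Agent.Lib.Helper6.Clifford

set_option autoImplicit false

namespace Cfsg.Agent.Lib.Helper21.Ram

open Cfsg Cfsg.Agent.CharLib Cfsg.Agent.Lib.Helper6
open scoped ComplexConjugate

universe u

/-- a fully ramified invariant character: `e^2` is the index, and `χ` restricts to `e θ` -/
theorem ramified_facts {G : Type u} [Group G] [Fintype G] (N' : Subgroup G) [hN : N'.Normal]
    {θ' : N' → ℂ} (hθ' : IsIrrCharacter N' θ') (hinv : ∀ g : G, conjFun N' g θ' = θ')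
    (χ : IrrCharacter G) (e : ℕ)
    (hram : indFun N' θ' = fun g => (e : ℂ) * (χ : G → ℂ) g) :
    e * e = N'.index ∧ ∀ n : N', (χ : G → ℂ) n = (e : ℂ) * θ' n := by
  classical
  let _ : Fintype N' := Fintype.ofFinite N'
  have h1 := classInner_indFun_self_of_invariant N' hθ' hinv
  have hram' : indFun N' θ' = (e : ℂ) • (χ : G → ℂ) := by
    rw [hram]; funext g; rw [Pi.smul_apply, smul_eq_mul]
  rw [hram', classInner_smul_left, classInner_smul_right, classInner_irr χ.2 χ.2, if_pos rfl,
    mul_one, Complex.conj_natCast] at h1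
  have hee : e * e = N'.index := by exact_mod_cast h1
  refine ⟨hee, ?_⟩
  have he0 : (e : ℂ) ≠ 0 := by
    intro h0
    have : e = 0 := by exact_mod_cast h0
    rw [this] at hee
    exact Subgroup.index_ne_zero_of_finite (H := N') hee.symm
  have hcardN : (Nat.card N' : ℂ) ≠ 0 := by exact_mod_cast (Nat.card_pos (α := N')).ne'
  have h2 := resFun_indFun N' θ'
  rw [Finset.sum_congr rfl (fun x _ => hinv x), Finset.sum_const, Finset.card_univ] at h2
  intro n
  have h3 := congrFun h2 n
  rw [resFun_apply, hram, Pi.smul_apply, Pi.smul_apply, smul_eq_mul, nsmul_eq_mul] at h3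
  have h4 : (Fintype.card G : ℂ) = (Nat.card N' : ℂ) * ((e * e : ℕ) : ℂ) := by
    rw [hee, ← Nat.cast_mul, Subgroup.card_mul_index, Nat.card_eq_fintype_card]
  rw [h4, ← mul_assoc, ← mul_assoc, inv_mul_cancel₀ hcardN, one_mul] at h3
  push_cast at h3
  have h5 : (e : ℂ) * (χ : G → ℂ) n = (e : ℂ) * ((e : ℂ) * θ' n) := by rw [h3]; ring
  exact mul_left_cancel₀ he0 h5

end Cfsg.Agent.Lib.Helper21.Ram
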