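import Mathlib
import Cfsg.Prelude.Def_Blocks
import Cfsg.Agent.Lib.Helper21.RamArith
import Cfsg.Agent.Lib.Helper21.RamGallagher
import Cfsg.Agent.Lib.Helper21.RamStep1
import Cfsg.Agent.Lib.Helper21.RamNorm
import Cfsg.Agent.Lib.Helper21.RamGroup
import Cfsg.Agent.Lib.Helper21.BGChar

set_option autoImplicit false

namespace Cfsg.Agent.Lib.Helper21.Ram

open Cfsg Cfsg.Agent.CharLib Cfsg.Agent.Lib.Helper6 Cfsg.Agent.Lib.Helper24 Cfsg.Agent.Lib.Helper25
open Cfsg.Agent.Lib.Helper21.BG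
open scoped ComplexConjugate

universe u

variable {Γ : Type u} [Group Γ] [Fintype Γ]

omit [Fintype Γ] in
/-- transport of an irreducible character of `N` to `N.subgroupOf K` -/
theorem isIrrCharacter_subgroupOf {N K : Subgroup Γ} (hNK : N ≤ K) (θ : IrrCharacter N) :
    IsIrrCharacter (N.subgroupOf K) (fun n : N.subgroupOf K => (θ : N → ℂ) ⟨(n : K), n.2⟩) :=
  isIrrCharacter_comp (Subgroup.subgroupOfEquivOfLe hNK).toMonoidHom
    (Subgroup.subgroupOfEquivOfLe hNK).surjective θ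

omit [Fintype Γ] in
/-- invariance of the induced function under outer conjugation -/
theorem indFun_conj_invariant (G N : Subgroup Γ) [hG : G.Normal] [hN : N.Normal] [Fintype G]
    (θ : N → ℂ)
    (hinv : ∀ (x : Γ) (n : N), θ ⟨x * n * x⁻¹, hN.conj_mem n n.2 x⟩ = θ n) (x : Γ) (g : G) :
    indFun (N.subgroupOf G) (fun n : N.subgroupOf G => θ ⟨(n : G), n.2⟩)
      ⟨x * g * x⁻¹, hG.conj_mem g g.2 x⟩ =
    indFun (N.subgroupOf G) (fun n : N.subgroupOf G => θ ⟨(n : G), n.2⟩) g := by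
  classical
  rw [indFun_apply, indFun_apply]
  congr 1
  set θ' : N.subgroupOf G → ℂ := fun n => θ ⟨(n : G), n.2⟩ with hθ'
  let σ : G ≃ G := (MulAut.conjNormal x : MulAut G).toEquiv
  have hσ : ∀ u : G, ((σ u : G) : Γ) = x * u * x⁻¹ := fun u => MulAut.conjNormal_apply x u
  have hebz : ∀ u : G, extendByZero (N.subgroupOf G) θ' (σ u) =
      extendByZero (N.subgroupOf G) θ' u := by
    intro u
    by_cases hu : u ∈ N.subgroupOf G
    · have hσu : σ u ∈ N.subgroupOf G := by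
        rw [Subgroup.mem_subgroupOf, hσ]
        exact hN.conj_mem _ (Subgroup.mem_subgroupOf.mp hu) x
      rw [extendByZero_mem _ _ hu, extendByZero_mem _ _ hσu]
      have := hinv x ⟨(u : Γ), Subgroup.mem_subgroupOf.mp hu⟩
      show θ _ = θ _
      rw [← this]
      congr 1
    · have hσu : σ u ∉ N.subgroupOf G := by
        intro h
        apply hu
        rw [Subgroup.mem_subgroupOf, hσ] at h
        rw [Subgroup.mem_subgroupOf]
        have := hN.conj_mem _ h x⁻¹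
        convert this using 1
        group
      rw [extendByZero_not_mem _ _ hu, extendByZero_not_mem _ _ hσu]
  rw [← Equiv.sum_comp σ]
  apply Finset.sum_congr rfl
  intro y _
  rw [← hebz (y⁻¹ * g * y)]
  congr 1
  apply Subtype.ext
  push_cast
  rw [hσ, hσ]
  push_cast
  group

omit [Fintype Γ] in
theorem card_eq_mul_relIndex {K L : Subgroup Γ} (h : K ≤ L) :
    Nat.card L = Nat.card K * K.relIndex L := by
  rw [← Subgroup.card_mul_index (K.subgroupOf L)]
  congr 1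
  exact Nat.card_congr (Subgroup.subgroupOfEquivOfLe h).toEquiv

theorem sum_ite_mem_eq (K : Subgroup Γ) [Fintype K] [DecidablePred (· ∈ K)] (F : Γ → ℂ) :
    ∑ y : Γ, (if y ∈ K then F y else 0) = ∑ k : K, F k := by
  rw [← Finset.sum_filter]
  exact Finset.sum_subtype (Finset.univ.filter (· ∈ K)) (fun x => by simp) F

theorem sum_mul_conj_irr {A : Type u} [Group A] [Fintype A] {ψ : A → ℂ}
    (hψ : IsIrrCharacter A ψ) : ∑ a : A, ψ a * conj (ψ a) = (Nat.card A : ℂ) := by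
  have h1 := classInner_irr hψ hψ
  rw [if_pos rfl] at h1
  unfold classInner at h1
  have h0 : (Nat.card A : ℂ) ≠ 0 := by exact_mod_cast (Nat.card_pos (α := A)).ne'
  field_simp at h1
  exact h1

/-- **Fully ramified characters over a Frobenius quotient**: `|Γ : G|` divides `e - 1` or
`e + 1`. -/
theorem fully_ramified_index_dvd (G N : Subgroup Γ) [hG : G.Normal] [hN : N.Normal]
    [Fintype G] [Fintype N] (hNG : N ≤ G) (hGlt : G ≠ ⊤)
    (hcyc : IsCyclic (Γ ⧸ G))
    (hfrob : ∀ x : Γ, x ∉ G → ∀ g : Γ, g ∈ G → x * g * x⁻¹ * g⁻¹ ∈ N → g ∈ N)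
    (θ : IrrCharacter N)
    (hinv : ∀ (x : Γ) (n : N), (θ : N → ℂ) ⟨x * n * x⁻¹, hN.conj_mem n n.2 x⟩ = (θ : N → ℂ) n)
    (χ : IrrCharacter G) (e : ℕ)
    (hram : indFun (N.subgroupOf G) (fun n : N.subgroupOf G => (θ : N → ℂ) ⟨(n : G), n.2⟩) =
      fun g => (e : ℂ) * (χ : G → ℂ) g) :
    (G.index : ℤ) ∣ (e : ℤ) - 1 ∨ (G.index : ℤ) ∣ (e : ℤ) + 1 := by
  classical
  -- Step 1
  have hθ' := isIrrCharacter_subgroupOf hNG θ
  have hinv' : ∀ g : G, conjFun (N.subgroupOf G)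
      g (fun n : N.subgroupOf G => (θ : N → ℂ) ⟨(n : G), n.2⟩) =
      (fun n : N.subgroupOf G => (θ : N → ℂ) ⟨(n : G), n.2⟩) := by
    intro g
    funext n
    rw [conjFun_apply]
    exact hinv (g : Γ) ⟨((n : G) : Γ), n.2⟩
  obtain ⟨hee, hχN⟩ := ramified_facts (N.subgroupOf G) hθ' hinv' χ e hram
  have he0 : (e : ℂ) ≠ 0 := by
    intro h0
    have : e = 0 := by exact_mod_cast h0
    rw [this] at hee
    exact Subgroup.index_ne_zero_of_finite (H := N.subgroupOf G) hee.symm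
  have hχinv : ∀ (x : Γ) (g : G),
      (χ : G → ℂ) ⟨x * g * x⁻¹, hG.conj_mem (g : Γ) g.2 x⟩ = (χ : G → ℂ) g := by
    intro x g
    have h1 := indFun_conj_invariant G N (θ : N → ℂ) hinv x g
    rw [hram] at h1
    exact mul_left_cancel₀ he0 h1
  -- Step 2
  obtain ⟨χh, hχh, hχhG⟩ := exists_irr_extension_of_cyclic G hcyc χ.2 hχinv
  -- Step 3
  obtain ⟨H, hNH, hHG, hsup, hcycH, hrel⟩ := exists_complement_lift G N hNG hGlt hcyc hfrob
  let _ : Fintype H := Fintype.ofFinite H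
  -- Step 4
  have hθ₁ := isIrrCharacter_subgroupOf hNH θ
  have hinv₁ : ∀ (g : H) (n : N.subgroupOf H),
      (fun n : N.subgroupOf H => (θ : N → ℂ) ⟨(n : H), n.2⟩)
        ⟨g * n * g⁻¹, (inferInstance : (N.subgroupOf H).Normal).conj_mem (n : H) n.2 g⟩ =
      (fun n : N.subgroupOf H => (θ : N → ℂ) ⟨(n : H), n.2⟩) n := by
    intro g n
    exact hinv (g : Γ) ⟨((n : H) : Γ), n.2⟩
  have hΦ : IsCharacter H (resFun H χh) := isCharacter_resFun H (IsIrrCharacter.isCharacter hχh)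
  have hΦN : ∀ n : N.subgroupOf H, resFun H χh (n : H) =
      (e : ℂ) * (fun n : N.subgroupOf H => (θ : N → ℂ) ⟨(n : H), n.2⟩) n := by
    intro n
    have hnN : ((n : H) : Γ) ∈ N := n.2
    have h1 := hχhG ⟨((n : H) : Γ), hNG hnN⟩
    have h2 := hχN ⟨⟨((n : H) : Γ), hNG hnN⟩, hnN⟩
    rw [resFun_apply]
    exact h1.trans h2
  obtain ⟨s, a, hscard, hsum, hsq⟩ :=
    exists_decomp_over_invariant (N.subgroupOf H) hcycH hθ₁ hinv₁ hΦ e hΦN
  have hsc : s.card = G.index := by rw [hscard, ← hrel]; rfl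
  -- sizes
  have hcN : 0 < Nat.card N := Nat.card_pos
  have hGN : Nat.card G = Nat.card N * (e * e) := by
    rw [hee]
    have h1 : (N.subgroupOf G).index = N.relIndex G := rfl
    rw [h1]
    exact card_eq_mul_relIndex hNG
  have hHN : Nat.card H = Nat.card N * G.index := by
    rw [← hrel]
    exact card_eq_mul_relIndex hNH
  have hΓG : Nat.card Γ = Nat.card G * G.index := (Subgroup.card_mul_index G).symm
  have hsize : Fintype.card Γ * Nat.card N = Nat.card G * Nat.card H := by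
    rw [← Nat.card_eq_fintype_card, hΓG, hHN]
    ring
  have hχhcf : IsClassFunction Γ χh := IsCharacter.isClassFunction (IsIrrCharacter.isCharacter hχh)
  have hnorm := classInner_resFun_self_frob G N H hNG hNH hHG hsup hfrob hsize hχhcf
  -- the sums
  have hSN : ∑ y : Γ, (if y ∈ N then χh y * conj (χh y) else 0) =
      ((e * e : ℕ) : ℂ) * (Nat.card N : ℂ) := by
    rw [sum_ite_mem_eq N]
    have h1 : ∀ n : N, χh n * conj (χh n) =
        ((e * e : ℕ) : ℂ) * ((θ : N → ℂ) n * conj ((θ : N → ℂ) n)) := by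
      intro n
      have h2 : χh n = (e : ℂ) * (θ : N → ℂ) n :=
        (hχhG ⟨(n : Γ), hNG n.2⟩).trans (hχN ⟨⟨(n : Γ), hNG n.2⟩, n.2⟩)
      rw [h2, map_mul, Complex.conj_natCast]
      push_cast
      ring
    rw [Finset.sum_congr rfl (fun n _ => h1 n), ← Finset.mul_sum, sum_mul_conj_irr θ.2]
  have hSG : ∑ y : Γ, (if y ∈ G then 0 else χh y * conj (χh y)) =
      (Nat.card Γ : ℂ) - (Nat.card G : ℂ) := by
    have h1 : ∀ y : Γ, (if y ∈ G then 0 else χh y * conj (χh y)) =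
        χh y * conj (χh y) - (if y ∈ G then χh y * conj (χh y) else 0) := by
      intro y
      split_ifs <;> ring
    rw [Finset.sum_congr rfl (fun y _ => h1 y), Finset.sum_sub_distrib, sum_mul_conj_irr hχh,
      sum_ite_mem_eq G]
    congr 1
    rw [← sum_mul_conj_irr χ.2]
    apply Finset.sum_congr rfl
    intro g _
    rw [hχhG g]
  rw [hSN, hSG] at hnorm
  rw [hnorm] at hsq
  -- arithmetic
  have hc0 : (G.index : ℂ) ≠ 0 := by
    exact_mod_cast Subgroup.index_ne_zero_of_finite (H := G)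
  have hN0 : (Nat.card N : ℂ) ≠ 0 := by exact_mod_cast hcN.ne'
  have key : (s.card : ℂ) * ((∑ ψ ∈ s, (a ψ) ^ 2 : ℕ) : ℂ) =
      (s.card : ℂ) + (e : ℂ) ^ 2 - 1 := by
    rw [hsq, hsc, hΓG, hHN, hGN]
    push_cast
    field_simp
    ring
  have hfin := dvd_of_sum_sq s a e hsum (by exact_mod_cast key)
  rw [hsc] at hfin
  exact hfin

end Cfsg.Agent.Lib.Helper21.Ram
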