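import Mathlib
import Cfsg.Prelude.Def_Blocks
import Cfsg.Prelude.Def_Transfer
import Cfsg.Agent.Lib.Helper21.RamMain
import Cfsg.Agent.Lib.Helper21.ESChar

set_option autoImplicit false

namespace Cfsg.Agent.Lib.Helper21.ES

open Cfsg Cfsg.Agent.CharLib Cfsg.Agent.Lib.Helper6 Cfsg.Agent.Lib.Helper24
open Cfsg.Agent.Lib.Helper21.Ram
open scoped ComplexConjugate commutatorElement

universe u

theorem exists_nontrivial_hom {A : Type*} [Group A] [Finite A] {p : ℕ} [hp : Fact p.Prime]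
    (h : Nat.card A = p) : ∃ f : A →* ℂˣ, ∃ a, f a ≠ 1 := by
  haveI := isCyclic_of_prime_card h
  letI : CommGroup A := IsCyclic.commGroup
  have hne : NeZero ((Monoid.exponent A : ℕ) : ℂ) :=
    ⟨by exact_mod_cast Monoid.exponent_ne_zero_of_finite⟩
  obtain ⟨a, ha⟩ : ∃ a : A, a ≠ 1 := by
    have h1 : 1 < Nat.card A := h ▸ hp.out.one_lt
    haveI : Nontrivial A := (Finite.one_lt_card_iff_nontrivial).mp h1
    exact exists_ne 1
  obtain ⟨φ, hφ⟩ := CommGroup.exists_apply_ne_one_of_hasEnoughRootsOfUnity A ℂ ha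
  exact ⟨φ, a, hφ⟩

variable {G : Type u} [Group G]

theorem mem_center_map_iff (P : Subgroup G) (z : G) :
    z ∈ (Subgroup.center ↥P).map P.subtype ↔ z ∈ P ∧ ∀ g ∈ P, g * z = z * g := by
  constructor
  · rintro ⟨z', hz', rfl⟩
    refine ⟨z'.2, fun g hg => ?_⟩
    have := Subgroup.mem_center_iff.mp hz' ⟨g, hg⟩
    exact congrArg Subtype.val this
  · rintro ⟨hzP, hc⟩
    refine ⟨⟨z, hzP⟩, ?_, rfl⟩
    refine Subgroup.mem_center_iff.mpr ?_
    intro g
    exact Subtype.ext (hc g g.2)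

theorem exists_mul_of_mem_sup (P H : Subgroup G) (hHP : H ≤ Subgroup.normalizer (P : Set G))
    {x : G} (hx : x ∈ H ⊔ P) : ∃ h ∈ H, ∃ u ∈ P, x = h * u := by
  rw [Subgroup.sup_eq_closure] at hx
  induction hx using Subgroup.closure_induction with
  | mem y hy =>
    rcases hy with hy | hy
    · exact ⟨y, hy, 1, P.one_mem, (mul_one y).symm⟩
    · exact ⟨1, H.one_mem, y, hy, (one_mul y).symm⟩
  | one => exact ⟨1, H.one_mem, 1, P.one_mem, (mul_one 1).symm⟩
  | mul a b _ _ iha ihb =>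
    obtain ⟨h, hh, u, hu, rfl⟩ := iha
    obtain ⟨h', hh', u', hu', rfl⟩ := ihb
    refine ⟨h * h', H.mul_mem hh hh', h'⁻¹ * u * h'⁻¹⁻¹ * u', P.mul_mem ?_ hu', by group⟩
    exact (Subgroup.mem_normalizer_iff.mp (hHP (H.inv_mem hh')) u).mp hu
  | inv a _ iha =>
    obtain ⟨h, hh, u, hu, rfl⟩ := iha
    refine ⟨h⁻¹, H.inv_mem hh, h * u⁻¹ * h⁻¹, ?_, by group⟩
    exact (Subgroup.mem_normalizer_iff.mp (hHP hh) u⁻¹).mp (P.inv_mem hu)

theorem frob_aux {p : ℕ} [hp : Fact p.Prime] (P H : Subgroup G) [Finite G]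
    (hcommP : ∀ u ∈ P, ∀ v ∈ P, u * v * u⁻¹ * v⁻¹ ∈ (Subgroup.center ↥P).map P.subtype)
    (hZp : Nat.card ((Subgroup.center ↥P).map P.subtype) = p)
    (hcop : (Nat.card H).Coprime p) (hHP : H ≤ Subgroup.normalizer (P : Set G))
    (hfix : ∀ x ∈ H, x ≠ 1 →
      P ⊓ Subgroup.centralizer {x} = (Subgroup.center ↥P).map P.subtype)
    {x0 : G} (hx0 : x0 ∈ H ⊔ P) (hx0P : x0 ∉ P) {g0 : G} (hg0 : g0 ∈ P)
    (hc : x0 * g0 * x0⁻¹ * g0⁻¹ ∈ (Subgroup.center ↥P).map P.subtype) :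
    g0 ∈ (Subgroup.center ↥P).map P.subtype := by
  set Z0 := (Subgroup.center ↥P).map P.subtype with hZ0
  obtain ⟨h, hh, u, hu, rfl⟩ := exists_mul_of_mem_sup P H hHP hx0
  have hne : h ≠ 1 := by
    rintro rfl
    apply hx0P
    rw [one_mul]
    exact hu
  have hfixh := hfix h hh hne
  have hcent : ∀ z ∈ Z0, h * z = z * h := by
    intro z hz
    rw [← hfixh] at hz
    exact (Subgroup.mem_centralizer_singleton_iff.mp hz.2).symm
  have hc1 := hcommP u hu g0 hg0
  have hcZ : h * g0 * h⁻¹ * g0⁻¹ ∈ Z0 := by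
    have e : h * u * g0 * (h * u)⁻¹ * g0⁻¹ =
        (u * g0 * u⁻¹ * g0⁻¹) * (h * g0 * h⁻¹ * g0⁻¹) := by
      have := hcent _ hc1
      calc h * u * g0 * (h * u)⁻¹ * g0⁻¹
          = h * (u * g0 * u⁻¹ * g0⁻¹) * g0 * h⁻¹ * g0⁻¹ := by group
        _ = (u * g0 * u⁻¹ * g0⁻¹) * h * g0 * h⁻¹ * g0⁻¹ := by rw [this]
        _ = _ := by group
    rw [e] at hc
    exact (Subgroup.mul_mem_cancel_left Z0 hc1).mp hc
  set c := h * g0 * h⁻¹ * g0⁻¹ with hcdef
  have hpow : ∀ k : ℕ, h ^ k * g0 * (h ^ k)⁻¹ = c ^ k * g0 := by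
    intro k
    induction k with
    | zero => simp
    | succ k ih =>
      have hck : h * c ^ k = c ^ k * h := hcent _ (Z0.pow_mem hcZ k)
      calc h ^ (k + 1) * g0 * (h ^ (k + 1))⁻¹ = h * (h ^ k * g0 * (h ^ k)⁻¹) * h⁻¹ := by
            rw [pow_succ']; group
        _ = h * (c ^ k * g0) * h⁻¹ := by rw [ih]
        _ = (h * c ^ k) * g0 * h⁻¹ := by group
        _ = c ^ k * h * g0 * h⁻¹ := by rw [hck]
        _ = c ^ k * (h * g0 * h⁻¹ * g0⁻¹) * g0 := by group
        _ = c ^ (k + 1) * g0 := by rw [← hcdef, pow_succ]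
  have h1 : c ^ orderOf h = 1 := by
    have := hpow (orderOf h)
    rw [pow_orderOf_eq_one, one_mul, inv_one, mul_one] at this
    exact mul_eq_right.mp this.symm
  have h2 : c ^ p = 1 := by
    have := pow_card_eq_one' (G := Z0) (x := ⟨c, hcZ⟩)
    rw [hZp] at this
    exact congrArg Subtype.val this
  have hcop' : (orderOf h).Coprime p := by
    have : orderOf h ∣ Nat.card H := by
      have := orderOf_dvd_natCard (⟨h, hh⟩ : H)
      rwa [Subgroup.orderOf_mk] at this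
    exact Nat.Coprime.coprime_dvd_left this hcop
  have hc1' : c = 1 := by
    have h3 : orderOf c ∣ Nat.gcd (orderOf h) p :=
      Nat.dvd_gcd (orderOf_dvd_of_pow_eq_one h1) (orderOf_dvd_of_pow_eq_one h2)
    rw [hcop'] at h3
    exact orderOf_eq_one_iff.mp (Nat.dvd_one.mp h3)
  have hcomm : g0 * h = h * g0 := by
    have : h * g0 * h⁻¹ * g0⁻¹ = 1 := hc1'
    calc g0 * h = (h * g0 * h⁻¹ * g0⁻¹) * g0 * h := by rw [this, one_mul]
      _ = h * g0 := by group
  rw [← hfixh]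
  exact ⟨hg0, Subgroup.mem_centralizer_singleton_iff.mpr hcomm⟩

set_option maxHeartbeats 1000000 in
theorem es_cyclic_dvd [Finite G] {p : ℕ} [hp : Fact p.Prime] (P H : Subgroup G)
    (hP : Cfsg.IsExtraspecial p ↥P) (n : ℕ) (hn : Nat.card P = p ^ (2 * n + 1))
    (hH : IsCyclic H) (hcop : (Nat.card H).Coprime p)
    (hHP : H ≤ Subgroup.normalizer (P : Set G))
    (hfix : ∀ x ∈ H, x ≠ 1 →
      P ⊓ Subgroup.centralizer {x} = (Subgroup.center ↥P).map P.subtype) :
    Nat.card H ∣ p ^ n + 1 ∨ Nat.card H ∣ p ^ n - 1 := by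
  classical
  obtain ⟨⟨hPp, hfrat, hcommP⟩, hcenter⟩ := hP
  by_cases hH1 : Nat.card H = 1
  · left
    rw [hH1]
    exact one_dvd _
  set Z0 := (Subgroup.center ↥P).map P.subtype with hZ0
  have hZ0card : Nat.card Z0 = p := by
    rw [← hcenter]
    exact Nat.card_congr
      ((Subgroup.center ↥P).equivMapOfInjective P.subtype P.subtype_injective).symm.toEquiv
  have hZ0P : Z0 ≤ P := fun z hz => ((mem_center_map_iff P z).mp hz).1
  have hcommZ : ∀ u ∈ P, ∀ v ∈ P, u * v * u⁻¹ * v⁻¹ ∈ Z0 := by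
    intro u hu v hv
    have h1 : ⁅(⟨u, hu⟩ : ↥P), (⟨v, hv⟩ : ↥P)⁆ ∈ commutator ↥P := by
      rw [commutator_def]
      exact Subgroup.commutator_mem_commutator (Subgroup.mem_top _) (Subgroup.mem_top _)
    rw [hcommP] at h1
    refine ⟨_, h1, ?_⟩
    rw [commutatorElement_def]
    rfl
  have hHcent : ∀ h ∈ H, ∀ z ∈ Z0, h * z = z * h := by
    intro h hh z hz
    by_cases hne : h = 1
    · rw [hne, one_mul, mul_one]
    · rw [← hfix h hh hne] at hz
      exact (Subgroup.mem_centralizer_singleton_iff.mp hz.2).symm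
  -- the ambient group
  set K : Subgroup G := H ⊔ P with hK
  have hPK : P ≤ K := le_sup_right
  have hHK : H ≤ K := le_sup_left
  have hKn : K ≤ Subgroup.normalizer (P : Set G) := sup_le hHP Subgroup.le_normalizer
  have hKcent : ∀ x ∈ K, ∀ z ∈ Z0, x * z = z * x := by
    have : K ≤ Subgroup.centralizer (Z0 : Set G) := by
      refine sup_le ?_ ?_
      · intro h hh
        rw [Subgroup.mem_centralizer_iff]
        intro z hz
        exact (hHcent h hh z hz).symm
      · intro g hg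
        rw [Subgroup.mem_centralizer_iff]
        intro z hz
        exact (((mem_center_map_iff P z).mp hz).2 g hg).symm
    intro x hx z hz
    exact ((Subgroup.mem_centralizer_iff.mp (this hx)) z hz).symm
  set GP : Subgroup K := P.subgroupOf K with hGP
  set NZ : Subgroup K := Z0.subgroupOf K with hNZ
  haveI hGPn : GP.Normal := (Subgroup.normal_subgroupOf_iff_le_normalizer hPK).mpr hKn
  have hconj : ∀ (x : K) (m : K), m ∈ NZ → x * m * x⁻¹ = m := by
    intro x m hm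
    apply Subtype.ext
    push_cast
    rw [hKcent x x.2 m (Subgroup.mem_subgroupOf.mp hm), mul_inv_cancel_right]
  haveI hNZn : NZ.Normal := ⟨fun m hm x => by rw [hconj x m hm]; exact hm⟩
  have hNG : NZ ≤ GP := by
    intro x hx
    rw [hGP, Subgroup.mem_subgroupOf]
    exact hZ0P (Subgroup.mem_subgroupOf.mp hx)
  -- index
  have hdisj : P ⊓ H = ⊥ := by
    apply Disjoint.eq_bot
    apply Subgroup.disjoint_of_coprime_natCard
    rw [hn]
    exact (Nat.Coprime.pow_right _ hcop).symm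
  have hidx : GP.index = Nat.card H := by
    have e := QuotientGroup.quotientInfEquivProdNormalizerQuotient H P hHP
    have h1 : GP.index = (P.subgroupOf H).index := (Nat.card_congr e.toEquiv).symm
    rw [h1]
    change P.relIndex H = _
    rw [← Subgroup.inf_relIndex_right, hdisj, Subgroup.relIndex_bot_left]
  have hGlt : GP ≠ ⊤ := by
    intro h
    rw [← Subgroup.index_eq_one, hidx] at h
    exact hH1 h
  have hcyc : IsCyclic (K ⧸ GP) := by
    have e := QuotientGroup.quotientInfEquivProdNormalizerQuotient H P hHP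
    haveI := hH
    exact isCyclic_of_surjective (e.toMonoidHom.comp (QuotientGroup.mk' (P.subgroupOf H)))
      (e.surjective.comp (QuotientGroup.mk'_surjective _))
  have hfrob : ∀ x : K, x ∉ GP → ∀ g : K, g ∈ GP → x * g * x⁻¹ * g⁻¹ ∈ NZ → g ∈ NZ := by
    intro x hx g hg hc
    rw [hNZ, Subgroup.mem_subgroupOf] at hc ⊢
    rw [hGP, Subgroup.mem_subgroupOf] at hx hg
    push_cast at hc
    exact frob_aux P H hcommZ hZ0card hcop hHP hfix x.2 hx hg hc
  -- the character of the centre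
  have hNZcard : Nat.card NZ = p := by
    rw [← hZ0card]
    exact Nat.card_congr (Subgroup.subgroupOfEquivOfLe (hZ0P.trans hPK)).toEquiv
  obtain ⟨lam, hlam⟩ := exists_nontrivial_hom hNZcard
  let _ : Fintype K := Fintype.ofFinite K
  let _ : Fintype GP := Fintype.ofFinite GP
  let _ : Fintype NZ := Fintype.ofFinite NZ
  let θ : IrrCharacter NZ := ⟨fun m => ((lam m : ℂˣ) : ℂ), isIrrCharacter_of_hom lam⟩
  have hinv : ∀ (x : K) (m : NZ), (θ : NZ → ℂ) ⟨x * m * x⁻¹, hNZn.conj_mem m m.2 x⟩ =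
      (θ : NZ → ℂ) m := by
    intro x m
    have hxm : (⟨x * m * x⁻¹, hNZn.conj_mem m m.2 x⟩ : NZ) = m := Subtype.ext (hconj x m m.2)
    rw [hxm]
  -- the extraspecial input
  set Z : Subgroup GP := NZ.subgroupOf GP with hZdef
  have hZc : Z ≤ Subgroup.center GP := by
    intro z hz
    rw [Subgroup.mem_center_iff]
    intro g
    apply Subtype.ext
    apply Subtype.ext
    push_cast
    have hz0 : ((z : K) : G) ∈ Z0 := Subgroup.mem_subgroupOf.mp (Subgroup.mem_subgroupOf.mp hz)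
    exact hKcent _ (g : K).2 _ hz0
  have hZp : Nat.card Z = p := by
    rw [← hNZcard]
    exact Nat.card_congr (Subgroup.subgroupOfEquivOfLe hNG).toEquiv
  have hQcard : Nat.card GP = p ^ (2 * n + 1) := by
    rw [← hn]
    exact Nat.card_congr (Subgroup.subgroupOfEquivOfLe hPK).toEquiv
  have hcomm : ∀ g : GP, g ∉ Z →
      ∃ y : GP, y⁻¹ * g * y * g⁻¹ ∈ Z ∧ y⁻¹ * g * y * g⁻¹ ≠ 1 := by
    intro g hg
    have hgP : ((g : K) : G) ∈ P := Subgroup.mem_subgroupOf.mp g.2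
    have hg0 : ((g : K) : G) ∉ Z0 := by
      intro h
      apply hg
      rw [hZdef, Subgroup.mem_subgroupOf, hNZ, Subgroup.mem_subgroupOf]
      exact h
    rw [mem_center_map_iff] at hg0
    push Not at hg0
    obtain ⟨y0, hy0P, hy0⟩ := hg0 hgP
    refine ⟨⟨⟨y0, hPK hy0P⟩, Subgroup.mem_subgroupOf.mpr hy0P⟩, ?_, ?_⟩
    · rw [hZdef, Subgroup.mem_subgroupOf, hNZ, Subgroup.mem_subgroupOf]
      push_cast
      have := hcommZ y0⁻¹ (P.inv_mem hy0P) _ hgP
      rwa [inv_inv] at this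
    · intro h
      apply hy0
      have h2 := congrArg (fun t : GP => ((t : K) : G)) h
      beta_reduce at h2
      push_cast at h2
      -- y0⁻¹ g y0 g⁻¹ = 1
      have h3 : y0⁻¹ * ((g : K) : G) * y0 = ((g : K) : G) := by
        rw [← mul_inv_eq_one]; exact h2
      calc y0 * ((g : K) : G) = y0 * (y0⁻¹ * ((g : K) : G) * y0) := by rw [h3]
        _ = ((g : K) : G) * y0 := by group
  let lam' : Z →* ℂˣ := lam.comp (Subgroup.subgroupOfEquivOfLe hNG).toMonoidHom
  have hlam' : ∃ z, lam' z ≠ 1 := by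
    obtain ⟨a, ha⟩ := hlam
    refine ⟨(Subgroup.subgroupOfEquivOfLe hNG).symm a, ?_⟩
    change lam ((Subgroup.subgroupOfEquivOfLe hNG) ((Subgroup.subgroupOfEquivOfLe hNG).symm a)) ≠ 1
    rw [MulEquiv.apply_symm_apply]
    exact ha
  obtain ⟨χ, hχ⟩ := es_ramified Z hZc hZp hcomm n hQcard lam' hlam'
  have hram : indFun (NZ.subgroupOf GP)
      (fun m : NZ.subgroupOf GP => (θ : NZ → ℂ) ⟨(m : GP), m.2⟩) =
      fun g => ((p ^ n : ℕ) : ℂ) * (χ : GP → ℂ) g := hχ
  have hmain := fully_ramified_index_dvd GP NZ hNG hGlt hcyc hfrob θ hinv χ (p ^ n) hram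
  rw [hidx] at hmain
  have hpn : 1 ≤ p ^ n := Nat.one_le_pow _ _ hp.out.pos
  rcases hmain with h | h
  · right
    apply Int.natCast_dvd_natCast.mp
    rw [Nat.cast_sub hpn]
    exact_mod_cast h
  · left
    apply Int.natCast_dvd_natCast.mp
    exact_mod_cast h

end Cfsg.Agent.Lib.Helper21.ES
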