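import Mathlib
import Cfsg.Agent.Lib.Helper21.EqOrdA

/-!
Groups in which subgroups of equal order are conjugate (helper21): the hypotheses and their
transfer to quotients and subgroups.
-/

set_option autoImplicit false
set_option linter.style.haveILetI false

namespace Cfsg.Agent.Lib.Helper21.EqOrd

open Pointwise
open Cfsg.Agent.Lib.Helper1

/-- every `p`-subgroup with `p ≠ r` is cyclic -/
def H1 (G : Type*) [Group G] (r : ℕ) : Prop :=
  ∀ p : ℕ, p.Prime → p ≠ r → ∀ P : Subgroup G, IsPGroup p P → IsCyclic P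

/-- `p`-subgroups of the same order are conjugate -/
def DP (G : Type*) [Group G] (p : ℕ) : Prop :=
  ∀ H K : Subgroup G, IsPGroup p H → IsPGroup p K → Nat.card H = Nat.card K →
    ∃ g : G, MulAut.conj g • H = K

/-- subgroups of the same order are conjugate -/
def CP (G : Type*) [Group G] : Prop :=
  ∀ H K : Subgroup G, Nat.card H = Nat.card K → ∃ g : G, MulAut.conj g • H = K

theorem dp_of_h1 {G : Type*} [Group G] [Finite G] {r p : ℕ} (h1 : H1 G r) (hp : p.Prime)
    (hpr : p ≠ r) : DP G p := by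
  intro H K hH hK hcard
  haveI : Fact p.Prime := ⟨hp⟩
  obtain ⟨P, hHP⟩ := hH.exists_le_sylow
  obtain ⟨Q, hKQ⟩ := hK.exists_le_sylow
  obtain ⟨g, hg⟩ := MulAction.exists_smul_eq G P Q
  refine ⟨g, ?_⟩
  have hQc : IsCyclic (Q : Subgroup G) := h1 p hp hpr Q Q.2
  have h2 : MulAut.conj g • H ≤ (Q : Subgroup G) := by
    rw [← hg, Sylow.coe_subgroup_smul]
    exact Subgroup.pointwise_smul_le_pointwise_smul_iff.mpr hHP
  exact eq_of_card_eq_of_le_isCyclic hQc h2 hKQ (by rw [card_conj_smul, hcard])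

theorem card_comap_of_surjective {G Q : Type*} [Group G] [Group Q] [Finite G] (f : G →* Q)
    (hf : Function.Surjective f) (P : Subgroup Q) :
    Nat.card (P.comap f) = Nat.card P * Nat.card f.ker := by
  haveI : Finite Q := Finite.of_surjective f hf
  have e1 : Nat.card (P.comap f) * P.index = Nat.card G := by
    rw [← Subgroup.index_comap_of_surjective P hf]
    exact Subgroup.card_mul_index _
  have e2 : Nat.card P * P.index = Nat.card Q := Subgroup.card_mul_index _
  have e3 : Nat.card G = Nat.card Q * Nat.card f.ker := by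
    rw [Subgroup.card_eq_card_quotient_mul_card_subgroup f.ker,
      Nat.card_congr (QuotientGroup.quotientKerEquivOfSurjective f hf).toEquiv]
  have hpos : 0 < P.index := Nat.pos_of_ne_zero Subgroup.index_ne_zero_of_finite
  have : Nat.card (P.comap f) * P.index = (Nat.card P * Nat.card f.ker) * P.index := by
    rw [e1, e3, ← e2]; ring
  exact Nat.eq_of_mul_eq_mul_right hpos this

theorem h1_of_surjective {G Q : Type*} [Group G] [Group Q] [Finite G] {r : ℕ} (f : G →* Q)
    (hf : Function.Surjective f) (h1 : H1 G r) : H1 Q r := by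
  intro p hp hpr P hP
  haveI : Fact p.Prime := ⟨hp⟩
  obtain ⟨R, hR, hmap, -⟩ := exists_pSubgroup_map_eq f hf P hP
  haveI := h1 p hp hpr R hR
  subst hmap
  exact isCyclic_of_surjective (f.subgroupMap R) (f.subgroupMap_surjective R)

theorem dp_of_surjective {G Q : Type*} [Group G] [Group Q] [Finite G] {r : ℕ} (hr : r.Prime)
    (f : G →* Q) (hf : Function.Surjective f) (h2 : DP G r) : DP Q r := by
  intro H K hH hK hcard
  haveI : Fact r.Prime := ⟨hr⟩
  obtain ⟨A, hA, hAmap, hAcard⟩ := exists_pSubgroup_map_eq f hf H hH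
  obtain ⟨B, hB, hBmap, hBcard⟩ := exists_pSubgroup_map_eq f hf K hK
  have hc : Nat.card (H.comap f) = Nat.card (K.comap f) := by
    rw [card_comap_of_surjective f hf, card_comap_of_surjective f hf, hcard]
  obtain ⟨g, hg⟩ := h2 A B hA hB (by rw [hAcard, hBcard, hc])
  refine ⟨f g, ?_⟩
  rw [← hAmap, ← hBmap, ← map_conj_smul, hg]

theorem h1_subtype {G : Type*} [Group G] {r : ℕ} (h1 : H1 G r) (Λ : Subgroup G) : H1 Λ r := by
  intro p hp hpr P hP
  haveI := h1 p hp hpr (P.map Λ.subtype) (hP.map Λ.subtype)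
  exact isCyclic_of_surjective
    (P.equivMapOfInjective Λ.subtype (Subgroup.subtype_injective Λ)).symm
    (P.equivMapOfInjective Λ.subtype (Subgroup.subtype_injective Λ)).symm.surjective

theorem dp_subtype_of_not_dvd {G : Type*} [Group G] [Finite G] {r : ℕ} (hr : r.Prime)
    (Λ : Subgroup G) (hΛ : ¬ r ∣ Nat.card Λ) : DP Λ r := by
  intro H K hH hK _
  haveI : Fact r.Prime := ⟨hr⟩
  have key : ∀ X : Subgroup Λ, IsPGroup r X → X = ⊥ := by
    intro X hX
    rcases hX.card_eq_or_dvd with h | h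
    · exact Subgroup.card_eq_one.mp h
    · exact absurd (h.trans (Subgroup.card_subgroup_dvd_card X)) hΛ
  refine ⟨1, ?_⟩
  rw [key H hH, key K hK, map_one, one_smul]

/-- conjugacy in a subgroup having `CP`, stated inside the big group -/
theorem CP.relative {G : Type*} [Group G] {Λ : Subgroup G} (h : CP Λ) {A B : Subgroup G}
    (hA : A ≤ Λ) (hB : B ≤ Λ) (hcard : Nat.card A = Nat.card B) :
    ∃ l ∈ Λ, MulAut.conj l • A = B := by
  obtain ⟨l, hl⟩ := h (A.subgroupOf Λ) (B.subgroupOf Λ)
    (by rw [card_subgroupOf_of_le hA, card_subgroupOf_of_le hB, hcard])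
  exact ⟨l, l.2, conj_eq_of_subgroupOf_conj_eq hA hB l hl⟩

end Cfsg.Agent.Lib.Helper21.EqOrd
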