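import Mathlib
import Cfsg.Agent.Lib.Helper21.EqOrdB

/-!
Groups in which subgroups of equal order are conjugate (helper21): the case of a minimal normal
subgroup of prime order.
-/

set_option autoImplicit false
set_option linter.style.haveILetI false

namespace Cfsg.Agent.Lib.Helper21.EqOrd

open Pointwise
open Cfsg.Agent.Lib.Helper1

/-- subgroups of equal order containing `N` are conjugate if `G ⧸ N` has `CP` -/
theorem conj_of_le {G : Type*} [Group G] [Finite G] (N : Subgroup G) [N.Normal]
    (hq : CP (G ⧸ N)) {H K : Subgroup G} (hH : N ≤ H) (hK : N ≤ K)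
    (hcard : Nat.card H = Nat.card K) : ∃ g : G, MulAut.conj g • H = K := by
  set f := QuotientGroup.mk' N with hfdef
  have hf : Function.Surjective f := QuotientGroup.mk'_surjective N
  have hker : f.ker = N := QuotientGroup.ker_mk' N
  have hH' : (H.map f).comap f = H := Subgroup.comap_map_eq_self (by rw [hker]; exact hH)
  have hK' : (K.map f).comap f = K := Subgroup.comap_map_eq_self (by rw [hker]; exact hK)
  have hc : Nat.card (H.map f) = Nat.card (K.map f) := by
    have e1 := card_comap_of_surjective f hf (H.map f)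
    have e2 := card_comap_of_surjective f hf (K.map f)
    rw [hH'] at e1
    rw [hK'] at e2
    have hpos : 0 < Nat.card f.ker := Nat.card_pos
    have : Nat.card (H.map f) * Nat.card f.ker = Nat.card (K.map f) * Nat.card f.ker := by
      rw [← e1, ← e2, hcard]
    exact Nat.eq_of_mul_eq_mul_right hpos this
  obtain ⟨q, hq'⟩ := hq _ _ hc
  obtain ⟨g, rfl⟩ := hf q
  refine ⟨g, ?_⟩
  have h3 : (MulAut.conj g • H).map f = K.map f := by rw [map_conj_smul, hq']
  have h4 : N ≤ MulAut.conj g • H := by
    have := (Subgroup.pointwise_smul_le_pointwise_smul_iff (a := MulAut.conj g)).mpr hH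
    rwa [Subgroup.Normal.conj_smul_eq_self] at this
  rw [← Subgroup.comap_map_eq_self (f := f) (H := MulAut.conj g • H) (by rw [hker]; exact h4),
    h3, hK']

theorem caseA {G : Type*} [Group G] [Finite G] [Group.IsSolvable G] (N : Subgroup G) [N.Normal]
    {s : ℕ} (hs : s.Prime) (hN : Nat.card N = s) (hds : DP G s) (hq : CP (G ⧸ N)) : CP G := by
  intro H K hcard
  haveI : Fact s.Prime := ⟨hs⟩
  have hNp : IsPGroup s N := IsPGroup.of_card (n := 1) (by rw [hN, pow_one])
  have huniq : ∀ X : Subgroup G, Nat.card X = s → X = N := by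
    intro X hX
    obtain ⟨g, hg⟩ := hds N X hNp (IsPGroup.of_card (n := 1) (by rw [hX, pow_one]))
      (by rw [hN, hX])
    rw [← hg, Subgroup.Normal.conj_smul_eq_self]
  have hle : ∀ X : Subgroup G, s ∣ Nat.card X → N ≤ X := by
    intro X hX
    obtain ⟨x, hx⟩ := exists_prime_orderOf_dvd_card' (G := X) s hX
    have h1 : Nat.card (Subgroup.zpowers (x : G)) = s := by
      rw [Nat.card_zpowers, Subgroup.orderOf_coe, hx]
    rw [← huniq _ h1, Subgroup.zpowers_le]
    exact x.2
  by_cases hsd : s ∣ Nat.card H
  · exact conj_of_le N hq (hle H hsd) (hle K (hcard ▸ hsd)) hcard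
  · have hcopH : Nat.Coprime (Nat.card N) (Nat.card H) := by
      rw [hN]; exact (Nat.Prime.coprime_iff_not_dvd hs).mpr hsd
    have hcopK : Nat.Coprime (Nat.card N) (Nat.card K) := by rw [← hcard]; exact hcopH
    have hdH : Disjoint N H := Subgroup.disjoint_of_coprime_natCard hcopH
    have hdK : Disjoint N K := Subgroup.disjoint_of_coprime_natCard hcopK
    have hnormal : ∀ X : Subgroup G, X ≤ Subgroup.normalizer (N : Set G) := fun X => by
      rw [Subgroup.normalizer_eq_top]; exact le_top
    have cH := isComplIn_sup (hnormal H) hdH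
    have cK := isComplIn_sup (hnormal K) hdK
    have hc2 : Nat.card (N ⊔ H : Subgroup G) = Nat.card (N ⊔ K : Subgroup G) := by
      rw [← cH.card_mul_card, ← cK.card_mul_card, hcard]
    obtain ⟨g, hg⟩ := conj_of_le N hq le_sup_left le_sup_left hc2
    rw [Subgroup.smul_sup, Subgroup.Normal.conj_smul_eq_self] at hg
    have hdH' : Disjoint N (MulAut.conj g • H) :=
      Subgroup.disjoint_of_coprime_natCard (by rw [card_conj_smul]; exact hcopH)
    have cH' := isComplIn_sup (hnormal (MulAut.conj g • H)) hdH'
    rw [hg] at cH'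
    obtain ⟨k, -, hk⟩ := internal_sz_conj (hnormal _) cK cH' hcopK (Or.inl inferInstance)
    exact ⟨k * g, by rw [map_mul, mul_smul, hk]⟩

end Cfsg.Agent.Lib.Helper21.EqOrd
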