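import Mathlib
import Cfsg.Agent.Lib.Helper21.EqOrdC

/-!
Groups in which subgroups of equal order are conjugate (helper21): the case of a normal abelian
Sylow subgroup.
-/

set_option autoImplicit false
set_option linter.style.haveILetI false

namespace Cfsg.Agent.Lib.Helper21.EqOrd

open Pointwise
open Cfsg.Agent.Lib.Helper1

theorem conj_smul_eq_of_mem_normalizer {G : Type*} [Group G] {D : Subgroup G} {g : G}
    (hg : g ∈ Subgroup.normalizer (D : Set G)) : MulAut.conj g • D = D := by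
  ext x
  rw [mem_conj_smul_iff]
  have h1 := Subgroup.mem_normalizer_iff.mp hg (g⁻¹ * x * g)
  have e : g * (g⁻¹ * x * g) * g⁻¹ = x := by group
  rw [h1, e]

/-- card of intersections with a normal Hall subgroup -/
theorem card_inf_eq_of_card_eq {G : Type*} [Group G] [Finite G] (N : Subgroup G) [N.Normal]
    (hcop : Nat.Coprime (Nat.card N) N.index) {H K : Subgroup G}
    (hcard : Nat.card H = Nat.card K) :
    Nat.card (N ⊓ H : Subgroup G) = Nat.card (N ⊓ K : Subgroup G) := by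
  have key : ∀ X : Subgroup G, Nat.card (N ⊓ X : Subgroup G) * N.relIndex X = Nat.card X := by
    intro X
    have := Subgroup.relIndex_mul_relIndex (H := ⊥) (K := N ⊓ X) (L := X) bot_le inf_le_right
    rwa [Subgroup.relIndex_bot_left, Subgroup.relIndex_bot_left,
      Subgroup.inf_relIndex_right] at this
  have hd : ∀ X Y : Subgroup G, Nat.card X = Nat.card Y →
      Nat.card (N ⊓ X : Subgroup G) ∣ Nat.card (N ⊓ Y : Subgroup G) := by
    intro X Y h
    have h1 : Nat.card (N ⊓ X : Subgroup G) ∣ Nat.card (N ⊓ Y : Subgroup G) * N.relIndex Y := by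
      rw [key Y, ← h, ← key X]; exact dvd_mul_right _ _
    have h2 : Nat.Coprime (Nat.card (N ⊓ X : Subgroup G)) (N.relIndex Y) :=
      Nat.Coprime.of_dvd (Subgroup.card_dvd_of_le inf_le_left)
        (Subgroup.relIndex_dvd_index_of_normal N Y) hcop
    exact h2.dvd_of_dvd_mul_right h1
  exact Nat.dvd_antisymm (hd H K hcard) (hd K H hcard.symm)

theorem exists_conj_eq_sup {G : Type*} [Group G] [Finite G] [Group.IsSolvable G]
    (N L : Subgroup G) [N.Normal] (hNab : ∀ x ∈ N, ∀ y ∈ N, x * y = y * x)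
    (hL : IsComplIn N L ⊤) (hcop : Nat.Coprime (Nat.card N) N.index) (X D : Subgroup G)
    (hD : N ⊓ X = D) :
    ∃ g : G, ∃ X' : Subgroup G, X' ≤ L ⊓ Subgroup.normalizer (D : Set G) ∧
      MulAut.conj g • X = D ⊔ X' ∧ Nat.card D * Nat.card X' = Nat.card X := by
  subst hD
  set D := N ⊓ X with hDdef
  have hDX : D ≤ X := inf_le_right
  have hDN : D ≤ N := inf_le_left
  have hXn : X ≤ Subgroup.normalizer (D : Set G) :=
    (le_inf (by rw [Subgroup.normalizer_eq_top]; exact le_top) Subgroup.le_normalizer).trans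
      Subgroup.inf_normalizer_le_normalizer_inf
  have hNn : N ≤ Subgroup.normalizer (D : Set G) := by
    intro n hn
    rw [Subgroup.mem_normalizer_iff]
    intro d
    constructor
    · intro hd
      have : n * d * n⁻¹ = d := by rw [hNab n hn d (hDN hd)]; group
      rw [this]; exact hd
    · intro hd
      have hdN : n * d * n⁻¹ ∈ N := hDN hd
      have hd' : d ∈ N := by
        have := N.mul_mem (N.mul_mem (N.inv_mem hn) hdN) hn
        simpa [mul_assoc] using this
      have : n * d * n⁻¹ = d := by rw [hNab n hn d hd']; group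
      rwa [this] at hd
  have hrel : D.relIndex X ∣ N.index := by
    rw [hDdef, Subgroup.inf_relIndex_right]; exact Subgroup.relIndex_dvd_index_of_normal N X
  have hcopD : Nat.Coprime (Nat.card D) (D.relIndex X) :=
    Nat.Coprime.of_dvd (Subgroup.card_dvd_of_le hDN) hrel hcop
  obtain ⟨X₁, hX₁⟩ := internal_sz_exists hDX hXn hcopD
  have hcX₁ : Nat.card X₁ = D.relIndex X := by
    have e1 := hX₁.card_mul_card
    have e2 : Nat.card D * D.relIndex X = Nat.card X := by
      have := Subgroup.relIndex_mul_relIndex (H := ⊥) (K := D) (L := X) bot_le hDX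
      rwa [Subgroup.relIndex_bot_left, Subgroup.relIndex_bot_left] at this
    have hpos : 0 < Nat.card D := Nat.card_pos
    exact Nat.eq_of_mul_eq_mul_left hpos (e1.trans e2.symm)
  have hcopX₁ : Nat.Coprime (Nat.card X₁) (Nat.card N) := by
    rw [hcX₁]; exact (Nat.Coprime.of_dvd (dvd_refl _) hrel hcop).symm
  have hX₁N : X₁ ≤ Subgroup.normalizer (N : Set G) := by
    rw [Subgroup.normalizer_eq_top]; exact le_top
  have hKU : ∀ γ ∈ N ⊔ X₁, ∃ k ∈ N, ∃ u ∈ (N ⊔ X₁) ⊓ L, γ = k * u := by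
    intro γ hγ
    obtain ⟨k, hk, l, hl, hkl⟩ := hL.2.2.2 γ (Subgroup.mem_top γ)
    refine ⟨k, hk, l, ⟨?_, hl⟩, hkl.symm⟩
    have : l = k⁻¹ * γ := by rw [← hkl]; group
    rw [this]
    exact Subgroup.mul_mem _ (Subgroup.inv_mem _ (Subgroup.mem_sup_left hk)) hγ
  obtain ⟨n, hn, hle⟩ := exists_le_conj_smul_of_coprime (A := X₁) (K := N)
    (U := (N ⊔ X₁) ⊓ L) hX₁N hcopX₁ (Or.inl inferInstance) inf_le_left hKU
  have e : ∀ y : G, n⁻¹ * (n * y * n⁻¹) * n = y := fun y => by group
  refine ⟨n⁻¹, MulAut.conj n⁻¹ • X₁, ?_, ?_, ?_⟩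
  · intro y hy
    rw [mem_conj_smul_iff, inv_inv] at hy
    have h1 := hle hy
    rw [mem_conj_smul_iff, e] at h1
    refine ⟨h1.2, ?_⟩
    have h2 : n * y * n⁻¹ ∈ Subgroup.normalizer (D : Set G) := hXn (hX₁.2.1 hy)
    have h3 := Subgroup.mul_mem _ (Subgroup.mul_mem _ (Subgroup.inv_mem _ (hNn hn)) h2) (hNn hn)
    rwa [e] at h3
  · have hXeq : X = D ⊔ X₁ := by
      apply le_antisymm
      · intro x hx
        obtain ⟨d, hd, a, ha, rfl⟩ := hX₁.2.2.2 x hx
        exact Subgroup.mul_mem _ (Subgroup.mem_sup_left hd) (Subgroup.mem_sup_right ha)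
      · exact sup_le hX₁.1 hX₁.2.1
    conv_lhs => rw [hXeq]
    rw [Subgroup.smul_sup, conj_smul_eq_of_mem_normalizer (hNn (N.inv_mem hn))]
  · rw [card_conj_smul]; exact hX₁.card_mul_card

theorem caseB {G : Type*} [Group G] [Finite G] [Group.IsSolvable G] (N : Subgroup G) [N.Normal]
    {r : ℕ} (hNp : IsPGroup r N) (hNab : ∀ x ∈ N, ∀ y ∈ N, x * y = y * x)
    (hcop : Nat.Coprime (Nat.card N) N.index) (hdr : DP G r)
    (hsub : ∀ Λ : Subgroup G, Nat.Coprime (Nat.card N) (Nat.card Λ) → CP Λ) : CP G := by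
  intro H K hcard
  have htop : (⊤ : Subgroup G) ≤ Subgroup.normalizer (N : Set G) := by
    rw [Subgroup.normalizer_eq_top]
  obtain ⟨L, hL⟩ := internal_sz_exists (le_top : N ≤ ⊤) htop
    (by rw [Subgroup.relIndex_top_right]; exact hcop)
  have hcL : Nat.card L = N.index := by
    have e1 := hL.card_mul_card
    rw [Subgroup.card_top, ← Subgroup.card_mul_index N] at e1
    exact Nat.eq_of_mul_eq_mul_left Nat.card_pos e1
  have hc := card_inf_eq_of_card_eq N hcop hcard
  obtain ⟨g, hg⟩ := hdr (N ⊓ H) (N ⊓ K) (hNp.to_le inf_le_left) (hNp.to_le inf_le_left) hc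
  have hD2 : N ⊓ (MulAut.conj g • H) = N ⊓ K := by
    rw [← hg, Subgroup.smul_inf, Subgroup.Normal.conj_smul_eq_self g N]
  obtain ⟨g₁, H', hH'le, hH'eq, hH'card⟩ :=
    exists_conj_eq_sup N L hNab hL hcop (MulAut.conj g • H) (N ⊓ K) hD2
  obtain ⟨g₂, K', hK'le, hK'eq, hK'card⟩ := exists_conj_eq_sup N L hNab hL hcop K (N ⊓ K) rfl
  have hc' : Nat.card H' = Nat.card K' := by
    have : Nat.card (N ⊓ K : Subgroup G) * Nat.card H' =
        Nat.card (N ⊓ K : Subgroup G) * Nat.card K' := by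
      rw [hH'card, hK'card, card_conj_smul, hcard]
    exact Nat.eq_of_mul_eq_mul_left Nat.card_pos this
  have hΛ : Nat.Coprime (Nat.card N)
      (Nat.card (L ⊓ Subgroup.normalizer ((N ⊓ K : Subgroup G) : Set G) : Subgroup G)) := by
    refine Nat.Coprime.of_dvd (dvd_refl _) ?_ hcop
    rw [← hcL]; exact Subgroup.card_dvd_of_le inf_le_left
  obtain ⟨l, hl, hlH⟩ := (hsub _ hΛ).relative hH'le hK'le hc'
  refine ⟨g₂⁻¹ * l * g₁ * g, ?_⟩
  rw [map_mul, map_mul, map_mul, mul_smul, mul_smul, mul_smul, hH'eq, Subgroup.smul_sup,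
    conj_smul_eq_of_mem_normalizer hl.2, hlH, ← hK'eq, ← mul_smul, ← map_mul, inv_mul_cancel,
    map_one, one_smul]

end Cfsg.Agent.Lib.Helper21.EqOrd
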