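import Mathlib
import Cfsg.Agent.Lib.Helper21.EqOrdD

/-!
Groups in which subgroups of equal order are conjugate (helper21): main induction.
-/

set_option autoImplicit false
set_option linter.style.haveILetI false

namespace Cfsg.Agent.Lib.Helper21.EqOrd

open Pointwise
open Cfsg.Agent.Lib.Helper1

universe u

/-- a normal subgroup of exponent `r` and order `r ^ b`, `b ≥ 2`, in a group whose `r`-subgroups
of equal order are conjugate, is a Sylow subgroup -/
theorem coprime_of_exp {G : Type*} [Group G] [Finite G] (N : Subgroup G) [N.Normal] {r : ℕ}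
    (hr : r.Prime) (hexp : ∀ x ∈ N, x ^ r = 1) {b : ℕ} (hb2 : 2 ≤ b) (hNb : Nat.card N = r ^ b)
    (hdr : DP G r) : Nat.Coprime (Nat.card N) N.index := by
  haveI : Fact r.Prime := ⟨hr⟩
  have hNp : IsPGroup r N := IsPGroup.of_card hNb
  have huniq : ∀ X : Subgroup G, Nat.card X = r ^ b → X = N := by
    intro X hX
    obtain ⟨g, hg⟩ := hdr N X hNp (IsPGroup.of_card hX) (by rw [hNb, hX])
    rw [← hg, Subgroup.Normal.conj_smul_eq_self]
  have hdvd : r ^ b ∣ Nat.card G := hNb ▸ Subgroup.card_subgroup_dvd_card N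
  have key : ∀ (x : G) (c : ℕ), orderOf x = r ^ c → c ≤ b → x ∈ N := by
    intro x c hc hcb
    have h1 : Nat.card (Subgroup.zpowers x) = r ^ c := by rw [Nat.card_zpowers, hc]
    obtain ⟨K', hK', hle⟩ := Sylow.exists_subgroup_card_pow_prime_le r hdvd _ h1 hcb
    rw [← huniq K' hK']
    exact hle (Subgroup.mem_zpowers x)
  have key2 : ∀ (x : G) (c : ℕ), orderOf x = r ^ c → x ∈ N := by
    intro x c hc
    set c' := min c b with hc'
    have hc'c : c' ≤ c := min_le_left _ _
    have hc'b : c' ≤ b := min_le_right _ _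
    have hy : orderOf (x ^ (r ^ (c - c'))) = r ^ c' := by
      rw [orderOf_pow_of_dvd (pow_ne_zero _ hr.ne_zero) (by rw [hc]; exact pow_dvd_pow r (Nat.sub_le _ _)),
        hc, Nat.pow_div (Nat.sub_le _ _) hr.pos]
      congr 1
      omega
    have hyN := key _ c' hy hc'b
    have h2 : r ^ c' ∣ r ^ 1 := by
      rw [← hy, pow_one]
      exact orderOf_dvd_of_pow_eq_one (hexp _ hyN)
    have h3 : c' ≤ 1 := (Nat.pow_dvd_pow_iff_le_right hr.one_lt).mp h2
    have h4 : c ≤ b := by omega
    exact key x c hc h4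
  obtain ⟨P⟩ := (inferInstance : Nonempty (Sylow r G))
  have hPN : (P : Subgroup G) ≤ N := by
    intro x hx
    obtain ⟨k, hk⟩ := P.2 ⟨x, hx⟩
    have hk' : x ^ r ^ k = 1 := by
      have := congrArg Subtype.val hk
      simpa using this
    obtain ⟨c, hc⟩ := (exists_orderOf_eq_prime_pow_iff (p := r)).mpr ⟨k, hk'⟩
    exact key2 x c hc
  have hNP : N = (P : Subgroup G) := P.is_maximal' hNp hPN
  rw [hNP]
  exact P.card_coprime_index

theorem main : ∀ (n : ℕ) (G : Type u) [Group G] [Finite G] [Group.IsSolvable G],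
    Nat.card G = n → ∀ r : ℕ, r.Prime → H1 G r → DP G r → CP G := by
  intro n
  induction n using Nat.strong_induction_on with
  | _ n ih =>
  intro G _ _ _ hn r hr h1 h2
  rcases subsingleton_or_nontrivial G with hss | hnt
  · intro H K _
    exact ⟨1, Subsingleton.elim _ _⟩
  obtain ⟨N, hN⟩ := exists_isMinNormal (G := G)
  haveI : N.Normal := hN.1
  obtain ⟨s, hs, hexp⟩ := hN.exists_prime_pow_eq_one
  haveI : Fact s.Prime := ⟨hs⟩
  have hNp : IsPGroup s N := by
    intro x
    refine ⟨1, ?_⟩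
    rw [pow_one]
    exact Subtype.ext (by simpa using hexp x x.2)
  obtain ⟨b, hb⟩ := IsPGroup.iff_card.mp hNp
  have hdp : ∀ p : ℕ, p.Prime → DP G p := by
    intro p hp
    by_cases h : p = r
    · rw [h]; exact h2
    · exact dp_of_h1 h1 hp h
  have hq : CP (G ⧸ N) :=
    ih (Nat.card (G ⧸ N)) (hn ▸ card_quotient_lt_of_ne_bot hN.2.1) (G ⧸ N) rfl r hr
      (h1_of_surjective (QuotientGroup.mk' N) (QuotientGroup.mk'_surjective N) h1)
      (dp_of_surjective hr (QuotientGroup.mk' N) (QuotientGroup.mk'_surjective N) h2)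
  by_cases hb1 : b = 1
  · exact caseA N hs (by rw [hb, hb1, pow_one]) (hdp s hs) hq
  · have hb0 : b ≠ 0 := by
      rintro rfl
      rw [pow_zero] at hb
      exact hN.2.1 (Subgroup.card_eq_one.mp hb)
    have hb2 : 2 ≤ b := by omega
    have hsr : s = r := by
      by_contra hsr
      haveI := h1 s hs hsr N hNp
      obtain ⟨g, hg⟩ := IsCyclic.exists_generator (α := N)
      have h5 : orderOf g = Nat.card N := orderOf_eq_card_of_forall_mem_zpowers hg
      have h3 : g ^ s = 1 := Subtype.ext (by simpa using hexp g g.2)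
      have h4 := orderOf_dvd_of_pow_eq_one h3
      rw [h5, hb] at h4
      have h6 : s ^ b ∣ s ^ 1 := by rwa [pow_one]
      have := (Nat.pow_dvd_pow_iff_le_right hs.one_lt).mp h6
      omega
    subst hsr
    have hcop := coprime_of_exp N hs hexp hb2 hb h2
    have hcomm : IsMulCommutative N := hN.isMulCommutative
    have hNab : ∀ x ∈ N, ∀ y ∈ N, x * y = y * x := by
      intro x hx y hy
      have := mul_comm' (⟨x, hx⟩ : N) ⟨y, hy⟩
      exact congrArg Subtype.val this
    refine caseB N hNp hNab hcop h2 ?_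
    intro Λ hΛ
    have hsN : s ∣ Nat.card N := by
      rw [hb]; exact dvd_pow_self s hb0
    have hsΛ : ¬ s ∣ Nat.card Λ := by
      intro h
      have := Nat.dvd_gcd hsN h
      rw [hΛ] at this
      exact hs.one_lt.ne' (Nat.dvd_one.mp this)
    have hΛtop : Λ ≠ ⊤ := by
      rintro rfl
      apply hsΛ
      rw [Subgroup.card_top]
      exact hsN.trans (Subgroup.card_subgroup_dvd_card N)
    exact ih (Nat.card Λ) (hn ▸ card_lt_of_ne_top hΛtop) Λ rfl s hs (h1_subtype h1 Λ)
      (dp_subtype_of_not_dvd hs Λ hsΛ)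

end Cfsg.Agent.Lib.Helper21.EqOrd
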