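import Cfsg.Agent.Lib.Helper28.Fi24He

set_option autoImplicit false
set_option maxRecDepth 100000

/-!
# A subgroup of type He of Fi₂₄′

Seven involutions of the presented Fi₂₄ (each a product of two or four commuting transpositions, a transposition being
written as a conjugate of the generator `l`) satisfy the relators of the presented Held group; the words were found by a
search in the permutation representation on 306936 points and are checked here on the eleven base points.
-/

namespace Cfsg.Agent.Lib.Helper21.Fi24HeData
open Cfsg.Agent.Lib.Helper28.TC2Upper Cfsg.Agent.Lib.Helper28.TC2Lower Cfsg.Agent.Lib.Helper28.TC2Glue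
open Cfsg.Agent.Lib.Helper28.TCFi24Table Cfsg.Agent.Lib.Helper28.TCFi24Link Cfsg.Agent.Lib.Helper28.TCFi24FinalChk
open Cfsg.Agent.Lib.Helper28.Fi24Transp Cfsg.Agent.Lib.Helper28.Fi24Words

/-- the image of the generator `a` of He -/
def wA : List (Cfsg.Spor.Fi24.Gen × Bool) := [(.h, true), (.i, true), (.b, true), (.c, true), (.d, true), (.e, true), (.a, true), (.b, true), (.c, true), (.d, true), (.h, true), (.f, true), (.g, true), (.e, true), (.f, true), (.c, true), (.d, true), (.e, true), (.b, true), (.c, true), (.d, true), (.h, true), (.i, true), (.f, true), (.e, true), (.b, true), (.c, true), (.d, true), (.h, true), (.j, true), (.g, true), (.f, true), (.e, true), (.d, true), (.c, true), (.b, true), (.a, true), (.k, true), (.l, true), (.k, true), (.a, true), (.b, true), (.c, true), (.d, true), (.e, true), (.f, true), (.g, true), (.j, true), (.h, true), (.d, true), (.c, true), (.b, true), (.e, true), (.f, true), (.i, true), (.h, true), (.d, true), (.c, true), (.b, true), (.e, true), (.d, true), (.c, true), (.f, true), (.e, true), (.g, true), (.f, true), (.h, true), (.d, true), (.c, true), (.b, true), (.a, true), (.e, true), (.d, true), (.c, true), (.b, true), (.i,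 true), (.h, true), (.d, true), (.h, true), (.i, true), (.b, true), (.c, true), (.d, true), (.e, true), (.a, true), (.b, true), (.c, true), (.d, true), (.h, true), (.f, true), (.g, true), (.e, true), (.f, true), (.d, true), (.e, true), (.a, true), (.b, true), (.c, true), (.d, true), (.h, true), (.i, true), (.g, true), (.f, true), (.e, true), (.b, true), (.c, true), (.d, true), (.h, true), (.j, true), (.g, true), (.f, true), (.e, true), (.d, true), (.c, true), (.b, true), (.a, true), (.k, true), (.l, true), (.k, true), (.a, true), (.b, true), (.c, true), (.d, true), (.e, true), (.f, true), (.g, true), (.j, true), (.h, true), (.d, true), (.c, true), (.b, true), (.e, true), (.f, true), (.g, true), (.i, true), (.h, true), (.d, true), (.c, true), (.b, true), (.a, true), (.e, true), (.d, true), (.f, true), (.e, true), (.g, true), (.f, true), (.h, true), (.d, true), (.c, true), (.b, true), (.a, true), (.e, true), (.d, true), (.c, true), (.b, true), (.i, true), (.h, true), (.d, true)]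

/-- the image of the generator `b` of He -/
def wB : List (Cfsg.Spor.Fi24.Gen × Bool) := [(.d, true), (.e, true), (.b, true), (.c, true), (.d, true), (.h, true), (.i, true), (.e, true), (.a, true), (.b, true), (.c, true), (.d, true), (.h, true), (.f, true), (.g, true), (.e, true), (.f, true), (.d, true), (.e, true), (.k, true), (.a, true), (.b, true), (.c, true), (.d, true), (.h, true), (.i, true), (.g, true), (.f, true), (.d, true), (.e, true), (.b, true), (.c, true), (.d, true), (.h, true), (.j, true), (.g, true), (.f, true), (.e, true), (.d, true), (.c, true), (.b, true), (.a, true), (.k, true), (.l, true), (.k, true), (.a, true), (.b, true), (.c, true), (.d, true), (.e, true), (.f, true), (.g, true), (.j, true), (.h, true), (.d, true), (.c, true), (.b, true), (.e, true), (.d, true), (.f, true), (.g, true), (.i, true), (.h, true), (.d, true), (.c, true), (.b, true), (.a, true), (.k, true), (.e, true), (.d, true), (.f, true), (.e, true), (.g, true), (.f, true), (.h, true), (.d, true), (.c, true), (.b, true), (.a, true), (.e, true), (.i, true), (.h, true), (.d, true), (.c, true), (.b, true), (.e, true), (.d, true), (.f, true), (.g, true), (.e, true), (.f, true), (.d,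 true), (.e, true), (.c, true), (.d, true), (.h, true), (.i, true), (.b, true), (.c, true), (.d, true), (.h, true), (.e, true), (.f, true), (.g, true), (.d, true), (.e, true), (.f, true), (.c, true), (.d, true), (.e, true), (.k, true), (.a, true), (.b, true), (.c, true), (.d, true), (.h, true), (.i, true), (.d, true), (.e, true), (.b, true), (.c, true), (.d, true), (.h, true), (.j, true), (.g, true), (.f, true), (.e, true), (.d, true), (.c, true), (.b, true), (.a, true), (.k, true), (.l, true), (.k, true), (.a, true), (.b, true), (.c, true), (.d, true), (.e, true), (.f, true), (.g, true), (.j, true), (.h, true), (.d, true), (.c, true), (.b, true), (.e, true), (.d, true), (.i, true), (.h, true), (.d, true), (.c, true), (.b, true), (.a, true), (.k, true), (.e, true), (.d, true), (.c, true), (.f, true), (.e, true), (.d, true), (.g, true), (.f, true), (.e, true), (.h, true), (.d, true), (.c, true), (.b, true), (.i, true), (.h, true), (.d, true), (.c, true), (.e, true), (.d, true), (.f, true), (.e, true), (.g, true), (.f, true)]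

/-- the image of the generator `c` of He -/
def wC : List (Cfsg.Spor.Fi24.Gen × Bool) := [(.d, true), (.h, true), (.i, true), (.f, true), (.d, true), (.e, true), (.b, true), (.c, true), (.d, true), (.h, true), (.f, true), (.g, true), (.e, true), (.f, true), (.c, true), (.d, true), (.e, true), (.b, true), (.c, true), (.d, true), (.h, true), (.i, true), (.h, true), (.g, true), (.f, true), (.d, true), (.e, true), (.b, true), (.c, true), (.d, true), (.h, true), (.j, true), (.g, true), (.f, true), (.e, true), (.d, true), (.c, true), (.b, true), (.k, true), (.a, true), (.l, true), (.k, true), (.l, true), (.k, true), (.l, true), (.a, true), (.k, true), (.b, true), (.c, true), (.d, true), (.e, true), (.f, true), (.g, true), (.j, true), (.h, true), (.d, true), (.c, true), (.b, true), (.e, true), (.d, true), (.f, true), (.g, true), (.h, true), (.i, true), (.h, true), (.d, true), (.c, true), (.b, true), (.e, true), (.d, true), (.c, true), (.f, true), (.e, true), (.g, true), (.f, true), (.h, true), (.d, true), (.c, true), (.b, true), (.e, true), (.d, true), (.f, true), (.i, true), (.h, true), (.d, true), (.j, true), (.g, true), (.f, true), (.e, true), (.d, true), (.h, true), (.i,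 true), (.e, true), (.c, true), (.d, true), (.h, true), (.e, true), (.f, true), (.g, true), (.d, true), (.e, true), (.f, true), (.c, true), (.d, true), (.e, true), (.a, true), (.b, true), (.c, true), (.d, true), (.h, true), (.i, true), (.f, true), (.c, true), (.d, true), (.e, true), (.b, true), (.c, true), (.d, true), (.h, true), (.j, true), (.g, true), (.f, true), (.e, true), (.d, true), (.c, true), (.b, true), (.a, true), (.l, true), (.k, true), (.l, true), (.k, true), (.l, true), (.a, true), (.b, true), (.c, true), (.d, true), (.e, true), (.f, true), (.g, true), (.j, true), (.h, true), (.d, true), (.c, true), (.b, true), (.e, true), (.d, true), (.c, true), (.f, true), (.i, true), (.h, true), (.d, true), (.c, true), (.b, true), (.a, true), (.e, true), (.d, true), (.c, true), (.f, true), (.e, true), (.d, true), (.g, true), (.f, true), (.e, true), (.h, true), (.d, true), (.c, true), (.e, true), (.i, true), (.h, true), (.d, true), (.e, true), (.f, true), (.g, true), (.j, true)]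

/-- the image of the generator `d` of He -/
def wD : List (Cfsg.Spor.Fi24.Gen × Bool) := [(.h, true), (.i, true), (.f, true), (.e, true), (.c, true), (.d, true), (.h, true), (.g, true), (.f, true), (.e, true), (.d, true), (.c, true), (.b, true), (.a, true), (.k, true), (.l, true), (.k, true), (.a, true), (.b, true), (.c, true), (.d, true), (.e, true), (.f, true), (.g, true), (.h, true), (.d, true), (.c, true), (.e, true), (.f, true), (.i, true), (.h, true), (.d, true), (.h, true), (.e, true), (.f, true), (.b, true), (.c, true), (.d, true), (.e, true), (.a, true), (.b, true), (.c, true), (.d, true), (.h, true), (.i, true), (.g, true), (.f, true), (.d, true), (.e, true), (.c, true), (.d, true), (.h, true), (.j, true), (.g, true), (.f, true), (.e, true), (.d, true), (.c, true), (.b, true), (.a, true), (.k, true), (.l, true), (.k, true), (.a, true), (.b, true), (.c, true), (.d, true), (.e, true), (.f, true), (.g, true), (.j, true), (.h, true), (.d, true), (.c, true), (.e, true), (.d, true), (.f, true), (.g, true), (.i, true), (.h, true), (.d, true), (.c, true), (.b, true), (.a, true), (.e, true), (.d, true), (.c, true), (.b, true), (.f, true), (.e, true), (.h, true), (.d,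 true), (.h, true), (.i, true), (.e, true), (.d, true), (.h, true), (.j, true), (.g, true), (.f, true), (.c, true), (.d, true), (.e, true), (.b, true), (.c, true), (.d, true), (.h, true), (.i, true), (.g, true), (.e, true), (.f, true), (.c, true), (.d, true), (.e, true), (.b, true), (.c, true), (.d, true), (.h, true), (.j, true), (.g, true), (.f, true), (.e, true), (.d, true), (.c, true), (.b, true), (.a, true), (.l, true), (.k, true), (.l, true), (.k, true), (.l, true), (.a, true), (.b, true), (.c, true), (.d, true), (.e, true), (.f, true), (.g, true), (.j, true), (.h, true), (.d, true), (.c, true), (.b, true), (.e, true), (.d, true), (.c, true), (.f, true), (.e, true), (.g, true), (.i, true), (.h, true), (.d, true), (.c, true), (.b, true), (.e, true), (.d, true), (.c, true), (.f, true), (.g, true), (.j, true), (.h, true), (.d, true), (.e, true), (.i, true), (.h, true), (.d, true), (.e, true), (.b, true), (.c, true), (.d, true), (.h, true), (.j, true), (.f, true), (.g, true), (.c, true), (.d, true), (.e, true), (.f, true), (.b, true), (.c, true), (.d, true), (.e, true), (.a, true), (.b, true), (.c, true), (.d, true), (.h, true), (.i, true), (.h, true), (.g, true), (.f,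 true), (.d, true), (.e, true), (.b, true), (.c, true), (.d, true), (.h, true), (.j, true), (.g, true), (.f, true), (.e, true), (.d, true), (.c, true), (.b, true), (.a, true), (.k, true), (.l, true), (.k, true), (.a, true), (.b, true), (.c, true), (.d, true), (.e, true), (.f, true), (.g, true), (.j, true), (.h, true), (.d, true), (.c, true), (.b, true), (.e, true), (.d, true), (.f, true), (.g, true), (.h, true), (.i, true), (.h, true), (.d, true), (.c, true), (.b, true), (.a, true), (.e, true), (.d, true), (.c, true), (.b, true), (.f, true), (.e, true), (.d, true), (.c, true), (.g, true), (.f, true), (.j, true), (.h, true), (.d, true), (.c, true), (.b, true), (.e, true), (.d, true)]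

/-- the image of the generator `e` of He -/
def wE : List (Cfsg.Spor.Fi24.Gen × Bool) := [(.d, true), (.b, true), (.c, true), (.a, true), (.b, true), (.k, true), (.a, true), (.l, true), (.k, true), (.l, true), (.k, true), (.l, true), (.a, true), (.k, true), (.b, true), (.a, true), (.c, true), (.b, true), (.d, true), (.j, true), (.g, true), (.f, true), (.e, true), (.d, true), (.c, true), (.a, true), (.b, true), (.k, true), (.a, true), (.l, true), (.k, true), (.l, true), (.k, true), (.l, true), (.a, true), (.k, true), (.b, true), (.a, true), (.c, true), (.d, true), (.e, true), (.f, true), (.g, true), (.j, true), (.e, true), (.d, true), (.h, true), (.i, true), (.f, true), (.e, true), (.d, true), (.h, true), (.g, true), (.c, true), (.d, true), (.e, true), (.f, true), (.b, true), (.c, true), (.d, true), (.e, true), (.a, true), (.b, true), (.c, true), (.d, true), (.h, true), (.i, true), (.g, true), (.f, true), (.d, true), (.e, true), (.a, true), (.b, true), (.c, true), (.d, true), (.h, true), (.j, true), (.g, true), (.f, true), (.e, true), (.d, true), (.c, true), (.b, true), (.a, true), (.l, true), (.k, true), (.l, true), (.k, true), (.l, true), (.a, true), (.b, true), (.c,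 true), (.d, true), (.e, true), (.f, true), (.g, true), (.j, true), (.h, true), (.d, true), (.c, true), (.b, true), (.a, true), (.e, true), (.d, true), (.f, true), (.g, true), (.i, true), (.h, true), (.d, true), (.c, true), (.b, true), (.a, true), (.e, true), (.d, true), (.c, true), (.b, true), (.f, true), (.e, true), (.d, true), (.c, true), (.g, true), (.h, true), (.d, true), (.e, true), (.f, true), (.i, true), (.h, true), (.d, true), (.e, true), (.i, true), (.e, true), (.d, true), (.h, true), (.c, true), (.d, true), (.e, true), (.k, true), (.a, true), (.b, true), (.c, true), (.d, true), (.h, true), (.f, true), (.g, true), (.e, true), (.f, true), (.c, true), (.d, true), (.e, true), (.a, true), (.b, true), (.c, true), (.d, true), (.h, true), (.i, true), (.e, true), (.f, true), (.d, true), (.e, true), (.b, true), (.c, true), (.d, true), (.h, true), (.j, true), (.g, true), (.f, true), (.e, true), (.d, true), (.c, true), (.b, true), (.a, true), (.k, true), (.l, true), (.k, true), (.a, true), (.b, true), (.c, true), (.d, true), (.e, true), (.f, true), (.g, true), (.j, true), (.h, true), (.d, true), (.c, true), (.b, true), (.e, true), (.d, true), (.f, true), (.e, true), (.i,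 true), (.h, true), (.d, true), (.c, true), (.b, true), (.a, true), (.e, true), (.d, true), (.c, true), (.f, true), (.e, true), (.g, true), (.f, true), (.h, true), (.d, true), (.c, true), (.b, true), (.a, true), (.k, true), (.e, true), (.d, true), (.c, true), (.h, true), (.d, true), (.e, true), (.i, true)]

/-- the image of the generator `f` of He -/
def wF : List (Cfsg.Spor.Fi24.Gen × Bool) := [(.i, true), (.b, true), (.c, true), (.d, true), (.h, true), (.g, true), (.f, true), (.e, true), (.d, true), (.c, true), (.b, true), (.a, true), (.l, true), (.k, true), (.l, true), (.k, true), (.l, true), (.a, true), (.b, true), (.c, true), (.d, true), (.e, true), (.f, true), (.g, true), (.h, true), (.d, true), (.c, true), (.b, true), (.i, true), (.e, true), (.b, true), (.c, true), (.d, true), (.h, true), (.g, true), (.e, true), (.f, true), (.b, true), (.c, true), (.d, true), (.e, true), (.a, true), (.b, true), (.c, true), (.d, true), (.h, true), (.i, true), (.e, true), (.f, true), (.d, true), (.e, true), (.b, true), (.c, true), (.d, true), (.h, true), (.j, true), (.g, true), (.f, true), (.e, true), (.d, true), (.c, true), (.b, true), (.a, true), (.l, true), (.k, true), (.l, true),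 (.k, true), (.l, true), (.a, true), (.b, true), (.c, true), (.d, true), (.e, true), (.f, true), (.g, true), (.j, true), (.h, true), (.d, true), (.c, true), (.b, true), (.e, true), (.d, true), (.f, true), (.e, true), (.i, true), (.h, true), (.d, true), (.c, true), (.b, true), (.a, true), (.e, true), (.d, true), (.c, true), (.b, true), (.f, true), (.e, true), (.g, true), (.h, true), (.d, true), (.c, true), (.b, true), (.e, true), (.e, true), (.d, true), (.h, true), (.i, true), (.f, true), (.e, true), (.d, true), (.h, true), (.g, true), (.f, true), (.c, true), (.d, true), (.e, true), (.a, true), (.b, true), (.c, true), (.d, true), (.h, true), (.i, true), (.g, true), (.f, true), (.c, true), (.d, true), (.e, true), (.b, true), (.c, true), (.d, true), (.h, true), (.j, true), (.g, true), (.f, true), (.e, true), (.d, true), (.c, true), (.b, true), (.a, true), (.l, true), (.k, true), (.l, true), (.k, true), (.l, true), (.a, true), (.b, true), (.c, true), (.d, true), (.e, true), (.f, true), (.g, true), (.j, true), (.h, true), (.d, true), (.c, true), (.b, true), (.e, true), (.d, true), (.c, true), (.f, true), (.g, true), (.i, true), (.h, true), (.d, true), (.c, true), (.b, true),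 (.a, true), (.e, true), (.d, true), (.c, true), (.f, true), (.g, true), (.h, true), (.d, true), (.e, true), (.f, true), (.i, true), (.h, true), (.d, true), (.e, true), (.f, true), (.e, true), (.d, true), (.h, true), (.i, true), (.g, true), (.f, true), (.e, true), (.d, true), (.h, true), (.f, true), (.g, true), (.c, true), (.d, true), (.e, true), (.f, true), (.b, true), (.c, true), (.d, true), (.e, true), (.a, true), (.b, true), (.c, true), (.d, true), (.h, true), (.i, true), (.e, true), (.f, true), (.d, true), (.e, true), (.c, true), (.d, true), (.h, true), (.j, true), (.g, true), (.f, true), (.e, true), (.d, true), (.c, true), (.b, true), (.a, true), (.l, true), (.k, true), (.l, true), (.k, true), (.l, true), (.a, true), (.b, true), (.c, true), (.d, true), (.e, true), (.f, true), (.g, true), (.j, true), (.h, true), (.d, true), (.c, true), (.e, true), (.d, true), (.f, true), (.e, true), (.i, true), (.h, true), (.d, true), (.c, true), (.b, true), (.a, true), (.e, true), (.d, true), (.c, true), (.b, true), (.f, true), (.e, true), (.d, true), (.c, true), (.g, true), (.f, true), (.h, true), (.d, true), (.e, true), (.f, true), (.g, true), (.i, true), (.h, true), (.d, true),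 (.e, true), (.f, true)]

/-- the image of the generator `g` of He -/
def wG : List (Cfsg.Spor.Fi24.Gen × Bool) := [(.f, true), (.e, true), (.d, true), (.c, true), (.b, true), (.a, true), (.l, true), (.k, true), (.l, true), (.k, true), (.l, true), (.a, true), (.b, true), (.c, true), (.d, true), (.e, true), (.f, true), (.i, true), (.f, true), (.e, true), (.d, true), (.h, true), (.j, true), (.g, true), (.f, true), (.e, true), (.d, true), (.b, true), (.c, true), (.a, true), (.b, true), (.k, true), (.a, true), (.l, true), (.k, true), (.l, true), (.k, true), (.l, true), (.a, true), (.k, true), (.b, true), (.a, true), (.c, true), (.b, true), (.d, true), (.e, true), (.f, true), (.g, true), (.j, true), (.h, true), (.d, true), (.e, true), (.f, true), (.i, true), (.e, true), (.f, true), (.c, true), (.d, true), (.e, true), (.b, true), (.c, true), (.d, true), (.h, true), (.i, true), (.g, true), (.f, true), (.d, true), (.e, true), (.a, true), (.b, true), (.c, true), (.d, true), (.h, true), (.j, true), (.g, true), (.f, true), (.e, true), (.d, true), (.c, true), (.b, true), (.a, true), (.l, true), (.k, true), (.l, true), (.k, true), (.l, true), (.a, true), (.b, true), (.c, true), (.d,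 true), (.e, true), (.f, true), (.g, true), (.j, true), (.h, true), (.d, true), (.c, true), (.b, true), (.a, true), (.e, true), (.d, true), (.f, true), (.g, true), (.i, true), (.h, true), (.d, true), (.c, true), (.b, true), (.e, true), (.d, true), (.c, true), (.f, true), (.e, true), (.b, true), (.c, true), (.d, true), (.e, true), (.a, true), (.b, true), (.c, true), (.d, true), (.h, true), (.i, true), (.g, true), (.d, true), (.e, true), (.f, true), (.c, true), (.d, true), (.e, true), (.b, true), (.c, true), (.d, true), (.h, true), (.j, true), (.g, true), (.f, true), (.e, true), (.d, true), (.c, true), (.b, true), (.k, true), (.a, true), (.l, true), (.k, true), (.l, true), (.k, true), (.l, true), (.a, true), (.k, true), (.b, true), (.c, true), (.d, true), (.e, true), (.f, true), (.g, true), (.j, true), (.h, true), (.d, true), (.c, true), (.b, true), (.e, true), (.d, true), (.c, true), (.f, true), (.e, true), (.d, true), (.g, true), (.i, true), (.h, true), (.d, true), (.c, true), (.b, true), (.a, true), (.e, true), (.d, true), (.c, true), (.b, true)]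

/-- the images of the seven generators of He -/
def img : Cfsg.Spor.He.Gen → List (Cfsg.Spor.Fi24.Gen × Bool)
  | .a => wA
  | .b => wB
  | .c => wC
  | .d => wD
  | .e => wE
  | .f => wF
  | .g => wG

theorem hfix : ∀ L ∈ Cfsg.Agent.Lib.Helper3.TCX.HeBLink.relWords, ∀ b ∈ base,
    table.walkT (pathOf lw (substWord img L)) b = b := by
  decide +kernel

theorem hne : table.walkT (pathOf lw (img Cfsg.Spor.He.Gen.a)) 0 ≠ 0 := by
  decide +kernel

/-- the commutator subgroup of the presented Fi₂₄ has a subgroup of type He -/
theorem exists_isHe : ∃ K : Subgroup ↥(commutator Cfsg.Spor.Fi24), Cfsg.IsHe K :=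
  Cfsg.Agent.Lib.Helper28.Fi24He.exists_isHe_of_words img hfix Cfsg.Spor.He.Gen.a 0 (by decide) hne

end Cfsg.Agent.Lib.Helper21.Fi24HeData
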