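import Mathlib
import Cfsg.Agent.S0042
import Cfsg.Agent.Lib.Lead.FrobConj
import Cfsg.Agent.Lib.Helper18.Frobenius
import Cfsg.Agent.Lib.Helper22.Frobenius

set_option autoImplicit false

namespace Cfsg.Agent.Lib.Helper21.TwoFrob

open Cfsg

/-- Package of facts about a Frobenius complement `C` with kernel subgroup `N`. -/
theorem frob_facts {Γ : Type*} [Group Γ] [Finite Γ] (C N : Subgroup Γ)
    (hC : IsFrobeniusComplement C) (hN : frobeniusKernel C = (N : Set Γ)) :
    N.Normal ∧ N.IsComplement' C ∧ N ≠ ⊥ ∧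
    (∀ x, x ∉ N → ∀ n ∈ N, x * n = n * x → n = 1) ∧
    (Nat.card N).Coprime (Nat.card C) ∧ Group.IsNilpotent N := by
  obtain ⟨K, hK, hKn, hc, hKne, hfpf⟩ := Cfsg.Agent.CharLib.frob_setup C hC
  have hKN : K = N := SetLike.coe_injective (hK.trans hN)
  subst hKN
  have := hKn
  refine ⟨hKn, hc, hKne, ?_, ?_, ?_⟩
  · intro x hx n hn hxn
    have hx' : x ∉ frobeniusKernel C := by rw [hN]; exact hx
    rw [Cfsg.Agent.Lib.Helper18.mem_frobeniusKernel_iff, not_or] at hx'
    obtain ⟨hx1, hx2⟩ := hx'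
    push Not at hx2
    obtain ⟨g, hg⟩ := hx2
    have hh1 : g⁻¹ * x * g ≠ 1 := by
      intro h
      apply hx1
      have : x = g * (g⁻¹ * x * g) * g⁻¹ := by group
      rw [this, h]; group
    have hn' : g⁻¹ * n * g ∈ K ⊓ Subgroup.centralizer {g⁻¹ * x * g} := by
      refine ⟨?_, ?_⟩
      · have := hKn.conj_mem n hn g⁻¹
        rwa [inv_inv] at this
      · show g⁻¹ * n * g ∈ Subgroup.centralizer {g⁻¹ * x * g}
        rw [Subgroup.mem_centralizer_iff]
        intro h hh
        rw [Set.mem_singleton_iff] at hh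
        subst hh
        calc g⁻¹ * x * g * (g⁻¹ * n * g) = g⁻¹ * (x * n) * g := by group
          _ = g⁻¹ * (n * x) * g := by rw [hxn]
          _ = g⁻¹ * n * g * (g⁻¹ * x * g) := by group
    rw [hfpf _ hg hh1, Subgroup.mem_bot] at hn'
    have : n = g * (g⁻¹ * n * g) * g⁻¹ := by group
    rw [this, hn']; group
  · apply Nat.coprime_of_dvd
    intro p hp hpN hpC
    have : Fact p.Prime := ⟨hp⟩
    have := Cfsg.Agent.Lib.Helper22.not_dvd_index_of_dvd_card_of_isFrobeniusComplement C hC p hpC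
    rw [hc.index_eq_card] at this
    exact this hpN
  · obtain ⟨N', hN', -, hnil⟩ := Cfsg.Agent.S0042.result C hC
    have : N' = K := SetLike.coe_injective (hN'.trans hN)
    subst this
    exact hnil


/-- Two involutions acting fixed-point-freely on a nontrivial normal subgroup, whose product acts
trivially or fixed-point-freely, are equal. -/
theorem invol_unique {Γ : Type*} [Group Γ] [Finite Γ] (C N : Subgroup Γ) [hNn : N.Normal]
    (hN1 : N ≠ ⊥)
    (hfpf : ∀ x, x ∉ N → ∀ n ∈ N, x * n = n * x → n = 1)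
    (hCN : ∀ x ∈ C, x ∈ N → x = 1)
    (s t : Γ) (hs : s ∈ C) (ht : t ∈ C) (hs2 : s * s = 1) (ht2 : t * t = 1)
    (hs1 : s ≠ 1) (ht1 : t ≠ 1) : s = t := by
  have key : ∀ t : Γ, t ∈ C → t * t = 1 → t ≠ 1 → ∀ n ∈ N, t * n * t⁻¹ = n⁻¹ := by
    intro t ht ht2 ht1 n hn
    have htN : t ∉ N := fun h => ht1 (hCN t ht h)
    let φ : MulAut N := MulAut.conjNormal t
    have hφ : ∀ m : N, ((φ m : N) : Γ) = t * m * t⁻¹ := fun m => MulAut.conjNormal_apply t m
    have hfp : MonoidHom.FixedPointFree φ := by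
      intro m hm
      have h1 : t * (m : Γ) * t⁻¹ = m := by rw [← hφ, hm]
      have h2 : t * (m : Γ) = m * t := by
        calc t * (m : Γ) = t * m * t⁻¹ * t := by group
          _ = m * t := by rw [h1]
      exact Subtype.ext (hfpf t htN m m.2 h2)
    have hinv : Function.Involutive φ := by
      intro m
      apply Subtype.ext
      rw [hφ, hφ]
      have ht' : t⁻¹ = t := inv_eq_of_mul_eq_one_left ht2
      rw [ht']
      calc t * (t * (m : Γ) * t) * t = (t * t) * m * (t * t) := by group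
        _ = m := by rw [ht2, one_mul, mul_one]
    have h3 := congrFun (hfp.coe_eq_inv_of_involutive hinv) ⟨n, hn⟩
    have h4 := congrArg (Subtype.val) h3
    rw [hφ] at h4
    simpa using h4
  have hst : ∀ n ∈ N, (s * t) * n = n * (s * t) := by
    intro n hn
    have h1 := key t ht ht2 ht1 n hn
    have h2 := key s hs hs2 hs1 n⁻¹ (N.inv_mem hn)
    rw [inv_inv] at h2
    calc (s * t) * n = s * (t * n * t⁻¹) * s⁻¹ * (s * t) := by group
      _ = n * (s * t) := by rw [h1, h2]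
  have hstN : s * t ∈ N := by
    by_contra h
    apply hN1
    rw [eq_bot_iff]
    intro n hn
    rw [Subgroup.mem_bot]
    exact hfpf _ h n hn (hst n hn)
  have h1 : s * t = 1 := hCN _ (C.mul_mem hs ht) hstN
  have ht' : t⁻¹ = t := inv_eq_of_mul_eq_one_left ht2
  rw [← ht']
  exact eq_inv_of_mul_eq_one_left h1

/-- If `x` acts fixed-point-freely on a finite normal subgroup `N`, the coset `N x` consists of
`N`-conjugates of `x`. -/
theorem exists_conj_of_fpf {Γ : Type*} [Group Γ] (N : Subgroup Γ) [Finite N] [hNn : N.Normal]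
    (x : Γ) (hfpf : ∀ n ∈ N, x * n = n * x → n = 1) (k : Γ) (hk : k ∈ N) :
    ∃ n ∈ N, k * x = n * x * n⁻¹ := by
  let f : N → N := fun n => ⟨n * (x * (n : Γ)⁻¹ * x⁻¹), N.mul_mem n.2 (hNn.conj_mem _ (N.inv_mem n.2) x)⟩
  have hf : Function.Injective f := by
    intro n m hnm
    have h1 : (n : Γ) * (x * (n : Γ)⁻¹ * x⁻¹) = m * (x * (m : Γ)⁻¹ * x⁻¹) := congrArg Subtype.val hnm
    have h2 : x * ((n : Γ)⁻¹ * m) = ((n : Γ)⁻¹ * m) * x := by
      have h3 : (n : Γ) * x * (n : Γ)⁻¹ = m * x * (m : Γ)⁻¹ := by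
        have := congrArg (· * x) h1
        simpa [mul_assoc] using this
      calc x * ((n : Γ)⁻¹ * m) = (n : Γ)⁻¹ * ((n : Γ) * x * (n : Γ)⁻¹) * m := by group
        _ = (n : Γ)⁻¹ * (m * x * (m : Γ)⁻¹) * m := by rw [h3]
        _ = ((n : Γ)⁻¹ * m) * x := by group
    have h4 := hfpf _ (N.mul_mem (N.inv_mem n.2) m.2) h2
    apply Subtype.ext
    exact (inv_mul_eq_one.mp h4)
  obtain ⟨n, hn⟩ := Finite.surjective_of_injective hf ⟨k, hk⟩
  refine ⟨n, n.2, ?_⟩
  have h1 : (n : Γ) * (x * (n : Γ)⁻¹ * x⁻¹) = k := congrArg Subtype.val hn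
  rw [← h1]; group

/-- Element orders lift along surjections of finite groups. -/
theorem exists_orderOf_of_surjective {G G' : Type*} [Group G] [Finite G] [Group G']
    (f : G →* G') (hf : Function.Surjective f) (g' : G') :
    ∃ g : G, orderOf g = orderOf g' := by
  obtain ⟨g, rfl⟩ := hf g'
  have hdvd : orderOf (f g) ∣ orderOf g := orderOf_map_dvd f g
  obtain ⟨c, hc⟩ := hdvd
  have hpos : 0 < orderOf g := orderOf_pos g
  have hc0 : c ≠ 0 := by
    rintro rfl
    rw [mul_zero] at hc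
    omega
  refine ⟨g ^ c, ?_⟩
  rw [orderOf_pow_of_dvd hc0 ⟨orderOf (f g), by rw [hc, mul_comm]⟩, hc]
  exact Nat.mul_div_cancel _ (Nat.pos_of_ne_zero hc0)

end Cfsg.Agent.Lib.Helper21.TwoFrob
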