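import Mathlib
import Cfsg.Agent.Lib.Helper21.TwoFrobA
import Cfsg.Agent.Lib.Helper9.FpfAction
import Cfsg.Agent.Lib.Helper18.Fpf
import Cfsg.Agent.Lib.Helper19.FrobFix2
import Cfsg.Agent.Lib.Helper29.PrimePowerElement

set_option autoImplicit false

namespace Cfsg.Agent.Lib.Helper21.TwoFrob

open Cfsg

/-- the comparison map from a complement `C₁` of `H` in `K` to `K/H ≤ G/H`. -/
theorem exists_equiv_map {G : Type*} [Group G] (H K : Subgroup G) [H.Normal] (hHK : H ≤ K)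
    (C1 : Subgroup ↥K) (hc1 : (H.subgroupOf K).IsComplement' C1) :
    ∃ e : ↥C1 ≃* ↥(K.map (QuotientGroup.mk' H)),
      ∀ c : ↥C1, ((e c : ↥(K.map (QuotientGroup.mk' H))) : G ⧸ H) = QuotientGroup.mk (((c : ↥K) : G)) := by
  let ψ : ↥C1 →* ↥(K.map (QuotientGroup.mk' H)) :=
    ((QuotientGroup.mk' H).comp (K.subtype.comp C1.subtype)).codRestrict _
      (fun c => ⟨((c : ↥K) : G), (c : ↥K).2, rfl⟩)
  have hψ : ∀ c : ↥C1, ((ψ c : ↥(K.map (QuotientGroup.mk' H))) : G ⧸ H)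
      = QuotientGroup.mk (((c : ↥K) : G)) := fun c => rfl
  have hinj : Function.Injective ψ := by
    rw [injective_iff_map_eq_one]
    intro c hc
    have h1 : (QuotientGroup.mk (((c : ↥K) : G)) : G ⧸ H) = 1 := by
      rw [← hψ, hc]; rfl
    rw [QuotientGroup.eq_one_iff] at h1
    have h2 : (c : ↥K) ∈ H.subgroupOf K ⊓ C1 := ⟨h1, c.2⟩
    rw [hc1.isCompl.inf_eq_bot, Subgroup.mem_bot] at h2
    exact Subtype.ext h2
  have hsurj : Function.Surjective ψ := by
    rintro ⟨_, k, hk, rfl⟩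
    obtain ⟨⟨h, c⟩, hhc, -⟩ := (Subgroup.isComplement_iff_existsUnique.mp hc1) ⟨k, hk⟩
    refine ⟨c, ?_⟩
    apply Subtype.ext
    rw [hψ]
    have h3 : k = ((h : ↥K) : G) * ((c : ↥K) : G) := by
      have := congrArg Subtype.val hhc
      simpa using this.symm
    show (QuotientGroup.mk (((c : ↥K) : G)) : G ⧸ H) = QuotientGroup.mk' H k
    rw [h3, map_mul]
    have h4 : QuotientGroup.mk' H ((h : ↥K) : G) = 1 := by
      rw [QuotientGroup.mk'_apply, QuotientGroup.eq_one_iff]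
      exact h.2
    rw [h4, one_mul]; rfl
  exact ⟨MulEquiv.ofBijective ψ ⟨hinj, hsurj⟩, hψ⟩


theorem two_frob_odd {G : Type*} [Group G] [Finite G] (H K : Subgroup G) [H.Normal] [K.Normal]
    (hHK : H ≤ K)
    (C1 : Subgroup ↥K) (hC1 : IsFrobeniusComplement C1)
    (hk1 : frobeniusKernel C1 = (H.subgroupOf K : Set ↥K))
    (C2 : Subgroup (G ⧸ H)) (hC2 : IsFrobeniusComplement C2)
    (hk2 : frobeniusKernel C2 = (K.map (QuotientGroup.mk' H) : Set (G ⧸ H))) :
    Odd (Nat.card C1) := by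
  classical
  obtain ⟨hn1, hc1, hne1, hf1, hcop1, hnil1⟩ := frob_facts C1 (H.subgroupOf K) hC1 hk1
  obtain ⟨hn2, hc2, hne2, hf2, hcop2, hnil2⟩ := frob_facts C2 (K.map (QuotientGroup.mk' H)) hC2 hk2
  obtain ⟨e, he⟩ := exists_equiv_map H K hHK C1 hc1
  by_contra hodd
  rw [Nat.not_odd_iff_even, even_iff_two_dvd] at hodd
  haveI : Fact (Nat.Prime 2) := ⟨Nat.prime_two⟩
  obtain ⟨t, ht⟩ := exists_prime_orderOf_dvd_card' (G := ↥C1) 2 hodd
  have ht1 : t ≠ 1 := by
    rintro rfl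
    rw [orderOf_one] at ht
    omega
  have ht2 : t * t = 1 := by
    rw [← pow_two, ← ht]; exact pow_orderOf_eq_one t
  obtain ⟨c2, hc2C, hc2ne⟩ : ∃ c ∈ C2, c ≠ 1 := by
    by_contra hcon
    push Not at hcon
    exact hC2.1 (eq_bot_iff.mpr fun x hx => Subgroup.mem_bot.mpr (hcon x hx))
  have hc2K : c2 ∉ K.map (QuotientGroup.mk' H) := by
    intro h
    have : c2 ∈ K.map (QuotientGroup.mk' H) ⊓ C2 := ⟨h, hc2C⟩
    rw [hc2.isCompl.inf_eq_bot, Subgroup.mem_bot] at this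
    exact hc2ne this
  -- the conjugate involution
  have hzc : c2 * ((e t : ↥(K.map (QuotientGroup.mk' H))) : G ⧸ H) * c2⁻¹
      ∈ K.map (QuotientGroup.mk' H) := hn2.conj_mem _ (e t).2 c2
  set t' : ↥C1 := e.symm ⟨_, hzc⟩ with ht'def
  have het' : ((e t' : ↥(K.map (QuotientGroup.mk' H))) : G ⧸ H)
      = c2 * ((e t : ↥(K.map (QuotientGroup.mk' H))) : G ⧸ H) * c2⁻¹ := by
    rw [ht'def, MulEquiv.apply_symm_apply]
  have ht'2 : t' * t' = 1 := by
    apply e.injective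
    apply Subtype.ext
    rw [map_mul, map_one, Subgroup.coe_mul, het', Subgroup.coe_one]
    have h1 : ((e t : ↥(K.map (QuotientGroup.mk' H))) : G ⧸ H) * (e t : ↥(K.map (QuotientGroup.mk' H))) = 1 := by
      rw [← Subgroup.coe_mul, ← map_mul, ht2, map_one, Subgroup.coe_one]
    calc c2 * ((e t : ↥(K.map (QuotientGroup.mk' H))) : G ⧸ H) * c2⁻¹ * (c2 * (e t : ↥(K.map (QuotientGroup.mk' H))) * c2⁻¹)
        = c2 * (((e t : ↥(K.map (QuotientGroup.mk' H))) : G ⧸ H) * (e t : ↥(K.map (QuotientGroup.mk' H)))) * c2⁻¹ := by group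
      _ = 1 := by rw [h1]; group
  have ht'1 : t' ≠ 1 := by
    intro h
    have h2 := het'
    rw [h, map_one, Subgroup.coe_one] at h2
    have h3 : ((e t : ↥(K.map (QuotientGroup.mk' H))) : G ⧸ H) = 1 := by
      have : ((e t : ↥(K.map (QuotientGroup.mk' H))) : G ⧸ H) = c2⁻¹ * (c2 * (e t : ↥(K.map (QuotientGroup.mk' H))) * c2⁻¹) * c2 := by group
      rw [this, ← h2]; group
    apply ht1
    apply e.injective
    apply Subtype.ext
    rw [h3, map_one, Subgroup.coe_one]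
  have hCN : ∀ x ∈ C1, x ∈ H.subgroupOf K → x = 1 := by
    intro x hx hxH
    have : x ∈ H.subgroupOf K ⊓ C1 := ⟨hxH, hx⟩
    rwa [hc1.isCompl.inf_eq_bot, Subgroup.mem_bot] at this
  haveI := hn1
  have huniq : (t' : ↥K) = (t : ↥K) :=
    invol_unique C1 (H.subgroupOf K) hne1 hf1 hCN (t' : ↥K) (t : ↥K) t'.2 t.2
      (by rw [← Subgroup.coe_mul, ht'2, Subgroup.coe_one])
      (by rw [← Subgroup.coe_mul, ht2, Subgroup.coe_one])
      (fun h => ht'1 (Subtype.ext h)) (fun h => ht1 (Subtype.ext h))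
  have huniq' : t' = t := Subtype.ext huniq
  rw [huniq'] at het'
  have hcomm : c2 * ((e t : ↥(K.map (QuotientGroup.mk' H))) : G ⧸ H)
      = ((e t : ↥(K.map (QuotientGroup.mk' H))) : G ⧸ H) * c2 := by
    calc c2 * ((e t : ↥(K.map (QuotientGroup.mk' H))) : G ⧸ H)
        = (c2 * ((e t : ↥(K.map (QuotientGroup.mk' H))) : G ⧸ H) * c2⁻¹) * c2 := by group
      _ = ((e t : ↥(K.map (QuotientGroup.mk' H))) : G ⧸ H) * c2 := by rw [← het']
  have h5 := hf2 c2 hc2K _ (e t).2 hcomm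
  apply ht1
  apply e.injective
  apply Subtype.ext
  rw [h5, map_one, Subgroup.coe_one]


/-- Odd Sylow subgroups of a Frobenius complement are cyclic (in the form: `p`-subgroups of the
Frobenius group for `p` odd not dividing the order of the nilpotent kernel). -/
theorem pgroup_cyclic_of_frob {Γ : Type*} [Group Γ] [Finite Γ] (N : Subgroup Γ) [hNn : N.Normal]
    (hN1 : N ≠ ⊥) (hnil : Group.IsNilpotent N)
    (hf : ∀ x, x ∉ N → ∀ n ∈ N, x * n = n * x → n = 1)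
    {p : ℕ} [hp : Fact p.Prime] (hp2 : p ≠ 2) (hpN : ¬ p ∣ Nat.card N)
    (Q : Subgroup Γ) (hQ : IsPGroup p Q) : IsCyclic Q := by
  have key : ∀ x : Γ, x ∈ N → x ^ p = 1 → x = 1 := by
    intro x hx hxp
    have h1 : orderOf x ∣ p := orderOf_dvd_of_pow_eq_one hxp
    have h2 : orderOf x ∣ Nat.card N := by
      have : orderOf (⟨x, hx⟩ : N) ∣ Nat.card N := orderOf_dvd_natCard _
      rwa [← Subgroup.orderOf_coe] at this
    rcases (Nat.dvd_prime hp.out).mp h1 with h | h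
    · exact orderOf_eq_one_iff.mp h
    · rw [h] at h2; exact absurd h2 hpN
  haveI : Nontrivial N := (Subgroup.nontrivial_iff_ne_bot N).mpr hN1
  haveI := hnil
  have hVle : (Subgroup.center N).map N.subtype ≤ N := Subgroup.map_subtype_le _
  have hV1 : (Subgroup.center N).map N.subtype ≠ ⊥ := by
    rw [Ne, Subgroup.map_eq_bot_iff_of_injective _ N.subtype_injective]
    exact Group.IsNilpotent.center_ne_bot N
  exact Cfsg.Agent.Lib.Helper18.isCyclic_of_fpf_odd ((Subgroup.center N).map N.subtype) hV1 hp2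
    (fun v hv hvp => key v (hVle hv) hvp)
    (fun x hx1 hxp v hv hxv => hf x (fun hxN => hx1 (key x hxN hxp)) v (hVle hv) hxv) Q hQ

theorem two_frob_cyclic {G : Type*} [Group G] [Finite G] (H K : Subgroup G) [H.Normal] [K.Normal]
    (hHK : H ≤ K)
    (C1 : Subgroup ↥K) (hC1 : IsFrobeniusComplement C1)
    (hk1 : frobeniusKernel C1 = (H.subgroupOf K : Set ↥K))
    (C2 : Subgroup (G ⧸ H)) (hC2 : IsFrobeniusComplement C2)
    (hk2 : frobeniusKernel C2 = (K.map (QuotientGroup.mk' H) : Set (G ⧸ H))) :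
    IsCyclic C1 ∧ IsCyclic C2 := by
  classical
  have hodd := two_frob_odd H K hHK C1 hC1 hk1 C2 hC2 hk2
  obtain ⟨hn1, hc1, hne1, hf1, hcop1, hnil1⟩ := frob_facts C1 (H.subgroupOf K) hC1 hk1
  obtain ⟨hn2, hc2, hne2, hf2, hcop2, hnil2⟩ := frob_facts C2 (K.map (QuotientGroup.mk' H)) hC2 hk2
  obtain ⟨e, he⟩ := exists_equiv_map H K hHK C1 hc1
  haveI := hn1
  haveI := hn2
  -- C1 is a Z-group
  haveI hZ : IsZGroup ↥C1 := by
    refine ⟨fun p hp P => ?_⟩
    haveI : Fact p.Prime := ⟨hp⟩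
    by_cases hpd : p ∣ Nat.card C1
    · have hp2 : p ≠ 2 := by
        rintro rfl
        exact (Nat.not_even_iff_odd.mpr hodd) (even_iff_two_dvd.mpr hpd)
      have hpN : ¬ p ∣ Nat.card (H.subgroupOf K) := by
        intro h
        have := (Nat.Coprime.coprime_dvd_left h hcop1)
        have h3 : p ∣ Nat.gcd p (Nat.card C1) := Nat.dvd_gcd dvd_rfl hpd
        rw [Nat.Coprime.gcd_eq_one this] at h3
        exact hp.ne_one (Nat.dvd_one.mp h3)
      have hcyc := pgroup_cyclic_of_frob (H.subgroupOf K) hne1 hnil1 hf1 hp2 hpN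
        ((P : Subgroup ↥C1).map C1.subtype) (P.2.map _)
      exact isCyclic_of_surjective
        ((P : Subgroup ↥C1).equivMapOfInjective C1.subtype C1.subtype_injective).symm
        (MulEquiv.surjective _)
    · have hcard : Nat.card (P : Subgroup ↥C1) = 1 := by
        obtain ⟨k, hk⟩ := IsPGroup.iff_card.mp P.2
        rcases Nat.eq_zero_or_pos k with h0 | hpos
        · rw [hk, h0, pow_zero]
        · exfalso
          apply hpd
          have h1 : Nat.card (P : Subgroup ↥C1) ∣ Nat.card C1 := Subgroup.card_subgroup_dvd_card _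
          rw [hk] at h1
          exact (dvd_pow_self p (by omega)).trans h1
      haveI : Subsingleton (P : Subgroup ↥C1) := (Nat.card_eq_one_iff_unique.mp hcard).1
      exact isCyclic_of_subsingleton
  haveI hnilC1 : Group.IsNilpotent ↥C1 := by
    haveI := hnil2
    exact Group.nilpotent_of_mulEquiv e.symm
  have hcyc1 : IsCyclic ↥C1 := inferInstance
  refine ⟨hcyc1, ?_⟩
  -- Kb is cyclic
  haveI hcycK : IsCyclic ↥(K.map (QuotientGroup.mk' H)) :=
    isCyclic_of_surjective e e.surjective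
  obtain ⟨g, hg⟩ := hcycK.exists_generator
  have hgen : ∀ y ∈ K.map (QuotientGroup.mk' H), ∃ i : ℤ, (g : G ⧸ H) ^ i = y := by
    intro y hy
    obtain ⟨i, hi⟩ := Subgroup.mem_zpowers_iff.mp (hg ⟨y, hy⟩)
    exact ⟨i, by rw [← Subgroup.coe_zpow, hi]⟩
  have hCK : ∀ x ∈ C2, x ∈ K.map (QuotientGroup.mk' H) → x = 1 := by
    intro x hx hxK
    have : x ∈ K.map (QuotientGroup.mk' H) ⊓ C2 := ⟨hxK, hx⟩
    rwa [hc2.isCompl.inf_eq_bot, Subgroup.mem_bot] at this
  have hg1 : (g : G ⧸ H) ≠ 1 := by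
    intro h
    apply hne2
    rw [eq_bot_iff]
    intro y hy
    obtain ⟨i, rfl⟩ := hgen y hy
    rw [h, one_zpow]; exact Subgroup.one_mem _
  have hcomm : ∀ a ∈ C2, ∀ b ∈ C2, a * b = b * a := by
    intro a ha b hb
    obtain ⟨i, hi⟩ := hgen _ (hn2.conj_mem _ g.2 a)
    obtain ⟨j, hj⟩ := hgen _ (hn2.conj_mem _ g.2 b)
    have h1 : (a * b) * (g : G ⧸ H) * (a * b)⁻¹ = (g : G ⧸ H) ^ (i * j) := by
      calc (a * b) * (g : G ⧸ H) * (a * b)⁻¹ = a * (b * (g : G ⧸ H) * b⁻¹) * a⁻¹ := by group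
        _ = a * (g : G ⧸ H) ^ j * a⁻¹ := by rw [hj]
        _ = (a * (g : G ⧸ H) * a⁻¹) ^ j := by rw [conj_zpow]
        _ = (g : G ⧸ H) ^ (i * j) := by rw [← hi, zpow_mul]
    have h2 : (b * a) * (g : G ⧸ H) * (b * a)⁻¹ = (g : G ⧸ H) ^ (i * j) := by
      calc (b * a) * (g : G ⧸ H) * (b * a)⁻¹ = b * (a * (g : G ⧸ H) * a⁻¹) * b⁻¹ := by group
        _ = b * (g : G ⧸ H) ^ i * b⁻¹ := by rw [hi]
        _ = (b * (g : G ⧸ H) * b⁻¹) ^ i := by rw [conj_zpow]
        _ = (g : G ⧸ H) ^ (i * j) := by rw [← hj, mul_comm i j, zpow_mul]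
    by_contra hab
    have hc1' : (b * a)⁻¹ * (a * b) ≠ 1 := by
      intro h
      apply hab
      have := inv_mul_eq_one.mp h
      exact this.symm
    have hcC : (b * a)⁻¹ * (a * b) ∈ C2 :=
      C2.mul_mem (C2.inv_mem (C2.mul_mem hb ha)) (C2.mul_mem ha hb)
    have hcK : (b * a)⁻¹ * (a * b) ∉ K.map (QuotientGroup.mk' H) := fun h => hc1' (hCK _ hcC h)
    apply hg1
    apply hf2 _ hcK _ g.2
    calc (b * a)⁻¹ * (a * b) * (g : G ⧸ H)
        = (b * a)⁻¹ * ((a * b) * (g : G ⧸ H) * (a * b)⁻¹) * (a * b) := by group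
      _ = (b * a)⁻¹ * ((b * a) * (g : G ⧸ H) * (b * a)⁻¹) * (a * b) := by rw [h1, h2]
      _ = (g : G ⧸ H) * ((b * a)⁻¹ * (a * b)) := by group
  haveI : IsMulCommutative ↥C2 := ⟨⟨fun a b => Subtype.ext (hcomm a a.2 b b.2)⟩⟩
  haveI : IsMulCommutative ↥(K.map (QuotientGroup.mk' H)) := by
    letI := hcycK.commGroup
    exact ⟨⟨fun a b => mul_comm a b⟩⟩
  apply Cfsg.Agent.Lib.Helper9.isCyclic_of_fpf_on_subgroup C2 (K.map (QuotientGroup.mk' H)) hne2
  · intro x _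
    rw [Subgroup.normalizer_eq_top]
    exact Subgroup.mem_top x
  · intro a ha ha1
    rw [eq_bot_iff]
    rintro n ⟨hnK, hnc⟩
    rw [Subgroup.mem_bot]
    apply hf2 a (fun h => ha1 (hCK a ha h)) n hnK
    have := Subgroup.mem_centralizer_iff.mp hnc a (Set.mem_singleton a)
    exact this
  · exact Or.inl inferInstance

end Cfsg.Agent.Lib.Helper21.TwoFrob
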