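import Mathlib
import Cfsg.Agent.Lib.Helper21.TwoFrobB
import Cfsg.Agent.Lib.Helper22.FrobRing

set_option autoImplicit false

namespace Cfsg.Agent.Lib.Helper21.TwoFrob

open Cfsg

/-- A nilpotent normal subgroup of order divisible by `p` contains a nontrivial abelian normal
`p`-subgroup of the whole group. -/
theorem exists_normal_abelian_pgroup {G : Type*} [Group G] [Finite G] (H : Subgroup G)
    [hHn : H.Normal] (hnil : Group.IsNilpotent H) (p : ℕ) [hp : Fact p.Prime]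
    (hpH : p ∣ Nat.card H) :
    ∃ V : Subgroup G, V.Normal ∧ V ≤ H ∧ V ≠ ⊥ ∧ (∀ a ∈ V, ∀ b ∈ V, a * b = b * a) ∧
      IsPGroup p V := by
  obtain ⟨P⟩ : Nonempty (Sylow p H) := inferInstance
  have hSyl := ((Group.isNilpotent_of_finite_tfae (G := H)).out 0 3).mp hnil
  have hPn : (P : Subgroup H).Normal := hSyl p inferInstance P
  haveI hPc : (P : Subgroup H).Characteristic := Sylow.characteristic_of_normal P hPn
  -- P' = P as a subgroup of G
  haveI hP'n : ((P : Subgroup H).map H.subtype).Normal := inferInstance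
  have hP'p : IsPGroup p ((P : Subgroup H).map H.subtype) := P.2.map _
  have hP'ne : Nontrivial ((P : Subgroup H).map H.subtype) := by
    rw [Subgroup.nontrivial_iff_ne_bot, Ne, Subgroup.map_eq_bot_iff_of_injective _ H.subtype_injective]
    intro h
    have h1 : Nat.card (P : Subgroup H) = 1 := by rw [h]; exact Subgroup.card_bot
    have h2 := P.card_eq_multiplicity
    rw [h1] at h2
    have h3 : p ∣ p ^ (Nat.card H).factorization p :=
      dvd_pow_self p (by
        have : 0 < (Nat.card H).factorization p :=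
          hp.out.factorization_pos_of_dvd Nat.card_pos.ne' hpH
        omega)
    rw [← h2] at h3
    exact hp.out.ne_one (Nat.dvd_one.mp h3)
  have hZne : Nontrivial (Subgroup.center ((P : Subgroup H).map H.subtype)) := hP'p.center_nontrivial
  refine ⟨(Subgroup.center ((P : Subgroup H).map H.subtype)).map
    ((P : Subgroup H).map H.subtype).subtype, inferInstance, ?_, ?_, ?_, ?_⟩
  · refine (Subgroup.map_subtype_le _).trans ?_
    exact Subgroup.map_subtype_le _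
  · rw [Ne, Subgroup.map_eq_bot_iff_of_injective _ (Subgroup.subtype_injective _)]
    exact (Subgroup.nontrivial_iff_ne_bot _).mp hZne
  · rintro _ ⟨a, ha, rfl⟩ _ ⟨b, hb, rfl⟩
    have := Subgroup.mem_center_iff.mp ha b
    have h2 := congrArg Subtype.val this
    simpa using h2.symm
  · exact (hP'p.to_subgroup _).map _


theorem mem_map_subtype_iff' {G : Type*} [Group G] (K : Subgroup G) (C : Subgroup ↥K) (y : G) :
    y ∈ C.map K.subtype ↔ ∃ hy : y ∈ K, (⟨y, hy⟩ : ↥K) ∈ C := by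
  constructor
  · rintro ⟨c, hc, rfl⟩
    exact ⟨c.2, hc⟩
  · rintro ⟨hy, hc⟩
    exact ⟨⟨y, hy⟩, hc, rfl⟩

/-- Frattini argument for a Frobenius complement of a normal subgroup. -/
theorem frattini_frob {G : Type*} [Group G] [Finite G] (K : Subgroup G) [hKn : K.Normal]
    (C1 : Subgroup ↥K) (hC1 : IsFrobeniusComplement C1) (g : G) :
    ∃ m ∈ Subgroup.normalizer ((C1.map K.subtype : Subgroup G) : Set G), ∃ k ∈ K, g = m * k := by
  let σ : MulAut ↥K := MulAut.conjNormal g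
  have hσ : ∀ y : ↥K, ((σ y : ↥K) : G) = g * y * g⁻¹ := fun y => MulAut.conjNormal_apply g y
  have hFg : IsFrobeniusComplement (C1.comap σ.toMonoidHom) :=
    Cfsg.Agent.Lib.Helper22.isFrobeniusComplement_comap_equiv σ C1 hC1
  obtain ⟨k, hk⟩ := Cfsg.Agent.CharLib.frob_complements_conj C1 (C1.comap σ.toMonoidHom) hC1 hFg
  refine ⟨g * (k : G)⁻¹, ?_, (k : G), k.2, by group⟩
  have key : ∀ (y : G) (hy : y ∈ K), (⟨y, hy⟩ : ↥K) ∈ C1 ↔
      ∃ hy' : g * (k : G)⁻¹ * y * (g * (k : G)⁻¹)⁻¹ ∈ K,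
        (⟨g * (k : G)⁻¹ * y * (g * (k : G)⁻¹)⁻¹, hy'⟩ : ↥K) ∈ C1 := by
    intro y hy
    have h1 : (⟨y, hy⟩ : ↥K) ∈ C1 ↔ σ (k⁻¹ * ⟨y, hy⟩ * k) ∈ C1 := by
      conv_lhs => rw [← hk]
      rw [Cfsg.Agent.Lib.Helper18.mem_conj_smul_iff]
      rfl
    have h2 : ((σ (k⁻¹ * ⟨y, hy⟩ * k) : ↥K) : G) = g * (k : G)⁻¹ * y * (g * (k : G)⁻¹)⁻¹ := by
      rw [hσ]
      simp only [Subgroup.coe_mul, Subgroup.coe_inv]
      group
    rw [h1]
    constructor
    · intro h
      refine ⟨h2 ▸ (σ (k⁻¹ * ⟨y, hy⟩ * k)).2, ?_⟩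
      have : (⟨g * (k : G)⁻¹ * y * (g * (k : G)⁻¹)⁻¹, h2 ▸ (σ (k⁻¹ * ⟨y, hy⟩ * k)).2⟩ : ↥K)
          = σ (k⁻¹ * ⟨y, hy⟩ * k) := Subtype.ext h2.symm
      rw [this]; exact h
    · rintro ⟨hy', h⟩
      have : (⟨g * (k : G)⁻¹ * y * (g * (k : G)⁻¹)⁻¹, hy'⟩ : ↥K)
          = σ (k⁻¹ * ⟨y, hy⟩ * k) := Subtype.ext h2.symm
      rw [← this]; exact h
  rw [Subgroup.mem_normalizer_iff]
  intro y
  rw [mem_map_subtype_iff', mem_map_subtype_iff']
  constructor
  · rintro ⟨hy, hc⟩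
    exact (key y hy).mp hc
  · rintro ⟨hy', hc⟩
    have hy : y ∈ K := by
      have := hKn.conj_mem _ hy' (g * (k : G)⁻¹)⁻¹
      have h3 : (g * (k : G)⁻¹)⁻¹ * (g * (k : G)⁻¹ * y * (g * (k : G)⁻¹)⁻¹) * (g * (k : G)⁻¹)⁻¹⁻¹ = y := by
        group
      rwa [h3] at this
    exact ⟨hy, (key y hy).mpr ⟨hy', hc⟩⟩


theorem mk_mem_map_iff {G : Type*} [Group G] (H K : Subgroup G) [H.Normal] (hHK : H ≤ K) (g : G) :
    (QuotientGroup.mk g : G ⧸ H) ∈ K.map (QuotientGroup.mk' H) ↔ g ∈ K := by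
  constructor
  · rintro ⟨k, hk, hkg⟩
    rw [QuotientGroup.mk'_apply, QuotientGroup.eq] at hkg
    have : g = k * (k⁻¹ * g) := by group
    rw [this]
    exact K.mul_mem hk (hHK hkg)
  · intro hg
    exact ⟨g, hg, rfl⟩

/-- In a 2-Frobenius group, a prime of `|H|` and a prime of `|G/K|` (not dividing `|K|`) are
joined in the prime graph. -/
theorem two_frob_edge {G : Type*} [Group G] [Finite G] (H K : Subgroup G) [H.Normal] [K.Normal]
    (hHK : H ≤ K)
    (C1 : Subgroup ↥K) (hC1 : IsFrobeniusComplement C1)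
    (hk1 : frobeniusKernel C1 = (H.subgroupOf K : Set ↥K))
    (C2 : Subgroup (G ⧸ H)) (hC2 : IsFrobeniusComplement C2)
    (hk2 : frobeniusKernel C2 = (K.map (QuotientGroup.mk' H) : Set (G ⧸ H)))
    (p q : ℕ) (hp : p.Prime) (hq : q.Prime) (hpq : p ≠ q)
    (hpH : p ∣ Nat.card H) (hqG : q ∣ Nat.card (G ⧸ H)) (hqK : ¬ q ∣ Nat.card K) :
    ∃ g : G, orderOf g = p * q := by
  classical
  obtain ⟨hn1, hc1, hne1, hf1, hcop1, hnil1⟩ := frob_facts C1 (H.subgroupOf K) hC1 hk1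
  obtain ⟨hn2, hc2, hne2, hf2, hcop2, hnil2⟩ := frob_facts C2 (K.map (QuotientGroup.mk' H)) hC2 hk2
  haveI : Fact p.Prime := ⟨hp⟩
  haveI : Fact q.Prime := ⟨hq⟩
  haveI := hn2
  have hnilH : Group.IsNilpotent ↥H := by
    haveI := hnil1
    exact Group.nilpotent_of_mulEquiv (Subgroup.subgroupOfEquivOfLe hHK)
  obtain ⟨V, hVn, hVH, hV1, hVc, hVp⟩ := exists_normal_abelian_pgroup H hnilH p hpH
  have hC1N : C1.map K.subtype ≤ Subgroup.normalizer ((C1.map K.subtype : Subgroup G) : Set G) :=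
    Subgroup.le_normalizer
  -- surjection from the normalizer onto G/H
  have hsurj : Function.Surjective ((QuotientGroup.mk' H).comp
      (Subgroup.normalizer ((C1.map K.subtype : Subgroup G) : Set G)).subtype) := by
    intro y
    obtain ⟨g, rfl⟩ := QuotientGroup.mk'_surjective H y
    obtain ⟨m, hm, k, hk, rfl⟩ := frattini_frob K C1 hC1 g
    obtain ⟨⟨h, c⟩, hhc, -⟩ := (Subgroup.isComplement_iff_existsUnique.mp hc1) (⟨k, hk⟩ : ↥K)⁻¹
    have hhc' : ((h : ↥K) : G) * ((c : ↥K) : G) = k⁻¹ := by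
      have := congrArg Subtype.val hhc
      simpa using this
    have hcN : ((c : ↥K) : G) ∈ Subgroup.normalizer ((C1.map K.subtype : Subgroup G) : Set G) :=
      hC1N ⟨c, c.2, rfl⟩
    refine ⟨⟨m * ((c : ↥K) : G)⁻¹, Subgroup.mul_mem _ hm (Subgroup.inv_mem _ hcN)⟩, ?_⟩
    show (QuotientGroup.mk (m * ((c : ↥K) : G)⁻¹) : G ⧸ H) = QuotientGroup.mk (m * k)
    rw [QuotientGroup.eq]
    have h1 : (m * ((c : ↥K) : G)⁻¹)⁻¹ * (m * k) = (((h : ↥K) : G))⁻¹ := by
      have hk' : k = (((h : ↥K) : G) * ((c : ↥K) : G))⁻¹ := by rw [hhc', inv_inv]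
      rw [hk']; group
    rw [h1]
    exact H.inv_mem h.2
  have hqN : q ∣ Nat.card (Subgroup.normalizer ((C1.map K.subtype : Subgroup G) : Set G)) :=
    hqG.trans (Subgroup.card_dvd_of_surjective _ hsurj)
  obtain ⟨x', hx'⟩ := exists_prime_orderOf_dvd_card'
    (G := ↥(Subgroup.normalizer ((C1.map K.subtype : Subgroup G) : Set G))) q hqN
  have hxo : orderOf (x' : G) = q := by rw [Subgroup.orderOf_coe]; exact hx'
  have hxN : (x' : G) ∈ Subgroup.normalizer ((C1.map K.subtype : Subgroup G) : Set G) := x'.2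
  have hxK : (x' : G) ∉ K := by
    intro h
    apply hqK
    have := orderOf_dvd_natCard (⟨(x' : G), h⟩ : ↥K)
    rwa [Subgroup.orderOf_mk, hxo] at this
  obtain ⟨c, hcC, hc1'⟩ : ∃ c ∈ C1, c ≠ 1 := by
    by_contra hcon
    push Not at hcon
    exact hC1.1 (eq_bot_iff.mpr fun x hx => Subgroup.mem_bot.mpr (hcon x hx))
  have hcHK : c ∉ H.subgroupOf K := by
    intro h
    have : c ∈ H.subgroupOf K ⊓ C1 := ⟨h, hcC⟩
    rw [hc1.isCompl.inf_eq_bot, Subgroup.mem_bot] at this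
    exact hc1' this
  -- the normalizer meets H trivially
  have hNH : ∀ n ∈ Subgroup.normalizer ((C1.map K.subtype : Subgroup G) : Set G), n ∈ H → n = 1 := by
    intro n hnN hnH
    have h1 : n * (c : G) * n⁻¹ ∈ C1.map K.subtype :=
      (Subgroup.mem_normalizer_iff.mp hnN _).mp ⟨c, hcC, rfl⟩
    obtain ⟨d, hdC, hd⟩ := h1
    have hd' : (d : G) = n * (c : G) * n⁻¹ := hd
    have h2 : d * c⁻¹ ∈ H.subgroupOf K ⊓ C1 := by
      refine ⟨?_, C1.mul_mem hdC (C1.inv_mem hcC)⟩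
      show d * c⁻¹ ∈ H.subgroupOf K
      rw [Subgroup.mem_subgroupOf, Subgroup.coe_mul, Subgroup.coe_inv, hd']
      have : n * (c : G) * n⁻¹ * (c : G)⁻¹ = n * ((c : G) * n⁻¹ * (c : G)⁻¹) := by group
      rw [this]
      exact H.mul_mem hnH (‹H.Normal›.conj_mem _ (H.inv_mem hnH) _)
    rw [hc1.isCompl.inf_eq_bot, Subgroup.mem_bot] at h2
    have hdc : d = c := mul_inv_eq_one.mp h2
    rw [hdc] at hd'
    have hcomm : c * (⟨n, hHK hnH⟩ : ↥K) = ⟨n, hHK hnH⟩ * c := by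
      apply Subtype.ext
      simp only [Subgroup.coe_mul]
      calc (c : G) * n = (n * (c : G) * n⁻¹) * n := by rw [← hd']
        _ = n * c := by group
    have := hf1 c hcHK ⟨n, hHK hnH⟩ (Subgroup.mem_subgroupOf.mpr hnH) hcomm
    exact congrArg Subtype.val this
  -- all elements of the coset have order q
  have hxb : (QuotientGroup.mk (x' : G) : G ⧸ H) ∉ K.map (QuotientGroup.mk' H) := by
    rw [mk_mem_map_iff H K hHK]; exact hxK
  have hord : ∀ k ∈ C1.map K.subtype, (k * (x' : G)) ^ q = 1 := by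
    intro k hk
    have hkK : k ∈ K := (Subgroup.map_subtype_le _) hk
    apply hNH
    · exact Subgroup.pow_mem _ (Subgroup.mul_mem _ (hC1N hk) hxN) q
    · rw [← QuotientGroup.eq_one_iff, QuotientGroup.mk_pow, QuotientGroup.mk_mul]
      obtain ⟨n, hn, hconj⟩ := exists_conj_of_fpf (K.map (QuotientGroup.mk' H))
        (QuotientGroup.mk (x' : G) : G ⧸ H) (fun n hn h => hf2 _ hxb n hn h)
        (QuotientGroup.mk k : G ⧸ H) ((mk_mem_map_iff H K hHK k).mpr hkK)
      rw [hconj, conj_pow, ← QuotientGroup.mk_pow, ← hxo, pow_orderOf_eq_one]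
      simp
  have hy : ∀ v ∈ V, ((c : ↥K) : G) * v = v * ((c : ↥K) : G) → v = 1 := by
    intro v hv hcv
    have hvH := hVH hv
    have := hf1 c hcHK ⟨v, hHK hvH⟩ (Subgroup.mem_subgroupOf.mpr hvH) (Subtype.ext hcv)
    exact congrArg Subtype.val this
  have hKp : (Nat.card (C1.map K.subtype)).Coprime p := by
    have h1 : Nat.card (C1.map K.subtype) = Nat.card C1 :=
      (Nat.card_congr (C1.equivMapOfInjective K.subtype K.subtype_injective).toEquiv).symm
    have h2 : Nat.card (H.subgroupOf K) = Nat.card H :=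
      Nat.card_congr (Subgroup.subgroupOfEquivOfLe hHK).toEquiv
    rw [h1]
    rw [h2] at hcop1
    exact (Nat.Coprime.coprime_dvd_left hpH hcop1).symm
  have hnormV : ∀ g : G, g ∈ Subgroup.normalizer (V : Set G) := by
    intro g
    rw [Subgroup.normalizer_eq_top]
    exact Subgroup.mem_top g
  obtain ⟨k, hk, v, hv, hv1, hkv⟩ := Cfsg.Agent.Lib.Helper19.exists_fixed_of_frobenius_like' p q hq
    V (C1.map K.subtype) (x' : G) ((c : ↥K) : G) hVc
    (fun v hv => by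
      obtain ⟨a, ha⟩ := hVp ⟨v, hv⟩
      exact ⟨a, by simpa using congrArg Subtype.val ha⟩)
    hV1 (fun g _ => hnormV g) (hnormV _) hKp hxN hord ⟨c, hcC, rfl⟩ hy
  -- the q-element
  have hkK : k ∈ K := (Subgroup.map_subtype_le _) hk
  have hkx1 : k * (x' : G) ≠ 1 := by
    intro h
    apply hxK
    have : (x' : G) = k⁻¹ := by
      have := eq_inv_of_mul_eq_one_right h
      exact this
    rw [this]; exact K.inv_mem hkK
  have hkxo : orderOf (k * (x' : G)) = q := orderOf_eq_prime (hord k hk) hkx1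
  -- the p-element
  obtain ⟨a, ha⟩ := hVp ⟨v, hv⟩
  have ha' : v ^ p ^ a = 1 := by simpa using congrArg Subtype.val ha
  obtain ⟨j, hj, hvo⟩ := (Nat.dvd_prime_pow hp).mp (orderOf_dvd_of_pow_eq_one ha')
  have hj0 : j ≠ 0 := by
    rintro rfl
    rw [pow_zero, orderOf_eq_one_iff] at hvo
    exact hv1 hvo
  obtain ⟨j', rfl⟩ := Nat.exists_eq_succ_of_ne_zero hj0
  have hv'o : orderOf (v ^ p ^ j') = p := by
    rw [orderOf_pow_of_dvd (pow_ne_zero _ hp.ne_zero) (by rw [hvo]; exact pow_dvd_pow p (Nat.le_succ j')),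
      hvo, pow_succ]
    exact Nat.mul_div_cancel_left p (pow_pos hp.pos j')
  have hcomm : Commute (v ^ p ^ j') (k * (x' : G)) := by
    have : Commute v (k * (x' : G)) := hkv.symm
    exact this.pow_left _
  refine ⟨v ^ p ^ j' * (k * (x' : G)), ?_⟩
  rw [hcomm.orderOf_mul_eq_mul_orderOf_of_coprime (by
    rw [hv'o, hkxo]; exact (Nat.coprime_primes hp hq).mpr hpq), hv'o, hkxo]

end Cfsg.Agent.Lib.Helper21.TwoFrob
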