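import Mathlib
import Cfsg.Agent.Lib.Helper21.TwoFrobC

set_option autoImplicit false

namespace Cfsg.Agent.Lib.Helper21.TwoFrob

open Cfsg

theorem mem_of_coprime_orderOf {G : Type*} [Group G] [Finite G] (K : Subgroup G) [K.Normal] (a : G)
    (h : (orderOf a).Coprime (Nat.card (G ⧸ K))) : a ∈ K := by
  have h1 : orderOf (QuotientGroup.mk' K a) ∣ orderOf a := orderOf_map_dvd (QuotientGroup.mk' K) a
  have h2 : orderOf (QuotientGroup.mk' K a) ∣ Nat.card (G ⧸ K) := orderOf_dvd_natCard _
  have h3 : orderOf (QuotientGroup.mk' K a) ∣ 1 := by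
    rw [← Nat.Coprime.gcd_eq_one h]
    exact Nat.dvd_gcd h1 h2
  have h4 := orderOf_eq_one_iff.mp (Nat.dvd_one.mp h3)
  rwa [QuotientGroup.mk'_apply, QuotientGroup.eq_one_iff] at h4

theorem exists_orderOf_of_isCyclic {C : Type*} [Group C] [Finite C] [IsCyclic C] (d : ℕ)
    (hd : d ∣ Nat.card C) : ∃ c : C, orderOf c = d := by
  obtain ⟨g, hg⟩ := IsCyclic.exists_ofOrder_eq_natCard (α := C)
  obtain ⟨m, hm⟩ := hd
  have hpos : 0 < Nat.card C := Nat.card_pos
  have hm0 : m ≠ 0 := by
    rintro rfl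
    rw [mul_zero] at hm; omega
  have hd0 : 0 < d := by
    rcases Nat.eq_zero_or_pos d with h | h
    · rw [h, zero_mul] at hm; omega
    · exact h
  refine ⟨g ^ m, ?_⟩
  rw [orderOf_pow_of_dvd hm0 (by rw [hg, hm]; exact dvd_mul_left m d), hg, hm]
  exact Nat.mul_div_cancel _ (Nat.pos_of_ne_zero hm0)

/-- No edge between a prime of `|K/H|` and a prime not dividing `|K/H|`. -/
theorem two_frob_no_edge {G : Type*} [Group G] [Finite G] (H K : Subgroup G) [H.Normal] [K.Normal]
    (hHK : H ≤ K)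
    (C1 : Subgroup ↥K) (hC1 : IsFrobeniusComplement C1)
    (hk1 : frobeniusKernel C1 = (H.subgroupOf K : Set ↥K))
    (C2 : Subgroup (G ⧸ H)) (hC2 : IsFrobeniusComplement C2)
    (hk2 : frobeniusKernel C2 = (K.map (QuotientGroup.mk' H) : Set (G ⧸ H)))
    (hn1 : Nat.card (↥K ⧸ H.subgroupOf K) = Nat.card C1)
    (hn2 : Nat.card (G ⧸ K) = Nat.card C2)
    (hcopH : (Nat.card C1).Coprime (Nat.card H))
    (hcop12 : (Nat.card C1).Coprime (Nat.card C2))
    (p q : ℕ) (hp : p.Prime) (hq : q.Prime)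
    (hp1 : p ∣ Nat.card C1) (hq1 : ¬ q ∣ Nat.card C1) (g : G) (hg : orderOf g = p * q) : False := by
  classical
  obtain ⟨hnn1, hc1, hne1, hf1, hcop1, hnil1⟩ := frob_facts C1 (H.subgroupOf K) hC1 hk1
  obtain ⟨hnn2, hc2, hne2, hf2, hcop2, hnil2⟩ := frob_facts C2 (K.map (QuotientGroup.mk' H)) hC2 hk2
  haveI := hnn1
  have hao : orderOf (g ^ q) = p := by
    rw [orderOf_pow_of_dvd hq.ne_zero (by rw [hg]; exact dvd_mul_left q p), hg]
    exact Nat.mul_div_cancel _ hq.pos
  have hbo : orderOf (g ^ p) = q := by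
    rw [orderOf_pow_of_dvd hp.ne_zero (by rw [hg]; exact dvd_mul_right p q), hg]
    exact Nat.mul_div_cancel_left _ hp.pos
  have hpH : ¬ p ∣ Nat.card H := by
    intro h
    have h3 : p ∣ Nat.gcd (Nat.card C1) (Nat.card H) := Nat.dvd_gcd hp1 h
    rw [Nat.Coprime.gcd_eq_one hcopH] at h3
    exact hp.ne_one (Nat.dvd_one.mp h3)
  have hp2 : ¬ p ∣ Nat.card C2 := by
    intro h
    have h3 : p ∣ Nat.gcd (Nat.card C1) (Nat.card C2) := Nat.dvd_gcd hp1 h
    rw [Nat.Coprime.gcd_eq_one hcop12] at h3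
    exact hp.ne_one (Nat.dvd_one.mp h3)
  have haK : g ^ q ∈ K := by
    apply mem_of_coprime_orderOf
    rw [hao, hn2]
    exact (Nat.Prime.coprime_iff_not_dvd hp).mpr hp2
  have haH : g ^ q ∉ H := by
    intro h
    apply hpH
    have := orderOf_dvd_natCard (⟨g ^ q, h⟩ : ↥H)
    rwa [Subgroup.orderOf_mk, hao] at this
  have hab : g ^ q * g ^ p = g ^ p * g ^ q := by
    rw [← pow_add, ← pow_add, add_comm]
  by_cases hbK : g ^ p ∈ K
  · have hbH : (⟨g ^ p, hbK⟩ : ↥K) ∈ H.subgroupOf K := by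
      apply mem_of_coprime_orderOf
      rw [Subgroup.orderOf_mk, hbo, hn1]
      exact (Nat.Prime.coprime_iff_not_dvd hq).mpr hq1
    have h1 := hf1 (⟨g ^ q, haK⟩ : ↥K) (fun h => haH (Subgroup.mem_subgroupOf.mp h))
      ⟨g ^ p, hbK⟩ hbH (Subtype.ext hab)
    have h2 : g ^ p = 1 := congrArg Subtype.val h1
    rw [h2, orderOf_one] at hbo
    exact hq.ne_one hbo.symm
  · have hbb : (QuotientGroup.mk (g ^ p) : G ⧸ H) ∉ K.map (QuotientGroup.mk' H) := by
      rw [mk_mem_map_iff H K hHK]; exact hbK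
    have hab' : (QuotientGroup.mk (g ^ p) : G ⧸ H) * QuotientGroup.mk (g ^ q)
        = QuotientGroup.mk (g ^ q) * QuotientGroup.mk (g ^ p) := by
      rw [← QuotientGroup.mk_mul, ← QuotientGroup.mk_mul, hab]
    have h1 := hf2 _ hbb (QuotientGroup.mk (g ^ q) : G ⧸ H)
      ((mk_mem_map_iff H K hHK _).mpr haK) hab'
    rw [QuotientGroup.eq_one_iff] at h1
    exact haH h1


/-- Structure of 2-Frobenius groups (statement S4001). -/
theorem two_frob_main {G : Type*} [Group G] [Finite G] (H K : Subgroup G) [H.Normal] [K.Normal]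
    (hlt : H < K)
    (hK : ∃ C : Subgroup ↥K, Cfsg.IsFrobeniusComplement C ∧
      Cfsg.frobeniusKernel C = (H.subgroupOf K : Set ↥K))
    (hGH : ∃ C : Subgroup (G ⧸ H), Cfsg.IsFrobeniusComplement C ∧
      Cfsg.frobeniusKernel C = (K.map (QuotientGroup.mk' H) : Set (G ⧸ H))) :
    Group.IsSolvable G ∧ Odd (Nat.card (↥K ⧸ H.subgroupOf K)) ∧
      Nat.Coprime (Nat.card (↥K ⧸ H.subgroupOf K)) (Nat.card ↥H * Nat.card (G ⧸ K)) ∧
      IsCyclic (G ⧸ K) ∧
      ∀ p q : ℕ, p.Prime → q.Prime → p ≠ q → p ∣ Nat.card G → q ∣ Nat.card G →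
        ((∃ g : G, orderOf g = p * q) ↔
          (p ∣ Nat.card (↥K ⧸ H.subgroupOf K) ↔ q ∣ Nat.card (↥K ⧸ H.subgroupOf K))) := by
  classical
  obtain ⟨C1, hC1, hk1⟩ := hK
  obtain ⟨C2, hC2, hk2⟩ := hGH
  have hHK : H ≤ K := hlt.le
  obtain ⟨hnn1, hc1, hne1, hf1, hcop1, hnil1⟩ := frob_facts C1 (H.subgroupOf K) hC1 hk1
  obtain ⟨hnn2, hc2, hne2, hf2, hcop2, hnil2⟩ := frob_facts C2 (K.map (QuotientGroup.mk' H)) hC2 hk2
  obtain ⟨e, he⟩ := exists_equiv_map H K hHK C1 hc1
  have hodd := two_frob_odd H K hHK C1 hC1 hk1 C2 hC2 hk2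
  obtain ⟨hcyc1, hcyc2⟩ := two_frob_cyclic H K hHK C1 hC1 hk1 C2 hC2 hk2
  haveI := hnn1
  haveI := hnn2
  -- cardinalities
  have hn1 : Nat.card (↥K ⧸ H.subgroupOf K) = Nat.card C1 := by
    rw [← Subgroup.index_eq_card]; exact hc1.symm.index_eq_card
  have hKb : Nat.card (K.map (QuotientGroup.mk' H)) = Nat.card C1 := (Nat.card_congr e.toEquiv).symm
  have hn2 : Nat.card (G ⧸ K) = Nat.card C2 := by
    rw [← Subgroup.index_eq_card, ← Subgroup.index_map_eq K (QuotientGroup.mk'_surjective H)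
      (by rw [QuotientGroup.ker_mk']; exact hHK)]
    exact hc2.symm.index_eq_card
  have hHKc : Nat.card (H.subgroupOf K) = Nat.card H :=
    Nat.card_congr (Subgroup.subgroupOfEquivOfLe hHK).toEquiv
  have hGH' : Nat.card (G ⧸ H) = Nat.card C1 * Nat.card C2 := by
    rw [← hc2.card_mul_card, hKb]
  have hG : Nat.card G = Nat.card H * Nat.card C1 * Nat.card C2 := by
    rw [Subgroup.card_eq_card_quotient_mul_card_subgroup H, hGH']; ring
  have hKc : Nat.card K = Nat.card H * Nat.card C1 := by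
    have := hc1.card_mul_card
    rw [hHKc] at this
    exact this.symm
  have hcopH : (Nat.card C1).Coprime (Nat.card H) := by rw [← hHKc]; exact hcop1.symm
  have hcop12 : (Nat.card C1).Coprime (Nat.card C2) := by rw [← hKb]; exact hcop2
  -- the natural map G/H → G/K
  let π : G ⧸ H →* G ⧸ K := QuotientGroup.map H K (MonoidHom.id G) hHK
  have hπ : ∀ g : G, π (QuotientGroup.mk g) = QuotientGroup.mk g := fun g => rfl
  have hπker : ∀ y ∈ K.map (QuotientGroup.mk' H), π y = 1 := by
    rintro _ ⟨k, hk, rfl⟩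
    rw [QuotientGroup.mk'_apply, hπ, QuotientGroup.eq_one_iff]
    exact hk
  have hcycGK : IsCyclic (G ⧸ K) := by
    haveI := hcyc2
    apply isCyclic_of_surjective (π.comp C2.subtype)
    intro y
    obtain ⟨g, rfl⟩ := QuotientGroup.mk_surjective y
    obtain ⟨⟨n, c⟩, hnc, -⟩ := (Subgroup.isComplement_iff_existsUnique.mp hc2) (QuotientGroup.mk g)
    refine ⟨c, ?_⟩
    have h1 : π ((n : G ⧸ H) * (c : G ⧸ H)) = QuotientGroup.mk g := by
      have : (n : G ⧸ H) * (c : G ⧸ H) = QuotientGroup.mk g := hnc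
      rw [this, hπ]
    rw [map_mul, hπker _ n.2, one_mul] at h1
    exact h1
  refine ⟨?_, ?_, ?_, hcycGK, ?_⟩
  · -- solvable
    haveI : Group.IsSolvable ↥H := by
      haveI : Group.IsNilpotent ↥H := by
        haveI := hnil1
        exact Group.nilpotent_of_mulEquiv (Subgroup.subgroupOfEquivOfLe hHK)
      infer_instance
    haveI : Group.IsSolvable ↥(K.map (QuotientGroup.mk' H)) := by
      haveI := hnil2
      infer_instance
    haveI : Group.IsSolvable (G ⧸ K) := by
      letI := hcycGK.commGroup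
      exact Group.isSolvable_of_comm (fun a b => mul_comm a b)
    haveI : Group.IsSolvable (G ⧸ H) := by
      apply Group.isSolvable_of_ker_le_range (K.map (QuotientGroup.mk' H)).subtype π
      intro y hy
      rw [MonoidHom.mem_ker] at hy
      obtain ⟨g, rfl⟩ := QuotientGroup.mk_surjective y
      rw [hπ, QuotientGroup.eq_one_iff] at hy
      rw [Subgroup.range_subtype]
      exact ⟨g, hy, rfl⟩
    apply Group.isSolvable_of_ker_le_range H.subtype (QuotientGroup.mk' H)
    rw [QuotientGroup.ker_mk', Subgroup.range_subtype]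
  · rw [hn1]; exact hodd
  · rw [hn1, hn2]
    exact Nat.Coprime.mul_right hcopH hcop12
  · intro p q hp hq hpq hpG hqG
    rw [hn1]
    constructor
    · rintro ⟨g, hg⟩
      constructor
      · intro hp1
        by_contra hq1
        exact two_frob_no_edge H K hHK C1 hC1 hk1 C2 hC2 hk2 hn1 hn2 hcopH hcop12 p q hp hq hp1 hq1 g hg
      · intro hq1
        by_contra hp1
        exact two_frob_no_edge H K hHK C1 hC1 hk1 C2 hC2 hk2 hn1 hn2 hcopH hcop12 q p hq hp hq1 hp1 g
          (by rw [hg, mul_comm])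
    · intro hiff
      have hcopq : Nat.Coprime p q := (Nat.coprime_primes hp hq).mpr hpq
      by_cases hp1 : p ∣ Nat.card C1
      · have hq1 := hiff.mp hp1
        haveI := hcyc1
        obtain ⟨c, hc⟩ := exists_orderOf_of_isCyclic (C := ↥C1) (p * q)
          (Nat.Coprime.mul_dvd_of_dvd_of_dvd hcopq hp1 hq1)
        refine ⟨((c : ↥K) : G), ?_⟩
        rw [Subgroup.orderOf_coe, Subgroup.orderOf_coe, hc]
      · have hq1 : ¬ q ∣ Nat.card C1 := fun h => hp1 (hiff.mpr h)
        have hp' : p ∣ Nat.card H ∨ p ∣ Nat.card C2 := by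
          rw [hG] at hpG
          rcases (Nat.Prime.dvd_mul hp).mp hpG with h | h
          · rcases (Nat.Prime.dvd_mul hp).mp h with h | h
            · exact Or.inl h
            · exact absurd h hp1
          · exact Or.inr h
        have hq' : q ∣ Nat.card H ∨ q ∣ Nat.card C2 := by
          rw [hG] at hqG
          rcases (Nat.Prime.dvd_mul hq).mp hqG with h | h
          · rcases (Nat.Prime.dvd_mul hq).mp h with h | h
            · exact Or.inl h
            · exact absurd h hq1
          · exact Or.inr h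
        -- both in H
        have caseB : p ∣ Nat.card H → q ∣ Nat.card H → ∃ g : G, orderOf g = p * q := by
          intro hpH hqH
          haveI : Fact p.Prime := ⟨hp⟩
          haveI : Fact q.Prime := ⟨hq⟩
          have hnilH : Group.IsNilpotent ↥H := by
            haveI := hnil1
            exact Group.nilpotent_of_mulEquiv (Subgroup.subgroupOfEquivOfLe hHK)
          obtain ⟨a, ha⟩ := exists_prime_orderOf_dvd_card' (G := ↥H) p hpH
          obtain ⟨b, hb⟩ := exists_prime_orderOf_dvd_card' (G := ↥H) q hqH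
          have hab : a * b = b * a :=
            Cfsg.Agent.Lib.Helper29.commute_of_isNilpotent_of_coprime (q := p) hnilH a b 1
              (by rw [pow_one]; conv_lhs => rw [← ha]
                  exact pow_orderOf_eq_one a)
              (by rw [hb]; exact hcopq.symm)
          refine ⟨((a * b : ↥H) : G), ?_⟩
          rw [Subgroup.orderOf_coe,
            Commute.orderOf_mul_eq_mul_orderOf_of_coprime hab (by rw [ha, hb]; exact hcopq), ha, hb]
        -- both in C2
        have caseC : p ∣ Nat.card C2 → q ∣ Nat.card C2 → ∃ g : G, orderOf g = p * q := by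
          intro hp2 hq2
          haveI := hcyc2
          obtain ⟨c, hc⟩ := exists_orderOf_of_isCyclic (C := ↥C2) (p * q)
            (Nat.Coprime.mul_dvd_of_dvd_of_dvd hcopq hp2 hq2)
          obtain ⟨g, hg⟩ := exists_orderOf_of_surjective (QuotientGroup.mk' H)
            (QuotientGroup.mk'_surjective H) (c : G ⧸ H)
          exact ⟨g, by rw [hg, Subgroup.orderOf_coe, hc]⟩
        -- mixed
        have caseD : ∀ p q : ℕ, p.Prime → q.Prime → p ≠ q → ¬ q ∣ Nat.card C1 →
            p ∣ Nat.card H → q ∣ Nat.card C2 → ¬ q ∣ Nat.card H →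
            ∃ g : G, orderOf g = p * q := by
          intro p q hp hq hpq hq1 hpH hq2 hqH
          apply two_frob_edge H K hHK C1 hC1 hk1 C2 hC2 hk2 p q hp hq hpq hpH
          · rw [hGH']; exact hq2.mul_left _
          · rw [hKc]
            intro h
            rcases (Nat.Prime.dvd_mul hq).mp h with h | h
            · exact hqH h
            · exact hq1 h
        rcases hp' with hpH | hp2
        · rcases hq' with hqH | hq2
          · exact caseB hpH hqH
          · by_cases hqH : q ∣ Nat.card H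
            · exact caseB hpH hqH
            · exact caseD p q hp hq hpq hq1 hpH hq2 hqH
        · rcases hq' with hqH | hq2
          · by_cases hpH : p ∣ Nat.card H
            · exact caseB hpH hqH
            · obtain ⟨g, hg⟩ := caseD q p hq hp hpq.symm hp1 hqH hp2 hpH
              exact ⟨g, by rw [hg, mul_comm]⟩
          · exact caseC hp2 hq2

end Cfsg.Agent.Lib.Helper21.TwoFrob
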