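import Mathlib
import Cfsg.Agent.Lib.Helper21.TwoFrobD
import Cfsg.Agent.Lib.Helper10.CNNormalSylow

set_option autoImplicit false

namespace Cfsg.Agent.Lib.Helper21.GK

open Cfsg Cfsg.Agent.Lib.Helper21.TwoFrob

/-- all prime divisors of `n` satisfy `P`. -/
def PNum (P : ℕ → Prop) (n : ℕ) : Prop := ∀ p : ℕ, p.Prime → p ∣ n → P p

theorem PNum.of_dvd {P : ℕ → Prop} {m n : ℕ} (h : PNum P n) (hmn : m ∣ n) : PNum P m :=
  fun p hp hpm => h p hp (hpm.trans hmn)

theorem PNum.mul {P : ℕ → Prop} {m n : ℕ} (hm : PNum P m) (hn : PNum P n) : PNum P (m * n) := by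
  intro p hp hpmn
  rcases (Nat.Prime.dvd_mul hp).mp hpmn with h | h
  · exact hm p hp h
  · exact hn p hp h

theorem PNum.pow {P : ℕ → Prop} {m : ℕ} (hm : PNum P m) (k : ℕ) : PNum P (m ^ k) := by
  intro p hp hpmk
  exact hm p hp (hp.dvd_of_dvd_pow hpmk)

theorem PNum.prime {P : ℕ → Prop} {q : ℕ} (hq : q.Prime) (hP : P q) : PNum P q := by
  intro p hp hpq
  rw [(Nat.prime_dvd_prime_iff_eq hp hq).mp hpq]
  exact hP

/-- no commuting pair of elements of prime orders `p`, `q` with `P p`, `Q q`. -/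
def NoEdge (P Q : ℕ → Prop) (X : Type*) [Group X] : Prop :=
  ∀ x y : X, x * y = y * x → ∀ p q : ℕ, p.Prime → q.Prime → P p → Q q →
    orderOf x = p → orderOf y = q → False

theorem NoEdge.symm {P Q : ℕ → Prop} {X : Type*} [Group X] (h : NoEdge P Q X) : NoEdge Q P X :=
  fun x y hxy p q hp hq hP hQ hx hy => h y x hxy.symm q p hq hp hQ hP hy hx

theorem exists_pow_orderOf_prime {X : Type*} [Group X] [Finite X] (x : X) (hx1 : x ≠ 1) :
    ∃ p : ℕ, p.Prime ∧ p ∣ orderOf x ∧ ∃ k : ℕ, orderOf (x ^ k) = p := by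
  have h1 : orderOf x ≠ 1 := fun h => hx1 (orderOf_eq_one_iff.mp h)
  obtain ⟨p, hp, hpd⟩ := Nat.exists_prime_and_dvd h1
  obtain ⟨k, hk⟩ := hpd
  have hpos : 0 < orderOf x := orderOf_pos x
  have hk0 : k ≠ 0 := by
    rintro rfl
    rw [mul_zero] at hk; omega
  refine ⟨p, hp, ⟨k, hk⟩, k, ?_⟩
  rw [orderOf_pow_of_dvd hk0 ⟨p, by rw [hk, mul_comm]⟩, hk]
  exact Nat.mul_div_cancel _ (Nat.pos_of_ne_zero hk0)

theorem NoEdge.eq_one_of_commute {P Q : ℕ → Prop} {X : Type*} [Group X] [Finite X]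
    (h : NoEdge P Q X) (x y : X) (hxy : x * y = y * x) (hx : PNum P (orderOf x))
    (hy : PNum Q (orderOf y)) (hx1 : x ≠ 1) : y = 1 := by
  by_contra hy1
  obtain ⟨p, hp, hpx, k, hk⟩ := exists_pow_orderOf_prime x hx1
  obtain ⟨q, hq, hqy, l, hl⟩ := exists_pow_orderOf_prime y hy1
  have hc : Commute (x ^ k) (y ^ l) := (Commute.pow_pow (show Commute x y from hxy) k l)
  exact h (x ^ k) (y ^ l) hc p q hp hq (hx p hp hpx) (hy q hq hqy) hk hl

theorem NoEdge.of_injective {P Q : ℕ → Prop} {X Y : Type*} [Group X] [Group Y]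
    (h : NoEdge P Q X) (f : Y →* X) (hf : Function.Injective f) : NoEdge P Q Y := by
  intro x y hxy p q hp hq hP hQ hx hy
  refine h (f x) (f y) ?_ p q hp hq hP hQ ?_ ?_
  · rw [← map_mul, ← map_mul, hxy]
  · rw [orderOf_injective f hf, hx]
  · rw [orderOf_injective f hf, hy]

theorem NoEdge.of_surjective {P Q : ℕ → Prop} {X Y : Type*} [Group X] [Finite X] [Group Y]
    (h : NoEdge P Q X) (hPQ : ∀ n, P n → Q n → False) (f : X →* Y)
    (hf : Function.Surjective f) : NoEdge P Q Y := by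
  intro x y hxy p q hp hq hP hQ hx hy
  have hpq : p ≠ q := by
    rintro rfl
    exact hPQ p hP hQ
  have hcop : Nat.Coprime p q := (Nat.coprime_primes hp hq).mpr hpq
  have hxyo : orderOf (x * y) = p * q := by
    rw [Commute.orderOf_mul_eq_mul_orderOf_of_coprime hxy (by rw [hx, hy]; exact hcop), hx, hy]
  obtain ⟨g, hg⟩ := exists_orderOf_of_surjective f hf (x * y)
  rw [hxyo] at hg
  have hao : orderOf (g ^ q) = p := by
    rw [orderOf_pow_of_dvd hq.ne_zero (by rw [hg]; exact dvd_mul_left q p), hg]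
    exact Nat.mul_div_cancel _ hq.pos
  have hbo : orderOf (g ^ p) = q := by
    rw [orderOf_pow_of_dvd hp.ne_zero (by rw [hg]; exact dvd_mul_right p q), hg]
    exact Nat.mul_div_cancel_left _ hp.pos
  exact h (g ^ q) (g ^ p) (by rw [← pow_add, ← pow_add, add_comm]) p q hp hq hP hQ hao hbo

theorem pnum_orderOf_of_pow_mem {P : ℕ → Prop} {X : Type*} [Group X] (N : Subgroup X) [Finite N]
    (x : X) (m : ℕ) (hm : x ^ m ∈ N) (hPm : PNum P m) (hN : PNum P (Nat.card N)) :
    PNum P (orderOf x) := by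
  have h1 : x ^ (m * Nat.card N) = 1 := by
    rw [pow_mul]
    have : (⟨x ^ m, hm⟩ : N) ^ Nat.card N = 1 := pow_card_eq_one'
    exact congrArg Subtype.val this
  exact (hPm.mul hN).of_dvd (orderOf_dvd_of_pow_eq_one h1)

/-- Thompson step: a normal subgroup of `P`-elements is nilpotent when the group contains an
element of prime order `q` with `Q q`. -/
theorem nilpotent_of_noEdge {P Q : ℕ → Prop} {X : Type*} [Group X] [Finite X]
    (h : NoEdge P Q X) (N : Subgroup X) [hNn : N.Normal]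
    (hN : ∀ n ∈ N, PNum P (orderOf n)) (t : X) (q : ℕ) (hq : q.Prime) (hQ : Q q)
    (ht : orderOf t = q) : Group.IsNilpotent N := by
  let φ : N →* N := (MulAut.conjNormal t : MulAut N).toMonoidHom
  have hφ : ∀ n : N, ((φ n : N) : X) = t * n * t⁻¹ := fun n => MulAut.conjNormal_apply t n
  have hiter : ∀ (k : ℕ) (n : N), ((φ^[k] n : N) : X) = t ^ k * n * (t ^ k)⁻¹ := by
    intro k
    induction k with
    | zero => intro n; simp
    | succ k ih =>
      intro n
      rw [Function.iterate_succ_apply', hφ, ih, pow_succ']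
      group
  have ht1 : t ≠ 1 := by
    rintro rfl
    rw [orderOf_one] at ht
    exact hq.ne_one ht.symm
  apply Cfsg.Agent.Lib.Helper8.ThNilp.isNilpotent_of_fpf φ hq
  · intro n
    apply Subtype.ext
    rw [hiter, ← ht, pow_orderOf_eq_one]
    simp
  · intro n hn
    by_contra hn1
    have h1 : t * (n : X) * t⁻¹ = n := by rw [← hφ, hn]
    have h2 : (n : X) * t = t * n := by
      calc (n : X) * t = (t * n * t⁻¹) * t := by rw [h1]
        _ = t * n := by group
    have h3 := h.eq_one_of_commute (n : X) t h2 (hN _ n.2) (by rw [ht]; exact PNum.prime hq hQ)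
      (fun h => hn1 (Subtype.ext h))
    exact ht1 h3

/-- A normal Hall subgroup on which no outside element has a fixed point has a Frobenius
complement with kernel exactly that subgroup. -/
theorem exists_frobenius_complement {P Q : ℕ → Prop} {X : Type*} [Group X] [Finite X]
    (h : NoEdge P Q X) (hPQ : ∀ n, P n → Q n → False) (N : Subgroup X) [hNn : N.Normal]
    (hN1 : N ≠ ⊥) (hN2 : N ≠ ⊤)
    (hNP : PNum P (Nat.card N)) (hNQ : PNum Q N.index) :
    ∃ C : Subgroup X, IsFrobeniusComplement C ∧ frobeniusKernel C = (N : Set X) := by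
  have hcop : Nat.Coprime (Nat.card N) N.index := by
    apply Nat.coprime_of_dvd
    intro k hk h1 h2
    exact hPQ k (hNP k hk h1) (hNQ k hk h2)
  obtain ⟨C, hC⟩ := Subgroup.exists_right_complement'_of_coprime hcop
  have hCcard : Nat.card C = N.index := by
    have h1 := hC.card_mul_card
    have h2 := N.index_mul_card
    have hpos : 0 < Nat.card N := Nat.card_pos
    nlinarith [Nat.eq_of_mul_eq_mul_left hpos (by rw [h1, ← h2, mul_comm] : Nat.card N * Nat.card C = Nat.card N * N.index)]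
  have hC1 : C ≠ ⊥ := by
    intro hb
    apply hN2
    rw [← Subgroup.index_eq_one, ← hCcard, hb, Subgroup.card_bot]
  have hfpf : ∀ e ∈ C, e ≠ 1 → N ⊓ Subgroup.centralizer {e} = ⊥ := by
    intro e he he1
    rw [eq_bot_iff]
    rintro n ⟨hnN, hnc⟩
    rw [Subgroup.mem_bot]
    by_contra hn1
    have hcomm : n * e = e * n := (Subgroup.mem_centralizer_iff.mp hnc e (Set.mem_singleton e)).symm
    have hno : PNum P (orderOf n) := by
      apply hNP.of_dvd
      have := orderOf_dvd_natCard (⟨n, hnN⟩ : N)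
      rwa [Subgroup.orderOf_mk] at this
    have heo : PNum Q (orderOf e) := by
      apply hNQ.of_dvd
      rw [← hCcard]
      have := orderOf_dvd_natCard (⟨e, he⟩ : C)
      rwa [Subgroup.orderOf_mk] at this
    exact he1 (h.eq_one_of_commute n e hcomm hno heo hn1)
  have hFC : IsFrobeniusComplement C :=
    Cfsg.Agent.Lib.Helper10.isFrobeniusComplement_of_fpf N C hC hN1 hC1 hfpf
  refine ⟨C, hFC, ?_⟩
  obtain ⟨K', hK', hK'n, hK'c, -, -⟩ := Cfsg.Agent.CharLib.frob_setup C hFC
  rw [← hK']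
  congr 1
  have hcard : Nat.card K' = Nat.card N := by
    have h1 := hC.card_mul_card
    have h2 := hK'c.card_mul_card
    have hpos : 0 < Nat.card C := Nat.card_pos
    exact Nat.eq_of_mul_eq_mul_right hpos (by rw [h1, h2])
  apply Subgroup.eq_of_le_of_card_ge
  · intro k hk
    apply mem_of_coprime_orderOf
    rw [← Subgroup.index_eq_card]
    refine Nat.Coprime.coprime_dvd_left ?_ hcop
    rw [← hcard]
    have := orderOf_dvd_natCard (⟨k, hk⟩ : K')
    rwa [Subgroup.orderOf_mk] at this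
  · rw [hcard]

end Cfsg.Agent.Lib.Helper21.GK
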