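import Mathlib
import Cfsg.Agent.Lib.Helper21.GKA

set_option autoImplicit false

namespace Cfsg.Agent.Lib.Helper21.GK

open Cfsg Cfsg.Agent.Lib.Helper21.TwoFrob

/-- Generalisation of `two_frob_odd`: a single element of `G/H` acting fixed-point-freely on `K/H`
forces the Frobenius complement `C₁ ≅ K/H` of `K` to have odd order. -/
theorem odd_of_fpf_elt {G : Type*} [Group G] [Finite G] (H K : Subgroup G) [H.Normal] [K.Normal]
    (hHK : H ≤ K)
    (C1 : Subgroup ↥K) (hC1 : IsFrobeniusComplement C1)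
    (hk1 : frobeniusKernel C1 = (H.subgroupOf K : Set ↥K))
    (c2 : G ⧸ H)
    (hf2 : ∀ n ∈ K.map (QuotientGroup.mk' H), c2 * n = n * c2 → n = 1) :
    Odd (Nat.card C1) := by
  classical
  obtain ⟨hn1, hc1, hne1, hf1, hcop1, hnil1⟩ := frob_facts C1 (H.subgroupOf K) hC1 hk1
  have hn2 : (K.map (QuotientGroup.mk' H)).Normal :=
    Subgroup.Normal.map inferInstance _ (QuotientGroup.mk'_surjective H)
  obtain ⟨e, he⟩ := exists_equiv_map H K hHK C1 hc1
  by_contra hodd
  rw [Nat.not_odd_iff_even, even_iff_two_dvd] at hodd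
  haveI : Fact (Nat.Prime 2) := ⟨Nat.prime_two⟩
  obtain ⟨t, ht⟩ := exists_prime_orderOf_dvd_card' (G := ↥C1) 2 hodd
  have ht1 : t ≠ 1 := by
    rintro rfl
    rw [orderOf_one] at ht
    omega
  have ht2 : t * t = 1 := by
    rw [← pow_two, ← ht]; exact pow_orderOf_eq_one t
  -- the conjugate involution
  have hzc : c2 * ((e t : ↥(K.map (QuotientGroup.mk' H))) : G ⧸ H) * c2⁻¹
      ∈ K.map (QuotientGroup.mk' H) := hn2.conj_mem _ (e t).2 c2
  set t' : ↥C1 := e.symm ⟨_, hzc⟩ with ht'def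
  have het' : ((e t' : ↥(K.map (QuotientGroup.mk' H))) : G ⧸ H)
      = c2 * ((e t : ↥(K.map (QuotientGroup.mk' H))) : G ⧸ H) * c2⁻¹ := by
    rw [ht'def, MulEquiv.apply_symm_apply]
  have ht'2 : t' * t' = 1 := by
    apply e.injective
    apply Subtype.ext
    rw [map_mul, map_one, Subgroup.coe_mul, het', Subgroup.coe_one]
    have h1 : ((e t : ↥(K.map (QuotientGroup.mk' H))) : G ⧸ H) * (e t : ↥(K.map (QuotientGroup.mk' H))) = 1 := by
      rw [← Subgroup.coe_mul, ← map_mul, ht2, map_one, Subgroup.coe_one]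
    calc c2 * ((e t : ↥(K.map (QuotientGroup.mk' H))) : G ⧸ H) * c2⁻¹ * (c2 * (e t : ↥(K.map (QuotientGroup.mk' H))) * c2⁻¹)
        = c2 * (((e t : ↥(K.map (QuotientGroup.mk' H))) : G ⧸ H) * (e t : ↥(K.map (QuotientGroup.mk' H)))) * c2⁻¹ := by group
      _ = 1 := by rw [h1]; group
  have ht'1 : t' ≠ 1 := by
    intro h
    have h2 := het'
    rw [h, map_one, Subgroup.coe_one] at h2
    have h3 : ((e t : ↥(K.map (QuotientGroup.mk' H))) : G ⧸ H) = 1 := by
      have : ((e t : ↥(K.map (QuotientGroup.mk' H))) : G ⧸ H) = c2⁻¹ * (c2 * (e t : ↥(K.map (QuotientGroup.mk' H))) * c2⁻¹) * c2 := by group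
      rw [this, ← h2]; group
    apply ht1
    apply e.injective
    apply Subtype.ext
    rw [h3, map_one, Subgroup.coe_one]
  have hCN : ∀ x ∈ C1, x ∈ H.subgroupOf K → x = 1 := by
    intro x hx hxH
    have : x ∈ H.subgroupOf K ⊓ C1 := ⟨hxH, hx⟩
    rwa [hc1.isCompl.inf_eq_bot, Subgroup.mem_bot] at this
  haveI := hn1
  have huniq : (t' : ↥K) = (t : ↥K) :=
    invol_unique C1 (H.subgroupOf K) hne1 hf1 hCN (t' : ↥K) (t : ↥K) t'.2 t.2
      (by rw [← Subgroup.coe_mul, ht'2, Subgroup.coe_one])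
      (by rw [← Subgroup.coe_mul, ht2, Subgroup.coe_one])
      (fun h => ht'1 (Subtype.ext h)) (fun h => ht1 (Subtype.ext h))
  have huniq' : t' = t := Subtype.ext huniq
  rw [huniq'] at het'
  have hcomm : c2 * ((e t : ↥(K.map (QuotientGroup.mk' H))) : G ⧸ H)
      = ((e t : ↥(K.map (QuotientGroup.mk' H))) : G ⧸ H) * c2 := by
    calc c2 * ((e t : ↥(K.map (QuotientGroup.mk' H))) : G ⧸ H)
        = (c2 * ((e t : ↥(K.map (QuotientGroup.mk' H))) : G ⧸ H) * c2⁻¹) * c2 := by group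
      _ = ((e t : ↥(K.map (QuotientGroup.mk' H))) : G ⧸ H) * c2 := by rw [← het']
  have h5 := hf2 _ (e t).2 hcomm
  apply ht1
  apply e.injective
  apply Subtype.ext
  rw [h5, map_one, Subgroup.coe_one]

/-- A nilpotent Frobenius complement of odd order is cyclic. -/
theorem cyclic_of_odd_nilpotent {Γ : Type*} [Group Γ] [Finite Γ] (C N : Subgroup Γ)
    (hC : IsFrobeniusComplement C) (hN : frobeniusKernel C = (N : Set Γ))
    (hodd : Odd (Nat.card C)) (hnilC : Group.IsNilpotent C) : IsCyclic C := by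
  classical
  obtain ⟨hn1, hc1, hne1, hf1, hcop1, hnil1⟩ := frob_facts C N hC hN
  haveI := hn1
  haveI hZ : IsZGroup ↥C := by
    refine ⟨fun p hp P => ?_⟩
    haveI : Fact p.Prime := ⟨hp⟩
    by_cases hpd : p ∣ Nat.card C
    · have hp2 : p ≠ 2 := by
        rintro rfl
        exact (Nat.not_even_iff_odd.mpr hodd) (even_iff_two_dvd.mpr hpd)
      have hpN : ¬ p ∣ Nat.card N := by
        intro h
        have := (Nat.Coprime.coprime_dvd_left h hcop1)
        have h3 : p ∣ Nat.gcd p (Nat.card C) := Nat.dvd_gcd dvd_rfl hpd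
        rw [Nat.Coprime.gcd_eq_one this] at h3
        exact hp.ne_one (Nat.dvd_one.mp h3)
      have hcyc := pgroup_cyclic_of_frob N hne1 hnil1 hf1 hp2 hpN
        ((P : Subgroup ↥C).map C.subtype) (P.2.map _)
      exact isCyclic_of_surjective
        ((P : Subgroup ↥C).equivMapOfInjective C.subtype C.subtype_injective).symm
        (MulEquiv.surjective _)
    · have hcard : Nat.card (P : Subgroup ↥C) = 1 := by
        obtain ⟨k, hk⟩ := IsPGroup.iff_card.mp P.2
        rcases Nat.eq_zero_or_pos k with h0 | hpos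
        · rw [hk, h0, pow_zero]
        · exfalso
          apply hpd
          have h1 : Nat.card (P : Subgroup ↥C) ∣ Nat.card C := Subgroup.card_subgroup_dvd_card _
          rw [hk] at h1
          exact (dvd_pow_self p (by omega)).trans h1
      haveI : Subsingleton (P : Subgroup ↥C) := (Nat.card_eq_one_iff_unique.mp hcard).1
      exact isCyclic_of_subsingleton
  haveI := hnilC
  infer_instance

/-- Commutators centralize a cyclic normal subgroup. -/
theorem comm_mem_centralizer_of_cyclic {Γ : Type*} [Group Γ] (M : Subgroup Γ) [hMn : M.Normal]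
    [hcyc : IsCyclic M] (a b : Γ) : (b * a)⁻¹ * (a * b) ∈ Subgroup.centralizer (M : Set Γ) := by
  obtain ⟨g, hg⟩ := hcyc.exists_generator
  have hgen : ∀ y ∈ M, ∃ i : ℤ, (g : Γ) ^ i = y := by
    intro y hy
    obtain ⟨i, hi⟩ := Subgroup.mem_zpowers_iff.mp (hg ⟨y, hy⟩)
    exact ⟨i, by rw [← Subgroup.coe_zpow, hi]⟩
  obtain ⟨i, hi⟩ := hgen _ (hMn.conj_mem _ g.2 a)
  obtain ⟨j, hj⟩ := hgen _ (hMn.conj_mem _ g.2 b)
  have h1 : (a * b) * (g : Γ) * (a * b)⁻¹ = (g : Γ) ^ (i * j) := by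
    calc (a * b) * (g : Γ) * (a * b)⁻¹ = a * (b * (g : Γ) * b⁻¹) * a⁻¹ := by group
      _ = a * (g : Γ) ^ j * a⁻¹ := by rw [hj]
      _ = (a * (g : Γ) * a⁻¹) ^ j := by rw [conj_zpow]
      _ = (g : Γ) ^ (i * j) := by rw [← hi, zpow_mul]
  have h2 : (b * a) * (g : Γ) * (b * a)⁻¹ = (g : Γ) ^ (i * j) := by
    calc (b * a) * (g : Γ) * (b * a)⁻¹ = b * (a * (g : Γ) * a⁻¹) * b⁻¹ := by group
      _ = b * (g : Γ) ^ i * b⁻¹ := by rw [hi]
      _ = (b * (g : Γ) * b⁻¹) ^ i := by rw [conj_zpow]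
      _ = (g : Γ) ^ (i * j) := by rw [← hj, mul_comm i j, zpow_mul]
  have hcg : (b * a)⁻¹ * (a * b) * (g : Γ) = (g : Γ) * ((b * a)⁻¹ * (a * b)) := by
    calc (b * a)⁻¹ * (a * b) * (g : Γ)
        = (b * a)⁻¹ * ((a * b) * (g : Γ) * (a * b)⁻¹) * (a * b) := by group
      _ = (b * a)⁻¹ * ((b * a) * (g : Γ) * (b * a)⁻¹) * (a * b) := by rw [h1, h2]
      _ = (g : Γ) * ((b * a)⁻¹ * (a * b)) := by group
  rw [Subgroup.mem_centralizer_iff]
  intro y hy
  obtain ⟨k, rfl⟩ := hgen y hy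
  exact ((Commute.zpow_left (show Commute (g : Γ) ((b * a)⁻¹ * (a * b)) from hcg.symm) k)).eq

end Cfsg.Agent.Lib.Helper21.GK
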