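import Mathlib
import Cfsg.Agent.Lib.Helper21.GKB
import Cfsg.Agent.Lib.Helper1.Fitting
import Cfsg.Agent.S0044

set_option autoImplicit false

namespace Cfsg.Agent.Lib.Helper21.GK

open Cfsg Cfsg.Agent.Lib.Helper21.TwoFrob Cfsg.Agent.Lib.Helper1

theorem fitting_ne_bot (X : Type*) [Group X] [Finite X] [Group.IsSolvable X] [Nontrivial X] :
    Cfsg.fittingSubgroup X ≠ ⊥ := by
  intro h
  have h1 := Cfsg.Agent.S0044.result (G := X)
  rw [h] at h1
  have h2 : Subgroup.centralizer ((⊥ : Subgroup X) : Set X) = ⊤ := by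
    rw [Subgroup.centralizer_eq_top_iff_subset]
    intro x hx
    have : x = 1 := by simpa using hx
    rw [this]; exact Subgroup.one_mem _
  rw [h2] at h1
  exact bot_ne_top (top_le_iff.mp h1)

theorem gk_aux {G : Type*} [Group G] [Finite G] [hsol : Group.IsSolvable G] (P Q : ℕ → Prop)
    (hPQ : ∀ n, P n → Q n → False)
    (hcover : ∀ p : ℕ, p.Prime → p ∣ Nat.card G → P p ∨ Q p)
    (hedge : NoEdge P Q G) (hF : PNum P (Nat.card (Cfsg.fittingSubgroup G)))
    (hq : ∃ q : ℕ, q.Prime ∧ Q q ∧ q ∣ Nat.card G) :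
    (∃ C : Subgroup G, Cfsg.IsFrobeniusComplement C) ∨
    (∃ (H K : Subgroup G) (_ : H.Normal), K.Normal ∧ H < K ∧
      (∃ C : Subgroup ↥K, Cfsg.IsFrobeniusComplement C ∧
        Cfsg.frobeniusKernel C = (H.subgroupOf K : Set ↥K)) ∧
      (∃ C : Subgroup (G ⧸ H), Cfsg.IsFrobeniusComplement C ∧
        Cfsg.frobeniusKernel C = (K.map (QuotientGroup.mk' H) : Set (G ⧸ H)))) := by
  classical
  obtain ⟨q, hq, hQq, hqG⟩ := hq
  haveI : Fact q.Prime := ⟨hq⟩
  obtain ⟨t, ht⟩ := exists_prime_orderOf_dvd_card' (G := G) q hqG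
  haveI hFn : (Cfsg.fittingSubgroup G).Normal := fittingSubgroup_normal G
  have hFnil : Group.IsNilpotent (Cfsg.fittingSubgroup G) := fittingSubgroup_isNilpotent G
  haveI : Nontrivial G := by
    rw [← Finite.one_lt_card_iff_nontrivial]
    exact lt_of_lt_of_le hq.one_lt (Nat.le_of_dvd Nat.card_pos hqG)
  have hFne : Cfsg.fittingSubgroup G ≠ ⊥ := fitting_ne_bot G
  have hqF : ¬ q ∣ Nat.card (Cfsg.fittingSubgroup G) := fun h => hPQ q (hF q hq h) hQq
  have hcardG : Nat.card G = Nat.card (G ⧸ Cfsg.fittingSubgroup G) * Nat.card (Cfsg.fittingSubgroup G) :=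
    Subgroup.card_eq_card_quotient_mul_card_subgroup _
  have hqB : q ∣ Nat.card (G ⧸ Cfsg.fittingSubgroup G) := by
    rw [hcardG] at hqG
    exact ((Nat.Prime.dvd_mul hq).mp hqG).resolve_right hqF
  have hFtop : Cfsg.fittingSubgroup G ≠ ⊤ := by
    intro h
    have h1 : (Cfsg.fittingSubgroup G).index = 1 := by rw [h]; exact Subgroup.index_top
    rw [Subgroup.index_eq_card] at h1
    rw [h1] at hqB
    exact hq.ne_one (Nat.dvd_one.mp hqB)
  have hedgeB : NoEdge P Q (G ⧸ Cfsg.fittingSubgroup G) :=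
    hedge.of_surjective hPQ (QuotientGroup.mk' _) (QuotientGroup.mk'_surjective _)
  by_cases hall : PNum Q (Cfsg.fittingSubgroup G).index
  · obtain ⟨C, hC, -⟩ := exists_frobenius_complement hedge hPQ (Cfsg.fittingSubgroup G) hFne hFtop hF hall
    exact Or.inl ⟨C, hC⟩
  right
  unfold PNum at hall
  push Not at hall
  obtain ⟨p, hp, hpidx, hnQ⟩ := hall
  have hpB : p ∣ Nat.card (G ⧸ Cfsg.fittingSubgroup G) := hpidx
  have hBG : Nat.card (G ⧸ Cfsg.fittingSubgroup G) ∣ Nat.card G := Dvd.intro _ hcardG.symm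
  have hPp : P p := (hcover p hp (hpB.trans hBG)).resolve_right hnQ
  haveI : Fact p.Prime := ⟨hp⟩
  obtain ⟨s, hs⟩ := exists_prime_orderOf_dvd_card' (G := G ⧸ Cfsg.fittingSubgroup G) p hpB
  have hs1 : s ≠ 1 := by
    rintro rfl
    rw [orderOf_one] at hs
    exact hp.ne_one hs.symm
  haveI hMbn : (Cfsg.fittingSubgroup (G ⧸ Cfsg.fittingSubgroup G)).Normal := fittingSubgroup_normal _
  have hMbnil : Group.IsNilpotent (Cfsg.fittingSubgroup (G ⧸ Cfsg.fittingSubgroup G)) :=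
    fittingSubgroup_isNilpotent _
  haveI : Nontrivial (G ⧸ Cfsg.fittingSubgroup G) := by
    rw [← Finite.one_lt_card_iff_nontrivial]
    exact lt_of_lt_of_le hq.one_lt (Nat.le_of_dvd Nat.card_pos hqB)
  have hMbne : Cfsg.fittingSubgroup (G ⧸ Cfsg.fittingSubgroup G) ≠ ⊥ := fitting_ne_bot _
  -- Mb is a Q-group
  have hMQ : PNum Q (Nat.card (Cfsg.fittingSubgroup (G ⧸ Cfsg.fittingSubgroup G))) := by
    intro r hr hrM
    have hrG : r ∣ Nat.card G := (hrM.trans (Subgroup.card_subgroup_dvd_card _)).trans hBG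
    rcases hcover r hr hrG with hPr | hQr
    swap
    · exact hQr
    exfalso
    haveI : Fact r.Prime := ⟨hr⟩
    obtain ⟨V, hVn, hVM, hV1, -, hVp⟩ := exists_normal_abelian_pgroup
      (Cfsg.fittingSubgroup (G ⧸ Cfsg.fittingSubgroup G)) hMbnil r hrM
    haveI := hVn
    have hPreN : (V.comap (QuotientGroup.mk' (Cfsg.fittingSubgroup G))).Normal := inferInstance
    have hPre : ∀ n ∈ V.comap (QuotientGroup.mk' (Cfsg.fittingSubgroup G)), PNum P (orderOf n) := by
      intro n hn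
      obtain ⟨k, hk⟩ := hVp ⟨QuotientGroup.mk' (Cfsg.fittingSubgroup G) n, hn⟩
      have h1 : n ^ r ^ k ∈ Cfsg.fittingSubgroup G := by
        rw [← QuotientGroup.eq_one_iff, QuotientGroup.mk_pow]
        exact congrArg Subtype.val hk
      exact pnum_orderOf_of_pow_mem (Cfsg.fittingSubgroup G) n (r ^ k) h1 ((PNum.prime hr hPr).pow k) hF
    have hnil := nilpotent_of_noEdge hedge (V.comap (QuotientGroup.mk' (Cfsg.fittingSubgroup G)))
      hPre t q hq hQq ht
    have hle : V.comap (QuotientGroup.mk' (Cfsg.fittingSubgroup G)) ≤ Cfsg.fittingSubgroup G :=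
      le_fittingSubgroup hPreN hnil
    apply hV1
    rw [eq_bot_iff]
    intro v hv
    obtain ⟨g, rfl⟩ := QuotientGroup.mk'_surjective (Cfsg.fittingSubgroup G) v
    have : g ∈ Cfsg.fittingSubgroup G := hle hv
    rw [Subgroup.mem_bot]
    exact (QuotientGroup.eq_one_iff g).mpr this
  have hsM : s ∉ Cfsg.fittingSubgroup (G ⧸ Cfsg.fittingSubgroup G) := by
    intro h
    have := orderOf_dvd_natCard (⟨s, h⟩ : Cfsg.fittingSubgroup (G ⧸ Cfsg.fittingSubgroup G))
    rw [Subgroup.orderOf_mk, hs] at this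
    exact hPQ p hPp (hMQ p hp this)
  -- the preimage M
  haveI hMn : ((Cfsg.fittingSubgroup (G ⧸ Cfsg.fittingSubgroup G)).comap
      (QuotientGroup.mk' (Cfsg.fittingSubgroup G))).Normal := inferInstance
  have hFM : Cfsg.fittingSubgroup G ≤ (Cfsg.fittingSubgroup (G ⧸ Cfsg.fittingSubgroup G)).comap
      (QuotientGroup.mk' (Cfsg.fittingSubgroup G)) := by
    intro x hx
    rw [Subgroup.mem_comap, QuotientGroup.mk'_apply, (QuotientGroup.eq_one_iff x).mpr hx]
    exact Subgroup.one_mem _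
  have hMmap : ((Cfsg.fittingSubgroup (G ⧸ Cfsg.fittingSubgroup G)).comap
      (QuotientGroup.mk' (Cfsg.fittingSubgroup G))).map (QuotientGroup.mk' (Cfsg.fittingSubgroup G))
      = Cfsg.fittingSubgroup (G ⧸ Cfsg.fittingSubgroup G) :=
    Subgroup.map_comap_eq_self_of_surjective (QuotientGroup.mk'_surjective _) _
  have hFltM : Cfsg.fittingSubgroup G < (Cfsg.fittingSubgroup (G ⧸ Cfsg.fittingSubgroup G)).comap
      (QuotientGroup.mk' (Cfsg.fittingSubgroup G)) := by
    refine lt_of_le_of_ne hFM ?_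
    intro h
    apply hMbne
    rw [← hMmap, ← h, eq_bot_iff]
    rintro _ ⟨x, hx, rfl⟩
    rw [Subgroup.mem_bot]
    exact (QuotientGroup.eq_one_iff x).mpr hx
  have hMcard : Nat.card ((Cfsg.fittingSubgroup (G ⧸ Cfsg.fittingSubgroup G)).comap
      (QuotientGroup.mk' (Cfsg.fittingSubgroup G)))
      = Nat.card (Cfsg.fittingSubgroup (G ⧸ Cfsg.fittingSubgroup G)) * Nat.card (Cfsg.fittingSubgroup G) := by
    have h1 : ((Cfsg.fittingSubgroup (G ⧸ Cfsg.fittingSubgroup G)).comap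
      (QuotientGroup.mk' (Cfsg.fittingSubgroup G))).index
        = (Cfsg.fittingSubgroup (G ⧸ Cfsg.fittingSubgroup G)).index :=
      Subgroup.index_comap_of_surjective _ (QuotientGroup.mk'_surjective _)
    have h2 := ((Cfsg.fittingSubgroup (G ⧸ Cfsg.fittingSubgroup G)).comap
      (QuotientGroup.mk' (Cfsg.fittingSubgroup G))).index_mul_card
    have h3 := (Cfsg.fittingSubgroup (G ⧸ Cfsg.fittingSubgroup G)).index_mul_card
    have hpos : 0 < ((Cfsg.fittingSubgroup (G ⧸ Cfsg.fittingSubgroup G)).comap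
      (QuotientGroup.mk' (Cfsg.fittingSubgroup G))).index := Nat.pos_of_ne_zero Subgroup.index_ne_zero_of_finite
    apply Nat.eq_of_mul_eq_mul_left hpos
    rw [h2, hcardG, ← h3, h1]; ring
  -- Frobenius structure of M
  have hedgeM : NoEdge P Q ↥((Cfsg.fittingSubgroup (G ⧸ Cfsg.fittingSubgroup G)).comap
      (QuotientGroup.mk' (Cfsg.fittingSubgroup G))) := hedge.of_injective (Subgroup.subtype _) (Subgroup.subtype_injective _)
  have hFMcard : Nat.card ((Cfsg.fittingSubgroup G).subgroupOf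
      ((Cfsg.fittingSubgroup (G ⧸ Cfsg.fittingSubgroup G)).comap
      (QuotientGroup.mk' (Cfsg.fittingSubgroup G)))) = Nat.card (Cfsg.fittingSubgroup G) :=
    Nat.card_congr (Subgroup.subgroupOfEquivOfLe hFM).toEquiv
  have hFMidx : ((Cfsg.fittingSubgroup G).subgroupOf
      ((Cfsg.fittingSubgroup (G ⧸ Cfsg.fittingSubgroup G)).comap
      (QuotientGroup.mk' (Cfsg.fittingSubgroup G)))).index
      = Nat.card (Cfsg.fittingSubgroup (G ⧸ Cfsg.fittingSubgroup G)) := by
    have h1 := ((Cfsg.fittingSubgroup G).subgroupOf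
      ((Cfsg.fittingSubgroup (G ⧸ Cfsg.fittingSubgroup G)).comap
      (QuotientGroup.mk' (Cfsg.fittingSubgroup G)))).index_mul_card
    rw [hFMcard, hMcard] at h1
    exact Nat.eq_of_mul_eq_mul_right Nat.card_pos h1
  obtain ⟨C1, hC1, hk1⟩ := exists_frobenius_complement hedgeM hPQ ((Cfsg.fittingSubgroup G).subgroupOf
      ((Cfsg.fittingSubgroup (G ⧸ Cfsg.fittingSubgroup G)).comap
      (QuotientGroup.mk' (Cfsg.fittingSubgroup G))))
    (by
      intro h
      apply hFne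
      rw [← Subgroup.card_eq_one, ← hFMcard, h, Subgroup.card_bot])
    (by
      intro h
      rw [Subgroup.subgroupOf_eq_top] at h
      exact absurd (le_antisymm hFM h) (ne_of_lt hFltM))
    (by rw [hFMcard]; exact hF) (by rw [hFMidx]; exact hMQ)
  obtain ⟨hnn1, hc1, hne1, hf1, hcop1, hnil1⟩ := frob_facts C1 _ hC1 hk1
  obtain ⟨e, he⟩ := exists_equiv_map (Cfsg.fittingSubgroup G) _ hFM C1 hc1
  have hsf : ∀ n ∈ ((Cfsg.fittingSubgroup (G ⧸ Cfsg.fittingSubgroup G)).comap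
      (QuotientGroup.mk' (Cfsg.fittingSubgroup G))).map (QuotientGroup.mk' (Cfsg.fittingSubgroup G)),
      s * n = n * s → n = 1 := by
    intro n hn hcomm
    rw [hMmap] at hn
    have hno : PNum Q (orderOf n) := by
      apply hMQ.of_dvd
      have := orderOf_dvd_natCard (⟨n, hn⟩ : Cfsg.fittingSubgroup (G ⧸ Cfsg.fittingSubgroup G))
      rwa [Subgroup.orderOf_mk] at this
    exact hedgeB.eq_one_of_commute s n hcomm (by rw [hs]; exact PNum.prime hp hPp) hno hs1
  have hodd := odd_of_fpf_elt (Cfsg.fittingSubgroup G) _ hFM C1 hC1 hk1 s hsf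
  have hnilC1 : Group.IsNilpotent C1 := by
    haveI := hMbnil
    exact Group.nilpotent_of_mulEquiv ((MulEquiv.subgroupCongr hMmap.symm).trans e.symm)
  have hcyc1 := cyclic_of_odd_nilpotent C1 _ hC1 hk1 hodd hnilC1
  haveI hcycM : IsCyclic ↥(Cfsg.fittingSubgroup (G ⧸ Cfsg.fittingSubgroup G)) := by
    haveI := hcyc1
    exact isCyclic_of_surjective (e.trans (MulEquiv.subgroupCongr hMmap)) (MulEquiv.surjective _)
  -- commutators lie in Mb
  have hcomm : ∀ a b : G ⧸ Cfsg.fittingSubgroup G,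
      (b * a)⁻¹ * (a * b) ∈ Cfsg.fittingSubgroup (G ⧸ Cfsg.fittingSubgroup G) := fun a b =>
    Cfsg.Agent.S0044.result (G := G ⧸ Cfsg.fittingSubgroup G)
      (comm_mem_centralizer_of_cyclic _ a b)
  have hidx : PNum P (Cfsg.fittingSubgroup (G ⧸ Cfsg.fittingSubgroup G)).index := by
    intro r hr hrI
    have hrG : r ∣ Nat.card G := (hrI.trans (Subgroup.index_dvd_card _)).trans hBG
    rcases hcover r hr hrG with hPr | hQr
    · exact hPr
    exfalso
    letI : CommGroup ((G ⧸ Cfsg.fittingSubgroup G) ⧸ Cfsg.fittingSubgroup (G ⧸ Cfsg.fittingSubgroup G)) :=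
      { (inferInstance : Group ((G ⧸ Cfsg.fittingSubgroup G) ⧸ Cfsg.fittingSubgroup (G ⧸ Cfsg.fittingSubgroup G))) with
        mul_comm := by
          intro a b
          induction a using QuotientGroup.induction_on with
          | H a =>
          induction b using QuotientGroup.induction_on with
          | H b =>
          rw [← QuotientGroup.mk_mul, ← QuotientGroup.mk_mul, eq_comm, QuotientGroup.eq]
          exact hcomm a b }
    haveI : Fact r.Prime := ⟨hr⟩
    obtain ⟨y, hy⟩ := exists_prime_orderOf_dvd_card'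
      (G := (G ⧸ Cfsg.fittingSubgroup G) ⧸ Cfsg.fittingSubgroup (G ⧸ Cfsg.fittingSubgroup G)) r
      (by rwa [← Subgroup.index_eq_card])
    have hRn : ((Subgroup.zpowers y).comap
        (QuotientGroup.mk' (Cfsg.fittingSubgroup (G ⧸ Cfsg.fittingSubgroup G)))).Normal :=
      Subgroup.Normal.comap (Subgroup.normal_of_isMulCommutative _) _
    have hRel : ∀ n ∈ (Subgroup.zpowers y).comap
        (QuotientGroup.mk' (Cfsg.fittingSubgroup (G ⧸ Cfsg.fittingSubgroup G))), PNum Q (orderOf n) := by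
      intro n hn
      obtain ⟨i, hi⟩ := Subgroup.mem_zpowers_iff.mp hn
      have h1 : n ^ r ∈ Cfsg.fittingSubgroup (G ⧸ Cfsg.fittingSubgroup G) := by
        rw [← QuotientGroup.eq_one_iff, QuotientGroup.mk_pow]
        have h2 : (QuotientGroup.mk n : (G ⧸ Cfsg.fittingSubgroup G) ⧸ Cfsg.fittingSubgroup (G ⧸ Cfsg.fittingSubgroup G)) = y ^ i := hi.symm
        rw [h2, ← zpow_natCast, ← zpow_mul, mul_comm, zpow_mul, zpow_natCast, ← hy, pow_orderOf_eq_one,
          one_zpow]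
      exact pnum_orderOf_of_pow_mem _ n r h1 (PNum.prime hr hQr) hMQ
    have hnil := nilpotent_of_noEdge hedgeB.symm _ hRel s p hp hPp hs
    have hle := le_fittingSubgroup hRn hnil
    obtain ⟨g, rfl⟩ := QuotientGroup.mk'_surjective _ y
    have hgR : g ∈ (Subgroup.zpowers (QuotientGroup.mk' (Cfsg.fittingSubgroup (G ⧸ Cfsg.fittingSubgroup G)) g)).comap
        (QuotientGroup.mk' (Cfsg.fittingSubgroup (G ⧸ Cfsg.fittingSubgroup G))) :=
      Subgroup.mem_zpowers _
    have hgM := hle hgR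
    have hy1 : QuotientGroup.mk' (Cfsg.fittingSubgroup (G ⧸ Cfsg.fittingSubgroup G)) g = 1 :=
      (QuotientGroup.eq_one_iff g).mpr hgM
    rw [hy1, orderOf_one] at hy
    exact hr.ne_one hy.symm
  have hMbtop : Cfsg.fittingSubgroup (G ⧸ Cfsg.fittingSubgroup G) ≠ ⊤ :=
    fun h => hsM (h ▸ Subgroup.mem_top s)
  obtain ⟨C2, hC2, hk2⟩ := exists_frobenius_complement hedgeB.symm (fun n h1 h2 => hPQ n h2 h1)
    (Cfsg.fittingSubgroup (G ⧸ Cfsg.fittingSubgroup G)) hMbne hMbtop hMQ hidx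
  exact ⟨Cfsg.fittingSubgroup G, _, hFn, hMn, hFltM, ⟨C1, hC1, hk1⟩, ⟨C2, hC2, by rw [hk2, hMmap]⟩⟩


/-- **Gruenberg–Kegel, solvable case** (statement S3857). -/
theorem gk_solvable {G : Type*} [Group G] [Finite G] (hsol : Group.IsSolvable G)
    (hdisc : (∃ A : Set ℕ, (∃ a ∈ A, a.Prime ∧ a ∣ Nat.card G) ∧ (∃ b ∉ A, b.Prime ∧ b ∣ Nat.card G) ∧
      ∀ a ∈ A, ∀ b ∉ A, a.Prime → b.Prime → a ∣ Nat.card G → b ∣ Nat.card G →
        ¬ ∃ g : G, orderOf g = a * b)) :
    (∃ C : Subgroup G, Cfsg.IsFrobeniusComplement C) ∨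
    (∃ (H K : Subgroup G) (_ : H.Normal), K.Normal ∧ H < K ∧
      (∃ C : Subgroup ↥K, Cfsg.IsFrobeniusComplement C ∧
        Cfsg.frobeniusKernel C = (H.subgroupOf K : Set ↥K)) ∧
      (∃ C : Subgroup (G ⧸ H), Cfsg.IsFrobeniusComplement C ∧
        Cfsg.frobeniusKernel C = (K.map (QuotientGroup.mk' H) : Set (G ⧸ H)))) := by
  classical
  obtain ⟨A, ⟨a, haA, ha, haG⟩, ⟨b, hbA, hb, hbG⟩, hno⟩ := hdisc
  have hedge : NoEdge (· ∈ A) (· ∉ A) G := by
    intro x y hxy p q hp hq hP hQ hx hy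
    have hpq : p ≠ q := by
      rintro rfl
      exact hQ hP
    have hcop : Nat.Coprime p q := (Nat.coprime_primes hp hq).mpr hpq
    apply hno p hP q hQ hp hq (hx ▸ orderOf_dvd_natCard x) (hy ▸ orderOf_dvd_natCard y)
    refine ⟨x * y, ?_⟩
    rw [Commute.orderOf_mul_eq_mul_orderOf_of_coprime hxy (by rw [hx, hy]; exact hcop), hx, hy]
  have hFnil : Group.IsNilpotent (Cfsg.fittingSubgroup G) := fittingSubgroup_isNilpotent G
  have hdich : PNum (· ∈ A) (Nat.card (Cfsg.fittingSubgroup G)) ∨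
      PNum (· ∉ A) (Nat.card (Cfsg.fittingSubgroup G)) := by
    by_contra hcon
    rw [not_or] at hcon
    obtain ⟨h1, h2⟩ := hcon
    unfold PNum at h1 h2
    push Not at h1 h2
    obtain ⟨p, hp, hpF, hpA⟩ := h1
    obtain ⟨q, hq, hqF, hqA⟩ := h2
    haveI : Fact p.Prime := ⟨hp⟩
    haveI : Fact q.Prime := ⟨hq⟩
    obtain ⟨x, hx⟩ := exists_prime_orderOf_dvd_card' (G := ↥(Cfsg.fittingSubgroup G)) p hpF
    obtain ⟨y, hy⟩ := exists_prime_orderOf_dvd_card' (G := ↥(Cfsg.fittingSubgroup G)) q hqF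
    have hpq : p ≠ q := by
      rintro rfl
      exact hpA hqA
    have hcop : Nat.Coprime p q := (Nat.coprime_primes hp hq).mpr hpq
    have hxy : x * y = y * x :=
      Cfsg.Agent.Lib.Helper29.commute_of_isNilpotent_of_coprime (q := p) hFnil x y 1
        (by rw [pow_one]; conv_lhs => rw [← hx]
            exact pow_orderOf_eq_one x)
        (by rw [hy]; exact hcop.symm)
    exact hedge (y : G) (x : G) (by
        have := congrArg Subtype.val hxy
        simpa using this.symm) q p hq hp hqA hpA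
      (by rw [Subgroup.orderOf_coe, hy]) (by rw [Subgroup.orderOf_coe, hx])
  rcases hdich with hF | hF
  · exact gk_aux (· ∈ A) (· ∉ A) (fun n h1 h2 => h2 h1) (fun p _ _ => em (p ∈ A)) hedge hF
      ⟨b, hb, hbA, hbG⟩
  · exact gk_aux (· ∉ A) (· ∈ A) (fun n h1 h2 => h1 h2) (fun p _ _ => (em (p ∈ A)).symm) hedge.symm hF
      ⟨a, ha, haA, haG⟩

end Cfsg.Agent.Lib.Helper21.GK
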