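import Mathlib
import Cfsg.Prelude.Def_Blocks
import Cfsg.Agent.Lib.Helper21.ESChar
import Cfsg.Agent.Lib.Helper21.GalConjA

set_option autoImplicit false

namespace Cfsg.Agent.Lib.Helper21.GagF

open Cfsg Cfsg.Agent.CharLib Cfsg.Agent.Lib.Helper6 Cfsg.Agent.Lib.Helper24 Cfsg.Agent.Lib.Helper6.CTriple
open Cfsg.Agent.Lib.Helper21.ES Cfsg.Agent.Lib.Helper21.GalConj
open scoped ComplexConjugate

universe u

/-- (F) central-type criterion -/
theorem exists_faithful_fully_ramified {H : Type u} [Group H] [Finite H]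
    (mu : Subgroup.center H →* ℂˣ) (hmu : Function.Injective mu)
    (hstar : ∀ x : H, x ∉ Subgroup.center H →
      ∃ y : H, x * y * x⁻¹ * y⁻¹ ∈ Subgroup.center H ∧ x * y * x⁻¹ * y⁻¹ ≠ 1) :
    ∃ χ : Cfsg.IrrCharacter H, (∀ h : H, (χ : H → ℂ) h = (χ : H → ℂ) 1 → h = 1) ∧
      (Cfsg.charDegree (χ : H → ℂ)) ^ 2 = (Subgroup.center H).index := by
  classical
  let _ : Fintype H := Fintype.ofFinite H
  let _ : Fintype (Subgroup.center H) := Fintype.ofFinite _
  have hZc : Subgroup.center H ≤ Subgroup.center H := le_refl _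
  let θ : Subgroup.center H → ℂ := fun z => ((mu z : ℂˣ) : ℂ)
  have hθ : IsIrrCharacter (Subgroup.center H) θ := isIrrCharacter_of_hom mu
  have hθ1 : θ 1 = 1 := by simp [θ]
  have hne : indFun (Subgroup.center H) θ ≠ 0 := by
    intro h0
    have h1 := indFun_central_mem (Subgroup.center H) hZc θ 1
    rw [Subgroup.coe_one, h0, Pi.zero_apply, hθ1, mul_one] at h1
    have : (Subgroup.center H).index = 0 := by exact_mod_cast h1.symm
    exact Subgroup.index_ne_zero_of_finite this
  obtain ⟨χf, hχirr, hχne⟩ :=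
    IsCharacter.exists_constituent (IsCharacter.indFun (Subgroup.center H)
      (IsIrrCharacter.isCharacter hθ)) hne
  obtain ⟨nu, hnu0⟩ := exists_centralHom (⟨χf, hχirr⟩ : IrrCharacter H) (Subgroup.center H) hZc
  have hnu : ∀ (z : Subgroup.center H) (e : H), χf ((z : H) * e) = ((nu z : ℂˣ) : ℂ) * χf e := hnu0
  have hnu1 : ∀ z : Subgroup.center H, χf (z : H) = ((nu z : ℂˣ) : ℂ) * χf 1 := by
    intro z
    have := hnu z 1
    rwa [mul_one] at this
  have hres : (fun h : Subgroup.center H => χf h) =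
      (χf 1) • (fun z : Subgroup.center H => ((nu z : ℂˣ) : ℂ)) := by
    funext z
    rw [Pi.smul_apply, smul_eq_mul, mul_comm]
    exact hnu1 z
  have hfr := frobenius_reciprocity (Subgroup.center H) θ
    (IsCharacter.isClassFunction (IsIrrCharacter.isCharacter hχirr))
  rw [hfr, hres, classInner_smul_right, classInner_irr hθ (isIrrCharacter_of_hom nu)] at hχne
  have hnumu : θ = fun z => ((nu z : ℂˣ) : ℂ) := by
    by_contra hcon
    rw [if_neg hcon, mul_zero] at hχne
    exact hχne rfl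
  have hnu' : ∀ z, nu z = mu z := fun z => Units.ext (congrFun hnumu z).symm
  have hcls := IsCharacter.isClassFunction (IsIrrCharacter.isCharacter hχirr)
  have hvan : ∀ g : H, g ∉ Subgroup.center H → χf g = 0 := by
    intro g hg
    obtain ⟨y, hyZ, hy1⟩ := hstar g hg
    set c : Subgroup.center H := ⟨g * y * g⁻¹ * y⁻¹, hyZ⟩ with hcdef
    have h1 := hnu c (y * g * y⁻¹)
    have h2 : (c : H) * (y * g * y⁻¹) = g := by
      rw [hcdef]
      show g * y * g⁻¹ * y⁻¹ * (y * g * y⁻¹) = g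
      group
    have h3 : χf (y * g * y⁻¹) = χf g := hcls g y
    rw [h2, h3] at h1
    have hc1 : ((nu c : ℂˣ) : ℂ) ≠ 1 := by
      rw [hnu' c]
      intro h
      have hlc : mu c = 1 := Units.ext h
      have hc : c = 1 := hmu (by rw [hlc, map_one])
      exact hy1 (congrArg Subtype.val hc)
    by_contra hχg
    apply hc1
    have h5 : ((nu c : ℂˣ) : ℂ) * χf g = 1 * χf g := by rw [one_mul]; exact h1.symm
    exact mul_right_cancel₀ hχg h5
  refine ⟨⟨χf, hχirr⟩, ?_, ?_⟩
  · intro h hh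
    have hχ1 : χf 1 ≠ 0 := irr_apply_one_ne_zero (⟨χf, hχirr⟩ : IrrCharacter H)
    have hhZ : h ∈ Subgroup.center H := by
      by_contra hcon
      have := hvan h hcon
      change χf h = χf 1 at hh
      rw [this] at hh
      exact hχ1 hh.symm
    have h1 := hnu1 ⟨h, hhZ⟩
    change χf h = _ at h1
    change χf h = χf 1 at hh
    rw [hh] at h1
    have h2 : ((nu ⟨h, hhZ⟩ : ℂˣ) : ℂ) = 1 := by
      have : ((nu ⟨h, hhZ⟩ : ℂˣ) : ℂ) * χf 1 = 1 * χf 1 := by rw [one_mul]; exact h1.symm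
      exact mul_right_cancel₀ hχ1 this
    have h3 : mu ⟨h, hhZ⟩ = 1 := by
      rw [← hnu']
      exact Units.ext h2
    have h4 : (⟨h, hhZ⟩ : Subgroup.center H) = 1 := hmu (by rw [h3, map_one])
    exact congrArg Subtype.val h4
  · have h1 := card_center_mul_charDegree_sq_of_vanish (⟨χf, hχirr⟩ : IrrCharacter H) hvan
    have h2 := Subgroup.card_mul_index (Subgroup.center H)
    rw [← h2] at h1
    exact Nat.eq_of_mul_eq_mul_left Nat.card_pos h1

end Cfsg.Agent.Lib.Helper21.GagF
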