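import Mathlib
import Cfsg.Agent.Lib.Helper21.GagDefs

set_option autoImplicit false

namespace Cfsg.Agent.Lib.Helper21.GagW4

open RegularWreathProduct Cfsg.Agent.Lib.Helper21.Gag

universe u

variable {H : Type u} [Group H] (p : ℕ) [NeZero p] (Z : Subgroup H) (lam : H → ℂˣ)

theorem eps_injective : Function.Injective (eps p) := by
  intro a b hab
  have h1 : ((eps p a : ℂˣ) : ℂ) = ((eps p b : ℂˣ) : ℂ) := by rw [hab]
  have h2 : ∀ c : Cp p, ((eps p c : ℂˣ) : ℂ) = ZMod.stdAddChar (N := p) (Multiplicative.toAdd c) := by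
    intro c
    rfl
  rw [h2, h2] at h1
  have h3 := ZMod.injective_stdAddChar h1
  exact Multiplicative.toAdd.injective h3

theorem eps_ne_one {x : ZMod p} (hx : x ≠ 0) : eps p (Multiplicative.ofAdd x) ≠ 1 := by
  intro h
  apply hx
  have h1 : eps p (Multiplicative.ofAdd x) = eps p 1 := by rw [h, map_one]
  have h2 := eps_injective p h1
  exact h2

variable {Z lam}

theorem lam_one (hmul : ∀ a ∈ Z, ∀ b ∈ Z, lam (a * b) = lam a * lam b) : lam 1 = 1 := by
  have h := hmul 1 Z.one_mem 1 Z.one_mem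
  rw [mul_one] at h
  exact (mul_eq_left.mp h.symm)

theorem lam_inv (hmul : ∀ a ∈ Z, ∀ b ∈ Z, lam (a * b) = lam a * lam b) {z : H} (hz : z ∈ Z) :
    lam z⁻¹ = (lam z)⁻¹ := by
  have h := hmul z hz z⁻¹ (Z.inv_mem hz)
  rw [mul_inv_cancel, lam_one hmul] at h
  exact eq_inv_of_mul_eq_one_right h.symm

/-- commutator formula when the second element has trivial top part -/
theorem comm_left_of_right_one (x y : Wr H p) (hy : y.right = 1) (q : Cp p) :
    (x * y * x⁻¹ * y⁻¹).left q =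
      x.left q * y.left (x.right⁻¹ * q) * (x.left q)⁻¹ * (y.left q)⁻¹ := by
  simp only [RegularWreathProduct.mul_left, RegularWreathProduct.mul_right,
    RegularWreathProduct.inv_left, RegularWreathProduct.inv_right, Pi.mul_apply, Pi.inv_apply, hy,
    mul_one, inv_one, one_mul, mul_inv_cancel_left, mul_inv_cancel]

theorem comm_right_of_right_one (x y : Wr H p) (hy : y.right = 1) :
    (x * y * x⁻¹ * y⁻¹).right = 1 := by
  simp [RegularWreathProduct.mul_right, RegularWreathProduct.inv_right, hy]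

/-- commutator formula when the first element has trivial top part -/
theorem comm_left_of_left_right_one (x y : Wr H p) (hx : x.right = 1) (q : Cp p) :
    (x * y * x⁻¹ * y⁻¹).left q =
      x.left q * y.left q * (x.left (y.right⁻¹ * q))⁻¹ * (y.left q)⁻¹ := by
  simp only [RegularWreathProduct.mul_left, RegularWreathProduct.mul_right,
    RegularWreathProduct.inv_left, RegularWreathProduct.inv_right, Pi.mul_apply, Pi.inv_apply, hx,
    mul_one, inv_one, one_mul, mul_inv_cancel_left]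

theorem comm_right_of_left_right_one (x y : Wr H p) (hx : x.right = 1) :
    (x * y * x⁻¹ * y⁻¹).right = 1 := by
  simp [RegularWreathProduct.mul_right, RegularWreathProduct.inv_right, hx]


/-- the test element of case A: a single `C_p`-coordinate -/
def eA : Cp p → H × Cp p := fun q => if q = 1 then ((1 : H), Multiplicative.ofAdd (1 : ZMod p)) else 1

theorem eA_fst (q : Cp p) : (eA (H := H) p q).1 = 1 := by
  unfold eA
  split_ifs <;> rfl

theorem eA_snd (q : Cp p) :
    Multiplicative.toAdd (eA (H := H) p q).2 = if q = 1 then (1 : ZMod p) else 0 := by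
  unfold eA
  split_ifs <;> rfl

theorem star_caseA (hmul : ∀ a ∈ Z, ∀ b ∈ Z, lam (a * b) = lam a * lam b)
    (x : Wr H p) (hx : x.right ≠ 1) :
    ∃ y : Wr H p, x * y * x⁻¹ * y⁻¹ ∈ Z1 p Z ∧ lam1 p lam (x * y * x⁻¹ * y⁻¹) ≠ 1 := by
  classical
  set y : Wr H p := ⟨eA p, 1⟩ with hy
  have hyr : y.right = 1 := rfl
  have hleft : ∀ q, (x * y * x⁻¹ * y⁻¹).left q =
      ((1 : H), (eA (H := H) p (x.right⁻¹ * q)).2 * ((eA (H := H) p q).2)⁻¹) := by
    intro q
    rw [comm_left_of_right_one p x y hyr q]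
    apply Prod.ext
    · simp only [Prod.fst_mul, Prod.fst_inv]
      show (x.left q).1 * (eA p (x.right⁻¹ * q)).1 * ((x.left q).1)⁻¹ * ((eA p q).1)⁻¹ = 1
      rw [eA_fst, eA_fst]
      group
    · simp only [Prod.snd_mul, Prod.snd_inv]
      show (x.left q).2 * (eA p (x.right⁻¹ * q)).2 * ((x.left q).2)⁻¹ * ((eA p q).2)⁻¹ = _
      rw [mul_comm (x.left q).2, mul_inv_cancel_right]
  have hprod : ∏ q : Cp p, (eA (H := H) p (x.right⁻¹ * q)).2 = ∏ q : Cp p, (eA (H := H) p q).2 :=
    Fintype.prod_equiv (Equiv.mulLeft x.right⁻¹) _ _ (fun q => rfl)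
  refine ⟨y, ?_, ?_⟩
  · rw [mem_Z1]
    refine ⟨comm_right_of_right_one p x y hyr, fun q => ?_, ?_⟩
    · rw [hleft q]
      exact Z.one_mem
    · simp only [hleft]
      rw [Finset.prod_mul_distrib, Finset.prod_inv_distrib, hprod, mul_inv_cancel]
  · unfold lam1
    have h1 : ∏ q : Cp p, lam ((x * y * x⁻¹ * y⁻¹).left q).1 = 1 := by
      apply Finset.prod_eq_one
      intro q _
      rw [hleft q]
      exact lam_one hmul
    rw [h1, one_mul]
    apply eps_ne_one
    unfold mom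
    simp only [hleft, toAdd_mul, toAdd_inv, eA_snd]
    have h2 : ∀ q : Cp p, Multiplicative.toAdd q *
        ((if x.right⁻¹ * q = 1 then (1 : ZMod p) else 0) - (if q = 1 then (1 : ZMod p) else 0)) =
        (if q = x.right then Multiplicative.toAdd q else 0) -
          (if q = 1 then Multiplicative.toAdd q else 0) := by
      intro q
      have e1 : (x.right⁻¹ * q = 1) ↔ q = x.right := by
        constructor
        · intro h
          have := congrArg (fun z => x.right * z) h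
          simpa using this
        · intro h
          rw [h, inv_mul_cancel]
      simp only [e1]
      split_ifs <;> ring
    simp only [sub_eq_add_neg] at h2 ⊢
    rw [Finset.sum_congr rfl (fun q _ => h2 q)]
    rw [Finset.sum_add_distrib, Finset.sum_neg_distrib, Finset.sum_ite_eq', Finset.sum_ite_eq']
    simp only [Finset.mem_univ, if_true, toAdd_one, neg_zero, add_zero]
    intro h
    apply hx
    exact Multiplicative.toAdd.injective h


theorem star_caseB (hmul : ∀ a ∈ Z, ∀ b ∈ Z, lam (a * b) = lam a * lam b)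
    (hstar : ∀ x : H, x ∉ Z → ∃ y : H, x * y * x⁻¹ * y⁻¹ ∈ Z ∧ lam (x * y * x⁻¹ * y⁻¹) ≠ 1)
    (x : Wr H p) (hx : x.right = 1) (q₀ : Cp p) (hq₀ : (x.left q₀).1 ∉ Z) :
    ∃ y : Wr H p, x * y * x⁻¹ * y⁻¹ ∈ Z1 p Z ∧ lam1 p lam (x * y * x⁻¹ * y⁻¹) ≠ 1 := by
  classical
  obtain ⟨y₀, hy₀Z, hy₀⟩ := hstar _ hq₀
  set c : H := (x.left q₀).1 * y₀ * ((x.left q₀).1)⁻¹ * y₀⁻¹ with hc
  set y : Wr H p := ⟨fun q => if q = q₀ then (y₀, 1) else 1, 1⟩ with hy
  have hyr : y.right = 1 := rfl
  have hleft : ∀ q, (x * y * x⁻¹ * y⁻¹).left q = if q = q₀ then (c, 1) else 1 := by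
    intro q
    rw [comm_left_of_right_one p x y hyr q, hx, inv_one, one_mul]
    show x.left q * (if q = q₀ then (y₀, 1) else 1) * (x.left q)⁻¹ *
      (if q = q₀ then (y₀, 1) else 1)⁻¹ = _
    by_cases hq : q = q₀
    · rw [if_pos hq, if_pos hq, hq]
      apply Prod.ext
      · simp [hc]
      · simp
    · rw [if_neg hq, if_neg hq]
      simp
  refine ⟨y, ?_, ?_⟩
  · rw [mem_Z1]
    refine ⟨comm_right_of_right_one p x y hyr, fun q => ?_, ?_⟩
    · rw [hleft q]
      split_ifs
      · exact hy₀Z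
      · exact Z.one_mem
    · apply Finset.prod_eq_one
      intro q _
      rw [hleft q]
      split_ifs <;> rfl
  · unfold lam1
    have h1 : ∏ q : Cp p, lam ((x * y * x⁻¹ * y⁻¹).left q).1 = lam c := by
      rw [Finset.prod_eq_single q₀]
      · rw [hleft q₀, if_pos rfl]
      · intro q _ hq
        rw [hleft q, if_neg hq]
        exact lam_one hmul
      · intro h
        exact absurd (Finset.mem_univ q₀) h
    have h2 : mom p (x * y * x⁻¹ * y⁻¹) = 0 := by
      unfold mom
      apply Finset.sum_eq_zero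
      intro q _
      rw [hleft q]
      split_ifs <;> simp
    rw [h1, h2, ofAdd_zero, map_one, mul_one]
    exact hy₀

theorem star_caseC (hmul : ∀ a ∈ Z, ∀ b ∈ Z, lam (a * b) = lam a * lam b)
    (x : Wr H p) (hx : x.right = 1) (hxZ : ∀ q, (x.left q).1 ∈ Z)
    (hprod : ∏ q : Cp p, (x.left q).2 ≠ 1) :
    ∃ y : Wr H p, x * y * x⁻¹ * y⁻¹ ∈ Z1 p Z ∧ lam1 p lam (x * y * x⁻¹ * y⁻¹) ≠ 1 := by
  classical
  set t : Cp p := Multiplicative.ofAdd (1 : ZMod p) with ht
  set y : Wr H p := ⟨1, t⟩ with hy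
  have hleft : ∀ q, (x * y * x⁻¹ * y⁻¹).left q = x.left q * (x.left (t⁻¹ * q))⁻¹ := by
    intro q
    rw [comm_left_of_left_right_one p x y hx q]
    show x.left q * 1 * (x.left (t⁻¹ * q))⁻¹ * (1 : H × Cp p)⁻¹ = _
    rw [mul_one, inv_one, mul_one]
  refine ⟨y, ?_, ?_⟩
  · rw [mem_Z1]
    refine ⟨comm_right_of_left_right_one p x y hx, fun q => ?_, ?_⟩
    · rw [hleft q]
      exact Z.mul_mem (hxZ q) (Z.inv_mem (hxZ _))
    · simp only [hleft, Prod.snd_mul, Prod.snd_inv]
      rw [Finset.prod_mul_distrib, Finset.prod_inv_distrib]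
      have : ∏ q : Cp p, (x.left (t⁻¹ * q)).2 = ∏ q : Cp p, (x.left q).2 :=
        Fintype.prod_equiv (Equiv.mulLeft t⁻¹) _ _ (fun q => rfl)
      rw [this, mul_inv_cancel]
  · unfold lam1
    have h1 : ∏ q : Cp p, lam ((x * y * x⁻¹ * y⁻¹).left q).1 = 1 := by
      have h2 : ∀ q, lam ((x * y * x⁻¹ * y⁻¹).left q).1 =
          lam (x.left q).1 * (lam (x.left (t⁻¹ * q)).1)⁻¹ := by
        intro q
        rw [hleft q]
        show lam ((x.left q).1 * ((x.left (t⁻¹ * q))⁻¹).1) = _
        rw [Prod.fst_inv, hmul _ (hxZ q) _ (Z.inv_mem (hxZ _)), lam_inv hmul (hxZ _)]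
      rw [Finset.prod_congr rfl (fun q _ => h2 q), Finset.prod_mul_distrib, Finset.prod_inv_distrib]
      have : ∏ q : Cp p, lam (x.left (t⁻¹ * q)).1 = ∏ q : Cp p, lam (x.left q).1 :=
        Fintype.prod_equiv (Equiv.mulLeft t⁻¹) _ _ (fun q => rfl)
      rw [this, mul_inv_cancel]
    rw [h1, one_mul]
    apply eps_ne_one
    -- the moment is `- ∑ toAdd (x.left q).2`
    have h3 : mom p (x * y * x⁻¹ * y⁻¹) = - Multiplicative.toAdd (∏ q : Cp p, (x.left q).2) := by
      unfold mom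
      simp only [hleft, Prod.snd_mul, Prod.snd_inv, toAdd_mul, toAdd_inv]
      have h4 : ∑ q : Cp p, Multiplicative.toAdd q *
          Multiplicative.toAdd (x.left (t⁻¹ * q)).2 =
          ∑ q : Cp p, (1 + Multiplicative.toAdd q) * Multiplicative.toAdd (x.left q).2 := by
        apply Fintype.sum_equiv (Equiv.mulLeft t⁻¹)
        intro q
        show _ = (1 + Multiplicative.toAdd (t⁻¹ * q)) * Multiplicative.toAdd (x.left (t⁻¹ * q)).2
        rw [toAdd_mul, toAdd_inv, ht, toAdd_ofAdd]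
        ring
      simp only [mul_add, mul_neg, Finset.sum_add_distrib, Finset.sum_neg_distrib]
      rw [h4]
      simp only [add_mul, one_mul, Finset.sum_add_distrib]
      rw [toAdd_prod]
      ring
    rw [h3]
    intro h
    apply hprod
    have h5 : Multiplicative.toAdd (∏ q : Cp p, (x.left q).2) = 0 := neg_eq_zero.mp h
    exact Multiplicative.toAdd.injective h5


variable (Z lam)

/-- (W4) the star property for `Wr H p` -/
theorem star1 (hmul : ∀ a ∈ Z, ∀ b ∈ Z, lam (a * b) = lam a * lam b)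
    (hstar : ∀ x : H, x ∉ Z → ∃ y : H, x * y * x⁻¹ * y⁻¹ ∈ Z ∧ lam (x * y * x⁻¹ * y⁻¹) ≠ 1) :
    ∀ x : Wr H p, x ∉ Z1 p Z →
      ∃ y : Wr H p, x * y * x⁻¹ * y⁻¹ ∈ Z1 p Z ∧ lam1 p lam (x * y * x⁻¹ * y⁻¹) ≠ 1 := by
  intro x hx
  by_cases h1 : x.right = 1
  · by_cases h2 : ∀ q, (x.left q).1 ∈ Z
    · apply star_caseC p hmul x h1 h2
      intro h3
      exact hx ((mem_Z1 p Z x).mpr ⟨h1, h2, h3⟩)
    · push Not at h2
      obtain ⟨q₀, hq₀⟩ := h2
      exact star_caseB p hmul hstar x h1 q₀ hq₀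
  · exact star_caseA p hmul x h1

end Cfsg.Agent.Lib.Helper21.GagW4
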