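import Mathlib
import Cfsg.Prelude.Def_Characters
import Cfsg.Prelude.Def_Blocks
import Cfsg.Agent.Lib.Helper21.GagDefs
import Cfsg.Agent.Lib.Helper21.GagW4
import Cfsg.Agent.Lib.Helper21.GagF
import Cfsg.Agent.Lib.Helper12.GagW1
import Cfsg.Agent.Lib.Helper12.GagW2
import Cfsg.Agent.Lib.Helper12.GagW3
import Cfsg.Agent.Lib.Helper12.GagW5
import Cfsg.Agent.Lib.Helper12.GagW8
import Cfsg.Agent.Lib.Helper12.GagW9
import Cfsg.Agent.Lib.Helper20.GagBTN
import Cfsg.Agent.Lib.Helper20.GagW67
import Cfsg.Agent.Lib.Helper9.GagQ1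
import Cfsg.Agent.Lib.Helper9.GagQ2
import Cfsg.Agent.Lib.Helper9.GagQ4
import Cfsg.Agent.Lib.Helper9.GagQ7
import Cfsg.Agent.Lib.Helper22.GagQ6
import Cfsg.Agent.Lib.Helper23.GagQ3
import Cfsg.Agent.Lib.Helper23.GagQ5
import Cfsg.Agent.S4573
import Cfsg.Agent.Lib.Helper6.PrimeIndex

/-!
# Gagola's theorem (S4561): assembly

Every finite solvable group embeds in `H / Z(H)` for a group `H` with a faithful irreducible character
fully ramified over the centre.
-/

set_option autoImplicit false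

namespace Cfsg.Agent.Lib.Helper21.GagMain

open RegularWreathProduct Cfsg.Agent.Lib.Helper21.Gag

universe u

/-- the wreath step -/
theorem gdata_wreath {G : Type u} [Group G] {n : ℕ} (p : ℕ) [hp : Fact p.Prime]
    (h : GData G n) : GData (G ≀ᵣ (Cp p)) (n * p) := by
  obtain ⟨H, hHg, hHf, Z, lam, s, m, D⟩ := h
  refine ⟨Wr H p, inferInstance, inferInstance, Z1 p Z, lam1 p lam, s1 p s, m1 p m, ?_⟩
  obtain ⟨hm1, hm2, hm3, hm4⟩ := Cfsg.Agent.Lib.Helper20.GagW67.m1_facts p hp.out m D.sqfree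
  exact
    { normal := Cfsg.Agent.Lib.Helper12.GagW1.Z1_normal p Z D.normal
      lam_mul := Cfsg.Agent.Lib.Helper12.GagW2.lam1_mul p Z lam D.lam_mul
      lam_conj := Cfsg.Agent.Lib.Helper12.GagW3.lam1_conj p Z lam D.lam_mul D.lam_conj
      star := Cfsg.Agent.Lib.Helper21.GagW4.star1 p Z lam D.lam_mul D.star
      s_mul := Cfsg.Agent.Lib.Helper12.GagW5.s1_mul p Z s D.s_mul
      s_inj := Cfsg.Agent.Lib.Helper12.GagW5.s1_inj p Z s D.s_inj
      primes_card := by
        intro q hq hdvd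
        rcases Cfsg.Agent.Lib.Helper20.GagW67.prime_dvd_card_Wr p q hq hdvd with h1 | h1
        · exact Dvd.dvd.mul_right (D.primes_card q hq h1) p
        · exact Dvd.dvd.mul_left h1 n
      sqfree := hm1
      primes_m := by
        intro q hq hdvd
        rcases hm4 q hq hdvd with h1 | h1
        · exact Dvd.dvd.mul_right (D.primes_m q hq h1) p
        · rw [h1]; exact Dvd.intro_left n rfl
      lam_pow := Cfsg.Agent.Lib.Helper12.GagW8.lam1_pow p Z lam m D.sqfree hp.out D.lam_pow
      witness := by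
        intro q hq hdvd
        rcases (Nat.Prime.dvd_mul hq).mp hdvd with h1 | h1
        · exact Cfsg.Agent.Lib.Helper12.GagW9.witness1_old p Z lam D.lam_mul q (D.witness q hq h1)
        · have : q = p := (Nat.prime_dvd_prime_iff_eq hq hp.out).mp h1
          rw [this]
          exact Cfsg.Agent.Lib.Helper12.GagW9.witness1_new p Z lam hp.out D.lam_mul }

/-- the conclusion of S4561 from a datum relative to `#G` -/
theorem main_of_datum {G : Type u} [Group G] [Finite G] {H : Type u} [Group H] [Finite H]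
    {Z : Subgroup H} {lam : H → ℂˣ} {s : G → H} {m : ℕ}
    (D : GDatum G (Nat.card G) H Z lam s m) :
    ∃ (H : Type u) (_ : Group H) (_ : Finite H) (χ : Cfsg.IrrCharacter H),
      (∀ h : H, (χ : H → ℂ) h = (χ : H → ℂ) 1 → h = 1) ∧
      (Cfsg.charDegree (χ : H → ℂ)) ^ 2 = (Subgroup.center H).index ∧
      (∃ f : G →* H ⧸ Subgroup.center H, Function.Injective f) ∧
      (∀ p : ℕ, p.Prime → ((p ∣ Nat.card H ↔ p ∣ Nat.card G) ∧
        (p ∣ Nat.card (Subgroup.center H) ↔ p ∣ Nat.card G))) ∧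
      Squarefree (Nat.card (Subgroup.center H)) := by
  have hK : (kerLam D).Normal := Cfsg.Agent.Lib.Helper9.GagQ1.kerLam_normal D
  obtain ⟨mu, hmu⟩ := Cfsg.Agent.Lib.Helper23.GagQ3.exists_injective_center_hom D
  obtain ⟨χ, hχ1, hχ2⟩ := Cfsg.Agent.Lib.Helper21.GagF.exists_faithful_fully_ramified mu hmu
    (Cfsg.Agent.Lib.Helper9.GagQ4.star_quot D)
  obtain ⟨hsq, hpr⟩ := Cfsg.Agent.Lib.Helper23.GagQ5.card_center_quot D
  exact ⟨H ⧸ kerLam D, inferInstance, inferInstance, χ, hχ1, hχ2,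
    Cfsg.Agent.Lib.Helper9.GagQ7.exists_embedding D,
    fun q hq => ⟨Cfsg.Agent.Lib.Helper22.GagQ6.primes_card_quot D q hq, hpr q hq⟩, hsq⟩

open Cfsg.Agent.S4573 Cfsg.Agent.Lib.Helper6 in
/-- every finite solvable group has a datum relative to its order -/
theorem gdata_of_solvable (n : ℕ) : ∀ (G : Type u) [Group G] [Finite G], Nat.card G = n →
    Group.IsSolvable G → GData G n := by
  induction n using Nat.strong_induction_on with
  | _ n IH =>
  intro G _ _ hn hsolv
  by_cases h1 : n = 1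
  · subst h1
    exact Cfsg.Agent.Lib.Helper20.GagBTN.gdata_of_card_one hn
  · have hnt : (⊥ : Subgroup G) ≠ ⊤ := by
      intro h
      apply h1
      rw [← hn, ← Subgroup.card_top (G := G), ← h, Subgroup.card_bot]
    have hsq : Group.IsSolvable (G ⧸ (⊥ : Subgroup G)) := inferInstance
    obtain ⟨N, hNn, -, hNp⟩ := exists_normal_prime_index (⊥ : Subgroup G) hnt hsq
    have : Fact (N.index).Prime := ⟨hNp⟩
    have hcard : Nat.card N * N.index = n := by rw [Subgroup.card_mul_index, hn]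
    have hlt : Nat.card N < n := by
      have h2 : 1 < N.index := hNp.one_lt
      have h3 : 0 < Nat.card N := Nat.card_pos
      nlinarith
    have hN : GData N (Nat.card N) := IH (Nat.card N) hlt N rfl inferInstance
    have hW : GData ((N : Type u) ≀ᵣ (Cp N.index)) (Nat.card N * N.index) :=
      gdata_wreath N.index hN
    rw [hcard] at hW
    have hQ : Nat.card (G ⧸ N) = N.index := (Subgroup.index_eq_card N).symm
    have hcyc : IsCyclic (G ⧸ N) := isCyclic_of_prime_card hQ
    have e : (G ⧸ N) ≃* Cp N.index := by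
      have e0 := (zmodCyclicMulEquiv (G := G ⧸ N) hcyc).symm
      rw [hQ] at e0
      exact e0
    let j : G →* ((N : Type u) ≀ᵣ (Cp N.index)) :=
      (RegularWreathProduct.congr (MulEquiv.refl N) e).toMonoidHom.comp (kkHom N)
    have hj : Function.Injective j :=
      (RegularWreathProduct.congr (MulEquiv.refl N) e).injective.comp (kkHom_injective N)
    exact Cfsg.Agent.Lib.Helper20.GagBTN.gdata_of_injective j hj hW

/-- Gagola's theorem -/
theorem gagola {G : Type u} [Group G] [Finite G] (hsolv : Group.IsSolvable G) :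
    ∃ (H : Type u) (_ : Group H) (_ : Finite H) (χ : Cfsg.IrrCharacter H),
      (∀ h : H, (χ : H → ℂ) h = (χ : H → ℂ) 1 → h = 1) ∧
      (Cfsg.charDegree (χ : H → ℂ)) ^ 2 = (Subgroup.center H).index ∧
      (∃ f : G →* H ⧸ Subgroup.center H, Function.Injective f) ∧
      (∀ p : ℕ, p.Prime → ((p ∣ Nat.card H ↔ p ∣ Nat.card G) ∧
        (p ∣ Nat.card (Subgroup.center H) ↔ p ∣ Nat.card G))) ∧
      Squarefree (Nat.card (Subgroup.center H)) := by
  obtain ⟨H, hHg, hHf, Z, lam, s, m, D⟩ := gdata_of_solvable (Nat.card G) G rfl hsolv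
  exact main_of_datum D

end Cfsg.Agent.Lib.Helper21.GagMain
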