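import Mathlib

set_option autoImplicit false

namespace Cfsg.Agent.Lib.Helper21.GalConj

open scoped commutatorElement

universe u

/-- if all commutators `g y g⁻¹ y⁻¹` lie in a central subgroup of exponent `p` then `y ^ p`
is central -/
theorem pow_mem_center_of_comm_mem {G : Type*} [Group G] (p : ℕ) (M : Subgroup G)
    (hM : M ≤ Subgroup.center G) (hMp : ∀ m ∈ M, m ^ p = 1) (y : G)
    (hy : ∀ g : G, g * y * g⁻¹ * y⁻¹ ∈ M) : y ^ p ∈ Subgroup.center G := by
  rw [Subgroup.mem_center_iff]
  intro g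
  set m := g * y * g⁻¹ * y⁻¹ with hm
  have hmM : m ∈ M := hy g
  have h1 : g * y * g⁻¹ = m * y := by rw [hm]; group
  have h2 : (g * y * g⁻¹) ^ p = g * y ^ p * g⁻¹ := conj_pow
  have hcomm : Commute m y := (Subgroup.mem_center_iff.mp (hM hmM) y).symm
  have h3 : (m * y) ^ p = y ^ p := by rw [hcomm.mul_pow, hMp m hmM, one_mul]
  rw [h1, h3] at h2
  calc g * y ^ p = (g * y ^ p * g⁻¹) * g := by group
    _ = y ^ p * g := by rw [← h2]

/-- a central subgroup is normal -/
theorem normal_of_le_center_gc {G : Type*} [Group G] (N : Subgroup G)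
    (h : N ≤ Subgroup.center G) : N.Normal :=
  ⟨fun n hn g => by
    have := Subgroup.mem_center_iff.mp (h hn) g
    rw [this, mul_inv_cancel_right]; exact hn⟩

/-- in a group whose derived subgroup is central of order `p`, `p`-th powers are central -/
theorem pow_prime_mem_center {Q : Type*} [Group Q] (p : ℕ) (hcard : Nat.card (commutator Q) = p)
    (hle : commutator Q ≤ Subgroup.center Q) (q : Q) : q ^ p ∈ Subgroup.center Q := by
  apply pow_mem_center_of_comm_mem p (commutator Q) hle
  · intro m hm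
    have h1 : (⟨m, hm⟩ : commutator Q) ^ p = 1 := by
      rw [← hcard]; exact pow_card_eq_one'
    exact congrArg (fun y : commutator Q => (y : Q)) h1
  · intro g
    have : g * q * g⁻¹ * q⁻¹ = ⁅g, q⁆ := (commutatorElement_def g q).symm
    rw [this, commutator_def]
    exact Subgroup.commutator_mem_commutator (Subgroup.mem_top g) (Subgroup.mem_top q)

section Y
variable {P : Type u} [Group P] (N : Subgroup P) [N.Normal]

/-- the preimage in `P` of the centre of `P ⧸ N` -/
def preCenter : Subgroup P := (Subgroup.center (P ⧸ N)).comap (QuotientGroup.mk' N)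

theorem mem_preCenter_iff {y : P} : y ∈ preCenter N ↔ (y : P ⧸ N) ∈ Subgroup.center (P ⧸ N) :=
  Iff.rfl

theorem comm_mem_of_mem_preCenter {y : P} (hy : y ∈ preCenter N) (g : P) :
    g * y * g⁻¹ * y⁻¹ ∈ N := by
  rw [← QuotientGroup.eq_one_iff]
  have h := Subgroup.mem_center_iff.mp ((mem_preCenter_iff N).mp hy) (g : P ⧸ N)
  rw [QuotientGroup.mk_mul, QuotientGroup.mk_mul, QuotientGroup.mk_mul, QuotientGroup.mk_inv,
    QuotientGroup.mk_inv, h]
  group

theorem center_le_preCenter : Subgroup.center P ≤ preCenter N := by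
  intro z hz
  rw [mem_preCenter_iff, Subgroup.mem_center_iff]
  intro q
  obtain ⟨g, rfl⟩ := QuotientGroup.mk_surjective q
  rw [← QuotientGroup.mk_mul, ← QuotientGroup.mk_mul, Subgroup.mem_center_iff.mp hz g]

theorem index_preCenter : (preCenter N).index = (Subgroup.center (P ⧸ N)).index :=
  Subgroup.index_comap_of_surjective _ (QuotientGroup.mk'_surjective N)

/-- `p`-th powers of elements of the preimage of the centre of `P ⧸ N` are central when `N` is
central of exponent `p` -/
theorem pow_mem_center_of_mem_preCenter (p : ℕ) (hNZ : N ≤ Subgroup.center P)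
    (hNp : ∀ n ∈ N, n ^ p = 1) {y : P} (hy : y ∈ preCenter N) : y ^ p ∈ Subgroup.center P :=
  pow_mem_center_of_comm_mem p N hNZ hNp y (comm_mem_of_mem_preCenter N hy)

/-- if the centre of `P ⧸ N` is cyclic and `N` is central of exponent `p` then the preimage of
that centre has index at most `p` over the centre of `P` -/
theorem card_preCenter_le (p : ℕ) [hp : Fact p.Prime] [Finite P] (hNZ : N ≤ Subgroup.center P)
    (hNp : ∀ n ∈ N, n ^ p = 1) (hcyc : IsCyclic (Subgroup.center (P ⧸ N))) :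
    Nat.card (preCenter N) ≤ p * Nat.card (Subgroup.center P) := by
  classical
  obtain ⟨q₀, hq₀⟩ := hcyc.exists_generator
  obtain ⟨y₀, hy₀⟩ := QuotientGroup.mk_surjective (q₀ : P ⧸ N)
  have hy₀Y : y₀ ∈ preCenter N := by
    rw [mem_preCenter_iff, hy₀]; exact q₀.2
  have hy₀p : y₀ ^ p ∈ Subgroup.center P := pow_mem_center_of_mem_preCenter N p hNZ hNp hy₀Y
  have key : ∀ y : preCenter N, ∃ jz : Fin p × Subgroup.center P,
      (y : P) = y₀ ^ (jz.1 : ℕ) * (jz.2 : P) := by
    intro y
    have hyc : ((y : P) : P ⧸ N) ∈ Subgroup.center (P ⧸ N) := (mem_preCenter_iff N).mp y.2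
    have hmem := hq₀ ⟨((y : P) : P ⧸ N), hyc⟩
    rw [← mem_powers_iff_mem_zpowers, Submonoid.mem_powers_iff] at hmem
    obtain ⟨i, hi⟩ := hmem
    have hi' : ((y₀ ^ i : P) : P ⧸ N) = ((y : P) : P ⧸ N) := by
      have := congrArg (fun x : Subgroup.center (P ⧸ N) => (x : P ⧸ N)) hi
      simp only [Subgroup.coe_pow] at this
      rw [QuotientGroup.mk_pow, hy₀]
      exact this
    have hn : (y₀ ^ i)⁻¹ * (y : P) ∈ N := QuotientGroup.eq.mp hi'
    have hz : (y₀ ^ p) ^ (i / p) * ((y₀ ^ i)⁻¹ * (y : P)) ∈ Subgroup.center P :=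
      mul_mem (Subgroup.pow_mem _ hy₀p _) (hNZ hn)
    refine ⟨(⟨i % p, Nat.mod_lt _ hp.out.pos⟩, ⟨_, hz⟩), ?_⟩
    show (y : P) = y₀ ^ (i % p) * ((y₀ ^ p) ^ (i / p) * ((y₀ ^ i)⁻¹ * (y : P)))
    rw [← pow_mul, ← mul_assoc, ← mul_assoc, ← pow_add, Nat.mod_add_div, mul_inv_cancel, one_mul]
  choose F hF using key
  have hinj : Function.Injective F := by
    intro y y' h
    apply Subtype.ext
    rw [hF y, hF y', h]
  have := Nat.card_le_card_of_injective F hinj
  rwa [Nat.card_prod, Nat.card_fin] at this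

end Y

end Cfsg.Agent.Lib.Helper21.GalConj
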