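import Mathlib
import Cfsg.Prelude.Def_Blocks
import Cfsg.Agent.Lib.Lead.CharOrtho
import Cfsg.Agent.Lib.Lead.CharMore
import Cfsg.Agent.Lib.Helper6.CentralHom
import Cfsg.Agent.Lib.Helper6.LinChar
import Cfsg.Agent.Lib.Helper24.PerfectLemmas
import Cfsg.Agent.Lib.Helper24.IrrFacts
import Cfsg.Agent.Lib.Helper25.Inflate
import Cfsg.Agent.Lib.Helper21.IsaacsThm1211
import Cfsg.Agent.Lib.Helper21.GalConjA
import Cfsg.Agent.Lib.Helper21.GalConjB

set_option autoImplicit false

namespace Cfsg.Agent.Lib.Helper21.GalConj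

open Cfsg Cfsg.Agent.CharLib Cfsg.Agent.Lib.Helper6 Cfsg.Agent.Lib.Helper24 Cfsg.Agent.Lib.Helper25
open scoped ComplexConjugate commutatorElement

universe u

/-- nonlinear irreducible characters of equal degree are Galois conjugate -/
def GalConjProp (P : Type u) [Group P] : Prop :=
  ∀ χ ψ : IrrCharacter P, charDegree (χ : P → ℂ) ≠ 1 →
    charDegree (χ : P → ℂ) = charDegree (ψ : P → ℂ) →
    ∃ k : ℕ, Nat.Coprime k (Nat.card P) ∧ ∀ g : P, (ψ : P → ℂ) g = (χ : P → ℂ) (g ^ k)

section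
variable {P : Type u} [Group P] [Finite P]

omit [Finite P] in
theorem charDegree_inflateIrr (N : Subgroup P) [N.Normal] (θ : IrrCharacter (P ⧸ N)) :
    charDegree (inflateIrr N θ : P → ℂ) = charDegree (θ : P ⧸ N → ℂ) := rfl

omit [Finite P] in
theorem GalConjProp.quotient (h : GalConjProp P) (N : Subgroup P) [N.Normal] :
    GalConjProp (P ⧸ N) := by
  intro χ ψ h1 hdeg
  obtain ⟨k, hk, hkg⟩ := h (inflateIrr N χ) (inflateIrr N ψ)
    (by rw [charDegree_inflateIrr]; exact h1)
    (by rw [charDegree_inflateIrr, charDegree_inflateIrr]; exact hdeg)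
  refine ⟨k, Nat.Coprime.coprime_dvd_right (Subgroup.card_quotient_dvd_card N) hk, fun q => ?_⟩
  obtain ⟨g, rfl⟩ := QuotientGroup.mk_surjective q
  exact hkg g

omit [Finite P] in
theorem irr_apply_one_ne_one_iff (χ : IrrCharacter P) :
    (χ : P → ℂ) 1 ≠ 1 ↔ charDegree (χ : P → ℂ) ≠ 1 := by
  rw [irr_apply_one χ]
  exact_mod_cast Iff.rfl

/-- the squares of the degrees of the nonlinear irreducible characters sum to
`|G| - |G : G'|` -/
theorem sum_nonlinear_sq_add_index [Fintype (IrrCharacter P)] (s : Finset (IrrCharacter P))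
    (hs : ∀ χ, χ ∈ s ↔ charDegree (χ : P → ℂ) ≠ 1) :
    ∑ χ ∈ s, charDegree (χ : P → ℂ) ^ 2 + (commutator P).index = Nat.card P := by
  classical
  let _ : Fintype P := Fintype.ofFinite P
  have h := sum_charDegree_sq (G := P)
  rw [← Finset.sum_filter_add_sum_filter_not Finset.univ
    (fun χ : IrrCharacter P => charDegree (χ : P → ℂ) = 1)] at h
  have hs' : s = Finset.univ.filter (fun χ : IrrCharacter P => ¬ charDegree (χ : P → ℂ) = 1) := by
    ext χ
    rw [hs, Finset.mem_filter]
    simp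
  have h1 : ∑ χ ∈ Finset.univ.filter (fun χ : IrrCharacter P => charDegree (χ : P → ℂ) = 1),
      charDegree (χ : P → ℂ) ^ 2 = (commutator P).index := by
    have h2 : ∀ χ ∈ Finset.univ.filter (fun χ : IrrCharacter P => charDegree (χ : P → ℂ) = 1),
        charDegree (χ : P → ℂ) ^ 2 = 1 := by
      intro χ hχ
      rw [(Finset.mem_filter.mp hχ).2, one_pow]
    rw [Finset.sum_congr rfl h2, Finset.sum_const, smul_eq_mul, mul_one, ← card_linear_irr,
      ← Fintype.card_subtype, ← Nat.card_eq_fintype_card]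
    apply Nat.card_congr
    apply Equiv.subtypeEquivRight
    intro χ
    rw [irr_apply_one χ]
    exact_mod_cast Iff.rfl
  rw [h1, ← hs', add_comm, ← Nat.card_eq_fintype_card] at h
  exact h

/-- Case `|P'| = p`: the centre is cyclic -/
theorem isCyclic_center_of_galConj (p : ℕ) [hp : Fact p.Prime] (hP : IsPGroup p P)
    (hGC : GalConjProp P) (hcard : Nat.card (commutator P) = p) :
    IsCyclic (Subgroup.center P) := by
  classical
  let _ : Fintype (IrrCharacter P) := Fintype.ofFinite _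
  have hle : commutator P ≤ Subgroup.center P :=
    le_center_of_normal_of_card_eq_prime p hP _ hcard
  set 𝓝 : Finset (IrrCharacter P) :=
    Finset.univ.filter (fun χ : IrrCharacter P => charDegree (χ : P → ℂ) ≠ 1) with h𝓝
  have hmem𝓝 : ∀ χ, χ ∈ 𝓝 ↔ charDegree (χ : P → ℂ) ≠ 1 := fun χ => by simp [h𝓝]
  have hcnt := sum_nonlinear_sq_add_index 𝓝 hmem𝓝
  set idx := (Subgroup.center P).index with hidx
  have hidxpos : 0 < idx := Nat.pos_of_ne_zero (Subgroup.index_ne_zero_of_finite)
  have hZidx : Nat.card (Subgroup.center P) * idx = Nat.card P := Subgroup.card_mul_index _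
  have hvan : ∀ χ ∈ 𝓝, ∀ g, g ∉ Subgroup.center P → (χ : P → ℂ) g = 0 := by
    intro χ hχ
    exact irr_vanish_off_center hcard hle χ.2
      ((irr_apply_one_ne_one_iff χ).mpr ((hmem𝓝 χ).mp hχ))
  have hdeg : ∀ χ ∈ 𝓝, charDegree (χ : P → ℂ) ^ 2 = idx := by
    intro χ hχ
    have h := card_center_mul_charDegree_sq_of_vanish χ (hvan χ hχ)
    rw [← hZidx] at h
    exact Nat.eq_of_mul_eq_mul_left Nat.card_pos h
  have hsum : ∑ χ ∈ 𝓝, charDegree (χ : P → ℂ) ^ 2 = 𝓝.card * idx := by
    rw [Finset.sum_congr rfl hdeg, Finset.sum_const, smul_eq_mul]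
  rw [hsum] at hcnt
  have hP'idx : (commutator P).index * p = Nat.card P := by
    rw [← hcard]; exact Subgroup.index_mul_card _
  have hp2 : 2 ≤ p := hp.out.two_le
  have hnpos : 0 < Nat.card P := Nat.card_pos
  have hpos : 0 < 𝓝.card := by
    by_contra h0
    have h00 : 𝓝.card = 0 := by omega
    rw [h00, zero_mul, zero_add] at hcnt
    rw [hcnt] at hP'idx
    nlinarith
  obtain ⟨χ₀, hχ₀⟩ := Finset.card_pos.mp hpos
  have hχ₀nl : (χ₀ : P → ℂ) 1 ≠ 1 := (irr_apply_one_ne_one_iff χ₀).mpr ((hmem𝓝 χ₀).mp hχ₀)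
  obtain ⟨ω, hω1, hω2⟩ := IsIrrCharacter.exists_central_hom χ₀.2
  set K : Subgroup (Subgroup.center P) := ω.ker with hKdef
  have hK : K = ⊥ := by
    by_contra hKne
    have hKp : IsPGroup p K := (hP.to_subgroup _).to_subgroup K
    have hkk : p ≤ Nat.card K := by
      rcases hKp.card_eq_or_dvd with h | h
      · exact absurd (Subgroup.eq_bot_of_card_eq K h) hKne
      · exact Nat.le_of_dvd Nat.card_pos h
    set e := K.index with he
    have hKe : e * Nat.card K = Nat.card (Subgroup.center P) := Subgroup.index_mul_card K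
    have he0 : e ≠ 0 := Subgroup.index_ne_zero_of_finite
    have : NeZero e := ⟨he0⟩
    -- `K ≠ ⊤`
    have hne : commutator P ≠ ⊥ := by
      intro h
      rw [h, Subgroup.card_bot] at hcard
      exact hp.out.one_lt.ne hcard
    obtain ⟨⟨x, hx⟩, hx1⟩ := (Subgroup.ne_bot_iff_exists_ne_one).mp hne
    have hx'1 : (⟨x, hle hx⟩ : Subgroup.center P) ≠ 1 := by
      intro h
      apply hx1
      apply Subtype.ext
      exact congrArg (fun y : Subgroup.center P => (y : P)) h
    have hωx : ω ⟨x, hle hx⟩ ≠ 1 :=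
      central_hom_ne_one_of_nonlinear hcard χ₀.2 hχ₀nl ω hω1 ⟨x, hle hx⟩ hx hx'1
    have he1 : e ≠ 1 := by
      intro h
      have hKtop : K = ⊤ := Subgroup.index_eq_one.mp h
      apply hωx
      have : (⟨x, hle hx⟩ : Subgroup.center P) ∈ K := by rw [hKtop]; exact Subgroup.mem_top _
      exact MonoidHom.mem_ker.mp this
    have he2 : 1 < e := by omega
    -- `p ∣ e`
    have hedvd : e ∣ Nat.card P :=
      dvd_trans (Dvd.intro _ hKe) (Subgroup.card_subgroup_dvd_card _)
    obtain ⟨n, hn⟩ := IsPGroup.iff_card.mp hP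
    have hpe : p ∣ e := by
      rw [hn] at hedvd
      obtain ⟨b, hb, hbe⟩ := (Nat.dvd_prime_pow hp.out).mp hedvd
      rw [hbe]
      apply dvd_pow_self
      rintro rfl
      rw [pow_zero] at hbe
      exact he1 hbe
    have hcopP : ∀ k : ℕ, k.Coprime e → k.Coprime (Nat.card P) := by
      intro k hk
      rw [hn]
      exact Nat.Coprime.pow_right n (Nat.Coprime.coprime_dvd_right hpe hk)
    -- the count
    have hKn : K.Normal := Subgroup.normal_of_isMulCommutative K
    have hωe : ∀ z : Subgroup.center P, (ω z) ^ e = 1 := by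
      intro z
      rw [← map_pow]
      exact MonoidHom.mem_ker.mp (Subgroup.pow_index_mem K z)
    have hbound := card_le_totient_of_periodic e
      (fun k : ℕ => fun g : P => (χ₀ : P → ℂ) (g ^ k))
      (by
        intro k k' hk hk' hkk'
        funext g
        by_cases hg : g ∈ Subgroup.center P
        · have e1 : ∀ j : ℕ, (χ₀ : P → ℂ) (g ^ j) = (ω ⟨g, hg⟩) ^ j * (χ₀ : P → ℂ) 1 := by
            intro j
            have := hω1 (⟨g, hg⟩ ^ j) 1
            rwa [mul_one, Subgroup.coe_pow, map_pow] at this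
          show (χ₀ : P → ℂ) (g ^ k) = (χ₀ : P → ℂ) (g ^ k')
          rw [e1, e1]
          congr 1
          exact pow_eq_pow_of_modEq hkk' (hωe _)
        · show (χ₀ : P → ℂ) (g ^ k) = (χ₀ : P → ℂ) (g ^ k')
          rw [hvan χ₀ hχ₀ _ (pow_not_mem_center hg (hcopP k hk)),
            hvan χ₀ hχ₀ _ (pow_not_mem_center hg (hcopP k' hk'))])
      (𝓝.image (fun χ : IrrCharacter P => (χ : P → ℂ)))
      (by
        intro a ha
        obtain ⟨ψ, hψ, rfl⟩ := Finset.mem_image.mp ha
        have hd : charDegree (χ₀ : P → ℂ) = charDegree (ψ : P → ℂ) := by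
          have h1 := hdeg χ₀ hχ₀
          have h2 := hdeg ψ hψ
          rw [← h2] at h1
          exact Nat.pow_left_injective (by norm_num : 2 ≠ 0) h1
        obtain ⟨k, hk, hkg⟩ := hGC χ₀ ψ ((hmem𝓝 χ₀).mp hχ₀) hd
        refine ⟨k, Nat.Coprime.coprime_dvd_right hedvd hk, ?_⟩
        funext g
        exact hkg g)
    rw [Finset.card_image_of_injective _ Subtype.val_injective] at hbound
    have hlt : 𝓝.card < e := lt_of_le_of_lt hbound (Nat.totient_lt e he2)
    -- arithmetic
    have h1 : 𝓝.card * idx * p + Nat.card P = Nat.card P * p := by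
      have := congrArg (· * p) hcnt
      simp only [add_mul] at this
      rw [hP'idx] at this
      exact this
    rw [← hZidx, ← hKe] at h1
    have h2 : (𝓝.card * p + e * Nat.card K) * idx = (e * Nat.card K * p) * idx := by
      nlinarith
    have h3 : 𝓝.card * p + e * Nat.card K = e * Nat.card K * p :=
      Nat.eq_of_mul_eq_mul_right hidxpos h2
    have h4 : (𝓝.card + 1) * p ≤ e * p := Nat.mul_le_mul_right p hlt
    have h5 : e * (p + Nat.card K) ≤ e * (Nat.card K * p) := by
      apply Nat.mul_le_mul_left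
      nlinarith
    nlinarith
  have hinj : Function.Injective ω := by
    intro a b hab
    have h1 : ω (a * b⁻¹) = 1 := by
      rw [map_mul, hab, ← map_mul, mul_inv_cancel, map_one]
    have h2 : a * b⁻¹ ∈ K := MonoidHom.mem_ker.mpr h1
    rw [hK, Subgroup.mem_bot] at h2
    exact mul_inv_eq_one.mp h2
  exact isCyclic_of_injective_ringHom ω hinj

/-- the squares of the degrees of the irreducible characters nontrivial on `N` sum to
`|P| - |P : N|` -/
theorem sum_nontriv_sq_add_index [Fintype (IrrCharacter P)] (N : Subgroup P) [N.Normal]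
    (s : Finset (IrrCharacter P))
    (hs : ∀ χ, χ ∈ s ↔ ¬ (∀ n ∈ N, (χ : P → ℂ) n = (χ : P → ℂ) 1)) :
    ∑ χ ∈ s, charDegree (χ : P → ℂ) ^ 2 + N.index = Nat.card P := by
  classical
  let _ : Fintype P := Fintype.ofFinite P
  let _ : Fintype (P ⧸ N) := Fintype.ofFinite _
  let _ : Fintype (IrrCharacter (P ⧸ N)) := Fintype.ofFinite _
  have h := sum_charDegree_sq (G := P)
  rw [← Finset.sum_filter_add_sum_filter_not Finset.univ
    (fun χ : IrrCharacter P => ∀ n ∈ N, (χ : P → ℂ) n = (χ : P → ℂ) 1)] at h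
  have hs' : s = Finset.univ.filter
      (fun χ : IrrCharacter P => ¬ ∀ n ∈ N, (χ : P → ℂ) n = (χ : P → ℂ) 1) := by
    ext χ
    rw [hs, Finset.mem_filter]
    simp
  have hq := sum_irr_quotient N (fun ψ : IrrCharacter P => ((charDegree (ψ : P → ℂ) ^ 2 : ℕ) : ℂ))
  have hq2 := sum_charDegree_sq (G := P ⧸ N)
  have h1 : ∑ χ ∈ Finset.univ.filter
      (fun χ : IrrCharacter P => ∀ n ∈ N, (χ : P → ℂ) n = (χ : P → ℂ) 1),
      charDegree (χ : P → ℂ) ^ 2 = N.index := by
    have h2 : ((∑ χ ∈ Finset.univ.filter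
      (fun χ : IrrCharacter P => ∀ n ∈ N, (χ : P → ℂ) n = (χ : P → ℂ) 1),
      charDegree (χ : P → ℂ) ^ 2 : ℕ) : ℂ) = ((N.index : ℕ) : ℂ) := by
      rw [Nat.cast_sum, ← hq, Subgroup.index_eq_card, Nat.card_eq_fintype_card, ← hq2,
        Nat.cast_sum]
      apply Finset.sum_congr rfl
      intro θ _
      rw [charDegree_inflateIrr]
    exact_mod_cast h2
  rw [h1, ← hs', add_comm, ← Nat.card_eq_fintype_card] at h
  exact h

theorem geom_sq_lt (p : ℕ) (hp : 2 ≤ p) (n : ℕ) (hn : 1 ≤ n) :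
    (∑ i ∈ Finset.Ico 1 n, (p ^ i) ^ 2) * p < (p ^ n) ^ 2 := by
  induction n, hn using Nat.le_induction with
  | base =>
    simp only [Finset.Ico_self, Finset.sum_empty, zero_mul]
    positivity
  | succ n hn ih =>
    rw [Finset.sum_Ico_succ_top hn, add_mul]
    have h1 : (p ^ (n + 1)) ^ 2 = (p ^ n) ^ 2 * p ^ 2 := by ring
    have h2 : 1 + p ≤ p ^ 2 := by nlinarith
    have h3 : 0 < (p ^ n) ^ 2 := by positivity
    nlinarith

end

end Cfsg.Agent.Lib.Helper21.GalConj
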