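import Mathlib
import Cfsg.Agent.Lib.Helper21.GalConjC

set_option autoImplicit false

namespace Cfsg.Agent.Lib.Helper21.GalConj

open Cfsg Cfsg.Agent.CharLib Cfsg.Agent.Lib.Helper6 Cfsg.Agent.Lib.Helper24 Cfsg.Agent.Lib.Helper25
open Cfsg.Agent.Lib.Helper21.Isaacs
open scoped ComplexConjugate commutatorElement

universe u

section
variable {P : Type u} [Group P] [Finite P]

set_option maxHeartbeats 1000000 in
/-- Case `|P'| > p`: impossible -/
theorem caseB_false (p : ℕ) [hp : Fact p.Prime] (hP : IsPGroup p P) (hGC : GalConjProp P)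
    (N : Subgroup P) [hN : N.Normal] (hNcard : Nat.card N = p) (hNZ : N ≤ Subgroup.center P)
    (hNP' : N ≤ commutator P)
    (hQcyc : IsCyclic (Subgroup.center (P ⧸ N)))
    (hQcard : Nat.card (commutator (P ⧸ N)) = p) : False := by
  classical
  let _ : Fintype (IrrCharacter P) := Fintype.ofFinite _
  have hp2 := hp.out.two_le
  have hQP : IsPGroup p (P ⧸ N) := hP.to_quotient N
  have hQle : commutator (P ⧸ N) ≤ Subgroup.center (P ⧸ N) :=
    le_center_of_normal_of_card_eq_prime p hQP _ hQcard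
  -- a nonlinear character of the quotient
  have hex : ∃ θ : IrrCharacter (P ⧸ N), charDegree (θ : P ⧸ N → ℂ) ≠ 1 := by
    by_contra hall
    push Not at hall
    have hcomm : ∀ a b : P ⧸ N, a * b = b * a :=
      comm_iff_forall_irr_apply_one.mpr (fun θ => by rw [irr_apply_one θ, hall θ]; simp)
    have hbot : commutator (P ⧸ N) = ⊥ := by
      rw [eq_bot_iff, commutator_def, Subgroup.commutator_le]
      intro a _ b _
      rw [Subgroup.mem_bot]
      exact commutatorElement_eq_one_iff_mul_comm.mpr (hcomm a b)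
    rw [hbot, Subgroup.card_bot] at hQcard
    omega
  obtain ⟨θ, hθ⟩ := hex
  set D := charDegree (θ : P ⧸ N → ℂ) with hDdef
  have hθnl : (θ : P ⧸ N → ℂ) 1 ≠ 1 := (irr_apply_one_ne_one_iff θ).mpr hθ
  have hθvan := irr_vanish_off_center hQcard hQle θ.2 hθnl
  have hD := card_center_mul_charDegree_sq_of_vanish θ hθvan
  set Y := preCenter N with hYdef
  have hYidx : Y.index = D ^ 2 := by
    rw [hYdef, index_preCenter]
    have := Subgroup.card_mul_index (Subgroup.center (P ⧸ N))
    rw [← this] at hD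
    exact (Nat.eq_of_mul_eq_mul_left Nat.card_pos hD).symm
  have hPY : D ^ 2 * Nat.card Y = Nat.card P := by
    rw [← hYidx]; exact Subgroup.index_mul_card Y
  -- Claim 1
  have hclaim1 : ∀ χ : IrrCharacter P, charDegree (χ : P → ℂ) = D →
      ∀ n ∈ N, (χ : P → ℂ) n = (χ : P → ℂ) 1 := by
    intro χ hχD n hn
    obtain ⟨k, hk, hkg⟩ := hGC (inflateIrr N θ) χ
      (by rw [charDegree_inflateIrr]; exact hθ) (by rw [charDegree_inflateIrr, hχD])
    rw [hkg n, hkg 1, one_pow]
    exact inflateIrr_mem_ker N θ (n ^ k) (Subgroup.pow_mem N hn k)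
  -- Claim 2
  have hNp : ∀ n ∈ N, n ^ p = 1 := by
    intro n hn
    have h1 : (⟨n, hn⟩ : N) ^ p = 1 := by rw [← hNcard]; exact pow_card_eq_one'
    exact congrArg (fun y : N => (y : P)) h1
  set E := p * Nat.card Y with hE
  have hexp : ∀ g : P, g ^ E = 1 := by
    intro g
    have h1 : g ^ p ∈ Y := by
      rw [hYdef, mem_preCenter_iff, QuotientGroup.mk_pow]
      exact pow_prime_mem_center p hQcard hQle _
    have h2 : (⟨g ^ p, h1⟩ : Y) ^ Nat.card Y = 1 := pow_card_eq_one'
    rw [hE, pow_mul]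
    exact congrArg (fun y : Y => (y : P)) h2
  -- Claim 3
  have hYZ : Nat.card Y ≤ p * Nat.card (Subgroup.center P) :=
    card_preCenter_le N p hNZ hNp hQcyc
  have hZidx : (Subgroup.center P).index ≤ p * D ^ 2 := by
    have h1 := Subgroup.card_mul_index (Subgroup.center P)
    have h2 : Nat.card (Subgroup.center P) * (Subgroup.center P).index ≤
        Nat.card (Subgroup.center P) * (p * D ^ 2) := by
      rw [h1, ← hPY]
      nlinarith [hYZ, Nat.zero_le (D ^ 2)]
    exact Nat.le_of_mul_le_mul_left h2 Nat.card_pos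
  -- `D = p ^ n`
  obtain ⟨m, hm⟩ := IsPGroup.iff_card.mp hP
  have hDdvd : D ∣ p ^ m := by
    rw [← hm]
    exact dvd_trans (irr_charDegree_dvd_card θ) (Subgroup.card_quotient_dvd_card N)
  obtain ⟨n, hnm, hDn⟩ := (Nat.dvd_prime_pow hp.out).mp hDdvd
  have hn1 : 1 ≤ n := by
    by_contra h
    have : n = 0 := by omega
    rw [this, pow_zero] at hDn
    exact hθ hDn
  -- the characters nontrivial on `N`
  set 𝒳 : Finset (IrrCharacter P) := Finset.univ.filter
    (fun χ : IrrCharacter P => ¬ (∀ n ∈ N, (χ : P → ℂ) n = (χ : P → ℂ) 1)) with h𝒳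
  have hmem𝒳 : ∀ χ, χ ∈ 𝒳 ↔ ¬ (∀ n ∈ N, (χ : P → ℂ) n = (χ : P → ℂ) 1) := fun χ => by
    simp [h𝒳]
  have hsumX := sum_nontriv_sq_add_index N 𝒳 hmem𝒳
  have hNidx : N.index * p = Nat.card P := by rw [← hNcard]; exact Subgroup.index_mul_card N
  set T : Finset ℕ := (Finset.Ico 1 n).image (fun i => p ^ i) with hT
  have hdegT : ∀ χ ∈ 𝒳, charDegree (χ : P → ℂ) ∈ T := by
    intro χ hχ
    have hχ' := (hmem𝒳 χ).mp hχ
    have hdvd : charDegree (χ : P → ℂ) ∣ p ^ m := by
      rw [← hm]; exact irr_charDegree_dvd_card χ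
    obtain ⟨i, him, hdi⟩ := (Nat.dvd_prime_pow hp.out).mp hdvd
    have hi0 : i ≠ 0 := by
      rintro rfl
      rw [pow_zero] at hdi
      apply hχ'
      intro x hx
      have h1 : (χ : P → ℂ) 1 = 1 := by rw [irr_apply_one χ, hdi]; simp
      have hker : x ∈ (linCharUnitsHom (IsIrrCharacter.isCharacter χ.2) h1).ker :=
        Abelianization.commutator_subset_ker _ (hNP' hx)
      have h2 := linCharUnitsHom_apply (IsIrrCharacter.isCharacter χ.2) h1 x
      rw [← h2, MonoidHom.mem_ker.mp hker, h1]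
      simp
    have hin : i ≠ n := by
      rintro rfl
      exact hχ' (hclaim1 χ (by rw [hdi, hDn]))
    have hile : i ≤ n := by
      have h1 := charDegree_sq_le_index_center χ
      have h2 := le_trans h1 hZidx
      rw [hdi, hDn, ← pow_mul, ← pow_mul, ← pow_succ'] at h2
      have := (Nat.pow_le_pow_iff_right hp.out.one_lt).mp h2
      omega
    rw [hT, Finset.mem_image]
    exact ⟨i, Finset.mem_Ico.mpr ⟨by omega, by omega⟩, hdi.symm⟩
  -- the Galois count
  have hYp : IsPGroup p Y := hP.to_subgroup Y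
  obtain ⟨s, hs⟩ := IsPGroup.iff_card.mp hYp
  have hEs : E = p ^ (s + 1) := by rw [hE, hs, pow_succ']
  have htot : Nat.totient E = (p - 1) * Nat.card Y := by
    rw [hEs, Nat.totient_prime_pow_succ hp.out, hs, mul_comm]
  have hpP : p ∣ Nat.card P := Dvd.intro_left _ hNidx
  have hcount : ∀ d : ℕ, d ≠ 1 →
      (𝒳.filter (fun χ : IrrCharacter P => charDegree (χ : P → ℂ) = d)).card ≤
        (p - 1) * Nat.card Y := by
    intro d hd
    rcases (𝒳.filter (fun χ : IrrCharacter P => charDegree (χ : P → ℂ) = d)).eq_empty_or_nonempty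
      with h0 | ⟨χ₁, hχ₁⟩
    · rw [h0, Finset.card_empty]; exact Nat.zero_le _
    have hχ₁d := (Finset.mem_filter.mp hχ₁).2
    have hE0 : NeZero E := ⟨by rw [hEs]; exact pow_ne_zero _ hp.out.ne_zero⟩
    have hbound := card_le_totient_of_periodic E
      (fun k : ℕ => fun g : P => (χ₁ : P → ℂ) (g ^ k))
      (by
        intro k k' _ _ hkk'
        funext g
        show (χ₁ : P → ℂ) (g ^ k) = (χ₁ : P → ℂ) (g ^ k')
        rw [pow_eq_pow_of_modEq hkk' (hexp g)])
      ((𝒳.filter (fun χ : IrrCharacter P => charDegree (χ : P → ℂ) = d)).image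
        (fun χ : IrrCharacter P => (χ : P → ℂ)))
      (by
        intro a ha
        obtain ⟨ψ, hψ, rfl⟩ := Finset.mem_image.mp ha
        have hψd := (Finset.mem_filter.mp hψ).2
        obtain ⟨k, hk, hkg⟩ := hGC χ₁ ψ (by rw [hχ₁d]; exact hd) (by rw [hχ₁d, hψd])
        refine ⟨k, ?_, funext hkg⟩
        rw [hEs]
        exact Nat.Coprime.pow_right _ (Nat.Coprime.coprime_dvd_right hpP hk))
    rw [Finset.card_image_of_injective _ Subtype.val_injective, htot] at hbound
    exact hbound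
  -- the final count
  have hfiber := Finset.sum_fiberwise_of_maps_to hdegT
    (fun χ : IrrCharacter P => charDegree (χ : P → ℂ) ^ 2)
  have hinner : ∀ d ∈ T, ∑ χ ∈ 𝒳.filter (fun χ : IrrCharacter P => charDegree (χ : P → ℂ) = d),
      charDegree (χ : P → ℂ) ^ 2 ≤ (p - 1) * Nat.card Y * d ^ 2 := by
    intro d hd
    have hd1 : d ≠ 1 := by
      rw [hT, Finset.mem_image] at hd
      obtain ⟨i, hi, rfl⟩ := hd
      have hi1 := (Finset.mem_Ico.mp hi).1
      exact (Nat.one_lt_pow (by omega) hp.out.one_lt).ne'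
    have h1 : ∀ χ ∈ 𝒳.filter (fun χ : IrrCharacter P => charDegree (χ : P → ℂ) = d),
        charDegree (χ : P → ℂ) ^ 2 = d ^ 2 := by
      intro χ hχ
      rw [(Finset.mem_filter.mp hχ).2]
    rw [Finset.sum_congr rfl h1, Finset.sum_const, smul_eq_mul]
    exact Nat.mul_le_mul_right _ (hcount d hd1)
  have hS : ∑ χ ∈ 𝒳, charDegree (χ : P → ℂ) ^ 2 ≤
      (p - 1) * Nat.card Y * ∑ i ∈ Finset.Ico 1 n, (p ^ i) ^ 2 := by
    rw [← hfiber]
    refine le_trans (Finset.sum_le_sum hinner) ?_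
    rw [← Finset.mul_sum, hT, Finset.sum_image]
    intro a _ b _ hab
    exact Nat.pow_right_injective hp2 hab
  have hgeom := geom_sq_lt p hp2 n hn1
  rw [← hDn] at hgeom
  set S := ∑ χ ∈ 𝒳, charDegree (χ : P → ℂ) ^ 2 with hSdef
  set Gs := ∑ i ∈ Finset.Ico 1 n, (p ^ i) ^ 2 with hGs
  have hYpos : 0 < Nat.card Y := Nat.card_pos
  obtain ⟨q, rfl⟩ : ∃ q, p = q + 1 := ⟨p - 1, by omega⟩
  have hq1 : 1 ≤ q := by omega
  simp only [Nat.add_sub_cancel] at hS
  have h1 : S * (q + 1) + Nat.card P = Nat.card P * (q + 1) := by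
    have := congrArg (· * (q + 1)) hsumX
    simp only [add_mul] at this
    rw [hNidx] at this
    exact this
  rw [← hPY] at h1
  have h2 : S * (q + 1) = D ^ 2 * Nat.card Y * q := by nlinarith
  have h3 : S * (q + 1) ≤ q * Nat.card Y * Gs * (q + 1) := Nat.mul_le_mul_right _ hS
  have h4 : q * Nat.card Y * (Gs * (q + 1)) < q * Nat.card Y * D ^ 2 := by
    apply Nat.mul_lt_mul_of_pos_left hgeom
    positivity
  nlinarith

end

end Cfsg.Agent.Lib.Helper21.GalConj
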