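import Mathlib
import Cfsg.Agent.Lib.Helper21.GalConjD

set_option autoImplicit false

namespace Cfsg.Agent.Lib.Helper21.GalConj

open Cfsg Cfsg.Agent.CharLib Cfsg.Agent.Lib.Helper6 Cfsg.Agent.Lib.Helper24 Cfsg.Agent.Lib.Helper25
open scoped ComplexConjugate commutatorElement

universe u

/-- the "only if" direction, by induction on the order -/
theorem forward_aux (p : ℕ) [hp : Fact p.Prime] : ∀ n : ℕ, ∀ (P : Type u) [Group P] [Finite P],
    Nat.card P = n → IsPGroup p P → ¬ IsMulCommutative P → GalConjProp P →
    IsCyclic (Subgroup.center P) ∧ Nat.card (commutator P) = p := by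
  intro n
  induction n using Nat.strong_induction_on with
  | _ n ih =>
    intro P _ _ hcardP hP hna hGC
    have hne : commutator P ≠ ⊥ := by
      intro hbot
      apply hna
      rw [isMulCommutative_iff]
      intro a b
      have : ⁅a, b⁆ ∈ commutator P := commutatorElement_mem_commutator' a b
      rw [hbot, Subgroup.mem_bot] at this
      exact commutatorElement_eq_one_iff_mul_comm.mp this
    obtain ⟨c, hcP', hcZ, hco⟩ := exists_central_orderOf_eq_prime p hP (commutator P) hne
    set N := Subgroup.zpowers c with hN
    have hNcard : Nat.card N = p := by rw [Nat.card_zpowers, hco]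
    have hNZ : N ≤ Subgroup.center P := Subgroup.zpowers_le_of_mem hcZ
    have hNP' : N ≤ commutator P := Subgroup.zpowers_le_of_mem hcP'
    have hNn : N.Normal := normal_of_le_center_gc N hNZ
    by_cases hcase : Nat.card (commutator P) = p
    · exact ⟨isCyclic_center_of_galConj p hP hGC hcase, hcase⟩
    · exfalso
      have hQna : ¬ IsMulCommutative (P ⧸ N) := by
        intro hQ
        apply hcase
        have hle : commutator P ≤ N := by
          rw [commutator_def, Subgroup.commutator_le]
          intro a _ b _
          rw [← QuotientGroup.eq_one_iff]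
          have h1 : ((⁅a, b⁆ : P) : P ⧸ N) = ⁅(a : P ⧸ N), (b : P ⧸ N)⁆ := by
            rw [commutatorElement_def, commutatorElement_def]
            simp
          rw [h1, commutatorElement_eq_one_iff_mul_comm]
          exact isMulCommutative_iff.mp hQ _ _
        rw [le_antisymm hle hNP']
        exact hNcard
      have hQcard : Nat.card (P ⧸ N) < n := by
        rw [← hcardP, ← Subgroup.index_eq_card]
        have h1 := Subgroup.index_mul_card N
        rw [hNcard] at h1
        have hp2 := hp.out.two_le
        have hpos : 0 < N.index := Nat.pos_of_ne_zero Subgroup.index_ne_zero_of_finite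
        nlinarith
      obtain ⟨hQcyc, hQc⟩ := ih _ hQcard (P ⧸ N) rfl (hP.to_quotient N) hQna (hGC.quotient N)
      exact caseB_false p hP hGC N hNcard hNZ hNP' hQcyc hQc

/-- nonlinear irreducible characters of equal degree of a nonabelian finite `p`-group are always
Galois conjugate iff the centre is cyclic and the derived subgroup has order `p` -/
theorem galConj_iff {P : Type u} [Group P] [Finite P] (p : ℕ) [Fact p.Prime] (hP : IsPGroup p P)
    (hna : ¬ IsMulCommutative P) :
    (∀ χ ψ : IrrCharacter P, charDegree (χ : P → ℂ) ≠ 1 →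
      charDegree (χ : P → ℂ) = charDegree (ψ : P → ℂ) →
      ∃ k : ℕ, Nat.Coprime k (Nat.card P) ∧ ∀ g : P, (ψ : P → ℂ) g = (χ : P → ℂ) (g ^ k)) ↔
      (IsCyclic (Subgroup.center P) ∧ Nat.card (commutator P) = p) :=
  ⟨fun h => forward_aux p _ P rfl hP hna h,
    fun ⟨h1, h2⟩ χ ψ hχ hd => galConj_of_cyclic_center p hP h1 h2 χ ψ hχ hd⟩

end Cfsg.Agent.Lib.Helper21.GalConj
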