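import Mathlib

set_option autoImplicit false

namespace Cfsg.Agent.Lib.Helper21.KrullSchmidt

universe u v

/-- directly indecomposable (as in the statement S4223) -/
def Indec (X : Type u) [Group X] : Prop :=
  Nontrivial X ∧ ∀ H K : Subgroup X, H.Normal → K.Normal → H ⊓ K = ⊥ → H ⊔ K = ⊤ → H = ⊥ ∨ K = ⊥

/-- in a finite monoid some positive power of any element is idempotent -/
theorem exists_idempotent_pow {M : Type*} [Monoid M] [Finite M] (a : M) :
    ∃ N : ℕ, 0 < N ∧ a ^ N * a ^ N = a ^ N := by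
  obtain ⟨x, y, hxy, hfxy⟩ := Finite.exists_ne_map_eq_of_infinite (fun k : ℕ => a ^ k)
  wlog hlt : x < y generalizing x y
  · exact this y x hxy.symm hfxy.symm (lt_of_le_of_ne (not_lt.mp hlt) hxy.symm)
  obtain ⟨d, rfl⟩ := Nat.exists_eq_add_of_lt hlt
  -- y = x + d + 1
  have step : ∀ k, x ≤ k → a ^ (k + (d + 1)) = a ^ k := by
    intro k hk
    obtain ⟨c, rfl⟩ := Nat.exists_eq_add_of_le hk
    calc a ^ (x + c + (d + 1)) = a ^ c * a ^ (x + d + 1) := by rw [← pow_add]; congr 1; ring
      _ = a ^ c * a ^ x := by rw [← hfxy]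
      _ = a ^ (x + c) := by rw [← pow_add]; congr 1; ring
  have step2 : ∀ j k, x ≤ k → a ^ (k + j * (d + 1)) = a ^ k := by
    intro j
    induction j with
    | zero => intro k _; simp
    | succ j ih =>
      intro k hk
      have : k + (j + 1) * (d + 1) = (k + j * (d + 1)) + (d + 1) := by ring
      rw [this, step _ (le_trans hk (Nat.le_add_right _ _)), ih k hk]
  refine ⟨(x + 1) * (d + 1), by positivity, ?_⟩
  rw [← pow_add]
  apply step2 (x + 1) ((x + 1) * (d + 1))
  nlinarith

variable {X : Type u} [Group X]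

/-- Fitting-type lemma: a normal endomorphism of a finite indecomposable group is injective or nilpotent -/
theorem injective_or_nilpotent [Finite X] (hX : Indec X) (θ : X →* X)
    (hnorm : ∀ a x : X, θ (a * x * a⁻¹) = a * θ x * a⁻¹) :
    Function.Injective θ ∨ ∃ N : ℕ, ∀ x, θ^[N] x = 1 := by
  have : Finite (Monoid.End X) :=
    Finite.of_injective (fun f : Monoid.End X => (f : X → X)) DFunLike.coe_injective
  obtain ⟨N, hN0, hN⟩ := exists_idempotent_pow (show Monoid.End X from θ)
  obtain ⟨e, he⟩ : ∃ e : X →* X, e = (show Monoid.End X from θ) ^ N := ⟨_, rfl⟩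
  have hefun : ∀ x, e x = θ^[N] x := by
    intro x
    rw [he]
    rfl
  have hee : ∀ x, e (e x) = e x := fun x => by
    have := congrArg (fun f : Monoid.End X => f x) hN
    rw [he]
    exact this
  have hiter : ∀ (n : ℕ) (a x : X), θ^[n] (a * x * a⁻¹) = a * θ^[n] x * a⁻¹ := by
    intro n
    induction n with
    | zero => intro a x; rfl
    | succ n ih =>
      intro a x
      rw [Function.iterate_succ_apply, Function.iterate_succ_apply, hnorm, ih]
  have henorm : ∀ a x : X, e (a * x * a⁻¹) = a * e x * a⁻¹ := by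
    intro a x
    rw [hefun, hefun, hiter]
  have hkn : (MonoidHom.ker (e : X →* X)).Normal := inferInstance
  have hrn : (MonoidHom.range (e : X →* X)).Normal := by
    constructor
    rintro _ ⟨x, rfl⟩ a
    exact ⟨a * x * a⁻¹, henorm a x⟩
  have hinf : MonoidHom.ker (e : X →* X) ⊓ MonoidHom.range (e : X →* X) = ⊥ := by
    rw [eq_bot_iff]
    rintro y ⟨hy1, x, rfl⟩
    have hy1' : e (e x) = 1 := hy1
    rw [Subgroup.mem_bot]
    have := hee x
    rw [← this]; exact hy1'
  have hsup : MonoidHom.ker (e : X →* X) ⊔ MonoidHom.range (e : X →* X) = ⊤ := by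
    rw [eq_top_iff]
    intro x _
    have h1 : x * (e x)⁻¹ ∈ MonoidHom.ker (e : X →* X) := by
      show e (x * (e x)⁻¹) = 1
      rw [map_mul, map_inv, hee, mul_inv_cancel]
    have h2 : e x ∈ MonoidHom.range (e : X →* X) := ⟨x, rfl⟩
    have : x = (x * (e x)⁻¹) * e x := by group
    rw [this]
    exact Subgroup.mul_mem_sup h1 h2
  rcases hX.2 _ _ hkn hrn hinf hsup with h | h
  · left
    intro x y hxy
    have h1 : ∀ z : X, θ z = 1 → z = 1 := by
      intro z hz
      have : z ∈ MonoidHom.ker (e : X →* X) := by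
        show e z = 1
        rw [hefun]
        obtain ⟨n, rfl⟩ := Nat.exists_eq_succ_of_ne_zero hN0.ne'
        rw [Function.iterate_succ_apply, hz]
        exact iterate_map_one θ n
      rw [h, Subgroup.mem_bot] at this
      exact this
    have h2 : θ (x * y⁻¹) = 1 := by rw [map_mul, map_inv, hxy, mul_inv_cancel]
    have := h1 _ h2
    exact mul_inv_eq_one.mp this
  · right
    refine ⟨N, fun x => ?_⟩
    have : e x ∈ MonoidHom.range (e : X →* X) := ⟨x, rfl⟩
    rw [h, Subgroup.mem_bot] at this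
    rw [← hefun]
    exact this

/-- Lemma A: two endomorphisms with commuting images summing to the identity -/
theorem bijective_or_bijective [Finite X] (hX : Indec X) (θ ψ : X →* X)
    (hsum : ∀ x, θ x * ψ x = x) (hcomm : ∀ x y, θ x * ψ y = ψ y * θ x) :
    Function.Bijective θ ∨ Function.Bijective ψ := by
  have hnorm : ∀ a x : X, θ (a * x * a⁻¹) = a * θ x * a⁻¹ := by
    intro a x
    rw [map_mul, map_mul, map_inv]
    conv_rhs => rw [← hsum a]
    have h1 := hcomm x a
    calc θ a * θ x * (θ a)⁻¹ = θ a * (θ x * ψ a) * (ψ a)⁻¹ * (θ a)⁻¹ := by group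
      _ = θ a * (ψ a * θ x) * (ψ a)⁻¹ * (θ a)⁻¹ := by rw [h1]
      _ = θ a * ψ a * θ x * (θ a * ψ a)⁻¹ := by group
  rcases injective_or_nilpotent hX θ hnorm with h | ⟨N, hN⟩
  · left
    exact Finite.injective_iff_bijective.mp h
  · right
    apply Finite.injective_iff_bijective.mp
    have h1 : ∀ z : X, ψ z = 1 → z = 1 := by
      intro z hz
      have h2 : θ z = z := by
        have := hsum z
        rwa [hz, mul_one] at this
      have h3 : ∀ n : ℕ, θ^[n] z = z := by
        intro n
        induction n with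
        | zero => rfl
        | succ n ih => rw [Function.iterate_succ_apply, h2, ih]
      rw [← h3 N, hN]
    intro x y hxy
    have h2 : ψ (x * y⁻¹) = 1 := by rw [map_mul, map_inv, hxy, mul_inv_cancel]
    exact mul_inv_eq_one.mp (h1 _ h2)

/-- Lemma B -/
theorem bijective_of_comp_bijective {Z : Type v} [Group Z] [Finite Z] [Finite X]
    (hXnt : Nontrivial X) (hZ : Indec Z) (α : X →* Z) (β : Z →* X)
    (hbij : Function.Bijective (fun x => β (α x)))
    (hcomm : ∀ (x : X) (k : Z), β k = 1 → α x * k = k * α x) : Function.Bijective α := by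
  have hrn : (MonoidHom.range α).Normal := by
    constructor
    rintro _ ⟨x, rfl⟩ z
    obtain ⟨x0, hx0⟩ := hbij.2 (β z)
    have hk : β ((α x0)⁻¹ * z) = 1 := by
      rw [map_mul, map_inv]
      have : β (α x0) = β z := hx0
      rw [this, inv_mul_cancel]
    have hc := hcomm x _ hk
    refine ⟨x0 * x * x0⁻¹, ?_⟩
    rw [map_mul, map_mul, map_inv]
    have hz : z = α x0 * ((α x0)⁻¹ * z) := by group
    conv_rhs => rw [hz]
    set k := (α x0)⁻¹ * z with hkdef
    calc α x0 * α x * (α x0)⁻¹ = α x0 * (α x * k) * k⁻¹ * (α x0)⁻¹ := by group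
      _ = α x0 * (k * α x) * k⁻¹ * (α x0)⁻¹ := by rw [hc]
      _ = α x0 * k * α x * (α x0 * k)⁻¹ := by group
  have hkn : (MonoidHom.ker β).Normal := inferInstance
  have hinf : MonoidHom.range α ⊓ MonoidHom.ker β = ⊥ := by
    rw [eq_bot_iff]
    rintro y ⟨⟨x, rfl⟩, hy⟩
    have hy' : β (α x) = 1 := hy
    rw [Subgroup.mem_bot]
    have : x = 1 := hbij.1 (by simp only [hy', map_one])
    rw [this, map_one]
  have hsup : MonoidHom.range α ⊔ MonoidHom.ker β = ⊤ := by
    rw [eq_top_iff]
    intro z _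
    obtain ⟨x0, hx0⟩ := hbij.2 (β z)
    have hk : (α x0)⁻¹ * z ∈ MonoidHom.ker β := by
      show β ((α x0)⁻¹ * z) = 1
      rw [map_mul, map_inv]
      have : β (α x0) = β z := hx0
      rw [this, inv_mul_cancel]
    have hz : z = α x0 * ((α x0)⁻¹ * z) := by group
    rw [hz]
    exact Subgroup.mul_mem_sup ⟨x0, rfl⟩ hk
  have hαinj : Function.Injective α := by
    intro x y hxy
    apply hbij.1
    show β (α x) = β (α y)
    rw [hxy]
  rcases hZ.2 _ _ hrn hkn hinf hsup with h | h
  · exfalso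
    obtain ⟨x, hx⟩ := exists_ne (1 : X)
    apply hx
    apply hαinj
    have : α x ∈ MonoidHom.range α := ⟨x, rfl⟩
    rw [h, Subgroup.mem_bot] at this
    rw [this, map_one]
  · refine ⟨hαinj, ?_⟩
    intro z
    obtain ⟨x0, hx0⟩ := hbij.2 (β z)
    refine ⟨x0, ?_⟩
    have hx0' : β (α x0) = β z := hx0
    have h1 : (α x0)⁻¹ * z ∈ MonoidHom.ker β := by
      show β ((α x0)⁻¹ * z) = 1
      rw [map_mul, map_inv, hx0', inv_mul_cancel]
    rw [h, Subgroup.mem_bot] at h1
    exact (inv_mul_eq_one.mp h1)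

/-- two-factor exchange step -/
theorem exchange_two {Z W : Type v} [Group Z] [Finite Z] [Group W] [Finite W] [Finite X]
    (hX : Indec X) (hZ : Indec Z) (ι : X →* Z × W) (π : Z × W →* X) (hπι : ∀ x, π (ι x) = x)
    (hcomm : ∀ (x : X) (k : Z × W), π k = 1 → ι x * k = k * ι x) :
    Function.Bijective (fun x => (ι x).1) ∨
      ∃ π' : W →* X, (∀ x, π' (ι x).2 = x) ∧
        ∀ (x : X) (k : W), π' k = 1 → (ι x).2 * k = k * (ι x).2 := by
  let θ : X →* X := π.comp ((MonoidHom.inl Z W).comp ((MonoidHom.fst Z W).comp ι))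
  let ψ : X →* X := π.comp ((MonoidHom.inr Z W).comp ((MonoidHom.snd Z W).comp ι))
  have hθ : ∀ x, θ x = π ((ι x).1, 1) := fun x => rfl
  have hψ : ∀ x, ψ x = π (1, (ι x).2) := fun x => rfl
  have hsum : ∀ x, θ x * ψ x = x := by
    intro x
    rw [hθ, hψ, ← map_mul, Prod.mk_mul_mk, mul_one, one_mul]
    exact hπι x
  have hcm : ∀ x y, θ x * ψ y = ψ y * θ x := by
    intro x y
    rw [hθ, hψ, ← map_mul, ← map_mul, Prod.mk_mul_mk, Prod.mk_mul_mk, mul_one, one_mul, mul_one,
      one_mul]
  rcases bijective_or_bijective hX θ ψ hsum hcm with h | h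
  · left
    apply bijective_of_comp_bijective hX.1 hZ ((MonoidHom.fst Z W).comp ι)
      (π.comp (MonoidHom.inl Z W)) h
    intro x k hk
    have hk' : π (k, 1) = 1 := hk
    have := hcomm x (k, 1) hk'
    exact congrArg Prod.fst this
  · right
    let ψe : X ≃* X := MulEquiv.ofBijective ψ h
    refine ⟨ψe.symm.toMonoidHom.comp (π.comp (MonoidHom.inr Z W)), ?_, ?_⟩
    · intro x
      show ψe.symm (π (1, (ι x).2)) = x
      rw [← hψ]
      exact ψe.symm_apply_apply x
    · intro x k hk
      have hk' : ψe.symm (π (1, k)) = 1 := hk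
      have hk'' : π (1, k) = 1 := by
        have := congrArg ψe hk'
        rwa [ψe.apply_symm_apply, map_one] at this
      have := hcomm x (1, k) hk''
      exact congrArg Prod.snd this

/-- splitting a product at an index, as a group isomorphism -/
def piSplit {κ : Type} [DecidableEq κ] (B : κ → Type v) [∀ j, Group (B j)] (j0 : κ) :
    (∀ j, B j) ≃* B j0 × (∀ j : {j // j ≠ j0}, B j.1) :=
  { Equiv.piSplitAt j0 B with map_mul' := fun _ _ => rfl }

theorem piSplit_apply_fst {κ : Type} [DecidableEq κ] (B : κ → Type v) [∀ j, Group (B j)] (j0 : κ)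
    (f : ∀ j, B j) : (piSplit B j0 f).1 = f j0 := rfl

theorem piSplit_apply_snd {κ : Type} [DecidableEq κ] (B : κ → Type v) [∀ j, Group (B j)] (j0 : κ)
    (f : ∀ j, B j) (j : {j // j ≠ j0}) : (piSplit B j0 f).2 j = f j.1 := rfl

theorem card_subtype_ne {κ : Type} [Fintype κ] [DecidableEq κ] (j0 : κ) :
    Fintype.card {j // j ≠ j0} + 1 = Fintype.card κ := by
  rw [← Fintype.card_option]
  exact Fintype.card_congr (Equiv.optionSubtypeNe j0)

/-- the exchange lemma: an indecomposable direct factor of a product of indecomposables projects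
isomorphically onto one of the factors -/
theorem exists_bijective_proj (X : Type u) [Group X] [Finite X] (hX : Indec X) :
    ∀ (n : ℕ) (κ : Type) [Fintype κ] [DecidableEq κ], Fintype.card κ = n →
    ∀ (B : κ → Type v) [∀ j, Group (B j)] [∀ j, Finite (B j)], (∀ j, Indec (B j)) →
    ∀ (ι : X →* (∀ j, B j)) (π : (∀ j, B j) →* X), (∀ x, π (ι x) = x) →
      (∀ x k, π k = 1 → ι x * k = k * ι x) → ∃ j0, Function.Bijective (fun x => ι x j0) := by
  intro n
  induction n with
  | zero =>
    intro κ _ _ hcard B _ _ _ ι π hπι _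
    exfalso
    have hempty : IsEmpty κ := Fintype.card_eq_zero_iff.mp hcard
    obtain ⟨x, hx⟩ := @exists_ne X hX.1 1
    apply hx
    rw [← hπι x, ← hπι 1]
    congr 1
    funext j
    exact isEmptyElim j
  | succ n ih =>
    intro κ _ _ hcard B _ _ hB ι π hπι hcomm
    have hne : Nonempty κ := by
      rw [← Fintype.card_pos_iff, hcard]; exact Nat.succ_pos n
    obtain ⟨j1⟩ := hne
    let s := piSplit B j1
    let ι₂ : X →* B j1 × (∀ j : {j // j ≠ j1}, B j.1) := s.toMonoidHom.comp ι
    let π₂ : B j1 × (∀ j : {j // j ≠ j1}, B j.1) →* X := π.comp s.symm.toMonoidHom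
    have h1 : ∀ x, π₂ (ι₂ x) = x := by
      intro x
      show π (s.symm (s (ι x))) = x
      rw [s.symm_apply_apply]; exact hπι x
    have h2 : ∀ (x : X) (k : B j1 × (∀ j : {j // j ≠ j1}, B j.1)), π₂ k = 1 →
        ι₂ x * k = k * ι₂ x := by
      intro x k hk
      have hk' : π (s.symm k) = 1 := hk
      have := hcomm x _ hk'
      have h3 := congrArg s this
      rw [map_mul, map_mul, s.apply_symm_apply] at h3
      exact h3
    rcases exchange_two hX (hB j1) ι₂ π₂ h1 h2 with h | ⟨π', hπ'1, hπ'2⟩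
    · exact ⟨j1, h⟩
    · have hcard' : Fintype.card {j // j ≠ j1} = n := by
        have := card_subtype_ne j1
        omega
      obtain ⟨j0, hj0⟩ := ih {j // j ≠ j1} hcard' (fun j => B j.1) (fun j => hB j.1)
        ((MonoidHom.snd _ _).comp ι₂) π' hπ'1 hπ'2
      exact ⟨j0.1, hj0⟩

/-- Lemma E: cancelling the exchanged factor -/
theorem complement_equiv {X Y : Type u} {Z W : Type v} [Group X] [Group Y] [Group Z] [Group W]
    [Finite X] [Finite Y] [Finite Z] [Finite W] (φ : X × Y ≃* Z × W)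
    (hα : Function.Bijective (fun x => (φ (x, 1)).1)) : Nonempty (Y ≃* W) := by
  let γ : W →* Y := (MonoidHom.snd X Y).comp (φ.symm.toMonoidHom.comp (MonoidHom.inr Z W))
  have hγ : ∀ w, γ w = (φ.symm (1, w)).2 := fun w => rfl
  have hinj : Function.Injective γ := by
    rw [injective_iff_map_eq_one]
    intro w hw
    rw [hγ] at hw
    have h1 : φ.symm (1, w) = ((φ.symm (1, w)).1, 1) := Prod.ext rfl hw
    have h2 : (1, w) = φ ((φ.symm (1, w)).1, 1) := by
      rw [← h1, φ.apply_symm_apply]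
    have h3 : (φ ((φ.symm (1, w)).1, 1)).1 = 1 := by rw [← h2]
    have h4 : (φ.symm (1, w)).1 = 1 := by
      apply hα.1
      show (φ ((φ.symm (1, w)).1, 1)).1 = (φ (1, 1)).1
      rw [h3]
      have : ((1 : X), (1 : Y)) = 1 := rfl
      rw [this, map_one]; rfl
    rw [h4] at h2
    have h5 : ((1 : X), (1 : Y)) = 1 := rfl
    rw [h5, map_one] at h2
    exact (congrArg Prod.snd h2)
  have hcard : Nat.card X * Nat.card Y = Nat.card Z * Nat.card W := by
    rw [← Nat.card_prod, ← Nat.card_prod]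
    exact Nat.card_congr φ.toEquiv
  have hXZ : Nat.card X = Nat.card Z := Nat.card_congr (Equiv.ofBijective _ hα)
  have hYW : Nat.card Y = Nat.card W := by
    rw [hXZ] at hcard
    exact Nat.eq_of_mul_eq_mul_left Nat.card_pos hcard
  have hbij : Function.Bijective γ := hinj.bijective_of_nat_card_le hYW.le
  exact ⟨(MulEquiv.ofBijective γ hbij).symm⟩

/-- Krull–Schmidt for finite groups, general finite index types -/
theorem krull_schmidt : ∀ (n : ℕ) (ι κ : Type) [Fintype ι] [DecidableEq ι] [Fintype κ] [DecidableEq κ],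
    Fintype.card ι = n →
    ∀ (A : ι → Type u) (B : κ → Type v) [∀ i, Group (A i)] [∀ j, Group (B j)]
      [∀ i, Finite (A i)] [∀ j, Finite (B j)], (∀ i, Indec (A i)) → (∀ j, Indec (B j)) →
      ((∀ i, A i) ≃* (∀ j, B j)) → ∃ σ : ι ≃ κ, ∀ i, Nonempty (A i ≃* B (σ i)) := by
  intro n
  induction n with
  | zero =>
    intro ι κ _ _ _ _ hcard A B _ _ _ _ hA hB e
    have hι : IsEmpty ι := Fintype.card_eq_zero_iff.mp hcard
    have hκ : IsEmpty κ := by
      by_contra hne
      rw [not_isEmpty_iff] at hne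
      obtain ⟨j⟩ := hne
      obtain ⟨b, hb⟩ := @exists_ne (B j) (hB j).1 1
      apply hb
      have h1 : e.symm (Pi.mulSingle j b) = e.symm 1 := by
        funext i
        exact isEmptyElim i
      have h2 := e.symm.injective h1
      have h3 := congrFun h2 j
      rwa [Pi.mulSingle_eq_same] at h3
    exact ⟨Equiv.equivOfIsEmpty ι κ, fun i => isEmptyElim i⟩
  | succ n ih =>
    intro ι κ _ _ _ _ hcard A B _ _ _ _ hA hB e
    have hne : Nonempty ι := by
      rw [← Fintype.card_pos_iff, hcard]; exact Nat.succ_pos n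
    obtain ⟨i0⟩ := hne
    let sA := piSplit A i0
    let ιX : A i0 →* (∀ j, B j) :=
      e.toMonoidHom.comp (sA.symm.toMonoidHom.comp (MonoidHom.inl _ _))
    let πX : (∀ j, B j) →* A i0 :=
      (MonoidHom.fst _ _).comp (sA.toMonoidHom.comp e.symm.toMonoidHom)
    have hιX : ∀ x, ιX x = e (sA.symm (x, 1)) := fun x => rfl
    have hπX : ∀ k, πX k = (sA (e.symm k)).1 := fun k => rfl
    have h1 : ∀ x, πX (ιX x) = x := by
      intro x
      rw [hιX, hπX, e.symm_apply_apply, sA.apply_symm_apply]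
    have h2 : ∀ x k, πX k = 1 → ιX x * k = k * ιX x := by
      intro x k hk
      rw [hπX] at hk
      have h3 : sA (e.symm k) = (1, (sA (e.symm k)).2) := Prod.ext hk rfl
      have h4 : k = e (sA.symm (1, (sA (e.symm k)).2)) := by
        rw [← h3, sA.symm_apply_apply, e.apply_symm_apply]
      rw [hιX]
      conv_lhs => rw [h4]
      conv_rhs => rw [h4]
      rw [← map_mul, ← map_mul, ← map_mul, ← map_mul, Prod.mk_mul_mk, Prod.mk_mul_mk, mul_one,
        one_mul, mul_one, one_mul]
    obtain ⟨j0, hj0⟩ := exists_bijective_proj (A i0) (hA i0) _ κ rfl B hB ιX πX h1 h2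
    let sB := piSplit B j0
    let φ : A i0 × (∀ i : {i // i ≠ i0}, A i.1) ≃* B j0 × (∀ j : {j // j ≠ j0}, B j.1) :=
      sA.symm.trans (e.trans sB)
    have hφ : Function.Bijective (fun x => (φ (x, 1)).1) := hj0
    obtain ⟨e'⟩ := complement_equiv φ hφ
    have hcard' : Fintype.card {i // i ≠ i0} = n := by
      have := card_subtype_ne i0
      omega
    obtain ⟨σ', hσ'⟩ := ih {i // i ≠ i0} {j // j ≠ j0} hcard' (fun i => A i.1) (fun j => B j.1)
      (fun i => hA i.1) (fun j => hB j.1) e'
    let σ : ι ≃ κ := (Equiv.optionSubtypeNe i0).symm.trans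
      ((Equiv.optionCongr σ').trans (Equiv.optionSubtypeNe j0))
    have hσ0 : σ i0 = j0 := by
      show (Equiv.optionSubtypeNe j0) ((Equiv.optionCongr σ') ((Equiv.optionSubtypeNe i0).symm i0)) = j0
      rw [Equiv.optionSubtypeNe_symm_self]
      simp
    have hσ1 : ∀ (i : ι) (hi : i ≠ i0), σ i = (σ' ⟨i, hi⟩).1 := by
      intro i hi
      show (Equiv.optionSubtypeNe j0) ((Equiv.optionCongr σ') ((Equiv.optionSubtypeNe i0).symm i)) = _
      rw [Equiv.optionSubtypeNe_symm_of_ne hi]
      simp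
    refine ⟨σ, fun i => ?_⟩
    by_cases hi : i = i0
    · subst hi
      rw [hσ0]
      exact ⟨MulEquiv.ofBijective ((Pi.evalMonoidHom B j0).comp ιX) hj0⟩
    · rw [hσ1 i hi]
      exact hσ' ⟨i, hi⟩

end Cfsg.Agent.Lib.Helper21.KrullSchmidt
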