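import Mathlib

set_option autoImplicit false

namespace Cfsg.Agent.Lib.Helper21.MaxCent

open Subgroup

variable {G : Type*} [Group G]

/-- Hypothesis: every nonidentity element of `N` has a maximal centralizer in `G`
not containing `N`. -/
def Hyp (N : Subgroup G) : Prop :=
  ∀ x ∈ N, x ≠ 1 → IsCoatom (centralizer ({x} : Set G)) ∧ ¬ N ≤ centralizer ({x} : Set G)

theorem mem_cent_iff {x g : G} : g ∈ centralizer ({x} : Set G) ↔ g * x = x * g :=
  mem_centralizer_singleton_iff

theorem cent_pow_eq {N : Subgroup G} (hN : Hyp N) {x : G} (hx : x ∈ N) (k : ℕ)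
    (hk : x ^ k ≠ 1) : centralizer ({x ^ k} : Set G) = centralizer ({x} : Set G) := by
  have hx1 : x ≠ 1 := by
    rintro rfl
    exact hk (one_pow k)
  have h1 := (hN x hx hx1).1
  have h2 := (hN (x ^ k) (N.pow_mem hx k) hk).1
  have hle : centralizer ({x} : Set G) ≤ centralizer ({x ^ k} : Set G) := by
    intro g hg
    rw [mem_cent_iff] at hg ⊢
    have : Commute g x := hg
    exact (this.pow_right k).eq
  exact (h1.le_iff_eq h2.1).mp hle

theorem cent_zpowers_eq {N : Subgroup G} (hN : Hyp N) {x q : G} (hx : x ∈ N)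
    (hq : q ∈ zpowers x) (hq1 : q ≠ 1) : centralizer ({q} : Set G) = centralizer ({x} : Set G) := by
  have hx1 : x ≠ 1 := by
    rintro rfl
    rw [zpowers_one_eq_bot, mem_bot] at hq
    exact hq1 hq
  have h1 := (hN x hx hx1).1
  have h2 := (hN q ((zpowers_le.mpr hx) hq) hq1).1
  have hle : centralizer ({x} : Set G) ≤ centralizer ({q} : Set G) := by
    intro g hg
    rw [mem_cent_iff] at hg ⊢
    obtain ⟨k, rfl⟩ := hq
    have : Commute g x := hg
    exact (this.zpow_right k).eq
  exact (h1.le_iff_eq h2.1).mp hle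

theorem cent_eq_of_coprime {N : Subgroup G} (hN : Hyp N) {a y : G} (ha : a ∈ N) (hy : y ∈ N)
    (ha1 : a ≠ 1) (hy1 : y ≠ 1) (hc : Commute a y) (hco : (orderOf a).Coprime (orderOf y)) :
    centralizer ({a} : Set G) = centralizer ({y} : Set G) := by
  have hw : a * y ∈ N := N.mul_mem ha hy
  have hw1 : a * y ≠ 1 := by
    intro h
    have h2 : a = y⁻¹ := eq_inv_of_mul_eq_one_left h
    have h3 : orderOf a = orderOf y := by rw [h2, orderOf_inv]
    rw [h3, Nat.coprime_self] at hco
    exact hy1 (orderOf_eq_one_iff.mp hco)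
  have hW := (hN _ hw hw1).1
  have hA := (hN _ ha ha1).1
  have hY := (hN _ hy hy1).1
  have hleA : centralizer ({a * y} : Set G) ≤ centralizer ({a} : Set G) := by
    intro g hg
    rw [mem_cent_iff] at hg ⊢
    have hg' : Commute g (a * y) := hg
    have h1 : (a * y) ^ (orderOf y) = a ^ (orderOf y) := by
      rw [hc.mul_pow, pow_orderOf_eq_one, mul_one]
    obtain ⟨m, hm⟩ := exists_pow_eq_self_of_coprime (x := a) (n := orderOf y) hco.symm
    have h2 : Commute g ((a ^ orderOf y) ^ m) := by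
      rw [← h1]
      exact (hg'.pow_right _).pow_right _
    rw [hm] at h2
    exact h2.eq
  have hleY : centralizer ({a * y} : Set G) ≤ centralizer ({y} : Set G) := by
    intro g hg
    rw [mem_cent_iff] at hg ⊢
    have hg' : Commute g (a * y) := hg
    have h1 : (a * y) ^ (orderOf a) = y ^ (orderOf a) := by
      rw [hc.mul_pow, pow_orderOf_eq_one, one_mul]
    obtain ⟨m, hm⟩ := exists_pow_eq_self_of_coprime (x := y) (n := orderOf a) hco
    have h2 : Commute g ((y ^ orderOf a) ^ m) := by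
      rw [← h1]
      exact (hg'.pow_right _).pow_right _
    rw [hm] at h2
    exact h2.eq
  have e1 := (hW.le_iff_eq hA.1).mp hleA
  have e2 := (hW.le_iff_eq hY.1).mp hleY
  rw [e1, e2]

/-- If `V` is normal and not inside the maximal `C_G(x)` then `G = V * C_G(x)`. -/
theorem exists_mul_of_not_le {N : Subgroup G} (hN : Hyp N) {x : G} (hx : x ∈ N) (hx1 : x ≠ 1)
    (V : Subgroup G) [V.Normal] (hV : ¬ V ≤ centralizer ({x} : Set G)) (g : G) :
    ∃ v ∈ V, ∃ m ∈ centralizer ({x} : Set G), g = v * m := by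
  have h1 := (hN x hx hx1).1
  have hsup : V ⊔ centralizer ({x} : Set G) = ⊤ := by
    by_contra hne
    have := (h1.le_iff_eq hne).mp le_sup_right
    exact hV (this ▸ le_sup_left)
  have hg : g ∈ V ⊔ centralizer ({x} : Set G) := hsup ▸ mem_top g
  obtain ⟨v, hv, m, hm, rfl⟩ := mem_sup_of_normal_left.mp hg
  exact ⟨v, hv, m, hm, rfl⟩

/-- Lemma 1 for normal subgroups. -/
theorem lemma_one {N : Subgroup G} (hN : Hyp N) {x : G} (hx : x ∈ N) (hx1 : x ≠ 1)
    (L : Subgroup G) [L.Normal] (hL1 : centralizer ({x} : Set G) ⊓ N ≤ L) (hL2 : L ≤ N) :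
    L ≤ centralizer ({x} : Set G) ∨ L = N := by
  by_cases hL : L ≤ centralizer ({x} : Set G)
  · exact Or.inl hL
  · right
    refine le_antisymm hL2 ?_
    intro n hn
    obtain ⟨l, hl, m, hm, rfl⟩ := exists_mul_of_not_le hN hx hx1 L hL n
    have : m ∈ N := by
      have : m = l⁻¹ * (l * m) := by group
      rw [this]
      exact N.mul_mem (N.inv_mem (hL2 hl)) hn
    exact L.mul_mem hl (hL1 ⟨hm, this⟩)

end Cfsg.Agent.Lib.Helper21.MaxCent
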