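import Mathlib
import Cfsg.Prelude.Def_LieExceptional
import Cfsg.Agent.Lib.Helper21.MaxCentA

set_option autoImplicit false

namespace Cfsg.Agent.Lib.Helper21.MaxCent

open Subgroup

variable {G : Type*} [Group G]

/-- Any subgroup `U ≤ N` is a CN-group. -/
theorem isCNGroup_of_le [Finite G] {N : Subgroup G} (hN : Hyp N) (U : Subgroup G) (hU : U ≤ N) :
    Cfsg.IsCNGroup ↥U := by
  intro g hg
  set C := centralizer ({g} : Set ↥U) with hC
  have hx1 : (g : G) ≠ 1 := fun h => hg (Subtype.ext h)
  have hord : orderOf (g : G) ≠ 1 := fun h => hx1 (orderOf_eq_one_iff.mp h)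
  obtain ⟨p, hp, hpx⟩ := Nat.exists_prime_and_dvd hord
  have : Fact p.Prime := ⟨hp⟩
  apply Group.of_quotient_center_nilpotent
  apply IsPGroup.isNilpotent (p := p)
  intro q
  induction q using QuotientGroup.induction_on with
  | H c =>
    have hcx : Commute ((c : ↥U) : G) (g : G) := by
      have := mem_centralizer_singleton_iff.mp c.2
      have h2 : ((c : ↥U) : G) * (g : G) = (g : G) * ((c : ↥U) : G) := by
        exact_mod_cast congrArg (Subtype.val) this
      exact h2
    -- uniform exponent: the order of c
    obtain ⟨a, m, hm, hcm⟩ := Nat.exists_eq_pow_mul_and_not_dvd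
      (orderOf_pos ((c : ↥U) : G)).ne' p hp.ne_one
    refine ⟨a, ?_⟩
    rw [← QuotientGroup.mk_pow, QuotientGroup.eq_one_iff, Subgroup.mem_center_iff]
    intro d
    have hdx : Commute ((d : ↥U) : G) (g : G) := by
      have := mem_centralizer_singleton_iff.mp d.2
      have h2 : ((d : ↥U) : G) * (g : G) = (g : G) * ((d : ↥U) : G) := by
        exact_mod_cast congrArg (Subtype.val) this
      exact h2
    -- redo the argument with this specific a
    have key : Commute ((d : ↥U) : G) (((c : ↥U) : G) ^ (p ^ a)) := by
      set y := ((c : ↥U) : G) ^ (p ^ a) with hy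
      by_cases hy1 : y = 1
      · rw [hy1]; exact Commute.one_right _
      set x₀ := (g : G) ^ (orderOf (g : G) / p) with hx₀
      have hox₀ : orderOf x₀ = p := orderOf_pow_orderOf_div (orderOf_pos (g : G)).ne' hpx
      have hx₀1 : x₀ ≠ 1 := by
        intro h
        rw [h, orderOf_one] at hox₀
        exact hp.ne_one hox₀.symm
      have hym : y ^ m = 1 := by
        rw [hy, ← pow_mul, ← hcm, pow_orderOf_eq_one]
      have hoy : ¬ p ∣ orderOf y := fun h => hm (h.trans (orderOf_dvd_of_pow_eq_one hym))
      have hco : (orderOf x₀).Coprime (orderOf y) := by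
        rw [hox₀]
        exact (Nat.Prime.coprime_iff_not_dvd hp).mpr hoy
      have hcomm : Commute x₀ y := ((hcx.pow_left _).pow_right _).symm
      have hcent := cent_eq_of_coprime hN (N.pow_mem (hU g.2) _) (N.pow_mem (hU (c : ↥U).2) _)
        hx₀1 hy1 hcomm hco
      have hd : ((d : ↥U) : G) ∈ centralizer ({x₀} : Set G) := by
        rw [mem_cent_iff]
        exact (hdx.pow_right _).eq
      rw [hcent, mem_cent_iff] at hd
      exact hd
    apply Subtype.ext
    apply Subtype.ext
    simpa using key.eq

end Cfsg.Agent.Lib.Helper21.MaxCent
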