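import Mathlib
import Cfsg.Agent.S0183
import Cfsg.Agent.Lib.Helper21.MaxCentB

set_option autoImplicit false

namespace Cfsg.Agent.Lib.Helper21.MaxCent

open Subgroup

variable {G : Type*} [Group G]

/-- `U` is a minimal normal subgroup of `G` contained in `N`. -/
structure IsMinNormalIn (N U : Subgroup G) : Prop where
  normal : U.Normal
  le : U ≤ N
  ne_bot : U ≠ ⊥
  min : ∀ V : Subgroup G, V.Normal → V ≤ U → V = ⊥ ∨ V = U

theorem exists_minNormalIn [Finite G] (N : Subgroup G) [hNn : N.Normal] (hN : N ≠ ⊥) :
    ∃ U, IsMinNormalIn N U := by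
  let S : Set (Subgroup G) := {V | V.Normal ∧ V ≤ N ∧ V ≠ ⊥}
  have hne : S.Nonempty := ⟨N, hNn, le_rfl, hN⟩
  obtain ⟨U, hU, hmin⟩ := WellFounded.has_min (wellFounded_lt (α := Subgroup G)) S hne
  refine ⟨U, hU.1, hU.2.1, hU.2.2, ?_⟩
  intro V hV hVU
  by_cases hVb : V = ⊥
  · exact Or.inl hVb
  · right
    by_contra hne
    exact hmin V ⟨hV, hVU.trans hU.2.1, hVb⟩ (lt_of_le_of_ne hVU hne)

/-- The key: a minimal normal subgroup inside `N` is abelian. -/
theorem minNormal_abelian [Finite G] {N : Subgroup G} (hN : Hyp N) {U : Subgroup G}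
    (hU : IsMinNormalIn N U) : U ≤ centralizer (U : Set G) := by
  have := hU.normal
  by_contra hab
  -- every cyclic normal subgroup inside U is trivial
  have hcyc : ∀ d ∈ U, d ≠ 1 → ¬ (zpowers d).Normal := by
    intro d hd hd1 hn
    rcases hU.min (zpowers d) hn (zpowers_le.mpr hd) with h | h
    · exact hd1 (zpowers_eq_bot.mp h)
    · apply hab
      rw [← h]
      intro a ha b hb
      obtain ⟨i, rfl⟩ := ha
      obtain ⟨j, rfl⟩ := (show b ∈ zpowers d from hb)
      exact ((Commute.refl d).zpow_zpow j i).eq
  by_cases hodd : Odd (Nat.card ↥U)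
  · -- odd order: CN-theorem
    have hsol : Group.IsSolvable ↥U := Cfsg.Agent.S0183.result hodd (isCNGroup_of_le hN U hU.le)
    have : Nontrivial ↥U := by
      rw [Subgroup.nontrivial_iff_ne_bot]
      exact hU.ne_bot
    have hlt := Group.IsSolvable.commutator_lt_top_of_nontrivial ↥U
    have hcn : (⁅U, U⁆ : Subgroup G).Normal := inferInstance
    have hle : ⁅U, U⁆ ≤ U := commutator_le_right U U
    rcases hU.min _ hcn hle with h | h
    · exact hab (commutator_eq_bot_iff_le_centralizer.mp h)
    · have h1 : (commutator ↥U).map U.subtype = (⊤ : Subgroup ↥U).map U.subtype := by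
        rw [map_subtype_commutator, h, ← MonoidHom.range_eq_map, range_subtype]
      have h2 := map_injective (subtype_injective U) h1
      exact hlt.ne h2
  · -- even order
    have heven : 2 ∣ Nat.card ↥U := by
      rcases Nat.even_or_odd (Nat.card ↥U) with h | h
      · exact even_iff_two_dvd.mp h
      · exact absurd h hodd
    have : Fact (Nat.Prime 2) := ⟨Nat.prime_two⟩
    obtain ⟨t₀, ht₀⟩ := exists_prime_orderOf_dvd_card' (G := ↥U) 2 heven
    -- involutions
    let I : Set G := {t | t ∈ U ∧ t ≠ 1 ∧ t * t = 1}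
    have ht₀I : (t₀ : G) ∈ I := by
      refine ⟨t₀.2, ?_, ?_⟩
      · intro h
        have : t₀ = 1 := Subtype.ext h
        rw [this, orderOf_one] at ht₀
        omega
      · have := pow_orderOf_eq_one t₀
        rw [ht₀, pow_two] at this
        exact_mod_cast congrArg Subtype.val this
    -- any two involutions commute
    have hII : ∀ t ∈ I, ∀ s ∈ I, t * s = s * t := by
      intro t ht s hs
      obtain ⟨htU, ht1, htt⟩ := ht
      obtain ⟨hsU, hs1, hss⟩ := hs
      have htinv : t⁻¹ = t := inv_eq_of_mul_eq_one_left htt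
      have hsinv : s⁻¹ = s := inv_eq_of_mul_eq_one_left hss
      by_cases hd1' : t * s = 1
      · have : t = s := by
          have := eq_inv_of_mul_eq_one_left hd1'
          rw [hsinv] at this
          exact this
        rw [this]
      obtain ⟨d, hd⟩ : ∃ d, d = t * s := ⟨_, rfl⟩
      have hd1 : d ≠ 1 := hd ▸ hd1'
      have hdU : d ∈ U := hd ▸ U.mul_mem htU hsU
      have hdN : d ∈ N := hU.le hdU
      have hco := (hN d hdN hd1).1
      have hconj : t * d * t⁻¹ = d⁻¹ := by
        rw [hd, mul_inv_rev, hsinv, htinv]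
        calc t * (t * s) * t = (t * t) * s * t := by group
          _ = s * t := by rw [htt, one_mul]
      have htnorm : t ∈ normalizer (zpowers d : Set G) := by
        apply mem_normalizer_fintype
        intro n hn
        obtain ⟨k, rfl⟩ := (show n ∈ zpowers d from hn)
        have : t * d ^ k * t⁻¹ = (d⁻¹) ^ k := by
          rw [← hconj, conj_zpow]
        rw [this]
        exact (zpowers d).zpow_mem ((zpowers d).inv_mem (mem_zpowers d)) k
      have hle : centralizer ({d} : Set G) ≤ normalizer (zpowers d : Set G) := by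
        intro g hg
        rw [mem_cent_iff] at hg
        apply mem_normalizer_fintype
        intro n hn
        obtain ⟨k, rfl⟩ := (show n ∈ zpowers d from hn)
        have hgd : Commute g (d ^ k) := (show Commute g d from hg).zpow_right k
        have : g * d ^ k * g⁻¹ = d ^ k := by
          rw [hgd.eq, mul_inv_cancel_right]
        rw [this]
        exact (zpowers d).zpow_mem (mem_zpowers d) k
      have hnt : normalizer (zpowers d : Set G) ≠ ⊤ := by
        intro h
        exact hcyc d hdU hd1 (normalizer_eq_top_iff.mp h)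
      have heq := (hco.le_iff_eq hnt).mp hle
      rw [heq, mem_cent_iff] at htnorm
      -- t commutes with d
      have : t * d * t⁻¹ = d := by rw [htnorm, mul_inv_cancel_right]
      rw [hconj] at this
      -- d⁻¹ = d
      have h2 : (t * s)⁻¹ = t * s := by rw [← hd]; exact this
      rw [mul_inv_rev, hsinv, htinv] at h2
      exact h2.symm
    -- W = U ⊓ C(I) is normal
    let W : Subgroup G := U ⊓ centralizer I
    have hIconj : ∀ g : G, ∀ t ∈ I, g * t * g⁻¹ ∈ I := by
      intro g t ht
      refine ⟨hU.normal.conj_mem t ht.1 g, ?_, ?_⟩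
      · intro h
        apply ht.2.1
        have := congrArg (fun z => g⁻¹ * z * g) h
        simpa [mul_assoc] using this
      · calc g * t * g⁻¹ * (g * t * g⁻¹) = g * (t * t) * g⁻¹ := by group
          _ = 1 := by rw [ht.2.2]; group
    have hWn : W.Normal := by
      constructor
      intro w hw g
      have hw' := mem_inf.mp hw
      refine mem_inf.mpr ⟨hU.normal.conj_mem w hw'.1 g, ?_⟩
      rw [mem_centralizer_iff]
      intro t ht
      have h1 := hIconj g⁻¹ t ht
      have h2 := (mem_centralizer_iff.mp hw'.2) _ h1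
      -- h2 : g⁻¹ * t * g⁻¹⁻¹ * w = w * (g⁻¹ * t * g⁻¹⁻¹)
      rw [inv_inv] at h2
      calc t * (g * w * g⁻¹) = g * ((g⁻¹ * t * g) * w) * g⁻¹ := by group
        _ = g * (w * (g⁻¹ * t * g)) * g⁻¹ := by rw [h2]
        _ = g * w * g⁻¹ * t := by group
    have ht₀W : (t₀ : G) ∈ W := by
      refine mem_inf.mpr ⟨t₀.2, ?_⟩
      rw [mem_centralizer_iff]
      intro s hs
      exact hII s hs _ ht₀I
    have hWU : W = U := by
      rcases hU.min W hWn inf_le_left with h | h
      · exfalso
        rw [h, mem_bot] at ht₀W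
        exact ht₀I.2.1 ht₀W
      · exact h
    -- so t₀ is central in U
    let Z : Subgroup G := U ⊓ centralizer (U : Set G)
    have hZn : Z.Normal := inferInstance
    have ht₀Z : (t₀ : G) ∈ Z := by
      refine mem_inf.mpr ⟨t₀.2, ?_⟩
      rw [mem_centralizer_iff]
      intro u hu
      have : u ∈ W := hWU ▸ hu
      exact ((mem_centralizer_iff.mp (mem_inf.mp this).2) _ ht₀I).symm
    rcases hU.min Z hZn inf_le_left with h | h
    · rw [h, mem_bot] at ht₀Z
      exact ht₀I.2.1 ht₀Z
    · apply hab
      intro u hu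
      have : u ∈ Z := h ▸ hu
      exact (mem_inf.mp this).2

end Cfsg.Agent.Lib.Helper21.MaxCent
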