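import Mathlib
import Cfsg.Agent.Lib.Helper21.MaxCentA

set_option autoImplicit false

namespace Cfsg.Agent.Lib.Helper21.MaxCent

open Subgroup

variable {G : Type*} [Group G]

/-- An abelian minimal-type normal subgroup has prime exponent. -/
theorem exists_prime_exponent [Finite G] {U : Subgroup G} (hUn : U.Normal) (hUb : U ≠ ⊥)
    (hmin : ∀ V : Subgroup G, V.Normal → V ≤ U → V = ⊥ ∨ V = U)
    (hab : U ≤ centralizer (U : Set G)) : ∃ r : ℕ, r.Prime ∧ ∀ u ∈ U, u ^ r = 1 := by
  have : Nontrivial ↥U := by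
    rw [Subgroup.nontrivial_iff_ne_bot]; exact hUb
  have hcard : Nat.card ↥U ≠ 1 := by
    intro h
    have := (Nat.card_eq_one_iff_unique.mp h).1
    exact not_subsingleton ↥U this
  obtain ⟨r, hr, hrd⟩ := Nat.exists_prime_and_dvd hcard
  have : Fact r.Prime := ⟨hr⟩
  obtain ⟨t, ht⟩ := exists_prime_orderOf_dvd_card' (G := ↥U) r hrd
  refine ⟨r, hr, ?_⟩
  let V : Subgroup G :=
    { carrier := {u | u ∈ U ∧ u ^ r = 1}
      one_mem' := ⟨U.one_mem, one_pow r⟩
      mul_mem' := by
        rintro a b ⟨ha, ha'⟩ ⟨hb, hb'⟩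
        refine ⟨U.mul_mem ha hb, ?_⟩
        have hc : Commute a b := (mem_centralizer_iff.mp (hab hb)) a ha
        rw [hc.mul_pow, ha', hb', one_mul]
      inv_mem' := by
        rintro a ⟨ha, ha'⟩
        exact ⟨U.inv_mem ha, by rw [inv_pow, ha', inv_one]⟩ }
  have hVn : V.Normal := by
    constructor
    rintro v ⟨hv, hv'⟩ g
    refine ⟨hUn.conj_mem v hv g, ?_⟩
    have : (g * v * g⁻¹) ^ r = g * v ^ r * g⁻¹ := conj_pow
    rw [this, hv', mul_one, mul_inv_cancel]
  have hVU : V ≤ U := fun v hv => hv.1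
  have htV : (t : G) ∈ V := by
    refine ⟨t.2, ?_⟩
    have := pow_orderOf_eq_one t
    rw [ht] at this
    exact_mod_cast congrArg Subtype.val this
  rcases hmin V hVn hVU with h | h
  · exfalso
    rw [h, mem_bot] at htV
    have : t = 1 := Subtype.ext htV
    rw [this, orderOf_one] at ht
    exact hr.ne_one ht.symm
  · intro u hu
    have : u ∈ V := h ▸ hu
    exact this.2

section

/-- The setting: `U` an abelian minimal normal subgroup of `G` inside `N`. -/
structure Setting (N U : Subgroup G) : Prop where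
  hyp : Hyp N
  normal : U.Normal
  le : U ≤ N
  ne_bot : U ≠ ⊥
  min : ∀ V : Subgroup G, V.Normal → V ≤ U → V = ⊥ ∨ V = U
  abel : U ≤ centralizer (U : Set G)

variable [Finite G] {N U : Subgroup G}

/-- D1: elements of `N` outside `C(U)` act fixed-point-freely on `U`. -/
theorem fpf_of_not_mem (S : Setting N U) {y : G} (hy : y ∈ N) (hyC : y ∉ centralizer (U : Set G)) :
    ∀ u ∈ U, Commute u y → u = 1 := by
  have := S.normal
  have hy1 : y ≠ 1 := by
    rintro rfl
    exact hyC (one_mem _)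
  have hnle : ¬ U ≤ centralizer ({y} : Set G) := by
    intro h
    apply hyC
    rw [mem_centralizer_iff]
    intro u hu
    have := mem_cent_iff.mp (h hu)
    exact this
  let D : Subgroup G := U ⊓ centralizer ({y} : Set G)
  have hDn : D.Normal := by
    constructor
    intro d hd g
    obtain ⟨v, hv, m, hm, rfl⟩ := exists_mul_of_not_le S.hyp hy hy1 U hnle g
    have h1 : m * d * m⁻¹ ∈ U := S.normal.conj_mem d hd.1 m
    have h2 : m * d * m⁻¹ ∈ centralizer ({y} : Set G) :=
      mul_mem (mul_mem hm hd.2) (inv_mem hm)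
    have h3 : v * (m * d * m⁻¹) = (m * d * m⁻¹) * v :=
      ((mem_centralizer_iff.mp (S.abel hv)) _ h1).symm
    have h4 : v * m * d * (v * m)⁻¹ = m * d * m⁻¹ := by
      calc v * m * d * (v * m)⁻¹ = v * (m * d * m⁻¹) * v⁻¹ := by group
        _ = m * d * m⁻¹ := by rw [h3, mul_inv_cancel_right]
    rw [h4]
    exact ⟨h1, h2⟩
  rcases S.min D hDn inf_le_left with h | h
  · intro u hu hc
    have : u ∈ D := ⟨hu, mem_cent_iff.mpr hc.eq⟩
    rw [h, mem_bot] at this
    exact this
  · exfalso
    apply hnle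
    rw [← h]
    exact inf_le_right

/-- D3: nonidentity powers of elements outside `C(U)` stay outside `C(U)`. -/
theorem zpowers_not_mem (S : Setting N U) {y : G} (hy : y ∈ N) (hyC : y ∉ centralizer (U : Set G))
    {q : G} (hq : q ∈ zpowers y) (hq1 : q ≠ 1) : q ∉ centralizer (U : Set G) := by
  intro hqC
  have hcent := cent_zpowers_eq S.hyp hy hq hq1
  apply S.ne_bot
  rw [eq_bot_iff]
  intro u hu
  rw [mem_bot]
  apply fpf_of_not_mem S hy hyC u hu
  have h1 : u ∈ centralizer ({q} : Set G) := by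
    rw [mem_cent_iff]
    exact (mem_centralizer_iff.mp hqC) u hu
  rw [hcent, mem_cent_iff] at h1
  exact h1

/-- D2: `r`-elements of `N` centralize `U` when `U` has exponent `r`. -/
theorem r_elt_mem (S : Setting N U) {r : ℕ} (hr : r.Prime) (hexp : ∀ u ∈ U, u ^ r = 1) {y : G} (hy : y ∈ N)
    {a : ℕ} (hya : y ^ (r ^ a) = 1) : y ∈ centralizer (U : Set G) := by
  by_contra hyC
  have := S.normal
  have : Fact r.Prime := ⟨hr⟩
  have hfpf := fpf_of_not_mem S hy hyC
  let P : Subgroup G := zpowers y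
  have hP : IsPGroup r ↥P := by
    intro g
    refine ⟨a, ?_⟩
    obtain ⟨g, k, rfl⟩ := g
    apply Subtype.ext
    show (y ^ k) ^ (r ^ a) = 1
    rw [← zpow_natCast, ← zpow_mul, mul_comm, zpow_mul, zpow_natCast, hya, one_zpow]
  let φ : ↥P →* MulAut ↥U := (MulAut.conjNormal (H := U)).comp P.subtype
  let : MulAction ↥P ↥U := MulAction.compHom ↥U φ
  have hUp : IsPGroup r ↥U := by
    intro u
    refine ⟨1, ?_⟩
    apply Subtype.ext
    rw [pow_one]
    exact hexp u u.2
  have : Nontrivial ↥U := by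
    rw [Subgroup.nontrivial_iff_ne_bot]; exact S.ne_bot
  obtain ⟨n, hn0, hn⟩ := (hUp.nontrivial_iff_card).mp inferInstance
  have hdvd : r ∣ Nat.card ↥U := by
    rw [hn]
    exact dvd_pow_self r hn0.ne'
  have hone : (1 : ↥U) ∈ MulAction.fixedPoints ↥P ↥U := by
    intro g
    show φ g 1 = 1
    exact map_one _
  obtain ⟨b, hb, hb1⟩ := hP.exists_fixed_point_of_prime_dvd_card_of_fixed_point ↥U hdvd hone
  have hyb := hb ⟨y, mem_zpowers y⟩
  have hyb' : φ ⟨y, mem_zpowers y⟩ b = b := hyb
  have h2 : y * (b : G) * y⁻¹ = (b : G) := by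
    have := congrArg Subtype.val hyb'
    simpa [φ, MulAut.conjNormal_apply] using this
  have hc : Commute (b : G) y := by
    have : y * (b : G) = (b : G) * y := by
      calc y * (b : G) = y * (b : G) * y⁻¹ * y := by group
        _ = (b : G) * y := by rw [h2]
    exact this.symm
  have := hfpf b b.2 hc
  exact hb1 (Subtype.ext this).symm

end

end Cfsg.Agent.Lib.Helper21.MaxCent
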