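import Mathlib
import Cfsg.Agent.Lib.Helper21.MaxCentD

set_option autoImplicit false

namespace Cfsg.Agent.Lib.Helper21.MaxCent

open Subgroup

variable {G : Type*} [Group G] [Finite G] {N U : Subgroup G}

/-- There is an element of `N` outside `C(U)`. -/
theorem exists_not_mem_cent (S : Setting N U) : ∃ y ∈ N, y ∉ centralizer (U : Set G) := by
  by_contra hcon
  have hcon' : ∀ y ∈ N, y ∈ centralizer (U : Set G) := by
    intro y hy
    by_contra h
    exact hcon ⟨y, hy, h⟩
  obtain ⟨u, hu, hu1⟩ : ∃ u : G, u ∈ U ∧ u ≠ 1 := by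
    obtain ⟨u, h⟩ := (Subgroup.ne_bot_iff_exists_ne_one).mp S.ne_bot
    exact ⟨(u : G), u.2, fun h' => h (Subtype.ext h')⟩
  apply (S.hyp u (S.le hu) hu1).2
  intro n hn
  rw [mem_cent_iff]
  exact ((mem_centralizer_iff.mp (hcon' n hn)) u hu).symm

/-- Decomposition of an element of finite order into `r`-part exponent data. -/
theorem exists_rpow_mul (g : G) {r : ℕ} (hr : r.Prime) :
    ∃ a m : ℕ, ¬ r ∣ m ∧ orderOf g = r ^ a * m :=
  Nat.exists_eq_pow_mul_and_not_dvd (orderOf_pos g).ne' r hr.ne_one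

/-- D4: elements of `N` outside `C(U)` act fixed-point-freely on `N ⊓ C(U)`. -/
theorem fpf_on_cent (S : Setting N U) {r : ℕ} (hr : r.Prime) (hexp : ∀ u ∈ U, u ^ r = 1)
    {y : G} (hy : y ∈ N) (hyC : y ∉ centralizer (U : Set G)) {t : G} (ht : t ∈ N)
    (htC : t ∈ centralizer (U : Set G)) (hty : Commute t y) : t = 1 := by
  by_contra ht1
  obtain ⟨u, hu, hu1⟩ : ∃ u : G, u ∈ U ∧ u ≠ 1 := by
    obtain ⟨u, h⟩ := (Subgroup.ne_bot_iff_exists_ne_one).mp S.ne_bot
    exact ⟨(u : G), u.2, fun h' => h (Subtype.ext h')⟩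
  have hou : orderOf u = r := by
    have := orderOf_dvd_of_pow_eq_one (hexp u hu)
    rcases (Nat.dvd_prime hr).mp this with h | h
    · exact absurd (orderOf_eq_one_iff.mp h) hu1
    · exact h
  obtain ⟨a, m, hm, hom⟩ := exists_rpow_mul t hr
  -- Step 1: the r'-part of t is trivial
  have ht' : t ^ (r ^ a) = 1 := by
    by_contra h1
    set t' := t ^ (r ^ a) with ht'def
    have ht'm : t' ^ m = 1 := by
      rw [ht'def, ← pow_mul, ← hom, pow_orderOf_eq_one]
    have hot' : ¬ r ∣ orderOf t' := fun h => hm (h.trans (orderOf_dvd_of_pow_eq_one ht'm))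
    have hco : (orderOf t').Coprime (orderOf u) := by
      rw [hou]
      exact ((Nat.Prime.coprime_iff_not_dvd hr).mpr hot').symm
    have ht'C : t' ∈ centralizer (U : Set G) := pow_mem htC _
    have hcomm : Commute t' u := ((mem_centralizer_iff.mp ht'C) u hu).symm
    have hcent := cent_eq_of_coprime S.hyp (N.pow_mem ht _) (S.le hu) h1 hu1 hcomm hco
    have hy' : y ∈ centralizer ({t'} : Set G) := by
      rw [mem_cent_iff]
      exact (hty.symm.pow_right _).eq
    rw [hcent, mem_cent_iff] at hy'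
    exact hu1 (fpf_of_not_mem S hy hyC u hu (Commute.symm hy'))
  -- Step 2
  obtain ⟨b, m', hm', hom'⟩ := exists_rpow_mul y hr
  set y' := y ^ (r ^ b) with hy'def
  have hy'1 : y' ≠ 1 := by
    intro h
    exact hyC (r_elt_mem S hr hexp hy h)
  have hy'z : y' ∈ zpowers y := by
    rw [hy'def]
    exact npow_mem_zpowers y _
  have hy'C := zpowers_not_mem S hy hyC hy'z hy'1
  have hy'N : y' ∈ N := N.pow_mem hy _
  have hy'm : y' ^ m' = 1 := by
    rw [hy'def, ← pow_mul, ← hom', pow_orderOf_eq_one]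
  have hoy' : ¬ r ∣ orderOf y' := fun h => hm' (h.trans (orderOf_dvd_of_pow_eq_one hy'm))
  have hot : orderOf t ∣ r ^ a := orderOf_dvd_of_pow_eq_one ht'
  have hco : (orderOf t).Coprime (orderOf y') := by
    apply Nat.Coprime.coprime_dvd_left hot
    apply Nat.Coprime.pow_left
    exact (Nat.Prime.coprime_iff_not_dvd hr).mpr hoy'
  have hcomm : Commute t y' := hty.pow_right _
  have hcent := cent_eq_of_coprime S.hyp ht hy'N ht1 hy'1 hcomm hco
  have hu' : u ∈ centralizer ({t} : Set G) := by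
    rw [mem_cent_iff]
    exact (mem_centralizer_iff.mp htC) u hu
  rw [hcent, mem_cent_iff] at hu'
  exact hu1 (fpf_of_not_mem S hy'N hy'C u hu hu')

/-- D5: `C_N(U) = U`. -/
theorem cent_inf_eq (S : Setting N U) {r : ℕ} (hr : r.Prime) (hexp : ∀ u ∈ U, u ^ r = 1)
    {c : G} (hc : c ∈ N) (hcC : c ∈ centralizer (U : Set G)) : c ∈ U := by
  have := S.normal
  obtain ⟨y, hy, hyC⟩ := exists_not_mem_cent S
  have hy1 : y ≠ 1 := by
    rintro rfl
    exact hyC (one_mem _)
  have hnle : ¬ U ≤ centralizer ({y} : Set G) := by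
    intro h
    apply hyC
    rw [mem_centralizer_iff]
    intro u hu
    exact mem_cent_iff.mp (h hu)
  obtain ⟨v, hv, m, hm, rfl⟩ := exists_mul_of_not_le S.hyp hy hy1 U hnle c
  have hmN : m ∈ N := by
    have : m = v⁻¹ * (v * m) := by group
    rw [this]
    exact N.mul_mem (N.inv_mem (S.le hv)) hc
  have hmC : m ∈ centralizer (U : Set G) := by
    have : m = v⁻¹ * (v * m) := by group
    rw [this]
    exact mul_mem (inv_mem (S.abel hv)) hcC
  have hm1 : m = 1 := fpf_on_cent S hr hexp hy hyC hmN hmC (mem_cent_iff.mp hm)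
  rw [hm1, mul_one]
  exact hv

/-- D6: for `y ∈ N ∖ U`, `N = U ⟨y⟩`. -/
theorem exists_mul_zpowers (S : Setting N U) {r : ℕ} (hr : r.Prime) (hexp : ∀ u ∈ U, u ^ r = 1)
    {y : G} (hy : y ∈ N) (hyU : y ∉ U) {n : G} (hn : n ∈ N) :
    ∃ u ∈ U, ∃ q ∈ zpowers y, n = u * q := by
  have := S.normal
  have hyC : y ∉ centralizer (U : Set G) := fun h => hyU (cent_inf_eq S hr hexp hy h)
  have hy1 : y ≠ 1 := by
    rintro rfl
    exact hyC (one_mem _)
  have hnle : ¬ U ≤ centralizer ({y} : Set G) := by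
    intro h
    apply hyC
    rw [mem_centralizer_iff]
    intro u hu
    exact mem_cent_iff.mp (h hu)
  let L : Subgroup G := U ⊔ zpowers y
  have hLn : L.Normal := by
    constructor
    intro l hl g
    obtain ⟨v, hv, m, hm, rfl⟩ := exists_mul_of_not_le S.hyp hy hy1 U hnle g
    obtain ⟨u, hu, q, hq, rfl⟩ := mem_sup_of_normal_left.mp hl
    have hmq : m * q * m⁻¹ = q := by
      obtain ⟨k, rfl⟩ := hq
      have : Commute m (y ^ k) := (show Commute m y from mem_cent_iff.mp hm).zpow_right k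
      rw [this.eq, mul_inv_cancel_right]
    have : v * m * (u * q) * (v * m)⁻¹ = (v * (m * u * m⁻¹)) * (m * q * m⁻¹) * v⁻¹ := by group
    rw [this, hmq]
    refine L.mul_mem (L.mul_mem ?_ ?_) ?_
    · exact mem_sup_left (U.mul_mem hv (S.normal.conj_mem u hu m))
    · exact mem_sup_right hq
    · exact mem_sup_left (U.inv_mem hv)
  obtain ⟨u₀, hu₀, hu₀1⟩ : ∃ u : G, u ∈ U ∧ u ≠ 1 := by
    obtain ⟨u, h⟩ := (Subgroup.ne_bot_iff_exists_ne_one).mp S.ne_bot
    exact ⟨(u : G), u.2, fun h' => h (Subtype.ext h')⟩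
  have hL1 : centralizer ({u₀} : Set G) ⊓ N ≤ L := by
    rintro g ⟨hg1, hg2⟩
    apply mem_sup_left
    apply cent_inf_eq S hr hexp hg2
    by_contra hgC
    exact hu₀1 (fpf_of_not_mem S hg2 hgC u₀ hu₀ (Commute.symm (mem_cent_iff.mp hg1)))
  have hL2 : L ≤ N := sup_le S.le (zpowers_le.mpr hy)
  rcases lemma_one S.hyp (S.le hu₀) hu₀1 L hL1 hL2 with h | h
  · exfalso
    have : y ∈ centralizer ({u₀} : Set G) := h (mem_sup_right (mem_zpowers y))
    exact hu₀1 (fpf_of_not_mem S hy hyC u₀ hu₀ (Commute.symm (mem_cent_iff.mp this)))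
  · have : n ∈ L := h ▸ hn
    obtain ⟨u, hu, q, hq, rfl⟩ := mem_sup_of_normal_left.mp this
    exact ⟨u, hu, q, hq, rfl⟩

end Cfsg.Agent.Lib.Helper21.MaxCent
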