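import Mathlib
import Cfsg.Agent.Lib.Helper21.MaxCentC
import Cfsg.Agent.Lib.Helper21.MaxCentE

set_option autoImplicit false

namespace Cfsg.Agent.Lib.Helper21.MaxCent

open Subgroup

variable {G : Type*} [Group G] [Finite G]

/-- The structure theorem (in the ambient group). -/
theorem structure_thm (N : Subgroup G) [N.Normal] (hN : Hyp N) (hne : N ≠ ⊥) :
    ∃ (U : Subgroup G) (y : G) (r s : ℕ), r.Prime ∧ s.Prime ∧ U.Normal ∧ U ≤ N ∧ U ≠ ⊥ ∧
      U ≤ centralizer (U : Set G) ∧ (∀ u ∈ U, u ^ r = 1) ∧ y ∈ N ∧ orderOf y = s ∧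
      (∀ q ∈ zpowers y, q ≠ 1 → ∀ u ∈ U, Commute u q → u = 1) ∧
      (∀ n ∈ N, ∃ u ∈ U, ∃ q ∈ zpowers y, n = u * q) := by
  obtain ⟨U, hU⟩ := exists_minNormalIn N hne
  have hab := minNormal_abelian hN hU
  have S : Setting N U := ⟨hN, hU.normal, hU.le, hU.ne_bot, hU.min, hab⟩
  obtain ⟨r, hr, hexp⟩ := exists_prime_exponent hU.normal hU.ne_bot hU.min hab
  obtain ⟨y₀, hy₀, hy₀C⟩ := exists_not_mem_cent S
  have hy₀1 : y₀ ≠ 1 := by
    rintro rfl
    exact hy₀C (one_mem _)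
  have hord : orderOf y₀ ≠ 1 := fun h => hy₀1 (orderOf_eq_one_iff.mp h)
  obtain ⟨s, hs, hsd⟩ := Nat.exists_prime_and_dvd hord
  set y := y₀ ^ (orderOf y₀ / s) with hydef
  have hoy : orderOf y = s := orderOf_pow_orderOf_div (orderOf_pos y₀).ne' hsd
  have hy1 : y ≠ 1 := by
    intro h
    rw [h, orderOf_one] at hoy
    exact hs.ne_one hoy.symm
  have hyN : y ∈ N := N.pow_mem hy₀ _
  have hyz : y ∈ zpowers y₀ := npow_mem_zpowers y₀ _
  have hyC : y ∉ centralizer (U : Set G) := zpowers_not_mem S hy₀ hy₀C hyz hy1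
  have hyU : y ∉ U := fun h => hyC (hab h)
  refine ⟨U, y, r, s, hr, hs, hU.normal, hU.le, hU.ne_bot, hab, hexp, hyN, hoy, ?_, ?_⟩
  · intro q hq hq1 u hu hc
    have hqC := zpowers_not_mem S hyN hyC hq hq1
    have hqN : q ∈ N := (zpowers_le.mpr hyN) hq
    exact fpf_of_not_mem S hqN hqC u hu hc
  · intro n hn
    exact exists_mul_zpowers S hr hexp hyN hyU hn

end Cfsg.Agent.Lib.Helper21.MaxCent
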