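import Mathlib
import Cfsg.Prelude.Def_Solvable
import Cfsg.Prelude.Def_Transfer

set_option autoImplicit false

namespace Cfsg.Agent.Lib.Helper21.MaxCent

open Subgroup
open scoped Pointwise

/-- membership in a conjugate subgroup. -/
theorem mem_conj_smul_iff {H : Type*} [Group H] (Q : Subgroup H) (g x : H) :
    x ∈ MulAut.conj g • Q ↔ g⁻¹ * x * g ∈ Q := by
  rw [mem_pointwise_smul_iff_inv_smul_mem]
  simp [MulAut.smul_def]

/-- Frobenius recognition through an injective hom `ι : H → Gb`. -/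
theorem frobenius_of_data {H Gb : Type*} [Group H] [Group Gb] [Finite Gb] (ι : H →* Gb)
    (hι : Function.Injective ι) (U : Subgroup Gb) (y : Gb) (r s : ℕ) (hr : r.Prime)
    (hs : s.Prime) (hUn : U.Normal) (hUN : U ≤ ι.range) (hUb : U ≠ ⊥)
    (hab : U ≤ centralizer (U : Set Gb)) (hexp : ∀ u ∈ U, u ^ r = 1) (hy : y ∈ ι.range)
    (hoy : orderOf y = s)
    (hfpf : ∀ q ∈ zpowers y, q ≠ 1 → ∀ u ∈ U, Commute u q → u = 1)
    (hprod : ∀ n ∈ ι.range, ∃ u ∈ U, ∃ q ∈ zpowers y, n = u * q) :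
    ∃ (Q K : Subgroup H) (p : ℕ), p.Prime ∧ Cfsg.IsFrobeniusComplement Q ∧
      (Nat.card ↥Q).Prime ∧ K.Normal ∧ (K : Set H) = Cfsg.frobeniusKernel Q ∧
      Cfsg.IsElementaryAbelian p K := by
  obtain ⟨y', rfl⟩ := hy
  -- (i) U ∩ ⟨y⟩ = 1
  have hdisj : ∀ q ∈ zpowers (ι y'), q ∈ U → q = 1 := by
    intro q hq hqU
    by_contra hq1
    exact hq1 (hfpf q hq hq1 q hqU (Commute.refl q))
  have hmemQ : ∀ g : H, g ∈ zpowers y' ↔ ι g ∈ zpowers (ι y') := by
    intro g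
    constructor
    · rintro ⟨k, rfl⟩
      exact ⟨k, (map_zpow ι y' k).symm⟩
    · rintro ⟨k, hk⟩
      refine ⟨k, hι ?_⟩
      show ι (y' ^ k) = ι g
      rw [map_zpow]
      exact hk
  have hoy' : orderOf y' = s := by
    rw [← hoy]
    exact (orderOf_injective ι hι y').symm
  have hy'1 : y' ≠ 1 := by
    intro h
    rw [h, orderOf_one] at hoy'
    exact hs.ne_one hoy'.symm
  obtain ⟨u₀, hu₀, hu₀1⟩ : ∃ u : Gb, u ∈ U ∧ u ≠ 1 := by
    obtain ⟨u, h⟩ := (Subgroup.ne_bot_iff_exists_ne_one).mp hUb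
    exact ⟨(u : Gb), u.2, fun h' => h (Subtype.ext h')⟩
  -- zpowers is abelian
  have hzab : ∀ a ∈ zpowers (ι y'), ∀ b ∈ zpowers (ι y'), a * b = b * a := by
    rintro a ⟨i, rfl⟩ b ⟨j, rfl⟩
    exact ((Commute.refl (ι y')).zpow_zpow i j).eq
  -- key: if u q₁ u⁻¹ ∈ ⟨y⟩ with q₁ ∈ ⟨y⟩, q₁ ≠ 1, u ∈ U then u = 1
  have hkey : ∀ u ∈ U, ∀ q₁ ∈ zpowers (ι y'), q₁ ≠ 1 → u * q₁ * u⁻¹ ∈ zpowers (ι y') → u = 1 := by
    intro u hu q₁ hq₁ hq₁1 hconj
    have h1 : u * q₁ * u⁻¹ * q₁⁻¹ ∈ zpowers (ι y') := mul_mem hconj (inv_mem hq₁)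
    have h2 : u * q₁ * u⁻¹ * q₁⁻¹ ∈ U := by
      have : u * q₁ * u⁻¹ * q₁⁻¹ = u * (q₁ * u⁻¹ * q₁⁻¹) := by group
      rw [this]
      exact U.mul_mem hu (hUn.conj_mem _ (U.inv_mem hu) q₁)
    have h3 := hdisj _ h1 h2
    have h4 : u * q₁ = q₁ * u := by
      have : u * q₁ = (u * q₁ * u⁻¹ * q₁⁻¹) * (q₁ * u) := by group
      rw [this, h3, one_mul]
    exact hfpf q₁ hq₁ hq₁1 u hu h4
  refine ⟨zpowers y', U.comap ι, r, hr, ⟨?_, ?_, ?_⟩, ?_, hUn.comap ι, ?_, ?_, ?_⟩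
  · -- Q ≠ ⊥
    intro h
    exact hy'1 (zpowers_eq_bot.mp h)
  · -- Q ≠ ⊤
    intro h
    obtain ⟨u', rfl⟩ := hUN hu₀
    have : u' ∈ zpowers y' := h ▸ mem_top u'
    exact hu₀1 (hdisj _ ((hmemQ u').mp this) hu₀)
  · -- TI
    intro g hg
    rw [eq_bot_iff]
    intro h hh
    rw [mem_bot]
    obtain ⟨hh1, hh2⟩ := mem_inf.mp hh
    rw [mem_conj_smul_iff] at hh2
    by_contra hne
    apply hg
    rw [hmemQ]
    obtain ⟨u, hu, q', hq', hgq⟩ := hprod (ι g) ⟨g, rfl⟩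
    have hq1 : ι (g⁻¹ * h * g) ∈ zpowers (ι y') := (hmemQ _).mp hh2
    have hq1ne : ι (g⁻¹ * h * g) ≠ 1 := by
      intro h0
      have : g⁻¹ * h * g = 1 := hι (by rw [h0, map_one])
      apply hne
      have h5 : h = g * (g⁻¹ * h * g) * g⁻¹ := by group
      rw [h5, this]; group
    have hh1' : ι h ∈ zpowers (ι y') := (hmemQ _).mp hh1
    -- ι h = (u q') q₁ (u q')⁻¹ = u q₁ u⁻¹
    set q₁ := ι (g⁻¹ * h * g) with hq₁def
    have e1 : ι h = ι g * q₁ * (ι g)⁻¹ := by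
      rw [hq₁def]
      simp only [map_mul, map_inv]
      group
    have e2 : ι g * q₁ * (ι g)⁻¹ = u * q₁ * u⁻¹ := by
      rw [hgq]
      have : q' * q₁ = q₁ * q' := hzab _ hq' _ hq1
      calc u * q' * q₁ * (u * q')⁻¹ = u * (q' * q₁) * q'⁻¹ * u⁻¹ := by group
        _ = u * (q₁ * q') * q'⁻¹ * u⁻¹ := by rw [this]
        _ = u * q₁ * u⁻¹ := by group
    have hu1 : u = 1 := hkey u hu q₁ hq1 hq1ne (by rw [← e2, ← e1]; exact hh1')
    rw [hgq, hu1, one_mul]
    exact hq'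
  · -- card Q prime
    rw [Nat.card_zpowers, hoy']
    exact hs
  · -- K = frobenius kernel
    ext x
    constructor
    · intro hx
      have hx' : ι x ∈ U := hx
      by_cases hx1 : x = 1
      · exact Or.inl hx1
      · right
        intro g hg
        rw [mem_conj_smul_iff] at hg
        have h1 : ι (g⁻¹ * x * g) ∈ zpowers (ι y') := (hmemQ _).mp hg
        have h2 : ι (g⁻¹ * x * g) ∈ U := by
          have : ι (g⁻¹ * x * g) = (ι g)⁻¹ * ι x * (ι g)⁻¹⁻¹ := by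
            simp only [map_mul, map_inv, inv_inv]
          rw [this]
          exact hUn.conj_mem _ hx' _
        have h3 := hdisj _ h1 h2
        have h4 : g⁻¹ * x * g = 1 := hι (by rw [h3, map_one])
        apply hx1
        have h5 : x = g * (g⁻¹ * x * g) * g⁻¹ := by group
        rw [h5, h4]; group
    · intro hx
      show ι x ∈ U
      rcases hx with hx | hx
      · rw [hx, map_one]; exact U.one_mem
      · by_contra hxU
        obtain ⟨u, hu, q, hq, hxq⟩ := hprod (ι x) ⟨x, rfl⟩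
        have hq1 : q ≠ 1 := by
          intro h
          apply hxU
          rw [hxq, h, mul_one]
          exact hu
        -- the map v ↦ v q v⁻¹ q⁻¹ on U
        let f : ↥U → ↥U := fun v => ⟨(v : Gb) * (q * (v : Gb)⁻¹ * q⁻¹),
          U.mul_mem v.2 (hUn.conj_mem _ (U.inv_mem v.2) q)⟩
        have hf : Function.Injective f := by
          intro v w hvw
          have h1 : (v : Gb) * (q * (v : Gb)⁻¹ * q⁻¹) = (w : Gb) * (q * (w : Gb)⁻¹ * q⁻¹) :=
            congrArg Subtype.val hvw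
          have h2 : ((w : Gb)⁻¹ * (v : Gb)) * q = q * ((w : Gb)⁻¹ * (v : Gb)) := by
            have h3 : (v : Gb) * q * (v : Gb)⁻¹ = (w : Gb) * q * (w : Gb)⁻¹ := by
              have : (v : Gb) * (q * (v : Gb)⁻¹ * q⁻¹) * q = (w : Gb) * (q * (w : Gb)⁻¹ * q⁻¹) * q := by
                rw [h1]
              calc (v : Gb) * q * (v : Gb)⁻¹ = (v : Gb) * (q * (v : Gb)⁻¹ * q⁻¹) * q := by group
                _ = (w : Gb) * (q * (w : Gb)⁻¹ * q⁻¹) * q := this
                _ = (w : Gb) * q * (w : Gb)⁻¹ := by group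
            calc ((w : Gb)⁻¹ * (v : Gb)) * q = (w : Gb)⁻¹ * ((v : Gb) * q * (v : Gb)⁻¹) * (v : Gb) := by
                  group
              _ = (w : Gb)⁻¹ * ((w : Gb) * q * (w : Gb)⁻¹) * (v : Gb) := by rw [h3]
              _ = q * ((w : Gb)⁻¹ * (v : Gb)) := by group
          have h4 := hfpf q hq hq1 _ (U.mul_mem (U.inv_mem w.2) v.2) h2
          apply Subtype.ext
          have : (v : Gb) = (w : Gb) * ((w : Gb)⁻¹ * (v : Gb)) := by group
          rw [this, h4, mul_one]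
        have hfs : Function.Surjective f := Finite.injective_iff_surjective.mp hf
        obtain ⟨v, hv⟩ := hfs ⟨u, hu⟩
        have hv' : (v : Gb) * (q * (v : Gb)⁻¹ * q⁻¹) = u := congrArg Subtype.val hv
        obtain ⟨v', hv'eq⟩ := hUN v.2
        obtain ⟨k, hk⟩ := hq
        apply hx v'
        rw [mem_conj_smul_iff, hmemQ]
        have : ι (v'⁻¹ * x * v') = q := by
          simp only [map_mul, map_inv]
          rw [hv'eq, hxq, ← hv']
          group
        rw [this]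
        exact ⟨k, hk⟩
  · -- commutative
    refine ⟨⟨fun a b => ?_⟩⟩
    apply Subtype.ext
    apply hι
    show ι ((a : H) * (b : H)) = ι ((b : H) * (a : H))
    rw [map_mul, map_mul]
    exact (mem_centralizer_iff.mp (hab b.2)) _ a.2
  · intro a ha
    apply hι
    rw [map_pow, map_one]
    exact hexp _ ha

end Cfsg.Agent.Lib.Helper21.MaxCent
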