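import Mathlib
import Cfsg.Agent.Lib.Helper21.MaxCentF
import Cfsg.Agent.Lib.Helper21.MaxCentG

set_option autoImplicit false

namespace Cfsg.Agent.Lib.Helper21.MaxCent

open Subgroup

section commutator_identities

variable {G : Type*} [Group G]

theorem comm_pow_left (x g : G) (hwx : Commute (x * g * x⁻¹ * g⁻¹) x) (k : ℕ) :
    x ^ k * g * (x ^ k)⁻¹ * g⁻¹ = (x * g * x⁻¹ * g⁻¹) ^ k := by
  induction k with
  | zero => simp
  | succ k ih =>
    have h1 : Commute (x * g * x⁻¹ * g⁻¹) (x ^ k) := hwx.pow_right k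
    calc x ^ (k + 1) * g * (x ^ (k + 1))⁻¹ * g⁻¹
        = x ^ k * (x * g * x⁻¹ * g⁻¹) * (x ^ k)⁻¹ * (x ^ k * g * (x ^ k)⁻¹ * g⁻¹) := by
          rw [pow_succ]; group
      _ = (x * g * x⁻¹ * g⁻¹) * x ^ k * (x ^ k)⁻¹ * (x ^ k * g * (x ^ k)⁻¹ * g⁻¹) := by
          rw [h1.eq]
      _ = (x * g * x⁻¹ * g⁻¹) * (x * g * x⁻¹ * g⁻¹) ^ k := by
          rw [ih, mul_inv_cancel_right]
      _ = (x * g * x⁻¹ * g⁻¹) ^ (k + 1) := by rw [pow_succ']

theorem comm_pow_right (x g : G) (hwg : Commute (x * g * x⁻¹ * g⁻¹) g) (k : ℕ) :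
    x * g ^ k * x⁻¹ * (g ^ k)⁻¹ = (x * g * x⁻¹ * g⁻¹) ^ k := by
  have h1 : x * g ^ k * x⁻¹ = (x * g * x⁻¹) ^ k := conj_pow.symm
  have h3 : (x * g * x⁻¹) ^ k = (x * g * x⁻¹ * g⁻¹) ^ k * g ^ k := by
    rw [← hwg.mul_pow]
    congr 1
    group
  rw [h1, h3, mul_inv_cancel_right]

end commutator_identities

variable {G : Type*} [Group G] (N : Subgroup G) [N.Normal]

/-- `Z(N)` as a subgroup of `G`. -/
def ZN : Subgroup G := N ⊓ centralizer (N : Set G)

instance ZN_normal : (ZN N).Normal := by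
  unfold ZN
  infer_instance

omit [N.Normal] in
theorem mem_ZN {x : G} : x ∈ ZN N ↔ x ∈ N ∧ x ∈ centralizer (N : Set G) := mem_inf

/-- The embedding `N/Z(N) → G/Z(N)`. -/
def iota : ↥N ⧸ center ↥N →* G ⧸ ZN N :=
  QuotientGroup.lift (center ↥N) ((QuotientGroup.mk' (ZN N)).comp N.subtype) (by
    intro n hn
    rw [MonoidHom.mem_ker]
    show (QuotientGroup.mk' (ZN N)) (n : G) = 1
    rw [QuotientGroup.mk'_apply, QuotientGroup.eq_one_iff, mem_ZN]
    refine ⟨n.2, ?_⟩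
    rw [mem_centralizer_iff]
    intro h hh
    have := (mem_center_iff.mp hn) ⟨h, hh⟩
    exact congrArg Subtype.val this)

theorem iota_mk (n : ↥N) : iota N (QuotientGroup.mk n) = QuotientGroup.mk' (ZN N) (n : G) := rfl

theorem iota_injective : Function.Injective (iota N) := by
  rw [injective_iff_map_eq_one]
  intro q
  induction q using QuotientGroup.induction_on with
  | H n =>
    intro hq
    rw [iota_mk, QuotientGroup.mk'_apply, QuotientGroup.eq_one_iff, mem_ZN] at hq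
    rw [QuotientGroup.eq_one_iff, mem_center_iff]
    intro m
    apply Subtype.ext
    exact (mem_centralizer_iff.mp hq.2) m m.2

theorem mem_range_iota {z : G ⧸ ZN N} :
    z ∈ (iota N).range ↔ ∃ n ∈ N, QuotientGroup.mk' (ZN N) n = z := by
  constructor
  · rintro ⟨q, rfl⟩
    induction q using QuotientGroup.induction_on with
    | H n => exact ⟨n, n.2, rfl⟩
  · rintro ⟨n, hn, rfl⟩
    exact ⟨QuotientGroup.mk ⟨n, hn⟩, rfl⟩

instance range_iota_normal : (iota N).range.Normal := by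
  constructor
  intro z hz g
  obtain ⟨n, hn, rfl⟩ := (mem_range_iota N).mp hz
  obtain ⟨g, rfl⟩ := QuotientGroup.mk'_surjective (ZN N) g
  rw [mem_range_iota]
  refine ⟨g * n * g⁻¹, ‹N.Normal›.conj_mem n hn g, ?_⟩
  simp only [map_mul, map_inv]

end Cfsg.Agent.Lib.Helper21.MaxCent
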