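import Mathlib
import Cfsg.Agent.Lib.Helper21.MaxCentH

set_option autoImplicit false

namespace Cfsg.Agent.Lib.Helper21.MaxCent

open Subgroup

variable {G : Type*} [Group G] [Finite G] (N : Subgroup G) [N.Normal]

local notation "π" => QuotientGroup.mk' (ZN N)

/-- The main hypothesis of S3905. -/
def MainHyp : Prop :=
  ∀ x : G, x ∈ N → x ∉ centralizer (N : Set G) → IsCoatom (centralizer ({x} : Set G))

variable {N}

omit [Finite G] in
theorem pi_eq_one_iff {x : G} (hx : x ∈ N) : π x = 1 ↔ x ∈ centralizer (N : Set G) := by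
  rw [QuotientGroup.mk'_apply, QuotientGroup.eq_one_iff, mem_ZN]
  exact ⟨fun h => h.2, fun h => ⟨hx, h⟩⟩

omit [Finite G] in
/-- Dichotomy. -/
theorem dichotomy (h : MainHyp N) {x : G} (hx : x ∈ N) (hxZ : x ∉ centralizer (N : Set G)) :
    π x ∈ center (G ⧸ ZN N) ∨
      (centralizer ({π x} : Set (G ⧸ ZN N))).comap π = centralizer ({x} : Set G) := by
  have hco := h x hx hxZ
  have hle : centralizer ({x} : Set G) ≤ (centralizer ({π x} : Set (G ⧸ ZN N))).comap π := by
    intro g hg
    rw [mem_comap, mem_cent_iff, ← map_mul, ← map_mul, mem_cent_iff.mp hg]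
  by_cases htop : (centralizer ({π x} : Set (G ⧸ ZN N))).comap π = ⊤
  · left
    rw [mem_center_iff]
    intro g
    obtain ⟨g, rfl⟩ := QuotientGroup.mk'_surjective (ZN N) g
    have : g ∈ (centralizer ({π x} : Set (G ⧸ ZN N))).comap π := htop ▸ mem_top g
    exact mem_cent_iff.mp (mem_comap.mp this)
  · right
    exact (hco.le_iff_eq htop).mp hle

omit [Finite G] in
/-- Claim 1. -/
theorem commute_of_central (h : MainHyp N) {y a : G} (hy : y ∈ N)
    (hyc : π y ∉ center (G ⧸ ZN N)) (ha : π a ∈ center (G ⧸ ZN N)) : a * y = y * a := by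
  have hyZ : y ∉ centralizer (N : Set G) := by
    intro hh
    apply hyc
    rw [(pi_eq_one_iff hy).mpr hh]
    exact one_mem _
  rcases dichotomy h hy hyZ with h1 | h1
  · exact absurd h1 hyc
  · have : a ∈ (centralizer ({π y} : Set (G ⧸ ZN N))).comap π := by
      rw [mem_comap, mem_cent_iff]
      exact ((mem_center_iff.mp ha) (π y)).symm
    rw [h1, mem_cent_iff] at this
    exact this

omit [Finite G] in
/-- Claim 2. -/
theorem central_le_ZN (h : MainHyp N) {y : G} (hy : y ∈ N)
    (hyc : π y ∉ center (G ⧸ ZN N)) {a : G} (ha : π a ∈ center (G ⧸ ZN N)) :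
    a ∈ centralizer (N : Set G) := by
  rw [mem_centralizer_iff]
  intro n hn
  by_cases hnc : π n ∈ center (G ⧸ ZN N)
  · have hyn : π (y * n) ∉ center (G ⧸ ZN N) := by
      intro hh
      apply hyc
      have : π y = π (y * n) * (π n)⁻¹ := by rw [map_mul, mul_inv_cancel_right]
      rw [this]
      exact mul_mem hh (inv_mem hnc)
    have h1 := commute_of_central h (N.mul_mem hy hn) hyn ha
    have h2 := commute_of_central h hy hyc ha
    -- a * (y * n) = (y * n) * a, a * y = y * a ⟹ a * n = n * a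
    have h3 : y * (a * n) = y * (n * a) := by
      calc y * (a * n) = (y * a) * n := by group
        _ = (a * y) * n := by rw [h2]
        _ = a * (y * n) := by group
        _ = (y * n) * a := h1
        _ = y * (n * a) := by group
    exact (mul_left_cancel h3).symm
  · exact (commute_of_central h hn hnc ha).symm

/-- Claim 3: prime order modulo the center, when `N/Z` is central in `G/Z`. -/
theorem prime_order (h : MainHyp N) (hcen : ∀ y ∈ N, π y ∈ center (G ⧸ ZN N)) {x : G}
    (hx : x ∈ N) (hxZ : x ∉ centralizer (N : Set G)) : (orderOf (π x)).Prime := by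
  set n := orderOf (π x) with hn
  have hn1 : n ≠ 1 := by
    intro h1
    exact hxZ ((pi_eq_one_iff hx).mp (orderOf_eq_one_iff.mp h1))
  by_contra hnp
  -- pick g ∈ N not commuting with x
  obtain ⟨g, hg, hgx⟩ : ∃ g ∈ N, g * x ≠ x * g := by
    by_contra hcon
    apply hxZ
    rw [mem_centralizer_iff]
    intro g hg
    by_contra hne
    exact hcon ⟨g, hg, hne⟩
  set w := x * g * x⁻¹ * g⁻¹ with hw
  have hw1 : w ≠ 1 := by
    intro h1
    apply hgx
    have : x * g = w * (g * x) := by rw [hw]; group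
    rw [h1, one_mul] at this
    exact this.symm
  have hwN : w ∈ N := N.mul_mem (N.mul_mem (N.mul_mem hx hg) (N.inv_mem hx)) (N.inv_mem hg)
  have hwZ : w ∈ centralizer (N : Set G) := by
    rw [← pi_eq_one_iff hwN, hw]
    simp only [map_mul, map_inv]
    have := (mem_center_iff.mp (hcen x hx)) (π g)
    -- π g * π x = π x * π g
    rw [← this, mul_inv_cancel_right, mul_inv_cancel]
  have hwx : Commute w x := ((mem_centralizer_iff.mp hwZ) x hx).symm
  have hwg : Commute w g := ((mem_centralizer_iff.mp hwZ) g hg).symm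
  -- w ^ n = 1
  have hxn : x ^ n ∈ centralizer (N : Set G) := by
    rw [← pi_eq_one_iff (N.pow_mem hx n), map_pow, hn, pow_orderOf_eq_one]
  have hwn : w ^ n = 1 := by
    rw [hw, ← comm_pow_left x g hwx n]
    have := (mem_centralizer_iff.mp hxn) g hg
    -- g * x^n = x^n * g
    rw [← this, mul_inv_cancel_right, mul_inv_cancel]
  have how : orderOf w ≠ 1 := fun h1 => hw1 (orderOf_eq_one_iff.mp h1)
  obtain ⟨r, hr, hrw⟩ := Nat.exists_prime_and_dvd how
  have hrn : r ∣ n := hrw.trans (orderOf_dvd_of_pow_eq_one hwn)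
  have hrne : r ≠ n := fun h1 => hnp (h1 ▸ hr)
  have hxr : x ^ r ∉ centralizer (N : Set G) := by
    intro hh
    have h1 : (π x) ^ r = 1 := by
      rw [← map_pow]
      exact (pi_eq_one_iff (N.pow_mem hx r)).mpr hh
    have h2 : n ∣ r := orderOf_dvd_of_pow_eq_one h1
    rcases (Nat.dvd_prime hr).mp h2 with h3 | h3
    · exact hn1 h3
    · exact hrne h3.symm
  have hcox := h x hx hxZ
  have hcoxr := h (x ^ r) (N.pow_mem hx r) hxr
  have hcent : centralizer ({x ^ r} : Set G) = centralizer ({x} : Set G) := by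
    have hle : centralizer ({x} : Set G) ≤ centralizer ({x ^ r} : Set G) := by
      intro g hg
      rw [mem_cent_iff] at hg ⊢
      exact ((show Commute g x from hg).pow_right r).eq
    exact (hcox.le_iff_eq hcoxr.1).mp hle
  set j := orderOf w / r with hj
  set g' := g ^ j with hg'
  have hw' : x * g' * x⁻¹ * g'⁻¹ = w ^ j := comm_pow_right x g hwg j
  have hoj : orderOf (w ^ j) = r := orderOf_pow_orderOf_div (orderOf_pos w).ne' hrw
  have hw'x : Commute (x * g' * x⁻¹ * g'⁻¹) x := by
    rw [hw']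
    exact hwx.pow_left j
  have h5 : x ^ r * g' * (x ^ r)⁻¹ * g'⁻¹ = 1 := by
    rw [comm_pow_left x g' hw'x r, hw', ← hoj, pow_orderOf_eq_one]
  have h6 : g' ∈ centralizer ({x ^ r} : Set G) := by
    rw [mem_cent_iff]
    have : x ^ r * g' = (x ^ r * g' * (x ^ r)⁻¹ * g'⁻¹) * (g' * x ^ r) := by group
    rw [h5, one_mul] at this
    exact this.symm
  rw [hcent, mem_cent_iff] at h6
  have h7 : w ^ j = 1 := by
    rw [← hw', ← h6]
    group
  rw [h7, orderOf_one] at hoj
  exact hr.ne_one hoj.symm

/-- Case 1: `N/Z(N)` is elementary abelian. -/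
theorem case_one (h : MainHyp N) {x₀ : G} (hx₀ : x₀ ∈ N)
    (hx₀Z : x₀ ∉ centralizer (N : Set G)) (hx₀c : π x₀ ∈ center (G ⧸ ZN N)) :
    ∃ p : ℕ, p.Prime ∧ Cfsg.IsElementaryAbelian p (⊤ : Subgroup (↥N ⧸ center ↥N)) := by
  have hcen : ∀ y ∈ N, π y ∈ center (G ⧸ ZN N) := by
    intro y hy
    by_contra hyc
    exact hx₀Z (central_le_ZN h hy hyc hx₀c)
  set p := orderOf (π x₀) with hp
  have hpp : p.Prime := prime_order h hcen hx₀ hx₀Z
  have hall : ∀ y ∈ N, (π y) ^ p = 1 := by
    intro y hy
    by_cases hyZ : y ∈ centralizer (N : Set G)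
    · rw [(pi_eq_one_iff hy).mpr hyZ, one_pow]
    · have hq := prime_order h hcen hy hyZ
      by_cases hpq : orderOf (π y) = p
      · rw [← hpq, pow_orderOf_eq_one]
      · exfalso
        have hco : (orderOf (π x₀)).Coprime (orderOf (π y)) := by
          rw [Nat.coprime_primes hpp hq]
          exact fun h1 => hpq h1.symm
        have hcomm : Commute (π x₀) (π y) := ((mem_center_iff.mp (hcen x₀ hx₀)) (π y)).symm
        have ho := hcomm.orderOf_mul_eq_mul_orderOf_of_coprime hco
        rw [← map_mul] at ho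
        have hxyN : x₀ * y ∈ N := N.mul_mem hx₀ hy
        by_cases hxyZ : x₀ * y ∈ centralizer (N : Set G)
        · rw [(pi_eq_one_iff hxyN).mpr hxyZ, orderOf_one] at ho
          have := hpp.one_lt
          have := hq.one_lt
          nlinarith
        · have := prime_order h hcen hxyN hxyZ
          rw [ho] at this
          exact Nat.not_prime_mul hpp.ne_one hq.ne_one this
  refine ⟨p, hpp, ⟨⟨fun a b => ?_⟩⟩, ?_⟩
  · apply Subtype.ext
    apply iota_injective N
    show iota N ((a : ↥N ⧸ center ↥N) * (b : ↥N ⧸ center ↥N)) = iota N (b * a)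
    rw [map_mul, map_mul]
    obtain ⟨n, hn, hna⟩ := (mem_range_iota N).mp ⟨(a : ↥N ⧸ center ↥N), rfl⟩
    rw [← hna]
    exact ((mem_center_iff.mp (hcen n hn)) _).symm
  · intro a _
    apply iota_injective N
    rw [map_pow, map_one]
    obtain ⟨n, hn, hna⟩ := (mem_range_iota N).mp ⟨a, rfl⟩
    rw [← hna]
    exact hall n hn

end Cfsg.Agent.Lib.Helper21.MaxCent
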