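import Mathlib
import Cfsg.Agent.Lib.Helper21.MaxCentI

set_option autoImplicit false

namespace Cfsg.Agent.Lib.Helper21.MaxCent

open Subgroup

variable {G : Type*} [Group G] [Finite G] {N : Subgroup G} [N.Normal]

local notation "π" => QuotientGroup.mk' (ZN N)

/-- Case 2: the quotient pair satisfies `Hyp`. -/
theorem hyp_quotient (h : MainHyp N)
    (hc2 : ∀ x ∈ N, x ∉ centralizer (N : Set G) → π x ∉ center (G ⧸ ZN N)) :
    Hyp (iota N).range := by
  intro z hz hz1
  obtain ⟨x, hx, rfl⟩ := (mem_range_iota N).mp hz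
  have hxZ : x ∉ centralizer (N : Set G) := fun hh => hz1 ((pi_eq_one_iff hx).mpr hh)
  have hxc := hc2 x hx hxZ
  have hcomap : (centralizer ({π x} : Set (G ⧸ ZN N))).comap π = centralizer ({x} : Set G) := by
    rcases dichotomy h hx hxZ with h1 | h1
    · exact absurd h1 hxc
    · exact h1
  have hco := h x hx hxZ
  have hsurj := QuotientGroup.mk'_surjective (ZN N)
  refine ⟨⟨?_, ?_⟩, ?_⟩
  · intro htop
    apply hco.1
    rw [← hcomap, htop, comap_top]
  · intro J hJ
    have h1 : centralizer ({x} : Set G) < J.comap π := by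
      rw [← hcomap]
      exact (comap_lt_comap_of_surjective hsurj).mpr hJ
    have h2 := hco.2 _ h1
    apply comap_injective hsurj
    rw [h2, comap_top]
  · intro hle
    apply hxZ
    rw [mem_centralizer_iff]
    intro n hn
    have h1 : π n ∈ centralizer ({π x} : Set (G ⧸ ZN N)) := hle ((mem_range_iota N).mpr ⟨n, hn, rfl⟩)
    have h2 : n ∈ (centralizer ({π x} : Set (G ⧸ ZN N))).comap π := h1
    rw [hcomap, mem_cent_iff] at h2
    exact h2

/-- The main theorem. -/
theorem main_theorem (h : MainHyp N) :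
    (∃ p : ℕ, p.Prime ∧ Cfsg.IsElementaryAbelian p (⊤ : Subgroup (↥N ⧸ center ↥N))) ∨
    (∃ (Q K : Subgroup (↥N ⧸ center ↥N)) (p : ℕ), p.Prime ∧ Cfsg.IsFrobeniusComplement Q ∧
      (Nat.card ↥Q).Prime ∧ K.Normal ∧ (K : Set (↥N ⧸ center ↥N)) = Cfsg.frobeniusKernel Q ∧
      Cfsg.IsElementaryAbelian p K) := by
  by_cases hc1 : ∃ x₀ ∈ N, x₀ ∉ centralizer (N : Set G) ∧ π x₀ ∈ center (G ⧸ ZN N)
  · obtain ⟨x₀, hx₀, hx₀Z, hx₀c⟩ := hc1
    exact Or.inl (case_one h hx₀ hx₀Z hx₀c)
  have hc2 : ∀ x ∈ N, x ∉ centralizer (N : Set G) → π x ∉ center (G ⧸ ZN N) := by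
    intro x hx hxZ hxc
    exact hc1 ⟨x, hx, hxZ, hxc⟩
  by_cases htriv : N ≤ centralizer (N : Set G)
  · -- trivial quotient
    left
    have hone : ∀ a : ↥N ⧸ center ↥N, a = 1 := by
      intro a
      apply iota_injective N
      obtain ⟨n, hn, hna⟩ := (mem_range_iota N).mp ⟨a, rfl⟩
      rw [← hna, map_one]
      exact (pi_eq_one_iff hn).mpr (htriv hn)
    refine ⟨2, Nat.prime_two, ⟨⟨fun a b => ?_⟩⟩, ?_⟩
    · apply Subtype.ext
      show (a : ↥N ⧸ center ↥N) * (b : ↥N ⧸ center ↥N) = b * a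
      rw [hone a, hone b]
    · intro a _
      rw [hone a, one_pow]
  · right
    have hH := hyp_quotient h hc2
    have hne : (iota N).range ≠ ⊥ := by
      intro hbot
      apply htriv
      intro n hn
      have : π n ∈ (iota N).range := (mem_range_iota N).mpr ⟨n, hn, rfl⟩
      rw [hbot, mem_bot] at this
      exact (pi_eq_one_iff hn).mp this
    obtain ⟨U, y, r, s, hr, hs, hUn, hUN, hUb, hab, hexp, hy, hoy, hfpf, hprod⟩ :=
      structure_thm (iota N).range hH hne
    exact frobenius_of_data (iota N) (iota_injective N) U y r s hr hs hUn hUN hUb hab hexp hy hoy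
      hfpf hprod

end Cfsg.Agent.Lib.Helper21.MaxCent
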