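import Mathlib

/-!
Metacyclic models (helper21): the group `ZMod M ⋊ ℤ` modulo a central cyclic subgroup, used as a
target to bound orders of generators in metacyclic presented groups from below.
-/

set_option autoImplicit false

namespace Cfsg.Agent.Lib.Helper21.Meta

/-- underlying type of `ZMod M ⋊ ℤ`, where `1 : ℤ` acts as multiplication by the unit `u`. -/
@[ext] structure E (M : ℕ) (u : (ZMod M)ˣ) where
  x : ZMod M
  j : ℤ

variable {M : ℕ} {u : (ZMod M)ˣ}

instance : Mul (E M u) := ⟨fun a b => ⟨a.x + ((u ^ a.j : (ZMod M)ˣ) : ZMod M) * b.x, a.j + b.j⟩⟩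
instance : One (E M u) := ⟨⟨0, 0⟩⟩
instance : Inv (E M u) := ⟨fun a => ⟨-(((u ^ (-a.j) : (ZMod M)ˣ) : ZMod M) * a.x), -a.j⟩⟩

theorem mul_x (a b : E M u) : (a * b).x = a.x + ((u ^ a.j : (ZMod M)ˣ) : ZMod M) * b.x := rfl
theorem mul_j (a b : E M u) : (a * b).j = a.j + b.j := rfl
theorem one_x : (1 : E M u).x = 0 := rfl
theorem one_j : (1 : E M u).j = 0 := rfl
theorem inv_x (a : E M u) : (a⁻¹).x = -(((u ^ (-a.j) : (ZMod M)ˣ) : ZMod M) * a.x) := rfl
theorem inv_j (a : E M u) : (a⁻¹).j = -a.j := rfl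

instance : Group (E M u) where
  mul_assoc a b c := by
    ext
    · simp only [mul_x, mul_j, zpow_add, Units.val_mul]; ring
    · simp only [mul_j]; ring
  one_mul a := by
    ext
    · simp [mul_x, one_x, one_j]
    · simp [mul_j, one_j]
  mul_one a := by
    ext
    · simp [mul_x, one_x]
    · simp [mul_j, one_j]
  inv_mul_cancel a := by
    ext
    · simp only [mul_x, inv_x, inv_j, one_x]; ring
    · simp [mul_j, inv_j, one_j]

/-- projection to `ℤ`. -/
def pr : E M u →* Multiplicative ℤ where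
  toFun a := Multiplicative.ofAdd a.j
  map_one' := rfl
  map_mul' _ _ := rfl

/-- the normal subgroup `ZMod M`. -/
def iota : Multiplicative (ZMod M) →* E M u where
  toFun x := ⟨Multiplicative.toAdd x, 0⟩
  map_one' := rfl
  map_mul' a b := by
    ext
    · simp [mul_x]
    · simp [mul_j]

/-- the complement `ℤ`. -/
def kappa : Multiplicative ℤ →* E M u where
  toFun j := ⟨0, Multiplicative.toAdd j⟩
  map_one' := rfl
  map_mul' a b := by
    ext
    · simp [mul_x]
    · simp [mul_j]

theorem conj_kappa_iota (x : ZMod M) :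
    (kappa (Multiplicative.ofAdd 1) : E M u) * iota (Multiplicative.ofAdd x) *
      (kappa (Multiplicative.ofAdd 1))⁻¹ = iota (Multiplicative.ofAdd ((u : ZMod M) * x)) := by
  ext
  · simp [mul_x, mul_j, inv_x, kappa, iota]
  · simp [mul_j, inv_j, kappa, iota]

/-- the central element `β^n α^{-T}`. -/
def zeta (T : ZMod M) (n : ℕ) : E M u := ⟨-T, n⟩

theorem zpow_fix {T : ZMod M} (hT : (u : ZMod M) * T = T) (j : ℤ) :
    ((u ^ j : (ZMod M)ˣ) : ZMod M) * T = T := by
  have h1 : ∀ k : ℕ, ((u ^ k : (ZMod M)ˣ) : ZMod M) * T = T := by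
    intro k
    induction k with
    | zero => simp
    | succ k ih => rw [pow_succ, Units.val_mul, mul_assoc, hT, ih]
  have h2 : ((u⁻¹ : (ZMod M)ˣ) : ZMod M) * T = T := by
    conv_lhs => rw [← hT]
    rw [← mul_assoc, ← Units.val_mul, inv_mul_cancel, Units.val_one, one_mul]
  have h3 : ∀ k : ℕ, (((u⁻¹) ^ k : (ZMod M)ˣ) : ZMod M) * T = T := by
    intro k
    induction k with
    | zero => simp
    | succ k ih => rw [pow_succ, Units.val_mul, mul_assoc, h2, ih]
  rcases Int.eq_nat_or_neg j with ⟨k, rfl | rfl⟩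
  · rw [zpow_natCast]; exact h1 k
  · rw [zpow_neg, zpow_natCast, ← inv_pow]; exact h3 k

theorem zeta_comm {T : ZMod M} {n : ℕ} (hu : u ^ n = 1) (hT : (u : ZMod M) * T = T) (a : E M u) :
    zeta T n * a = a * zeta T n := by
  ext
  · simp only [mul_x, zeta, zpow_natCast, hu, Units.val_one, one_mul, mul_neg, zpow_fix hT]
    ring
  · simp only [mul_j, zeta]; ring

theorem zeta_inv {T : ZMod M} {n : ℕ} (hT : (u : ZMod M) * T = T) :
    (zeta T n : E M u)⁻¹ = ⟨T, -(n : ℤ)⟩ := by
  ext
  · simp only [inv_x, zeta, mul_neg, neg_neg, zpow_fix hT]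
  · simp [inv_j, zeta]

/-- **The model**: a group with elements `A`, `B` satisfying the metacyclic relations in which `A` has order
exactly `M`. -/
theorem exists_model (M n T R : ℕ) (hM : 0 < M) (hn : 0 < n) (hR : R ^ n ≡ 1 [MOD M])
    (hT : T * R ≡ T [MOD M]) :
    ∃ (X : Type) (_ : Group X) (A B : X), A ^ M = 1 ∧ B ^ n = A ^ T ∧ B * A * B⁻¹ = A ^ R ∧
      orderOf A = M := by
  have : NeZero M := ⟨hM.ne'⟩
  have hcop : Nat.Coprime R M := by
    rcases Nat.eq_or_lt_of_le (Nat.one_le_iff_ne_zero.mpr hM.ne') with h1 | h1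
    · rw [← h1]; exact Nat.coprime_one_right R
    · have h2 : R ^ n % M = 1 := by
        have := hR
        unfold Nat.ModEq at this
        rw [this, Nat.mod_eq_of_lt h1]
      have h3 : Nat.Coprime (R ^ n) M := by
        rw [Nat.coprime_iff_gcd_eq_one, Nat.gcd_comm, Nat.gcd_rec, h2] -- gcd (R^n % M) M
        simp
      exact Nat.Coprime.coprime_dvd_left (dvd_pow_self R hn.ne') h3
  let u : (ZMod M)ˣ := ZMod.unitOfCoprime R hcop
  have hu_val : (u : ZMod M) = (R : ZMod M) := ZMod.coe_unitOfCoprime R hcop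
  have hun : u ^ n = 1 := by
    apply Units.ext
    rw [Units.val_pow_eq_pow_val, hu_val, Units.val_one]
    have := (ZMod.natCast_eq_natCast_iff _ _ _).mpr hR
    simpa using this
  have hTz : (u : ZMod M) * (T : ZMod M) = (T : ZMod M) := by
    rw [hu_val, mul_comm]
    have := (ZMod.natCast_eq_natCast_iff _ _ _).mpr hT
    simpa using this
  let z : E M u := zeta (T : ZMod M) n
  have hzc : ∀ a : E M u, z * a = a * z := zeta_comm hun hTz
  have hnorm : (Subgroup.zpowers z).Normal := by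
    refine ⟨fun y hy g => ?_⟩
    have hcomm : g * y = y * g := by
      obtain ⟨q, rfl⟩ := Subgroup.mem_zpowers_iff.mp hy
      have : Commute g z := (hzc g).symm
      exact (this.zpow_right q).eq
    rw [hcomm, mul_inv_cancel_right]; exact hy
  let A0 : E M u := iota (Multiplicative.ofAdd 1)
  let B0 : E M u := kappa (Multiplicative.ofAdd 1)
  have hA0pow : ∀ s : ℕ, A0 ^ s = iota (Multiplicative.ofAdd (s : ZMod M)) := by
    intro s
    show (iota (Multiplicative.ofAdd 1)) ^ s = _
    rw [← map_pow, ← ofAdd_nsmul, nsmul_eq_mul, mul_one]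
  have hB0pow : ∀ s : ℕ, B0 ^ s = kappa (Multiplicative.ofAdd (s : ℤ)) := by
    intro s
    show (kappa (Multiplicative.ofAdd 1)) ^ s = _
    rw [← map_pow, ← ofAdd_nsmul, nsmul_eq_mul, mul_one]
  refine ⟨E M u ⧸ Subgroup.zpowers z, inferInstance, QuotientGroup.mk A0, QuotientGroup.mk B0, ?_, ?_, ?_, ?_⟩
  · rw [← QuotientGroup.mk_pow, hA0pow, ZMod.natCast_self, ofAdd_zero, map_one]; rfl
  · rw [← QuotientGroup.mk_pow, ← QuotientGroup.mk_pow, QuotientGroup.eq, hB0pow, hA0pow]
    have : (kappa (Multiplicative.ofAdd (n : ℤ)) : E M u)⁻¹ * iota (Multiplicative.ofAdd (T : ZMod M)) = z⁻¹ := by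
      rw [zeta_inv hTz]
      ext
      · simp only [mul_x, inv_x, inv_j, kappa, iota, MonoidHom.coe_mk, OneHom.coe_mk, toAdd_ofAdd,
          mul_zero, neg_zero, zero_add, zpow_fix hTz]
      · simp [mul_j, inv_j, kappa, iota]
    rw [this]
    exact inv_mem (Subgroup.mem_zpowers z)
  · rw [← QuotientGroup.mk_pow, ← QuotientGroup.mk_inv, ← QuotientGroup.mk_mul, ← QuotientGroup.mk_mul]
    congr 1
    rw [hA0pow]
    show kappa (Multiplicative.ofAdd 1) * iota (Multiplicative.ofAdd 1) * (kappa (Multiplicative.ofAdd 1))⁻¹ = _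
    rw [conj_kappa_iota, mul_one, hu_val]
  · have hdvd : ∀ s : ℕ, (QuotientGroup.mk A0 : E M u ⧸ Subgroup.zpowers z) ^ s = 1 → M ∣ s := by
      intro s hs
      rw [← QuotientGroup.mk_pow, QuotientGroup.eq_one_iff, hA0pow] at hs
      obtain ⟨q, hq⟩ := Subgroup.mem_zpowers_iff.mp hs
      have h1 := congrArg pr hq
      rw [map_zpow] at h1
      have h2 : (pr z : Multiplicative ℤ) = Multiplicative.ofAdd (n : ℤ) := rfl
      have h3 : (pr (iota (Multiplicative.ofAdd (s : ZMod M)) : E M u) : Multiplicative ℤ) = 1 := rfl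
      rw [h2, h3, ← ofAdd_zsmul] at h1
      have hq0 : q = 0 := by
        have h4 := congrArg Multiplicative.toAdd h1
        rw [toAdd_ofAdd, toAdd_one, smul_eq_mul] at h4
        rcases mul_eq_zero.mp h4 with h | h
        · exact h
        · exact absurd (by exact_mod_cast h) hn.ne'
      rw [hq0, zpow_zero] at hq
      have h5 := congrArg E.x hq
      have h6 : ((iota (Multiplicative.ofAdd (s : ZMod M)) : E M u)).x = (s : ZMod M) := rfl
      rw [h6, one_x] at h5
      exact (ZMod.natCast_eq_zero_iff s M).mp h5.symm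
    apply Nat.dvd_antisymm
    · apply orderOf_dvd_of_pow_eq_one
      rw [← QuotientGroup.mk_pow, hA0pow, ZMod.natCast_self, ofAdd_zero, map_one]; rfl
    · exact hdvd _ (pow_orderOf_eq_one _)

end Cfsg.Agent.Lib.Helper21.Meta
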