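import Mathlib

/-!
Metacyclic relations with a central twist (helper21): commutator calculus for `β α β⁻¹ = w α^r`.
-/

set_option autoImplicit false

namespace Cfsg.Agent.Lib.Helper21.Meta

open Finset

theorem geom_id (e n : ℕ) : e * ∑ i ∈ range n, (e + 1) ^ i + 1 = (e + 1) ^ n := by
  induction n with
  | zero => simp
  | succ n ih =>
    rw [sum_range_succ, mul_add, pow_succ]
    have : e * ∑ i ∈ range n, (e + 1) ^ i + e * (e + 1) ^ n + 1
        = (e * ∑ i ∈ range n, (e + 1) ^ i + 1) + e * (e + 1) ^ n := by ring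
    rw [this, ih]; ring

variable {Γ : Type*} [Group Γ]

theorem conj_pow_tw {α β w : Γ} {r : ℕ} (hw : ∀ g : Γ, Commute w g) (h : β * α * β⁻¹ = w * α ^ r)
    (i : ℕ) : β * α ^ i * β⁻¹ = w ^ i * α ^ (r * i) := by
  induction i with
  | zero => simp
  | succ i ih =>
    have h1 : β * α ^ (i + 1) * β⁻¹ = (β * α ^ i * β⁻¹) * (β * α * β⁻¹) := by
      rw [pow_succ]; group
    rw [h1, ih, h]
    have h2 : Commute (α ^ (r * i)) w := ((hw (α ^ (r * i))).symm)
    calc w ^ i * α ^ (r * i) * (w * α ^ r) = w ^ i * (α ^ (r * i) * w) * α ^ r := by group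
      _ = w ^ i * (w * α ^ (r * i)) * α ^ r := by rw [h2.eq]
      _ = w ^ (i + 1) * α ^ (r * (i + 1)) := by
        rw [pow_succ, mul_add, mul_one, pow_add]; group

theorem conj_pow_pow_tw {α β w : Γ} {r : ℕ} (hw : ∀ g : Γ, Commute w g)
    (h : β * α * β⁻¹ = w * α ^ r) (j : ℕ) :
    β ^ j * α * (β ^ j)⁻¹ = w ^ (∑ i ∈ range j, r ^ i) * α ^ (r ^ j) := by
  induction j with
  | zero => simp
  | succ j ih =>
    have h1 : β ^ (j + 1) * α * (β ^ (j + 1))⁻¹ = β * (β ^ j * α * (β ^ j)⁻¹) * β⁻¹ := by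
      rw [pow_succ']; group
    rw [h1, ih]
    have h2 : β * (w ^ (∑ i ∈ range j, r ^ i) * α ^ r ^ j) * β⁻¹
        = w ^ (∑ i ∈ range j, r ^ i) * (β * α ^ r ^ j * β⁻¹) := by
      have hc : Commute (w ^ (∑ i ∈ range j, r ^ i)) β := (hw β).pow_left _
      calc β * (w ^ (∑ i ∈ range j, r ^ i) * α ^ r ^ j) * β⁻¹
          = (β * w ^ (∑ i ∈ range j, r ^ i)) * α ^ r ^ j * β⁻¹ := by group
        _ = (w ^ (∑ i ∈ range j, r ^ i) * β) * α ^ r ^ j * β⁻¹ := by rw [hc.eq]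
        _ = _ := by group
    rw [h2, conj_pow_tw hw h, sum_range_succ, pow_add, pow_succ, mul_assoc, mul_comm r (r ^ j)]

/-- the core computation for a central extension of a metacyclic group: orders of the commutator
`c = [β, α]`. -/
theorem core (α β : Γ) (m n t e : ℕ) (hu : α ^ m ∈ Subgroup.center Γ)
    (hv : β ^ n * (α ^ t)⁻¹ ∈ Subgroup.center Γ)
    (hw : β * α * β⁻¹ * (α ^ (e + 1))⁻¹ ∈ Subgroup.center Γ) :
    (β * α * β⁻¹ * α⁻¹) ^ m = 1 ∧ (β * α * β⁻¹ * α⁻¹) ^ t = 1 ∧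
      (β * α * β⁻¹ * α⁻¹) ^ (∑ i ∈ range n, (e + 1) ^ i) = 1 ∧
      Commute (β * α * β⁻¹ * α⁻¹) α ∧
      β * (β * α * β⁻¹ * α⁻¹) * β⁻¹ = (β * α * β⁻¹ * α⁻¹) ^ (e + 1) := by
  set w := β * α * β⁻¹ * (α ^ (e + 1))⁻¹ with hwdef
  have hwc : ∀ g : Γ, Commute w g := fun g => (Subgroup.mem_center_iff.mp hw g).symm
  have hrel : β * α * β⁻¹ = w * α ^ (e + 1) := by rw [hwdef]; group
  have hc : β * α * β⁻¹ * α⁻¹ = w * α ^ e := by
    rw [hrel, pow_succ]; group
  have hwα : Commute w α := hwc α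
  have hcpow : ∀ i : ℕ, (w * α ^ e) ^ i = w ^ i * α ^ (e * i) := by
    intro i
    rw [(hwα.pow_right e).mul_pow, ← pow_mul]
  -- c^i = β α^i β⁻¹ α^{-i}
  have hci : ∀ i : ℕ, (w * α ^ e) ^ i = β * α ^ i * β⁻¹ * (α ^ i)⁻¹ := by
    intro i
    rw [hcpow, conj_pow_tw hwc hrel, add_mul, one_mul, pow_add]; group
  rw [hc]
  refine ⟨?_, ?_, ?_, ?_, ?_⟩
  · rw [hci]
    have := Subgroup.mem_center_iff.mp hu β
    -- β * α^m = α^m * β
    calc β * α ^ m * β⁻¹ * (α ^ m)⁻¹ = (β * α ^ m) * β⁻¹ * (α ^ m)⁻¹ := by group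
      _ = (α ^ m * β) * β⁻¹ * (α ^ m)⁻¹ := by rw [this]
      _ = 1 := by group
  · rw [hci]
    set v := β ^ n * (α ^ t)⁻¹ with hvdef
    have hvc : ∀ g : Γ, Commute v g := fun g => (Subgroup.mem_center_iff.mp hv g).symm
    have hαt : α ^ t = v⁻¹ * β ^ n := by rw [hvdef]; group
    have h1 : β * α ^ t * β⁻¹ = α ^ t := by
      rw [hαt]
      have hcv : Commute β v⁻¹ := ((hvc β).symm).inv_right
      calc β * (v⁻¹ * β ^ n) * β⁻¹ = (β * v⁻¹) * β ^ n * β⁻¹ := by group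
        _ = (v⁻¹ * β) * β ^ n * β⁻¹ := by rw [hcv.eq]
        _ = v⁻¹ * (β * β ^ n * β⁻¹) := by group
        _ = v⁻¹ * β ^ n := by
          congr 1
          rw [← pow_succ', pow_succ, mul_inv_cancel_right]
    rw [h1, mul_inv_cancel]
  · rw [hcpow]
    set v := β ^ n * (α ^ t)⁻¹ with hvdef
    have hvc : ∀ g : Γ, Commute v g := fun g => (Subgroup.mem_center_iff.mp hv g).symm
    have hβn : β ^ n = v * α ^ t := by rw [hvdef]; group
    have hcomm : Commute (β ^ n) α := by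
      rw [hβn]
      exact (hvc α).mul_left (Commute.pow_left (Commute.refl α) t)
    have h1 := conj_pow_pow_tw hwc hrel n
    have h2 : β ^ n * α * (β ^ n)⁻¹ = α := by
      rw [hcomm.eq, mul_inv_cancel_right]
    rw [h2, ← geom_id e n, pow_succ] at h1
    -- α = w^N * (α^(eN) * α)
    have h3 : w ^ (∑ i ∈ range n, (e + 1) ^ i) * α ^ (e * ∑ i ∈ range n, (e + 1) ^ i) * α = 1 * α := by
      rw [one_mul, mul_assoc]; exact h1.symm
    exact mul_right_cancel h3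
  · exact hwα.mul_left (Commute.pow_left (Commute.refl α) e)
  · have h1 : β * (w * α ^ e) * β⁻¹ = w * (β * α ^ e * β⁻¹) := by
      have hcw : Commute β w := (hwc β).symm
      calc β * (w * α ^ e) * β⁻¹ = (β * w) * α ^ e * β⁻¹ := by group
        _ = (w * β) * α ^ e * β⁻¹ := by rw [hcw.eq]
        _ = _ := by group
    rw [h1, conj_pow_tw hwc hrel, hcpow, ← mul_assoc, ← pow_succ', mul_comm e (e + 1)]

end Cfsg.Agent.Lib.Helper21.Meta
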