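import Mathlib
import Cfsg.Prelude.Def_KGroupFacts
import Cfsg.Agent.Lib.Helper21.MetaB

/-!
Upper bound for the kernel of a stem extension of a metacyclic group (helper21).
-/

set_option autoImplicit false

namespace Cfsg.Agent.Lib.Helper21.Meta

open Finset
open scoped commutatorElement

variable {Γ : Type*} [Group Γ]

theorem conj_central {z : Γ} (hz : z ∈ Subgroup.center Γ) (x : Γ) : z * x * z⁻¹ = x := by
  rw [← Subgroup.mem_center_iff.mp hz x, mul_inv_cancel_right]

theorem comm_central_left {z : Γ} (hz : z ∈ Subgroup.center Γ) (g h : Γ) : ⁅z * g, h⁆ = ⁅g, h⁆ := by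
  rw [commutatorElement_def, commutatorElement_def, mul_inv_rev]
  have h1 : z * g * h * (g⁻¹ * z⁻¹) * h⁻¹ = z * (g * h * g⁻¹ * h⁻¹) * z⁻¹ := by
    have hz' : z⁻¹ ∈ Subgroup.center Γ := inv_mem hz
    have := Subgroup.mem_center_iff.mp hz' h⁻¹
    calc z * g * h * (g⁻¹ * z⁻¹) * h⁻¹ = z * g * h * g⁻¹ * (z⁻¹ * h⁻¹) := by group
      _ = z * g * h * g⁻¹ * (h⁻¹ * z⁻¹) := by rw [← this]
      _ = _ := by group
  rw [h1, conj_central hz]

theorem comm_central_right {z : Γ} (hz : z ∈ Subgroup.center Γ) (g h : Γ) : ⁅g, z * h⁆ = ⁅g, h⁆ := by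
  have h1 : ⁅g, z * h⁆ = (⁅z * h, g⁆)⁻¹ := (commutatorElement_inv _ _).symm
  rw [h1, comm_central_left hz, commutatorElement_inv]

/-- a subgroup containing lifts of generators, in a stem-like situation, is everything. -/
theorem closure_eq_top_of_stem {G : Type*} [Group G] (σ : Γ →* G)
    (hc : σ.ker ≤ Subgroup.center Γ) (hd : σ.ker ≤ commutator Γ)
    (H : Subgroup Γ) (hH : H.map σ = ⊤) : H = ⊤ := by
  have hdec : ∀ g : Γ, ∃ h ∈ H, g * h⁻¹ ∈ σ.ker := by
    intro g
    have : σ g ∈ H.map σ := by rw [hH]; trivial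
    obtain ⟨h, hh, hhg⟩ := Subgroup.mem_map.mp this
    refine ⟨h, hh, ?_⟩
    rw [MonoidHom.mem_ker, map_mul, map_inv, hhg, mul_inv_cancel]
  have hcomm : commutator Γ ≤ H := by
    rw [commutator_def, Subgroup.commutator_le]
    intro g1 _ g2 _
    obtain ⟨h1, hh1, hk1⟩ := hdec g1
    obtain ⟨h2, hh2, hk2⟩ := hdec g2
    have e1 : g1 = (g1 * h1⁻¹) * h1 := by group
    have e2 : g2 = (g2 * h2⁻¹) * h2 := by group
    rw [e1, e2, comm_central_left (hc hk1), comm_central_right (hc hk2)]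
    rw [commutatorElement_def]
    exact H.mul_mem (H.mul_mem (H.mul_mem hh1 hh2) (H.inv_mem hh1)) (H.inv_mem hh2)
  rw [Subgroup.eq_top_iff']
  intro g
  obtain ⟨h, hh, hk⟩ := hdec g
  have : g = (g * h⁻¹) * h := by group
  rw [this]
  exact H.mul_mem (hcomm (hd hk)) hh

theorem upper {G : Type*} [Group G] [Finite Γ] (σ : Γ →* G) (hσ : Cfsg.IsStemExtension σ)
    (a b : G) (hgen : ∀ H : Subgroup G, a ∈ H → b ∈ H → H = ⊤)
    (m n t e l : ℕ) (hm : 0 < m)
    (ha : a ^ m = 1) (hb : b ^ n = a ^ t) (hab : b * a * b⁻¹ = a ^ (e + 1))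
    (hord : orderOf a = m) (ht : t = m / Nat.gcd m e * l)
    (hrn : m ∣ e * ∑ i ∈ range n, (e + 1) ^ i) :
    ∃ γ ∈ σ.ker, γ ^ Nat.gcd l (Nat.gcd m e * Nat.gcd m (∑ i ∈ range n, (e + 1) ^ i) / m) = 1 ∧
      ∀ k ∈ σ.ker, ∃ j : ℤ, k = γ ^ j := by
  obtain ⟨hsurj, hcen, hder⟩ := hσ
  obtain ⟨α, hα⟩ := hsurj a
  obtain ⟨β, hβ⟩ := hsurj b
  -- generation
  have hH : Subgroup.closure ({α, β} : Set Γ) = ⊤ := by
    apply closure_eq_top_of_stem σ hcen hder
    apply hgen
    · exact Subgroup.mem_map.mpr ⟨α, Subgroup.subset_closure (by simp), hα⟩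
    · exact Subgroup.mem_map.mpr ⟨β, Subgroup.subset_closure (by simp), hβ⟩
  -- central elements
  have hu : α ^ m ∈ Subgroup.center Γ := hcen (by rw [MonoidHom.mem_ker, map_pow, hα, ha])
  have hv : β ^ n * (α ^ t)⁻¹ ∈ Subgroup.center Γ :=
    hcen (by rw [MonoidHom.mem_ker, map_mul, map_inv, map_pow, map_pow, hα, hβ, hb, mul_inv_cancel])
  have hw : β * α * β⁻¹ * (α ^ (e + 1))⁻¹ ∈ Subgroup.center Γ :=
    hcen (by rw [MonoidHom.mem_ker, map_mul, map_mul, map_mul, map_inv, map_inv, map_pow, hα, hβ, hab,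
      mul_inv_cancel])
  obtain ⟨hcm, hct, hcN, hcα, hcβ⟩ := core α β m n t e hu hv hw
  set c := β * α * β⁻¹ * α⁻¹ with hcdef
  set N := ∑ i ∈ range n, (e + 1) ^ i with hNdef
  set Z := Subgroup.zpowers c with hZdef
  -- Z is normal
  have hαZ : ∀ y ∈ Z, α * y * α⁻¹ = y := by
    intro y hy
    obtain ⟨q, rfl⟩ := Subgroup.mem_zpowers_iff.mp hy
    have : Commute α (c ^ q) := (hcα.symm).zpow_right q
    rw [this.eq, mul_inv_cancel_right]
  have hαZ' : ∀ y ∈ Z, α⁻¹ * y * α⁻¹⁻¹ = y := by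
    intro y hy
    obtain ⟨q, rfl⟩ := Subgroup.mem_zpowers_iff.mp hy
    have : Commute α⁻¹ (c ^ q) := ((hcα.symm).inv_left).zpow_right q
    rw [this.eq, mul_inv_cancel_right]
  have hβZ : ∀ y ∈ Z, β * y * β⁻¹ ∈ Z := by
    intro y hy
    obtain ⟨q, rfl⟩ := Subgroup.mem_zpowers_iff.mp hy
    have : β * c ^ q * β⁻¹ = (β * c * β⁻¹) ^ q := (conj_zpow).symm
    rw [this, hcβ]
    exact Subgroup.zpow_mem _ (Subgroup.pow_mem _ (Subgroup.mem_zpowers c) _) _
  have hβZpow : ∀ j : ℕ, ∀ y ∈ Z, β ^ j * y * (β ^ j)⁻¹ ∈ Z := by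
    intro j
    induction j with
    | zero => intro y hy; simpa using hy
    | succ j ih =>
      intro y hy
      have : β ^ (j + 1) * y * (β ^ (j + 1))⁻¹ = β * (β ^ j * y * (β ^ j)⁻¹) * β⁻¹ := by
        rw [pow_succ']; group
      rw [this]
      exact hβZ _ (ih y hy)
  have hβZ' : ∀ y ∈ Z, β⁻¹ * y * β⁻¹⁻¹ ∈ Z := by
    intro y hy
    have hpos : 0 < orderOf β := orderOf_pos β
    have h1 : β ^ (orderOf β - 1) = β⁻¹ := by
      apply eq_inv_of_mul_eq_one_left
      rw [← pow_succ, Nat.sub_add_cancel hpos, pow_orderOf_eq_one]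
    have := hβZpow (orderOf β - 1) y hy
    rwa [h1] at this
  have hZn : Z.Normal := by
    refine ⟨fun y hy g => ?_⟩
    have hg : g ∈ Subgroup.closure ({α, β} : Set Γ) := by rw [hH]; trivial
    have key : (∀ y ∈ Z, g * y * g⁻¹ ∈ Z) ∧ (∀ y ∈ Z, g⁻¹ * y * g⁻¹⁻¹ ∈ Z) := by
      induction hg using Subgroup.closure_induction with
      | mem x hx =>
        rcases hx with rfl | hx
        · exact ⟨fun y hy => by rw [hαZ y hy]; exact hy, fun y hy => by rw [hαZ' y hy]; exact hy⟩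
        · rw [Set.mem_singleton_iff] at hx
          subst hx
          exact ⟨hβZ, hβZ'⟩
      | one => exact ⟨fun y hy => by simpa using hy, fun y hy => by simpa using hy⟩
      | mul x1 x2 _ _ ih1 ih2 =>
        constructor
        · intro y hy
          have : x1 * x2 * y * (x1 * x2)⁻¹ = x1 * (x2 * y * x2⁻¹) * x1⁻¹ := by group
          rw [this]; exact ih1.1 _ (ih2.1 y hy)
        · intro y hy
          have : (x1 * x2)⁻¹ * y * (x1 * x2)⁻¹⁻¹ = x2⁻¹ * (x1⁻¹ * y * x1⁻¹⁻¹) * x2⁻¹⁻¹ := by group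
          rw [this]; exact ih2.2 _ (ih1.2 y hy)
      | inv x _ ih =>
        refine ⟨ih.2, ?_⟩
        intro y hy
        rw [inv_inv]
        have := ih.1 y hy
        simpa using this
    exact key.1 y hy
  -- the quotient by Z is abelian
  let q : Γ →* Γ ⧸ Z := QuotientGroup.mk' Z
  have hqαβ : Commute (q β) (q α) := by
    have h1 : q (β * α * β⁻¹ * α⁻¹) = 1 :=
      (QuotientGroup.eq_one_iff _).mpr (Subgroup.mem_zpowers c)
    rw [map_mul, map_mul, map_mul, map_inv, map_inv] at h1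
    have h2 : q β * q α = q α * q β := by
      have := congrArg (fun x => x * (q α * q β)) h1
      simp only [one_mul] at this
      rw [← this]; group
    exact h2
  have hq1 : ∀ g : Γ, Commute (q g) (q α) ∧ Commute (q g) (q β) := by
    intro g
    have hg : g ∈ Subgroup.closure ({α, β} : Set Γ) := by rw [hH]; trivial
    induction hg using Subgroup.closure_induction with
    | mem x hx =>
      rcases hx with rfl | hx
      · exact ⟨Commute.refl _, hqαβ.symm⟩
      · rw [Set.mem_singleton_iff] at hx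
        subst hx
        exact ⟨hqαβ, Commute.refl _⟩
    | one => rw [map_one]; exact ⟨Commute.one_left _, Commute.one_left _⟩
    | mul x1 x2 _ _ ih1 ih2 =>
      rw [map_mul]; exact ⟨ih1.1.mul_left ih2.1, ih1.2.mul_left ih2.2⟩
    | inv x _ ih => rw [map_inv]; exact ⟨ih.1.inv_left, ih.2.inv_left⟩
  have hq2 : ∀ g h : Γ, Commute (q g) (q h) := by
    intro g h
    have hh : h ∈ Subgroup.closure ({α, β} : Set Γ) := by rw [hH]; trivial
    induction hh using Subgroup.closure_induction with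
    | mem x hx =>
      rcases hx with rfl | hx
      · exact (hq1 g).1
      · rw [Set.mem_singleton_iff] at hx
        subst hx
        exact (hq1 g).2
    | one => rw [map_one]; exact Commute.one_right _
    | mul x1 x2 _ _ ih1 ih2 => rw [map_mul]; exact ih1.mul_right ih2
    | inv x _ ih => rw [map_inv]; exact ih.inv_right
  have hderZ : commutator Γ ≤ Z := by
    rw [commutator_def, Subgroup.commutator_le]
    intro g1 _ g2 _
    have : q ⁅g1, g2⁆ = 1 := by
      rw [map_commutatorElement, commutatorElement_eq_one_iff_commute]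
      exact hq2 g1 g2
    exact (QuotientGroup.eq_one_iff _).mp this
  -- arithmetic
  set d := Nat.gcd m e with hddef
  have hdpos : 0 < d := Nat.gcd_pos_of_pos_left e hm
  obtain ⟨μ, hμ⟩ : d ∣ m := Nat.gcd_dvd_left m e
  obtain ⟨ρ, hρ⟩ : d ∣ e := Nat.gcd_dvd_right m e
  have hμdiv : m / d = μ := by rw [hμ]; exact Nat.mul_div_cancel_left μ hdpos
  have hcop : Nat.Coprime μ ρ := by
    have := Nat.coprime_div_gcd_div_gcd (m := m) (n := e) hdpos
    rw [← hddef, hμdiv] at this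
    have hρdiv : e / d = ρ := by rw [hρ]; exact Nat.mul_div_cancel_left ρ hdpos
    rwa [hρdiv] at this
  have hσc : σ c = a ^ e := by
    rw [hcdef, map_mul, map_mul, map_mul, map_inv, map_inv, hα, hβ, hab, pow_succ, mul_inv_cancel_right]
  let γ := c ^ μ
  have hγker : γ ∈ σ.ker := by
    rw [MonoidHom.mem_ker, map_pow, hσc, ← pow_mul]
    have : e * μ = m * ρ := by rw [hρ, hμ]; ring
    rw [this, pow_mul, ha, one_pow]
  refine ⟨γ, hγker, ?_, ?_⟩
  · -- order
    have h1 : γ ^ l = 1 := by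
      show (c ^ μ) ^ l = 1
      rw [← pow_mul, ← hμdiv, ← ht, hct]
    set g := Nat.gcd m N with hgdef
    have hcg : c ^ g = 1 := by
      have h1 : orderOf c ∣ m := orderOf_dvd_of_pow_eq_one hcm
      have h2 : orderOf c ∣ N := orderOf_dvd_of_pow_eq_one hcN
      exact orderOf_dvd_iff_pow_eq_one.mp (Nat.dvd_gcd h1 h2)
    have hmdg : m ∣ d * g := by
      have : m ∣ Nat.gcd m e * N := (dvd_gcd_mul_iff_dvd_mul).mpr hrn
      exact (dvd_mul_gcd_iff_dvd_mul).mpr this
    obtain ⟨h, hh⟩ := hmdg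
    have hhdiv : d * g / m = h := by rw [hh]; exact Nat.mul_div_cancel_left h hm
    have hμh : μ * h = g := by
      have : d * (μ * h) = d * g := by rw [hh, hμ]; ring
      exact Nat.eq_of_mul_eq_mul_left hdpos this
    have h2 : γ ^ h = 1 := by
      show (c ^ μ) ^ h = 1
      rw [← pow_mul, hμh, hcg]
    rw [hhdiv]
    have h3 : orderOf γ ∣ Nat.gcd l h :=
      Nat.dvd_gcd (orderOf_dvd_of_pow_eq_one h1) (orderOf_dvd_of_pow_eq_one h2)
    exact orderOf_dvd_iff_pow_eq_one.mp h3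
  · intro k hk
    have hkZ : k ∈ Z := hderZ (hder hk)
    have hfin : IsOfFinOrder c := isOfFinOrder_of_finite c
    obtain ⟨j, hj⟩ := (hfin.mem_powers_iff_mem_zpowers).mpr hkZ
    have hj' : c ^ j = k := hj
    have h1 : a ^ (e * j) = 1 := by
      have := (MonoidHom.mem_ker).mp hk
      rw [← hj', map_pow, hσc, ← pow_mul] at this
      exact this
    have h2 : m ∣ e * j := by rw [← hord]; exact orderOf_dvd_of_pow_eq_one h1
    have h3 : μ ∣ j := by
      have : d * μ ∣ d * (ρ * j) := by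
        rw [← hμ]
        have : e * j = d * (ρ * j) := by rw [hρ]; ring
        rw [← this]; exact h2
      have h4 : μ ∣ ρ * j := Nat.dvd_of_mul_dvd_mul_left hdpos this
      exact hcop.dvd_of_dvd_mul_left h4
    obtain ⟨j', rfl⟩ := h3
    refine ⟨(j' : ℤ), ?_⟩
    rw [zpow_natCast, ← hj']
    show c ^ (μ * j') = (c ^ μ) ^ j'
    rw [pow_mul]

end Cfsg.Agent.Lib.Helper21.Meta
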