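import Mathlib
import Cfsg.Agent.Lib.Helper21.MetaA

/-!
Metacyclic presented groups (helper21): universal property, generation, finiteness, order of the
generator of the normal cyclic subgroup; arithmetic for Beyl's formula.
-/

set_option autoImplicit false

namespace Cfsg.Agent.Lib.Helper21.Meta

open Finset

/-- relators of `⟨a, b | a^M, b^n a^{-T}, b a b⁻¹ a^{-R}⟩` (`a = of true`, `b = of false`). -/
def mrels (M n T R : ℕ) : Set (FreeGroup Bool) :=
  {FreeGroup.of true ^ M, (FreeGroup.of false) ^ n * (FreeGroup.of true ^ T)⁻¹,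
    FreeGroup.of false * FreeGroup.of true * (FreeGroup.of false)⁻¹ * (FreeGroup.of true ^ R)⁻¹}

/-- the metacyclic presented group. -/
abbrev MG (M n T R : ℕ) : Type := PresentedGroup (mrels M n T R)

variable {M n T R : ℕ}

/-- generator `a`. -/
def ga : MG M n T R := PresentedGroup.of true
/-- generator `b`. -/
def gb : MG M n T R := PresentedGroup.of false

theorem ga_pow : (ga : MG M n T R) ^ M = 1 := by
  have : PresentedGroup.mk (mrels M n T R) (FreeGroup.of true ^ M) = 1 :=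
    PresentedGroup.one_of_mem (by simp [mrels])
  rw [map_pow] at this
  exact this

theorem gb_pow : (gb : MG M n T R) ^ n = ga ^ T := by
  have : PresentedGroup.mk (mrels M n T R)
      ((FreeGroup.of false) ^ n * (FreeGroup.of true ^ T)⁻¹) = 1 :=
    PresentedGroup.one_of_mem (by simp [mrels])
  rw [map_mul, map_inv, map_pow, map_pow, mul_inv_eq_one] at this
  exact this

theorem gb_conj : (gb : MG M n T R) * ga * gb⁻¹ = ga ^ R := by
  have : PresentedGroup.mk (mrels M n T R)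
      (FreeGroup.of false * FreeGroup.of true * (FreeGroup.of false)⁻¹ * (FreeGroup.of true ^ R)⁻¹) = 1 :=
    PresentedGroup.one_of_mem (by simp [mrels])
  rw [map_mul, map_mul, map_mul, map_inv, map_inv, map_pow, mul_inv_eq_one] at this
  exact this

theorem mg_gen (H : Subgroup (MG M n T R)) (h1 : ga ∈ H) (h2 : gb ∈ H) : H = ⊤ := by
  rw [Subgroup.eq_top_iff']
  intro x
  apply PresentedGroup.generated_by (mrels M n T R) H
  intro j
  cases j
  · exact h2
  · exact h1

/-- universal property. -/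
def toX {X : Type*} [Group X] (A B : X) (h1 : A ^ M = 1) (h2 : B ^ n = A ^ T)
    (h3 : B * A * B⁻¹ = A ^ R) : MG M n T R →* X :=
  PresentedGroup.toGroup (f := fun i : Bool => if i then A else B) (by
    intro r hr
    simp only [mrels, Set.mem_insert_iff, Set.mem_singleton_iff] at hr
    rcases hr with rfl | rfl | rfl
    · simp [h1]
    · simp [h2]
    · simp [h3])

theorem toX_ga {X : Type*} [Group X] (A B : X) (h1 : A ^ M = 1) (h2 : B ^ n = A ^ T)
    (h3 : B * A * B⁻¹ = A ^ R) : toX A B h1 h2 h3 ga = A := by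
  unfold toX ga
  rw [PresentedGroup.toGroup.of]; simp

theorem toX_gb {X : Type*} [Group X] (A B : X) (h1 : A ^ M = 1) (h2 : B ^ n = A ^ T)
    (h3 : B * A * B⁻¹ = A ^ R) : toX A B h1 h2 h3 gb = B := by
  unfold toX gb
  rw [PresentedGroup.toGroup.of]; simp

theorem orderOf_ga (hM : 0 < M) (hn : 0 < n) (hR : R ^ n ≡ 1 [MOD M]) (hT : T * R ≡ T [MOD M]) :
    orderOf (ga : MG M n T R) = M := by
  obtain ⟨X, _, A, B, h1, h2, h3, h4⟩ := exists_model M n T R hM hn hR hT
  apply Nat.dvd_antisymm (orderOf_dvd_of_pow_eq_one ga_pow)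
  have := orderOf_map_dvd (toX A B h1 h2 h3) (ga : MG M n T R)
  rwa [toX_ga, h4] at this

/-- a group generated by `α, β` subject to metacyclic relations is finite. -/
theorem finite_of_rel {Γ : Type*} [Group Γ] (α β : Γ)
    (hgen : ∀ H : Subgroup Γ, α ∈ H → β ∈ H → H = ⊤) (hM : 0 < M) (hn : 0 < n)
    (h1 : α ^ M = 1) (h2 : β ^ n = α ^ T) (h3 : β * α * β⁻¹ = α ^ R) : Finite Γ := by
  let S : Set Γ := {g | ∃ i j : ℕ, g = α ^ i * β ^ j}
  let P : Γ → Prop := fun g => ∀ s ∈ S, g * s ∈ S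
  have hPmul : ∀ g h, P g → P h → P (g * h) := by
    intro g h hg hh s hs
    rw [mul_assoc]; exact hg _ (hh s hs)
  have hP1 : P 1 := fun s hs => by rw [one_mul]; exact hs
  have hPpow : ∀ g, P g → ∀ j : ℕ, P (g ^ j) := by
    intro g hg j
    induction j with
    | zero => rw [pow_zero]; exact hP1
    | succ j ih => rw [pow_succ]; exact hPmul _ _ ih hg
  have hPα : P α := by
    rintro s ⟨i, j, rfl⟩
    exact ⟨i + 1, j, by rw [pow_succ']; group⟩
  have hPβ : P β := by
    rintro s ⟨i, j, rfl⟩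
    refine ⟨R * i, j + 1, ?_⟩
    have : β * α ^ i * β⁻¹ = α ^ (R * i) := by
      rw [← conj_pow, h3, ← pow_mul]
    calc β * (α ^ i * β ^ j) = (β * α ^ i * β⁻¹) * (β * β ^ j) := by group
      _ = α ^ (R * i) * β ^ (j + 1) := by rw [this, ← pow_succ']
  have hβfin : β ^ (n * M) = 1 := by
    rw [pow_mul, h2, ← pow_mul, mul_comm, pow_mul, h1, one_pow]
  have hPαi : P α⁻¹ := by
    have : α⁻¹ = α ^ (M - 1) := by
      apply inv_eq_of_mul_eq_one_left
      rw [← pow_succ, Nat.sub_add_cancel hM, h1]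
    rw [this]; exact hPpow _ hPα _
  have hPβi : P β⁻¹ := by
    have hpos : 0 < n * M := Nat.mul_pos hn hM
    have : β⁻¹ = β ^ (n * M - 1) := by
      apply inv_eq_of_mul_eq_one_left
      rw [← pow_succ, Nat.sub_add_cancel hpos, hβfin]
    rw [this]; exact hPpow _ hPβ _
  let H : Subgroup Γ :=
    { carrier := {g | P g ∧ P g⁻¹}
      one_mem' := ⟨hP1, by rw [inv_one]; exact hP1⟩
      mul_mem' := by
        rintro g h ⟨hg1, hg2⟩ ⟨hh1, hh2⟩
        exact ⟨hPmul _ _ hg1 hh1, by rw [mul_inv_rev]; exact hPmul _ _ hh2 hg2⟩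
      inv_mem' := by
        rintro g ⟨hg1, hg2⟩
        exact ⟨hg2, by rw [inv_inv]; exact hg1⟩ }
  have hH : H = ⊤ := hgen H ⟨hPα, hPαi⟩ ⟨hPβ, hPβi⟩
  have hall : ∀ g : Γ, g ∈ S := by
    intro g
    have hg : g ∈ H := by rw [hH]; trivial
    have := hg.1 1 ⟨0, 0, by simp⟩
    rwa [mul_one] at this
  have hsurj : Function.Surjective (fun p : Fin M × Fin (n * M) => α ^ (p.1 : ℕ) * β ^ (p.2 : ℕ)) := by
    intro g
    obtain ⟨i, j, rfl⟩ := hall g
    have hpos : 0 < n * M := Nat.mul_pos hn hM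
    refine ⟨(⟨i % M, Nat.mod_lt _ hM⟩, ⟨j % (n * M), Nat.mod_lt _ hpos⟩), ?_⟩
    show α ^ (i % M) * β ^ (j % (n * M)) = α ^ i * β ^ j
    rw [← pow_eq_pow_mod i h1, ← pow_eq_pow_mod j hβfin]
  exact Finite.of_surjective _ hsurj

/-- lifting a residue coprime to `μ` to a residue coprime to `μ * k`. -/
theorem exists_coprime_lift (ρ μ k : ℕ) (hcop : Nat.Coprime ρ μ) (hμ : 0 < μ) (hk : 0 < k) :
    ∃ x : ℕ, x ≡ ρ [MOD μ] ∧ Nat.Coprime x (μ * k) := by
  have : NeZero (μ * k) := ⟨(Nat.mul_pos hμ hk).ne'⟩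
  let y : (ZMod μ)ˣ := ZMod.unitOfCoprime ρ hcop
  obtain ⟨z, hz⟩ := ZMod.unitsMap_surjective (dvd_mul_right μ k) y
  refine ⟨(z : ZMod (μ * k)).val, ?_, ZMod.val_coe_unit_coprime z⟩
  have h1 : ((ZMod.unitsMap (dvd_mul_right μ k) z : (ZMod μ)ˣ) : ZMod μ) = (ρ : ZMod μ) := by
    rw [hz]; exact ZMod.coe_unitOfCoprime ρ hcop
  rw [ZMod.unitsMap_def, Units.coe_map] at h1
  have h2 : (ZMod.castHom (dvd_mul_right μ k) (ZMod μ)) (z : ZMod (μ * k))
      = (((z : ZMod (μ * k)).val : ℕ) : ZMod μ) := by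
    rw [ZMod.castHom_apply, ZMod.natCast_val]
  rw [MonoidHom.coe_coe, h2] at h1
  exact (ZMod.natCast_eq_natCast_iff _ _ _).mp h1

end Cfsg.Agent.Lib.Helper21.Meta
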