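import Mathlib
import Cfsg.Agent.Lib.Helper21.MetaB
import Cfsg.Agent.Lib.Helper21.MetaD

/-!
Arithmetic for Beyl's formula (helper21).
-/

set_option autoImplicit false

namespace Cfsg.Agent.Lib.Helper21.Meta

open Finset

theorem sum_pow_modEq {m a b : ℕ} (h : a ≡ b [MOD m]) (n : ℕ) :
    ∑ i ∈ range n, a ^ i ≡ ∑ i ∈ range n, b ^ i [MOD m] := by
  induction n with
  | zero => rfl
  | succ n ih => rw [sum_range_succ, sum_range_succ]; exact ih.add (h.pow n)

theorem arith (m n e l k t : ℕ) (hm : 0 < m) (hrn : (e + 1) ^ n ≡ 1 [MOD m])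
    (hk : k = Nat.gcd l (Nat.gcd m e * Nat.gcd m (∑ i ∈ range n, (e + 1) ^ i) / m))
    (ht : t = m * l / Nat.gcd m e) :
    0 < k ∧ t = m / Nat.gcd m e * l ∧ m ∣ e * ∑ i ∈ range n, (e + 1) ^ i ∧
    t * (e + 1) ≡ t [MOD m] ∧
    ∃ e' : ℕ, e' + 1 ≡ e + 1 [MOD m] ∧ (e' + 1) ^ n ≡ 1 [MOD m * k] ∧
      t * (e' + 1) ≡ t [MOD m * k] ∧ k ∣ e' ∧ ∃ s, e' * s ≡ m [MOD m * k] := by
  set d := Nat.gcd m e with hddef
  set N := ∑ i ∈ range n, (e + 1) ^ i with hNdef
  set g := Nat.gcd m N with hgdef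
  have hdpos : 0 < d := Nat.gcd_pos_of_pos_left e hm
  have hgpos : 0 < g := Nat.gcd_pos_of_pos_left N hm
  obtain ⟨μ, hμ⟩ : d ∣ m := Nat.gcd_dvd_left m e
  obtain ⟨ρ, hρ⟩ : d ∣ e := Nat.gcd_dvd_right m e
  have hμpos : 0 < μ := by
    rcases Nat.eq_zero_or_pos μ with h | h
    · rw [h, mul_zero] at hμ; omega
    · exact h
  have hμdiv : m / d = μ := by rw [hμ]; exact Nat.mul_div_cancel_left μ hdpos
  have hρdiv : e / d = ρ := by rw [hρ]; exact Nat.mul_div_cancel_left ρ hdpos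
  have hcop : Nat.Coprime ρ μ := by
    have := Nat.coprime_div_gcd_div_gcd (m := m) (n := e) hdpos
    rw [← hddef, hμdiv, hρdiv] at this
    exact this.symm
  have htμ : t = μ * l := by
    rw [ht, hμ, mul_assoc, Nat.mul_div_cancel_left _ hdpos]
  have hmeN : m ∣ e * N := by
    have h1 : e * N + 1 ≡ 0 + 1 [MOD m] := by rw [geom_id, zero_add]; exact hrn
    exact (Nat.modEq_zero_iff_dvd).mp (Nat.ModEq.add_right_cancel' 1 h1)
  have hmdg : m ∣ d * g := by
    have : m ∣ Nat.gcd m e * N := (dvd_gcd_mul_iff_dvd_mul).mpr hmeN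
    exact (dvd_mul_gcd_iff_dvd_mul).mpr this
  obtain ⟨h, hh⟩ := hmdg
  have hhdiv : d * g / m = h := by rw [hh]; exact Nat.mul_div_cancel_left h hm
  have hμh : μ * h = g := by
    have : d * (μ * h) = d * g := by rw [hh, hμ]; ring
    exact Nat.eq_of_mul_eq_mul_left hdpos this
  have hhpos : 0 < h := by
    rcases Nat.eq_zero_or_pos h with h0 | h0
    · rw [h0, mul_zero] at hμh; omega
    · exact h0
  rw [hhdiv] at hk
  have hkpos : 0 < k := by rw [hk]; exact Nat.gcd_pos_of_pos_right l hhpos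
  have hkl : k ∣ l := by rw [hk]; exact Nat.gcd_dvd_left l h
  have hkh : k ∣ h := by rw [hk]; exact Nat.gcd_dvd_right l h
  have hhd : h ∣ d := by
    have h1 : g ∣ m := Nat.gcd_dvd_left m N
    have h2 : μ * h ∣ μ * d := by rw [hμh, mul_comm μ d, ← hμ]; exact h1
    exact Nat.dvd_of_mul_dvd_mul_left hμpos h2
  have hkd : k ∣ d := hkh.trans hhd
  have hμkN : μ * k ∣ N := by
    have h1 : μ * k ∣ μ * h := Nat.mul_dvd_mul_left μ hkh
    rw [hμh] at h1
    exact h1.trans (Nat.gcd_dvd_right m N)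
  have hμkm : μ * k ∣ m := by
    have : μ * k ∣ μ * d := Nat.mul_dvd_mul_left μ hkd
    rwa [mul_comm μ d, ← hμ] at this
  refine ⟨hkpos, by rw [hμdiv]; exact htμ, hmeN, ?_, ?_⟩
  · have h1 : m ∣ t * e := by
      rw [htμ, hρ, hμ]
      exact ⟨l * ρ, by ring⟩
    have h2 : t * e + t ≡ 0 + t [MOD m] := ((Nat.modEq_zero_iff_dvd).mpr h1).add_right t
    rw [zero_add] at h2
    rw [mul_add, mul_one]; exact h2
  · obtain ⟨x, hxρ, hxcop⟩ := exists_coprime_lift ρ μ k hcop hμpos hkpos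
    refine ⟨d * x, ?_, ?_, ?_, ?_, ?_⟩
    · have h1 : d * x ≡ d * ρ [MOD d * μ] := Nat.ModEq.mul_left' d hxρ
      rw [← hμ, ← hρ] at h1
      exact h1.add_right 1
    · set N' := ∑ i ∈ range n, (d * x + 1) ^ i with hN'def
      have h1 : d * x + 1 ≡ e + 1 [MOD m] := by
        have h1 : d * x ≡ d * ρ [MOD d * μ] := Nat.ModEq.mul_left' d hxρ
        rw [← hμ, ← hρ] at h1
        exact h1.add_right 1
      have h2 : N' ≡ N [MOD m] := sum_pow_modEq h1 n
      have h3 : N' ≡ N [MOD μ * k] := h2.of_dvd hμkm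
      have h4 : μ * k ∣ N' := (h3.dvd_iff dvd_rfl).mpr hμkN
      have h5 : m * k ∣ d * x * N' := by
        obtain ⟨c, hc⟩ := h4
        rw [hc, hμ]
        exact ⟨x * c, by ring⟩
      have h6 : d * x * N' + 1 ≡ 0 + 1 [MOD m * k] := ((Nat.modEq_zero_iff_dvd).mpr h5).add_right 1
      rw [geom_id, zero_add] at h6
      exact h6
    · have h1 : m * k ∣ t * (d * x) := by
        obtain ⟨c, hc⟩ := hkl
        rw [htμ, hc, hμ]
        exact ⟨c * x, by ring⟩
      have h2 : t * (d * x) + t ≡ 0 + t [MOD m * k] := ((Nat.modEq_zero_iff_dvd).mpr h1).add_right t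
      rw [zero_add] at h2
      rw [mul_add, mul_one]; exact h2
    · exact hkd.mul_right x
    · -- inverse of x modulo μ k
      have hex : ∃ s0, x * s0 ≡ 1 [MOD μ * k] := by
        obtain ⟨s0, -, hs0⟩ := Nat.exists_mul_mod_eq_of_coprime 1 hxcop (Nat.mul_pos hμpos hkpos).ne'
        exact ⟨s0, hs0⟩
      obtain ⟨s0, hs0⟩ := hex
      refine ⟨s0 * μ, ?_⟩
      have h1 : (d * μ) * (x * s0) ≡ (d * μ) * 1 [MOD (d * μ) * (μ * k)] := Nat.ModEq.mul_left' (d * μ) hs0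
      have h2 : m * k ∣ (d * μ) * (μ * k) := by
        rw [hμ]; exact ⟨μ, by ring⟩
      have h3 := h1.of_dvd h2
      rw [mul_one, ← hμ] at h3
      have h4 : d * x * (s0 * μ) = m * (x * s0) := by rw [hμ]; ring
      rw [h4]; exact h3

end Cfsg.Agent.Lib.Helper21.Meta
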