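import Mathlib
import Cfsg.Prelude.Def_KGroupFacts
import Cfsg.Agent.Lib.Helper21.SchurMult
import Cfsg.Agent.Lib.Helper21.MetaC
import Cfsg.Agent.Lib.Helper21.MetaE

/-!
Beyl's formula for the Schur multiplier of a metacyclic group (helper21).
-/

set_option autoImplicit false

namespace Cfsg.Agent.Lib.Helper21.Meta

open Finset
open scoped commutatorElement

theorem lower (m n e l k t : ℕ) (hm : 0 < m) (hn : 0 < n) (hrn : (e + 1) ^ n ≡ 1 [MOD m])
    (hk : k = Nat.gcd l (Nat.gcd m e * Nat.gcd m (∑ i ∈ range n, (e + 1) ^ i) / m))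
    (ht : t = m * l / Nat.gcd m e) :
    ∃ (Γ : Type) (_ : Group Γ) (_ : Finite Γ) (σ : Γ →* MG m n t (e + 1)),
      Cfsg.IsStemExtension σ ∧ Nonempty (σ.ker ≃* Multiplicative (ZMod k)) := by
  obtain ⟨hkpos, -, -, -, e', he'm, he'n, hte', hke', s, hs⟩ := arith m n e l k t hm hrn hk ht
  have hMk : 0 < m * k := Nat.mul_pos hm hkpos
  let a : MG m n t (e + 1) := ga
  let b : MG m n t (e + 1) := gb
  let α : MG (m * k) n t (e' + 1) := ga
  let β : MG (m * k) n t (e' + 1) := gb
  have h1 : a ^ (m * k) = 1 := by rw [pow_mul, ga_pow, one_pow]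
  have h2 : b ^ n = a ^ t := gb_pow
  have h3 : b * a * b⁻¹ = a ^ (e' + 1) := by
    rw [gb_conj]
    exact pow_eq_pow_iff_modEq.mpr ((he'm.symm).of_dvd (orderOf_dvd_of_pow_eq_one ga_pow))
  let σ : MG (m * k) n t (e' + 1) →* MG m n t (e + 1) := toX a b h1 h2 h3
  have hσα : σ α = a := toX_ga a b h1 h2 h3
  have hσβ : σ β = b := toX_gb a b h1 h2 h3
  have hsurj : Function.Surjective σ := by
    rw [← MonoidHom.range_eq_top]
    exact mg_gen _ ⟨α, hσα⟩ ⟨β, hσβ⟩
  have hfin : Finite (MG (m * k) n t (e' + 1)) :=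
    finite_of_rel α β mg_gen hMk hn ga_pow gb_pow gb_conj
  have hordα : orderOf α = m * k := orderOf_ga hMk hn he'n hte'
  -- centrality of α^m
  have hβα : β * α ^ m = α ^ m * β := by
    have h4 : β * α ^ m * β⁻¹ = α ^ m := by
      rw [← conj_pow, gb_conj, ← pow_mul, add_mul, one_mul, pow_add]
      obtain ⟨c, hc⟩ := hke'
      have hem : e' * m = (m * k) * c := by rw [hc]; ring
      have : α ^ (e' * m) = 1 := by
        rw [hem, pow_mul, ga_pow, one_pow]
      rw [this, one_mul]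
    calc β * α ^ m = (β * α ^ m * β⁻¹) * β := by group
      _ = α ^ m * β := by rw [h4]
  have hcen : α ^ m ∈ Subgroup.center (MG (m * k) n t (e' + 1)) := by
    have hC : Subgroup.centralizer ({α ^ m} : Set (MG (m * k) n t (e' + 1))) = ⊤ := by
      apply mg_gen
      · rw [Subgroup.mem_centralizer_iff]
        intro h hh
        rw [Set.mem_singleton_iff] at hh
        subst hh
        exact (pow_mul_comm' α m)
      · rw [Subgroup.mem_centralizer_iff]
        intro h hh
        rw [Set.mem_singleton_iff] at hh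
        subst hh
        exact hβα.symm
    rw [Subgroup.mem_center_iff]
    intro g
    have hg : g ∈ Subgroup.centralizer ({α ^ m} : Set (MG (m * k) n t (e' + 1))) := by
      rw [hC]; trivial
    exact ((Subgroup.mem_centralizer_iff.mp hg) (α ^ m) rfl).symm
  set Z := Subgroup.zpowers (α ^ m) with hZdef
  have hZcen : Z ≤ Subgroup.center (MG (m * k) n t (e' + 1)) := by
    rw [hZdef, Subgroup.zpowers_le]; exact hcen
  have hZn : Z.Normal := by
    refine ⟨fun y hy g => ?_⟩
    have := Subgroup.mem_center_iff.mp (hZcen hy) g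
    rw [this, mul_inv_cancel_right]; exact hy
  let q : MG (m * k) n t (e' + 1) →* MG (m * k) n t (e' + 1) ⧸ Z := QuotientGroup.mk' Z
  have r1 : q α ^ m = 1 := by
    rw [← map_pow]
    exact (QuotientGroup.eq_one_iff _).mpr (Subgroup.mem_zpowers _)
  have r2 : q β ^ n = q α ^ t := by
    rw [← map_pow, ← map_pow]
    exact congrArg q gb_pow
  have r3 : q β * q α * (q β)⁻¹ = q α ^ (e + 1) := by
    have : q β * q α * (q β)⁻¹ = q α ^ (e' + 1) := by
      rw [← map_inv, ← map_mul, ← map_mul, ← map_pow]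
      exact congrArg q gb_conj
    rw [this]
    exact pow_eq_pow_iff_modEq.mpr (he'm.of_dvd (orderOf_dvd_of_pow_eq_one r1))
  let ψ : MG m n t (e + 1) →* MG (m * k) n t (e' + 1) ⧸ Z := toX (q α) (q β) r1 r2 r3
  have hψσ : ψ.comp σ = q := by
    apply PresentedGroup.ext
    intro x
    cases x
    · show ψ (σ β) = q β
      rw [hσβ]; exact toX_gb _ _ r1 r2 r3
    · show ψ (σ α) = q α
      rw [hσα]; exact toX_ga _ _ r1 r2 r3
  have hker : σ.ker = Z := by
    apply le_antisymm
    · intro g hg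
      have h4 : q g = 1 := by
        rw [← hψσ, MonoidHom.comp_apply, MonoidHom.mem_ker.mp hg, map_one]
      exact (QuotientGroup.eq_one_iff _).mp h4
    · rw [hZdef, Subgroup.zpowers_le, MonoidHom.mem_ker, map_pow, hσα]
      exact ga_pow
  have hZder : Z ≤ commutator (MG (m * k) n t (e' + 1)) := by
    rw [hZdef, Subgroup.zpowers_le]
    have h4 : α ^ m = (α ^ e') ^ s := by
      rw [← pow_mul]
      apply pow_eq_pow_iff_modEq.mpr
      rw [hordα]; exact hs.symm
    have h5 : α ^ e' = ⁅β, α⁆ := by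
      rw [commutatorElement_def, gb_conj, pow_succ, mul_inv_cancel_right]
    rw [h4, h5, commutator_def]
    exact Subgroup.pow_mem _ (Subgroup.commutator_mem_commutator (Subgroup.mem_top β) (Subgroup.mem_top α)) _
  refine ⟨MG (m * k) n t (e' + 1), inferInstance, hfin, σ, ⟨hsurj, ?_, ?_⟩, ?_⟩
  · rw [hker]; exact hZcen
  · rw [hker]; exact hZder
  · have hordZ : orderOf (α ^ m) = k := by
      rw [orderOf_pow_of_dvd hm.ne' (by rw [hordα]; exact dvd_mul_right m k), hordα,
        Nat.mul_div_cancel_left k hm]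
    have hcard : Nat.card Z = k := by rw [hZdef, Nat.card_zpowers, hordZ]
    have e1 : Multiplicative (ZMod (Nat.card Z)) ≃* Z := zmodCyclicMulEquiv inferInstance
    rw [hcard] at e1
    exact ⟨(MulEquiv.subgroupCongr hker).trans e1.symm⟩

/-- **Beyl's formula** (in terms of `e = r - 1`). -/
theorem beyl (m n e l : ℕ) (hm : 0 < m) (hn : 0 < n) (hrn : (e + 1) ^ n ≡ 1 [MOD m]) :
    Cfsg.HasCyclicSchurMultiplier (MG m n (m * l / Nat.gcd m e) (e + 1))
      (Nat.gcd l (Nat.gcd m e * Nat.gcd m (∑ i ∈ range n, (e + 1) ^ i) / m)) := by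
  obtain ⟨hkpos, htμ, hmeN, htm, -⟩ := arith m n e l _ _ hm hrn rfl rfl
  refine ⟨lower m n e l _ _ hm hn hrn rfl rfl, ?_⟩
  intro Γ _ _ σ hσ
  have hord : orderOf (ga : MG m n (m * l / Nat.gcd m e) (e + 1)) = m :=
    orderOf_ga hm hn hrn htm
  obtain ⟨γ, hγ, hpow, hall⟩ := upper σ hσ ga gb mg_gen m n (m * l / Nat.gcd m e) e l hm ga_pow gb_pow
    gb_conj hord htμ hmeN
  exact exists_surjective_of_zpowers σ.ker _ γ hγ hpow hall

end Cfsg.Agent.Lib.Helper21.Meta
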