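import Mathlib
import Cfsg.Prelude.Def_OddOrderLocal
import Cfsg.Agent.Lib.Helper21.Metacyclic5
import Cfsg.Agent.Lib.Helper21.Cyclic

set_option autoImplicit false

namespace Cfsg.Agent.Lib.Helper21.Metacyclic

open Subgroup Finset
open scoped commutatorElement

/-- `v_p(1 + Q + ... + Q^(k-1)) = v_p(k)` for `Q ≡ 1 mod p`, `p` odd. -/
theorem pow_dvd_geom_sum_iff {p : ℕ} [hp : Fact p.Prime] (hp2 : p ≠ 2) (Q : ℕ)
    (hQ : Q ≡ 1 [MOD p]) (s k : ℕ) : p ^ s ∣ ∑ t ∈ range k, Q ^ t ↔ p ^ s ∣ k := by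
  have hpp := hp.out
  have hodd : Odd p := hpp.odd_of_ne_two hp2
  have hpZ : Prime (p : ℤ) := Nat.prime_iff_prime_int.mp hpp
  by_cases hQ1 : Q = 1
  · subst hQ1; simp
  have hxy : (p : ℤ) ∣ (Q : ℤ) - 1 := by
    have := (Nat.modEq_iff_dvd.mp hQ.symm)
    simpa using this
  have hx : ¬ (p : ℤ) ∣ (Q : ℤ) := by
    intro h
    have h1 : (p : ℤ) ∣ 1 := by
      have := dvd_sub h hxy
      simpa using this
    exact hpZ.not_dvd_one h1
  have h1 := Int.emultiplicity_pow_sub_pow hpp hodd (x := (Q : ℤ)) (y := 1) (by simpa using hxy) hx k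
  rw [one_pow, ← mul_geom_sum, emultiplicity_mul hpZ] at h1
  have hne : ((Q : ℤ) - 1) ≠ 0 := by
    intro h
    apply hQ1
    have : (Q : ℤ) = 1 := by linarith
    exact_mod_cast this
  have hfin : emultiplicity (p : ℤ) ((Q : ℤ) - 1) ≠ ⊤ := by
    rw [← finiteMultiplicity_iff_emultiplicity_ne_top, Int.finiteMultiplicity_iff]
    refine ⟨?_, hne⟩
    simpa using hpp.ne_one
  have h2 : emultiplicity (p : ℤ) (∑ i ∈ range k, (Q : ℤ) ^ i) = emultiplicity p k :=
    ENat.add_right_injective_of_ne_top hfin h1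
  rw [← Int.natCast_dvd_natCast]
  push_cast
  rw [pow_dvd_iff_le_emultiplicity, h2, ← pow_dvd_iff_le_emultiplicity]

theorem gcd_prime_pow_eq {p : ℕ} [hp : Fact p.Prime] {M s S : ℕ} (hs : s ≤ M) (h1 : p ^ s ∣ S)
    (h2 : ¬ p ^ (s + 1) ∣ S) : Nat.gcd (p ^ M) S = p ^ s := by
  have hpp := hp.out
  obtain ⟨α, hα, hg⟩ := (Nat.dvd_prime_pow hpp).mp (Nat.gcd_dvd_left (p ^ M) S)
  have h3 : p ^ s ∣ p ^ α := by
    rw [← hg]; exact Nat.dvd_gcd (pow_dvd_pow p hs) h1
  have h4 : s ≤ α := (Nat.pow_dvd_pow_iff_le_right hpp.one_lt).mp h3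
  have h5 : ¬ s + 1 ≤ α := by
    intro h
    apply h2
    exact (pow_dvd_pow p h).trans (hg ▸ Nat.gcd_dvd_right (p ^ M) S)
  have : α = s := by omega
  rw [hg, this]

/-- subgroups of a cyclic `p`-group -/
theorem eq_zpowers_pow_of_card {G : Type*} [Group G] [Finite G] {p : ℕ} [hp : Fact p.Prime]
    {x : G} {N w : ℕ} (hx : orderOf x = p ^ N) (H : Subgroup G) (hH : H ≤ zpowers x)
    (hw : Nat.card H = p ^ w) : w ≤ N ∧ H = zpowers (x ^ p ^ (N - w)) := by
  have hpp := hp.out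
  have hwN : w ≤ N := by
    have := Subgroup.card_dvd_of_le hH
    rw [hw, Nat.card_zpowers, hx] at this
    exact (Nat.pow_dvd_pow_iff_le_right hpp.one_lt).mp this
  refine ⟨hwN, ?_⟩
  have hcyc : IsCyclic ↥H := isCyclic_of_injective (Subgroup.inclusion hH)
    (Subgroup.inclusion_injective hH)
  obtain ⟨⟨g, hgH⟩, hg⟩ := hcyc.exists_generator
  have hgo : orderOf g = p ^ w := by
    rw [← hw, ← orderOf_eq_card_of_forall_mem_zpowers hg, Subgroup.orderOf_mk]
  have hy : orderOf (x ^ p ^ (N - w)) = p ^ w := by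
    rw [orderOf_pow, hx, Nat.gcd_eq_right (pow_dvd_pow p (Nat.sub_le N w)),
      Nat.pow_div (Nat.sub_le N w) hpp.pos]
    congr 1; omega
  have hHg : H = zpowers g := by
    apply le_antisymm
    · intro y hy'
      obtain ⟨k, hk⟩ := Subgroup.mem_zpowers_iff.mp (hg ⟨y, hy'⟩)
      rw [Subgroup.mem_zpowers_iff]
      exact ⟨k, by simpa using congrArg Subtype.val hk⟩
    · rw [zpowers_le]; exact hgH
  have hxm : x ^ p ^ (N - w) ∈ zpowers x := Subgroup.pow_mem _ (mem_zpowers x) _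
  apply le_antisymm
  · rw [hHg, zpowers_le]
    exact mem_zpowers_of_orderOf_dvd x g _ (hH hgH) hxm (by rw [hgo, hy])
  · rw [zpowers_le, hHg]
    exact mem_zpowers_of_orderOf_dvd x _ g hxm (hH hgH) (by rw [hgo, hy])


/-- a metacyclic `p`-group (`p` odd) is the product of two cyclic subgroups with trivial
intersection -/
theorem exists_cyclic_factorization {G : Type*} [Group G] [Finite G] {p : ℕ} [hp : Fact p.Prime]
    (hp2 : p ≠ 2) (hG : IsPGroup p G) (hmc : Cfsg.IsMetacyclic G) :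
    ∃ A B : Subgroup G, IsCyclic ↥A ∧ IsCyclic ↥B ∧ A ⊓ B = ⊥ ∧
      Nat.card ↥A * Nat.card ↥B = Nat.card G := by
  have hpp := hp.out
  obtain ⟨P⟩ := exists_pres hG hmc
  have hNa : (zpowers P.a).Normal := by
    have := P.normal_zpowers_a_pow 1; rwa [pow_one] at this
  obtain ⟨K, hK⟩ := (IsPGroup.iff_orderOf.mp hG) P.b
  have hM := P.ha
  have htop : zpowers P.b ⊔ zpowers P.a = ⊤ := by
    rw [eq_top_iff]; intro g _
    obtain ⟨i, j, rfl⟩ := P.gen g
    exact mul_mem (mem_sup_right (Subgroup.pow_mem _ (mem_zpowers _) _))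
      (mem_sup_left (Subgroup.pow_mem _ (mem_zpowers _) _))
  have hle : ∀ H : Subgroup G, H ≤ normalizer ((zpowers P.a : Subgroup G) : Set G) := by
    intro H; rw [normalizer_eq_top]; exact le_top
  have hprod := Cfsg.Agent.Lib.Helper4.card_sup_mul_card_inf _ _ (hle (zpowers P.b))
  rw [htop, card_top, Nat.card_zpowers, Nat.card_zpowers, hK, hM] at hprod
  obtain ⟨w, hw⟩ : ∃ w, Nat.card ↥(zpowers P.b ⊓ zpowers P.a) = p ^ w :=
    (hG.to_subgroup _).exists_card_eq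
  obtain ⟨hwK, hIb⟩ := eq_zpowers_pow_of_card hK _ inf_le_left hw
  obtain ⟨hwM, hIa⟩ := eq_zpowers_pow_of_card hM _ inf_le_right hw
  rw [hw] at hprod
  by_cases hw0 : w = 0
  · subst hw0
    refine ⟨zpowers P.a, zpowers P.b, inferInstance, inferInstance, ?_, ?_⟩
    · rw [inf_comm]; exact Subgroup.card_eq_one.mp (by rw [hw, pow_zero])
    · rw [Nat.card_zpowers, Nat.card_zpowers, hK, hM, mul_comm, ← hprod, pow_zero, mul_one]
  have hβI : P.b ^ p ^ (K - w) ∈ zpowers P.b ⊓ zpowers P.a := by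
    rw [hIb]; exact mem_zpowers _
  have hβa : (P.b ^ p ^ (K - w))⁻¹ ∈ zpowers P.a := inv_mem hβI.2
  have hβo : orderOf (P.b ^ p ^ (K - w))⁻¹ = p ^ w := by
    rw [orderOf_inv, orderOf_pow, hK, Nat.gcd_eq_right (pow_dvd_pow p (Nat.sub_le K w)),
      Nat.pow_div (Nat.sub_le K w) hpp.pos]
    congr 1; omega
  by_cases hcase : K ≤ P.M
  · -- Case 1: modify `b`
    have hvM : K - w ≤ P.M := by omega
    set S := ∑ t ∈ range (p ^ (K - w)), (P.r ^ 1) ^ t with hS
    have hS1 : p ^ (K - w) ∣ S :=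
      (pow_dvd_geom_sum_iff hp2 _ (P.r_pow_modEq 1) (K - w) (p ^ (K - w))).mpr dvd_rfl
    have hS2 : ¬ p ^ (K - w + 1) ∣ S := by
      rw [pow_dvd_geom_sum_iff hp2 _ (P.r_pow_modEq 1)]
      intro h
      have := (Nat.pow_dvd_pow_iff_le_right hpp.one_lt).mp h
      omega
    have hSo : orderOf (P.a ^ S) = p ^ (P.M - (K - w)) := by
      rw [orderOf_pow, hM, gcd_prime_pow_eq hvM hS1 hS2, Nat.pow_div hvM hpp.pos]
    have hmem : (P.b ^ p ^ (K - w))⁻¹ ∈ zpowers (P.a ^ S) :=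
      mem_zpowers_of_orderOf_dvd P.a _ _ hβa (Subgroup.pow_mem _ (mem_zpowers _) _)
        (by rw [hβo, hSo]; exact pow_dvd_pow p (by omega))
    rw [← mem_powers_iff_mem_zpowers] at hmem
    obtain ⟨x, hx⟩ := hmem
    have hx' : (P.a ^ S) ^ x = (P.b ^ p ^ (K - w))⁻¹ := hx
    have hb'pow : (P.a ^ x * P.b ^ 1) ^ p ^ (K - w) = 1 := by
      rw [P.pow_formula, ← hS, one_mul, mul_comm x S, pow_mul, hx', inv_mul_cancel]
    have hb'o : orderOf (P.a ^ x * P.b ^ 1) ≤ p ^ (K - w) :=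
      Nat.le_of_dvd (pow_pos hpp.pos _) (orderOf_dvd_of_pow_eq_one hb'pow)
    have htop' : zpowers (P.a ^ x * P.b ^ 1) ⊔ zpowers P.a = ⊤ := by
      rw [eq_top_iff, ← htop]
      apply sup_le
      · rw [zpowers_le]
        have h1 : P.b = (P.a ^ x)⁻¹ * (P.a ^ x * P.b ^ 1) := by rw [pow_one]; group
        have h2 : (P.a ^ x)⁻¹ * (P.a ^ x * P.b ^ 1) ∈
            zpowers (P.a ^ x * P.b ^ 1) ⊔ zpowers P.a := by
          exact mul_mem (mem_sup_right (inv_mem (Subgroup.pow_mem _ (mem_zpowers _) _)))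
            (mem_sup_left (mem_zpowers _))
        rwa [← h1] at h2
      · exact le_sup_right
    have hprod' := Cfsg.Agent.Lib.Helper4.card_sup_mul_card_inf _ _
      (hle (zpowers (P.a ^ x * P.b ^ 1)))
    rw [htop', card_top, Nat.card_zpowers, Nat.card_zpowers, hM] at hprod'
    have hGc : Nat.card G = p ^ (K - w) * p ^ P.M := by
      have h1 : p ^ K = p ^ (K - w) * p ^ w := by rw [← pow_add]; congr 1; omega
      rw [h1] at hprod
      have h2 : Nat.card G * p ^ w = (p ^ (K - w) * p ^ P.M) * p ^ w := by rw [hprod]; ring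
      exact Nat.eq_of_mul_eq_mul_right (pow_pos hpp.pos _) h2
    have hinf1 : Nat.card ↥(zpowers (P.a ^ x * P.b ^ 1) ⊓ zpowers P.a) = 1 := by
      have hpos : 0 < Nat.card ↥(zpowers (P.a ^ x * P.b ^ 1) ⊓ zpowers P.a) := Nat.card_pos
      have h3 : Nat.card G * Nat.card ↥(zpowers (P.a ^ x * P.b ^ 1) ⊓ zpowers P.a) ≤
          Nat.card G * 1 := by
        rw [hprod', mul_one, hGc]
        exact Nat.mul_le_mul_right _ hb'o
      have := Nat.le_of_mul_le_mul_left h3 Nat.card_pos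
      omega
    refine ⟨zpowers P.a, zpowers (P.a ^ x * P.b ^ 1), inferInstance, inferInstance, ?_, ?_⟩
    · rw [inf_comm]; exact Subgroup.card_eq_one.mp hinf1
    · rw [Nat.card_zpowers, Nat.card_zpowers, hM, mul_comm, ← hprod', hinf1, mul_one]
  · -- Case 2: modify `a`
    push Not at hcase
    have huv : P.M - w < K - w := by omega
    set j := p ^ ((K - w) - (P.M - w)) with hj
    have hjpow : j * p ^ (P.M - w) = p ^ (K - w) := by
      rw [hj, ← pow_add]; congr 1; omega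
    set S := ∑ t ∈ range (p ^ (P.M - w)), (P.r ^ j) ^ t with hS
    have hS1 : p ^ (P.M - w) ∣ S :=
      (pow_dvd_geom_sum_iff hp2 _ (P.r_pow_modEq j) (P.M - w) (p ^ (P.M - w))).mpr dvd_rfl
    have hS2 : ¬ p ^ (P.M - w + 1) ∣ S := by
      rw [pow_dvd_geom_sum_iff hp2 _ (P.r_pow_modEq j)]
      intro h
      have := (Nat.pow_dvd_pow_iff_le_right hpp.one_lt).mp h
      omega
    have hSo : orderOf (P.a ^ S) = p ^ w := by
      rw [orderOf_pow, hM, gcd_prime_pow_eq (Nat.sub_le _ _) hS1 hS2,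
        Nat.pow_div (Nat.sub_le _ _) hpp.pos]
      congr 1; omega
    have hmem : (P.b ^ p ^ (K - w))⁻¹ ∈ zpowers (P.a ^ S) :=
      mem_zpowers_of_orderOf_dvd P.a _ _ hβa (Subgroup.pow_mem _ (mem_zpowers _) _)
        (by rw [hβo, hSo])
    rw [← mem_powers_iff_mem_zpowers] at hmem
    obtain ⟨x, hx⟩ := hmem
    have hx' : (P.a ^ S) ^ x = (P.b ^ p ^ (K - w))⁻¹ := hx
    have hxp : ¬ p ∣ x := by
      intro hdx
      have h1 : orderOf ((P.a ^ S) ^ x) = p ^ w := by rw [hx', hβo]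
      rw [orderOf_pow, hSo] at h1
      have h2 : p ∣ Nat.gcd (p ^ w) x := Nat.dvd_gcd (dvd_pow_self p hw0) hdx
      have h3 : Nat.gcd (p ^ w) x = 1 := by
        have hg : Nat.gcd (p ^ w) x ∣ p ^ w := Nat.gcd_dvd_left _ _
        have hgpos : 0 < Nat.gcd (p ^ w) x := Nat.gcd_pos_of_pos_left _ (pow_pos hpp.pos _)
        have := Nat.div_mul_cancel hg
        rw [h1] at this
        have hpw : 0 < p ^ w := pow_pos hpp.pos _
        nlinarith
      rw [h3] at h2
      exact hpp.one_lt.ne' (Nat.dvd_one.mp h2)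
    set a' := P.a ^ x * P.b ^ j with ha'
    have ha'pow : a' ^ p ^ (P.M - w) = 1 := by
      rw [ha', P.pow_formula, ← hS, hjpow, mul_comm x S, pow_mul, hx', inv_mul_cancel]
    have hkey : ∀ k : ℕ, a' ^ k ∈ zpowers P.b → p ^ (P.M - w) ∣ k := by
      intro k hk
      rw [ha', P.pow_formula] at hk
      set e := x * ∑ t ∈ range k, (P.r ^ j) ^ t with he
      have h1 : P.a ^ e ∈ zpowers P.b := by
        have h2 : P.a ^ e = (P.a ^ e * P.b ^ (j * k)) * (P.b ^ (j * k))⁻¹ := by group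
        rw [h2]
        exact mul_mem hk (inv_mem (Subgroup.pow_mem _ (mem_zpowers _) _))
      have h3 : P.a ^ e ∈ zpowers P.b ⊓ zpowers P.a :=
        ⟨h1, Subgroup.pow_mem _ (mem_zpowers _) _⟩
      have h4 : orderOf (P.a ^ e) ∣ p ^ w := by
        rw [← hw]
        exact Subgroup.orderOf_dvd_natCard _ h3
      rw [orderOf_pow, hM] at h4
      obtain ⟨α, hα, hg⟩ := (Nat.dvd_prime_pow hpp).mp (Nat.gcd_dvd_left (p ^ P.M) e)
      rw [hg, Nat.pow_div hα hpp.pos] at h4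
      have h5 := (Nat.pow_dvd_pow_iff_le_right hpp.one_lt).mp h4
      have h6 : p ^ (P.M - w) ∣ e := by
        calc p ^ (P.M - w) ∣ p ^ α := pow_dvd_pow p (by omega)
          _ ∣ e := hg ▸ Nat.gcd_dvd_right _ _
      have h7 : p ^ (P.M - w) ∣ ∑ t ∈ range k, (P.r ^ j) ^ t :=
        (Nat.Coprime.dvd_of_dvd_mul_left
          (Nat.Coprime.pow_left _ ((Nat.Prime.coprime_iff_not_dvd hpp).mpr hxp)) h6)
      exact (pow_dvd_geom_sum_iff hp2 _ (P.r_pow_modEq j) _ k).mp h7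
    have ha'o : orderOf a' = p ^ (P.M - w) := by
      obtain ⟨e, he, heo⟩ := (Nat.dvd_prime_pow hpp).mp (orderOf_dvd_of_pow_eq_one ha'pow)
      have h1 : a' ^ p ^ e ∈ zpowers P.b := by
        rw [← heo, pow_orderOf_eq_one]; exact one_mem _
      have h2 := (Nat.pow_dvd_pow_iff_le_right hpp.one_lt).mp (hkey _ h1)
      rw [heo]; congr 1; omega
    refine ⟨zpowers a', zpowers P.b, inferInstance, inferInstance, ?_, ?_⟩
    · rw [eq_bot_iff]
      rintro y ⟨hya, hyb⟩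
      have hya' : y ∈ zpowers a' := hya
      rw [← mem_powers_iff_mem_zpowers] at hya'
      obtain ⟨k, rfl⟩ := hya'
      obtain ⟨q, rfl⟩ := hkey k hyb
      show a' ^ (p ^ (P.M - w) * q) = 1
      rw [pow_mul, ha'pow, one_pow]
    · rw [Nat.card_zpowers, Nat.card_zpowers, ha'o, hK]
      have h1 : p ^ P.M = p ^ (P.M - w) * p ^ w := by rw [← pow_add]; congr 1; omega
      rw [h1] at hprod
      have h2 : Nat.card G * p ^ w = (p ^ (P.M - w) * p ^ K) * p ^ w := by rw [hprod]; ring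
      exact (Nat.eq_of_mul_eq_mul_right (pow_pos hpp.pos _) h2).symm

end Cfsg.Agent.Lib.Helper21.Metacyclic
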