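import Mathlib
import Cfsg.Agent.Lib.Helper5.PrimeDeg

set_option autoImplicit false

/-!
Helper21 library: leaf PDCOORD of the market "PD" (S3611, planner helper6): a Sylow `p`-subgroup of a
transitive faithful group of prime degree `p` is generated by an element acting as `j ↦ j + 1` in
suitable coordinates.
-/

namespace Cfsg.Agent.Lib.Helper21.PDCOORD

open MulAction

/-- **PDCOORD**. -/
theorem PDCOORD {G Ω : Type*} [Group G] [Finite G] [MulAction G Ω] [FaithfulSMul G Ω] [Fintype Ω]
    [DecidableEq Ω] {p : ℕ} [Fact p.Prime] (hΩ : Fintype.card Ω = p)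
    (htrans : MulAction.IsPretransitive G Ω) (P : Sylow p G) :
    ∃ (x : G) (e : ZMod p ≃ Ω), x ∈ (P : Subgroup G) ∧
      (∀ y ∈ (P : Subgroup G), ∃ k : ℕ, y = x ^ k) ∧ ∀ j : ZMod p, x • e j = e (j + 1) := by
  have hprime : p.Prime := Fact.out
  have hinj : Function.Injective (MulAction.toPermHom G Ω) := MulAction.toPerm_injective
  -- `p ∣ |G|`
  have hne : Nonempty Ω := by
    rw [← Fintype.card_pos_iff, hΩ]; exact hprime.pos
  obtain ⟨a₀⟩ := hne
  have hpdvd : p ∣ Nat.card G := by
    have h1 : (MulAction.stabilizer G a₀).index ∣ Nat.card G := Subgroup.index_dvd_card _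
    have h2 : MulAction.orbit G a₀ = Set.univ := MulAction.orbit_eq_univ G a₀
    rw [MulAction.index_stabilizer, h2, Set.ncard_univ, Nat.card_eq_fintype_card, hΩ] at h1
    exact h1
  -- `|G| ∣ p!`
  have hdvdfact : Nat.card G ∣ Nat.factorial p := by
    have h1 : Nat.card (MulAction.toPermHom G Ω).range ∣ Nat.card (Equiv.Perm Ω) :=
      Subgroup.card_subgroup_dvd_card _
    rw [Nat.card_perm, Nat.card_eq_fintype_card (α := Ω), hΩ] at h1
    have h2 : Nat.card (MulAction.toPermHom G Ω).range = Nat.card G :=
      (Nat.card_congr (MonoidHom.ofInjective hinj).toEquiv).symm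
    rwa [h2] at h1
  -- `|P| = p`
  have hfac : (Nat.card G).factorization p = 1 := by
    have hG0 : Nat.card G ≠ 0 := Nat.card_pos.ne'
    have h1 : 1 ≤ (Nat.card G).factorization p :=
      (hprime.dvd_iff_one_le_factorization hG0).mp hpdvd
    have h2 : (Nat.card G).factorization p ≤ (Nat.factorial p).factorization p :=
      (Nat.factorization_le_iff_dvd hG0 (Nat.factorial_pos p).ne').mpr hdvdfact p
    have h3 : (Nat.factorial p).factorization p = 1 := by
      have h4 : p ∣ Nat.factorial p := Nat.dvd_factorial hprime.pos le_rfl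
      have h5 : ¬ p ^ 2 ∣ Nat.factorial p := by
        intro h
        have h6 : Nat.factorial p = p * Nat.factorial (p - 1) := by
          have := Nat.mul_factorial_pred hprime.pos.ne'
          exact this.symm
        rw [h6, pow_two] at h
        have h7 : p ∣ Nat.factorial (p - 1) := Nat.dvd_of_mul_dvd_mul_left hprime.pos h
        have h8 := (hprime.dvd_factorial).mp h7
        have := hprime.pos
        omega
      have h9 : 1 ≤ (Nat.factorial p).factorization p :=
        (hprime.dvd_iff_one_le_factorization (Nat.factorial_pos p).ne').mp h4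
      by_contra hne1
      have h10 : 2 ≤ (Nat.factorial p).factorization p := by omega
      exact h5 ((hprime.pow_dvd_iff_le_factorization (Nat.factorial_pos p).ne').mpr h10)
    omega
  have hPcard : Nat.card (P : Subgroup G) = p := by
    rw [Sylow.card_eq_multiplicity, hfac, pow_one]
  -- a generator
  have hnt : ∃ x : G, x ∈ (P : Subgroup G) ∧ x ≠ 1 := by
    by_contra hcon
    push_neg at hcon
    have : (P : Subgroup G) = ⊥ := by
      rw [eq_bot_iff]
      intro y hy
      rw [Subgroup.mem_bot]
      exact hcon y hy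
    rw [this, Subgroup.card_bot] at hPcard
    exact hprime.one_lt.ne hPcard
  obtain ⟨x, hxP, hx1⟩ := hnt
  have hord : orderOf x = p := by
    have h1 : orderOf x ∣ p := by
      have h2 := Subgroup.orderOf_dvd_natCard (P : Subgroup G) hxP
      rwa [hPcard] at h2
    rcases (Nat.dvd_prime hprime).mp h1 with h | h
    · exact absurd (orderOf_eq_one_iff.mp h) hx1
    · exact h
  have hzp : Subgroup.zpowers x = (P : Subgroup G) := by
    apply Subgroup.eq_of_le_of_card_ge ((Subgroup.zpowers_le).mpr hxP)
    rw [Nat.card_zpowers, hord, hPcard]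
  have hpow : ∀ y ∈ (P : Subgroup G), ∃ k : ℕ, y = x ^ k := by
    intro y hy
    rw [← hzp] at hy
    have hfin : IsOfFinOrder x := isOfFinOrder_of_finite x
    rw [← hfin.mem_powers_iff_mem_zpowers] at hy
    obtain ⟨k, hk⟩ := hy
    exact ⟨k, hk.symm⟩
  -- coordinates
  have hσ : orderOf (MulAction.toPermHom G Ω x) = p := by
    rw [orderOf_injective (MulAction.toPermHom G Ω) hinj x, hord]
  obtain ⟨e, he⟩ := Cfsg.Agent.Lib.Helper5.PrimeDeg.exists_equiv hΩ (MulAction.toPermHom G Ω x) hσ
  refine ⟨x, e, hxP, hpow, fun j => ?_⟩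
  rw [he j]
  rfl

end Cfsg.Agent.Lib.Helper21.PDCOORD
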