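import Mathlib
import Cfsg.Agent.Lib.Helper6.PDDefs
import Cfsg.Agent.Lib.Helper21.PDKEY

set_option autoImplicit false

/-!
Helper21 library: the REFINED key lemma of the prime-degree module method (P. M. Neumann), used for
S3613.  `G` acts on `Ω`, `|Ω| = p` an odd prime, the invariant subspaces of `Ω → ZMod p` have
dimension `0, 1, p - 1, p` (`InvDims`), `e : ZMod p ≃ Ω` coordinates.

* `const_of_ell_zero` : `Σ f = 0` and `ell (f ∘ g) = 0` for ALL `g`  ⟹  `f` constant.
* `PDKEY2` : `S ≤ G` such that for every `g` some affine `n` with multiplier `u ≠ 1` has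
  `g n g⁻¹ ∈ S`; then every `S`-invariant `f` with `Σ f = 0` is constant.
* `PDKEY2_trans` : such an `S` is transitive on every `S`-invariant proper subset of `Ω`
  (i.e. `S` has at most two orbits).
-/

namespace Cfsg.Agent.Lib.Helper21.PDKEY2

open Module MulAction Cfsg.Agent.Lib.Helper6.PD Cfsg.Agent.Lib.Helper21.PDKEY

/-- If every translate of `f` has first moment `0` and `Σ f = 0`, then `f` is constant. -/
theorem const_of_ell_zero {G Ω : Type*} [Group G] [MulAction G Ω] [Fintype Ω] [DecidableEq Ω]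
    {p : ℕ} [Fact p.Prime] (hp2 : p ≠ 2) (e : ZMod p ≃ Ω) (hinv : InvDims p G Ω)
    (f : Ω → ZMod p) (hf0 : ∑ a, f a = 0)
    (hall : ∀ g : G, ell e (fun a => f (g • a)) = 0) :
    ∃ c : ZMod p, ∀ a, f a = c := by
  have hprime : p.Prime := Fact.out
  have hcard : Fintype.card Ω = p := by
    rw [← Fintype.card_congr e, ZMod.card]
  set one : Ω → ZMod p := fun _ => 1 with hone
  set W : Submodule (ZMod p) (Ω → ZMod p) :=
    Submodule.span (ZMod p) (Set.range (fun g : G => fun a => f (g • a))) ⊔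
      Submodule.span (ZMod p) {one} with hW
  have hWinv : ∀ g : G, ∀ w ∈ W, (fun a => w (g • a)) ∈ W := by
    intro g w hw
    have hmap : W.map (LinearMap.funLeft (ZMod p) (ZMod p) (fun a : Ω => g • a)) ≤ W := by
      rw [hW, Submodule.map_sup, Submodule.map_span, Submodule.map_span]
      apply sup_le
      · apply (Submodule.span_le.mpr _).trans le_sup_left
        rintro _ ⟨_, ⟨g', rfl⟩, rfl⟩
        apply Submodule.subset_span
        refine ⟨g' * g, ?_⟩
        funext a
        simp [LinearMap.funLeft_apply, mul_smul]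
      · apply (Submodule.span_le.mpr _).trans le_sup_right
        rintro _ ⟨_, h1, rfl⟩
        rw [Set.mem_singleton_iff] at h1
        rw [h1]
        apply Submodule.subset_span
        rw [Set.mem_singleton_iff]
        funext a
        simp [LinearMap.funLeft_apply, hone]
    exact hmap ⟨w, hw, rfl⟩
  have hWker : W ≤ LinearMap.ker (phi e) := by
    rw [hW]
    apply sup_le
    · apply Submodule.span_le.mpr
      rintro _ ⟨g, rfl⟩
      rw [SetLike.mem_coe, mem_ker_phi]
      exact ⟨by rw [sum_smul g f, hf0], hall g⟩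
    · apply Submodule.span_le.mpr
      intro w hw
      rw [Set.mem_singleton_iff] at hw
      rw [SetLike.mem_coe, mem_ker_phi, hw]
      constructor
      · simp [hone, hcard]
      · simp only [ell, hone, mul_one]
        exact sum_zmod_eq_zero hp2
  have hWle : finrank (ZMod p) W ≤ p - 2 :=
    finrank_le e W (fun w hw => (mem_ker_phi e w).mp (hWker hw))
  have honeW : one ∈ W := by
    rw [hW]
    exact Submodule.mem_sup_right (Submodule.subset_span (Set.mem_singleton _))
  have hone0 : one ≠ 0 := by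
    intro h
    have := congrFun h (e 0)
    simp [hone] at this
  have hpos : 0 < finrank (ZMod p) W := by
    rw [Module.finrank_pos_iff_exists_ne_zero]
    refine ⟨⟨one, honeW⟩, ?_⟩
    intro h
    exact hone0 (congrArg Subtype.val h)
  have h2p : 2 ≤ p := hprime.two_le
  have hW1 : finrank (ZMod p) W = 1 := by
    rcases hinv W hWinv with h | h | h | h
    · omega
    · exact h
    · omega
    · omega
  have hfW : f ∈ W := by
    rw [hW]
    apply Submodule.mem_sup_left
    apply Submodule.subset_span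
    refine ⟨1, ?_⟩
    funext a
    simp
  have hall' := (finrank_eq_one_iff_of_nonzero' (⟨one, honeW⟩ : W)
    (fun h => hone0 (congrArg Subtype.val h))).mp hW1
  obtain ⟨c, hc⟩ := hall' ⟨f, hfW⟩
  refine ⟨c, fun a => ?_⟩
  have := congrFun (congrArg Subtype.val hc) a
  simp [hone] at this
  exact this.symm

/-- **PDKEY2**, the refined key lemma: if every conjugate of `S` contains an affine element with
multiplier `≠ 1`, every `S`-invariant function of sum `0` is constant. -/
theorem PDKEY2 {G Ω : Type*} [Group G] [MulAction G Ω] [Fintype Ω] [DecidableEq Ω]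
    {p : ℕ} [Fact p.Prime] (hp2 : p ≠ 2) (e : ZMod p ≃ Ω) (hinv : InvDims p G Ω)
    (S : Subgroup G)
    (hS : ∀ g : G, ∃ n : G, ∃ u b : ZMod p, u ≠ 1 ∧ (∀ j : ZMod p, n • e j = e (u * j + b)) ∧
      g * n * g⁻¹ ∈ S)
    (f : Ω → ZMod p) (hfS : ∀ h ∈ S, ∀ a, f (h • a) = f a) (hf0 : ∑ a, f a = 0) :
    ∃ c : ZMod p, ∀ a, f a = c := by
  refine const_of_ell_zero hp2 e hinv f hf0 ?_
  intro g
  obtain ⟨n, u, b, hu1, hn, hgS⟩ := hS g
  set F : Ω → ZMod p := fun a => f (g • a) with hF
  have hFn : (fun a => F (n • a)) = F := by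
    funext a
    show f (g • n • a) = f (g • a)
    have h1 : g • n • a = (g * n * g⁻¹) • (g • a) := by
      rw [← mul_smul, ← mul_smul]
      congr 1
      group
    rw [h1, hfS _ hgS]
  obtain ⟨_, h2⟩ := ell_affine e n u b hn F
  rw [hFn] at h2
  have hsum : ∑ a, F a = 0 := by
    rw [hF, sum_smul g f, hf0]
  rw [hsum, mul_zero, sub_zero] at h2
  have h3 : (u - 1) * ell e F = 0 := by linear_combination h2
  rcases mul_eq_zero.mp h3 with h | h
  · exact absurd (sub_eq_zero.mp h) hu1
  · exact h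

/-- **PDKEY2_trans**: under the hypothesis of `PDKEY2`, `S` is transitive on every `S`-invariant
proper subset of `Ω` (so `S` has at most two orbits). -/
theorem PDKEY2_trans {G Ω : Type*} [Group G] [MulAction G Ω] [Fintype Ω] [DecidableEq Ω]
    {p : ℕ} [Fact p.Prime] (hp2 : p ≠ 2) (e : ZMod p ≃ Ω) (hinv : InvDims p G Ω)
    (S : Subgroup G)
    (hS : ∀ g : G, ∃ n : G, ∃ u b : ZMod p, u ≠ 1 ∧ (∀ j : ZMod p, n • e j = e (u * j + b)) ∧
      g * n * g⁻¹ ∈ S)
    (A : Set Ω) (hA : ∀ h ∈ S, ∀ a ∈ A, h • a ∈ A) (z : Ω) (hz : z ∉ A) :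
    ∀ x ∈ A, ∀ y ∈ A, ∃ h ∈ S, h • x = y := by
  classical
  intro x hx y hy
  by_contra hno
  have hcard : Fintype.card Ω = p := by
    rw [← Fintype.card_congr e, ZMod.card]
  -- the orbit of `x`
  set A₁ : Set Ω := {a | ∃ h ∈ S, h • x = a} with hA₁
  have hA₁inv : ∀ h ∈ S, ∀ a, a ∈ A₁ ↔ h • a ∈ A₁ := by
    intro h hh a
    constructor
    · rintro ⟨k, hk, rfl⟩
      exact ⟨h * k, S.mul_mem hh hk, mul_smul h k x⟩
    · rintro ⟨k, hk, hka⟩
      refine ⟨h⁻¹ * k, S.mul_mem (S.inv_mem hh) hk, ?_⟩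
      rw [mul_smul, hka, inv_smul_smul]
  have hAinv : ∀ h ∈ S, ∀ a, a ∈ A ↔ h • a ∈ A := by
    intro h hh a
    constructor
    · exact hA h hh a
    · intro ha
      have := hA h⁻¹ (S.inv_mem hh) _ ha
      rwa [inv_smul_smul] at this
  have hxA₁ : x ∈ A₁ := ⟨1, S.one_mem, one_smul _ x⟩
  have hyA₁ : y ∉ A₁ := fun ⟨h, hh, hxy⟩ => hno ⟨h, hh, hxy⟩
  have hA₁A : A₁ ⊆ A := by
    rintro _ ⟨h, hh, rfl⟩
    exact hA h hh x hx
  -- the second set
  set T : Finset Ω := Finset.univ.filter (fun a => a ∈ A ∧ a ∉ A₁) with hT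
  set c₂ : ZMod p := (T.card : ZMod p) with hc₂
  set f : Ω → ZMod p := fun a => if a ∈ A₁ then c₂ else if a ∈ A then -((Finset.univ.filter
    (fun a => a ∈ A₁)).card : ZMod p) else 0 with hf
  have hfS : ∀ h ∈ S, ∀ a, f (h • a) = f a := by
    intro h hh a
    have e1 := hA₁inv h hh a
    have e2 := hAinv h hh a
    simp only [hf]
    by_cases h1 : a ∈ A₁
    · rw [if_pos h1, if_pos (e1.mp h1)]
    · rw [if_neg h1, if_neg (fun h' => h1 (e1.mpr h'))]
      by_cases h2 : a ∈ A
      · rw [if_pos h2, if_pos (e2.mp h2)]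
      · rw [if_neg h2, if_neg (fun h' => h2 (e2.mpr h'))]
  have hf0 : ∑ a, f a = 0 := by
    have h1 : ∀ a, f a = (if a ∈ A₁ then c₂ else 0) +
        (if a ∈ A ∧ a ∉ A₁ then -((Finset.univ.filter (fun a => a ∈ A₁)).card : ZMod p)
          else 0) := by
      intro a
      simp only [hf]
      by_cases h1 : a ∈ A₁
      · simp [h1]
      · by_cases h2 : a ∈ A
        · simp [h1, h2]
        · simp [h1, h2]
    rw [Finset.sum_congr rfl (fun a _ => h1 a), Finset.sum_add_distrib,
      ← Finset.sum_filter, ← Finset.sum_filter, Finset.sum_const, Finset.sum_const,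
      nsmul_eq_mul, nsmul_eq_mul, hc₂, ← hT]
    ring
  obtain ⟨c, hc⟩ := PDKEY2 hp2 e hinv S hS f hfS hf0
  have hfz : f z = 0 := by
    simp only [hf]
    have hz1 : z ∉ A₁ := fun h => hz (hA₁A h)
    simp [hz1, hz]
  have hfx : f x = c₂ := by
    simp only [hf]
    simp [hxA₁]
  have hc0 : c₂ = 0 := by rw [← hfx, hc x, ← hc z, hfz]
  -- but `0 < |T| < p`
  have hyT : y ∈ T := by
    rw [hT, Finset.mem_filter]
    exact ⟨Finset.mem_univ _, hy, hyA₁⟩
  have hzT : z ∉ T := by
    rw [hT, Finset.mem_filter]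
    exact fun h => hz h.2.1
  have hTpos : 0 < T.card := Finset.card_pos.mpr ⟨y, hyT⟩
  have hTlt : T.card < p := by
    rw [← hcard, ← Finset.card_univ]
    exact Finset.card_lt_card ⟨Finset.subset_univ _, fun h => hzT (h (Finset.mem_univ z))⟩
  rw [hc₂, ZMod.natCast_eq_zero_iff] at hc0
  have := Nat.le_of_dvd hTpos hc0
  omega

end Cfsg.Agent.Lib.Helper21.PDKEY2
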