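import Mathlib
import Cfsg.Agent.Lib.Helper21.SylowBasic
import Cfsg.Agent.Lib.Helper21.Primary

/-!
`p`-decomposable groups `G = P × K` (helper21).
-/

set_option autoImplicit false

namespace Cfsg.Agent.Lib.Helper21

open scoped Pointwise

/-- In `G = P × K` (internal, `P` a Sylow `p`-subgroup), elements of `q`-power order, `q ≠ p`, lie in `K`. -/
theorem mem_right_of_prime_power_order {G : Type*} [Group G] [Finite G] (p : ℕ) [Fact p.Prime]
    (P : Sylow p G) (K : Subgroup G) (hK : K.Normal) (hsup : (P : Subgroup G) ⊔ K = ⊤)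
    (y : G) (q b : ℕ) (hq : q.Prime) (hqp : q ≠ p) (hy : orderOf y = q ^ b) : y ∈ K := by
  obtain ⟨n, hn⟩ := IsPGroup.iff_card.mp P.2
  have hidx : K.index ∣ p ^ n := by
    have h1 : K.relIndex ((P : Subgroup G) ⊔ K) = K.relIndex (P : Subgroup G) := Subgroup.relIndex_sup_right _ _
    rw [hsup, Subgroup.relIndex_top_right] at h1
    rw [h1, ← hn]
    exact Subgroup.relIndex_dvd_card _ _
  have h1 : y ^ (p ^ n) ∈ K := by
    obtain ⟨c, hc⟩ := hidx
    rw [hc, pow_mul]
    exact K.pow_mem (Subgroup.pow_index_mem K y) _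
  have h2 : y ^ (q ^ b) ∈ K := by
    rw [← hy, pow_orderOf_eq_one]; exact K.one_mem
  have hcop : Nat.Coprime (p ^ n) (q ^ b) :=
    Nat.Coprime.pow _ _ ((Nat.coprime_primes Fact.out hq).mpr (Ne.symm hqp))
  exact mem_of_pow_mem_of_coprime K y _ _ hcop h1 h2

theorem commute_of_pdecomp {G : Type*} [Group G] [Finite G] (p : ℕ) [Fact p.Prime]
    (P : Sylow p G) (K : Subgroup G) (hP : (P : Subgroup G).Normal) (hK : K.Normal)
    (hinf : (P : Subgroup G) ⊓ K = ⊥) (hsup : (P : Subgroup G) ⊔ K = ⊤)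
    (x y : G) (hx : ∃ a : ℕ, orderOf x = p ^ a)
    (hy : ∃ q b : ℕ, q.Prime ∧ q ≠ p ∧ orderOf y = q ^ b) :
    x ∈ (P : Subgroup G) ∧ y ∈ K ∧ x * y = y * x := by
  obtain ⟨a, ha⟩ := hx
  obtain ⟨q, b, hq, hqp, hb⟩ := hy
  have hxP : x ∈ (P : Subgroup G) :=
    mem_sylow_of_normal_of_pow_eq_one' P hP x a (by rw [← ha, pow_orderOf_eq_one])
  have hyK : y ∈ K := mem_right_of_prime_power_order p P K hK hsup y q b hq hqp hb
  exact ⟨hxP, hyK, Subgroup.commute_of_normal_of_disjoint _ _ hP hK (disjoint_iff.mpr hinf) x y hxP hyK⟩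

theorem pdecomp_of_commute {G : Type*} [Group G] [Finite G] (p : ℕ) [Fact p.Prime]
    (h : ∀ x y : G, (∃ a : ℕ, orderOf x = p ^ a) → (∃ q b : ℕ, q.Prime ∧ q ≠ p ∧ orderOf y = q ^ b) →
      x * y = y * x) :
    ∃ (P : Sylow p G) (K : Subgroup G), (P : Subgroup G).Normal ∧ K.Normal ∧
      (P : Subgroup G) ⊓ K = ⊥ ∧ (P : Subgroup G) ⊔ K = ⊤ := by
  obtain P : Sylow p G := default
  have hPord : ∀ x ∈ (P : Subgroup G), ∃ a : ℕ, orderOf x = p ^ a := by
    intro x hx
    obtain ⟨a, ha⟩ := (IsPGroup.iff_orderOf.mp P.2) ⟨x, hx⟩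
    rw [Subgroup.orderOf_mk] at ha
    exact ⟨a, ha⟩
  -- normalizer has index 1
  have hidx : (Subgroup.normalizer ((P : Subgroup G) : Set G)).index = 1 := by
    by_contra hne
    obtain ⟨q, hq, hqd⟩ := Nat.exists_prime_and_dvd hne
    by_cases hqp : q = p
    · subst hqp
      exact P.not_dvd_index (dvd_trans hqd (Subgroup.index_dvd_of_le Subgroup.le_normalizer))
    · have := Fact.mk hq
      obtain S : Sylow q G := default
      have hSN : (S : Subgroup G) ≤ Subgroup.normalizer ((P : Subgroup G) : Set G) := by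
        refine le_trans ?_ (Subgroup.centralizer_le_normalizer _)
        intro s hs
        rw [Subgroup.mem_centralizer_iff]
        intro x hx
        obtain ⟨b, hb⟩ := (IsPGroup.iff_orderOf.mp S.2) ⟨s, hs⟩
        rw [Subgroup.orderOf_mk] at hb
        exact h x s (hPord x hx) ⟨q, b, hq, hqp, hb⟩
      exact S.not_dvd_index (dvd_trans hqd (Subgroup.index_dvd_of_le hSN))
  have hPn : (P : Subgroup G).Normal := by
    rw [← Subgroup.normalizer_eq_top_iff, ← Subgroup.index_eq_one]; exact hidx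
  obtain ⟨K, hK⟩ := Subgroup.exists_right_complement'_of_coprime (N := (P : Subgroup G)) P.card_coprime_index
  have hKcard : Nat.card K = (P : Subgroup G).index := by
    have h1 := hK.card_mul_card
    have h2 := (P : Subgroup G).card_mul_index
    have hpos : 0 < Nat.card (P : Subgroup G) := Nat.card_pos
    exact Nat.eq_of_mul_eq_mul_left hpos (h1.trans h2.symm)
  -- K centralizes P
  have hKC : ∀ x ∈ (P : Subgroup G), ∀ y ∈ K, x * y = y * x := by
    intro x hx y hy
    apply commute_of_coprime_order p x (fun y hy => h x y (hPord x hx) hy) y (orderOf_pos y).ne'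
    have h1 : orderOf y ∣ Nat.card K := by
      rw [← Subgroup.orderOf_mk y hy]; exact orderOf_dvd_natCard _
    rw [hKcard] at h1
    have h2 : Nat.Coprime (P : Subgroup G).index p :=
      ((Nat.Prime.coprime_iff_not_dvd Fact.out).mpr P.not_dvd_index).symm
    exact Nat.Coprime.coprime_dvd_left h1 h2
  have hsup : (P : Subgroup G) ⊔ K = ⊤ := hK.sup_eq_top
  have hKn : K.Normal := by
    constructor
    intro n hn g
    have hg : g ∈ ((P : Subgroup G) ⊔ K : Subgroup G) := by rw [hsup]; trivial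
    have hg' : g ∈ ((P : Subgroup G) : Set G) * (K : Set G) := by
      rw [← Subgroup.normal_mul]; exact hg
    obtain ⟨x, hx, k, hk, rfl⟩ := hg'
    have h1 : k * n * k⁻¹ ∈ K := K.mul_mem (K.mul_mem hk hn) (K.inv_mem hk)
    have h2 := hKC x hx _ h1
    have : x * k * n * (x * k)⁻¹ = x * (k * n * k⁻¹) * x⁻¹ := by group
    rw [this, h2, mul_assoc, mul_inv_cancel, mul_one]; exact h1
  exact ⟨P, K, hPn, hKn, hK.disjoint.eq_bot, hsup⟩

end Cfsg.Agent.Lib.Helper21
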