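import Mathlib
import Cfsg.Agent.Lib.Helper1.PRDefs
import Cfsg.Agent.Lib.Helper1.Netto

/-!
# Leaf PRNETTO of market "PR" (S3612): in coordinates a `Star` is the Netto triple system
-/

set_option autoImplicit false

namespace Cfsg.Agent.Lib.Helper21.PRNETTO

open MulAction Cfsg.Agent.Lib.Helper1.PR Cfsg.Agent.Lib.Helper1.Netto

section Abstract

variable {p : ℕ} [Fact p.Prime]

theorem natCast_ne_zero_of_lt {n : ℕ} (hn0 : 0 < n) (hn : n < p) : ((n : ℕ) : ZMod p) ≠ 0 := by
  intro h
  rw [ZMod.natCast_eq_zero_iff] at h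
  have := Nat.le_of_dvd hn0 h
  omega

/-- a non-zero non-square divided by a non-zero non-square is a non-zero square -/
theorem isSquare_div_of_not {y v : ZMod p} (hy : ¬ IsSquare y) (hv : ¬ IsSquare v) :
    IsSquare (y / v) ∧ y / v ≠ 0 := by
  have hy0 : y ≠ 0 := fun h => hy (h ▸ IsSquare.zero)
  have hv0 : v ≠ 0 := fun h => hv (h ▸ IsSquare.zero)
  have h0 : y / v ≠ 0 := div_ne_zero hy0 hv0
  refine ⟨?_, h0⟩
  have h1 : quadraticChar (ZMod p) y = -1 := quadraticChar_neg_one_iff_not_isSquare.mpr hy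
  have h2 : quadraticChar (ZMod p) v = -1 := quadraticChar_neg_one_iff_not_isSquare.mpr hv
  have h3 : quadraticChar (ZMod p) (y / v) * quadraticChar (ZMod p) v
      = quadraticChar (ZMod p) y := by
    rw [← map_mul, div_mul_cancel₀ _ hv0]
  rw [h1, h2] at h3
  have h4 : quadraticChar (ZMod p) (y / v) = 1 := by linarith
  exact (quadraticChar_one_iff_isSquare h0).mp h4

/-- a non-zero square times a non-square is a non-square -/
theorem not_isSquare_mul_of {u v : ZMod p} (hu0 : u ≠ 0) (hu : IsSquare u) (hv : ¬ IsSquare v) :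
    ¬ IsSquare (u * v) := by
  have h1 : quadraticChar (ZMod p) u = 1 := (quadraticChar_one_iff_isSquare hu0).mpr hu
  have h2 : quadraticChar (ZMod p) v = -1 := quadraticChar_neg_one_iff_not_isSquare.mpr hv
  rw [← quadraticChar_neg_one_iff_not_isSquare, map_mul, h1, h2]
  norm_num

theorem netto_of_star (hp : 3 < p) (s : ZMod p → ZMod p → ZMod p)
    (hE : ∀ u c a b : ZMod p, u ≠ 0 → IsSquare u → a ≠ b →
      s (u * a + c) (u * b + c) = u * s a b + c)
    (hS : ∀ a b : ZMod p, a ≠ b → s a b = s b a)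
    (hI : ∀ a b : ZMod p, a ≠ b → s a (s a b) = b)
    (hL : ∀ a b : ZMod p, a ≠ b → s a b ≠ a)
    (hR : ∀ a b : ZMod p, a ≠ b → s a b ≠ b) :
    ∃ w : ZMod p, w ^ 2 - w + 1 = 0 ∧ p % 12 = 7 ∧
      ∀ a b : ZMod p, a ≠ b → s a b = op w a b := by
  classical
  have hprime : p.Prime := Fact.out
  have h3 : (3 : ZMod p) ≠ 0 := by
    have := natCast_ne_zero_of_lt (p := p) (n := 3) (by norm_num) hp
    exact_mod_cast this
  have h2 : (2 : ZMod p) ≠ 0 := by
    have := natCast_ne_zero_of_lt (p := p) (n := 2) (by norm_num) (by omega)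
    exact_mod_cast this
  have h01 : (0 : ZMod p) ≠ 1 := zero_ne_one
  obtain ⟨ν, hν⟩ : ∃ ν, ν = s 0 1 := ⟨_, rfl⟩
  have hν0 : ν ≠ 0 := hν ▸ hL 0 1 h01
  have hν1 : ν ≠ 1 := hν ▸ hR 0 1 h01
  -- (N1)
  have N1 : ∀ a u : ZMod p, u ≠ 0 → IsSquare u → s a (a + u) = a + u * ν := by
    intro a u hu hsq
    have := hE u a 0 1 hu hsq h01
    rw [← hν] at this
    simpa [add_comm] using this
  -- (N2) ν is a non-square
  have N2 : ¬ IsSquare ν := by
    intro hsq
    have h1 : s 0 ν = ν * ν := by simpa using N1 0 ν hν0 hsq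
    have h2' : s 0 ν = 1 := by rw [hν]; exact hI 0 1 h01
    have h3' : ν = -1 := by
      have : (ν - 1) * (ν + 1) = 0 := by
        have : ν * ν = 1 := by rw [← h1, h2']
        linear_combination this
      rcases mul_eq_zero.mp this with h | h
      · exact absurd (sub_eq_zero.mp h) hν1
      · exact eq_neg_of_add_eq_zero_left h
    have hm1 : IsSquare (-1 : ZMod p) := h3' ▸ hsq
    have hm10 : (-1 : ZMod p) ≠ 0 := by simp
    have h4 : s 1 0 = 1 + (-1) * ν := by simpa using N1 1 (-1) hm10 hm1
    have h5 : s 1 0 = ν := by rw [← hS 0 1 h01, hν]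
    rw [h5, h3'] at h4
    apply h3
    linear_combination (-1 : ZMod p) * h4
  -- (N3)
  have N3 : ∀ a y : ZMod p, ¬ IsSquare y → s a (a + y) = a + y / ν := by
    intro a y hy
    obtain ⟨hsq, h0⟩ := isSquare_div_of_not hy N2
    have h1 : s a (a + y / ν) = a + y := by
      rw [N1 a (y / ν) h0 hsq, div_mul_cancel₀ _ hν0]
    have hne : a ≠ a + y / ν := by
      intro h
      apply h0
      have : a + y / ν = a + 0 := by rw [add_zero]; exact h.symm
      exact add_left_cancel this
    have := hI a (a + y / ν) hne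
    rw [h1] at this
    exact this
  -- (N4) -1 is a non-square
  have N4 : ¬ IsSquare (-1 : ZMod p) := by
    intro hm1
    have hm10 : (-1 : ZMod p) ≠ 0 := by simp
    have h4 : s 1 0 = 1 + (-1) * ν := by simpa using N1 1 (-1) hm10 hm1
    have h5 : s 1 0 = ν := by rw [← hS 0 1 h01, hν]
    have h6 : 2 * ν = 1 := by
      rw [h5] at h4
      linear_combination h4
    have hnν : ¬ IsSquare (-ν) := by
      have := not_isSquare_mul_of hm10 hm1 N2
      simpa using this
    have h7 : s ν 0 = ν + (-ν) / ν := by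
      have := N3 ν (-ν) hnν
      simpa using this
    have h8 : s ν 0 = 1 := by
      rw [← hS 0 ν (Ne.symm hν0), hν]
      exact hI 0 1 h01
    have h9 : ν = 2 := by
      rw [h8, neg_div, div_self hν0] at h7
      linear_combination -h7
    apply h3
    rw [h9] at h6
    linear_combination h6
  -- (N5)
  have N5 : ν ^ 2 - ν + 1 = 0 := by
    have h4 : s 1 0 = 1 + (-1) / ν := by simpa using N3 1 (-1) N4
    have h5 : s 1 0 = ν := by rw [← hS 0 1 h01, hν]
    rw [h5] at h4
    have : ν * ν = ν + (-1) := by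
      have h := congrArg (· * ν) h4
      simp only [add_mul, div_mul_cancel₀ _ hν0] at h
      linear_combination h
    linear_combination this
  -- (N6)
  have N6 : p % 12 = 7 := by
    have h4 : p % 4 = 3 := by
      by_contra hne
      exact N4 (ZMod.exists_sq_eq_neg_one_iff.mpr hne)
    have hcube : ν ^ 3 = -1 := by linear_combination (ν + 1) * N5
    have h6 : ν ^ 6 = 1 := by
      have : ν ^ 6 = (ν ^ 3) ^ 2 := by ring
      rw [this, hcube]; ring
    have hord : orderOf ν = 6 := by
      refine orderOf_eq_of_pow_and_pow_div_prime (by norm_num) h6 ?_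
      intro q hq hq6
      have hq' : q = 2 ∨ q = 3 := by
        have : q ∣ 2 * 3 := by simpa using hq6
        rcases (Nat.Prime.dvd_mul hq).mp this with h | h
        · exact Or.inl ((Nat.prime_dvd_prime_iff_eq hq Nat.prime_two).mp h)
        · exact Or.inr ((Nat.prime_dvd_prime_iff_eq hq Nat.prime_three).mp h)
      rcases hq' with rfl | rfl
      · -- ν^3 ≠ 1
        have e63 : 6 / 2 = 3 := by norm_num
        rw [e63, hcube]
        intro h
        apply h2
        linear_combination -h
      · -- ν^2 ≠ 1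
        have e62 : 6 / 3 = 2 := by norm_num
        rw [e62]
        intro h
        -- ν^2 = 1, ν^2 = ν - 1 ⇒ ν = 2 ⇒ 4 = 1
        have h9 : ν = 2 := by linear_combination -N5 + h
        rw [h9] at h
        apply h3
        linear_combination h
    have hdvd : 6 ∣ p - 1 := by
      rw [← hord]
      exact orderOf_dvd_of_pow_eq_one (ZMod.pow_card_sub_one_eq_one hν0)
    have : 1 ≤ p := by omega
    omega
  refine ⟨ν, N5, N6, ?_⟩
  intro a b hab
  have hy0 : b - a ≠ 0 := sub_ne_zero.mpr (Ne.symm hab)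
  have hb : b = a + (b - a) := by ring
  unfold op
  split_ifs with hsq
  · rw [hb, N1 a (b - a) hy0 hsq]
    ring
  · have hinv : 1 / ν = 1 - ν := by
      rw [div_eq_iff hν0]
      linear_combination N5
    rw [hb, N3 a (b - a) hsq, div_eq_mul_one_div, hinv]
    ring

end Abstract

/-- **PRNETTO**.  In coordinates a `Star` is the Netto triple system. -/
theorem PRNETTO {G Ω : Type*} [Group G] [MulAction G Ω] {p : ℕ} [Fact p.Prime] (hp : 3 < p)
    (e : ZMod p ≃ Ω) (hC : Coord G e) (star : Ω → Ω → Ω) (hs : Star G star) :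
    ∃ w : ZMod p, w ^ 2 - w + 1 = 0 ∧ p % 12 = 7 ∧
      ∀ a b : ZMod p, a ≠ b → e.symm (star (e a) (e b)) = op w a b := by
  have hne : ∀ a b : ZMod p, a ≠ b → e a ≠ e b := fun a b h h' => h (e.injective h')
  refine netto_of_star hp (fun a b => e.symm (star (e a) (e b))) ?_ ?_ ?_ ?_ ?_
  · intro u c a b hu hsq hab
    obtain ⟨n, hn⟩ := hC u c hu hsq
    show e.symm (star (e (u * a + c)) (e (u * b + c))) = u * e.symm (star (e a) (e b)) + c
    rw [← hn a, ← hn b, ← hs.equiv n (e a) (e b) (hne a b hab)]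
    have : star (e a) (e b) = e (e.symm (star (e a) (e b))) := (e.apply_symm_apply _).symm
    rw [this, hn, e.symm_apply_apply, e.symm_apply_apply]
  · intro a b hab
    show e.symm (star (e a) (e b)) = e.symm (star (e b) (e a))
    rw [hs.symm (e a) (e b) (hne a b hab)]
  · intro a b hab
    show e.symm (star (e a) (e (e.symm (star (e a) (e b))))) = b
    rw [e.apply_symm_apply, hs.invol (e a) (e b) (hne a b hab), e.symm_apply_apply]
  · intro a b hab h
    apply hs.ne_left (e a) (e b) (hne a b hab)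
    have : e (e.symm (star (e a) (e b))) = e a := congrArg e h
    rwa [e.apply_symm_apply] at this
  · intro a b hab h
    apply hs.ne_right (e a) (e b) (hne a b hab)
    have : e (e.symm (star (e a) (e b))) = e b := congrArg e h
    rwa [e.apply_symm_apply] at this

end Cfsg.Agent.Lib.Helper21.PRNETTO
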