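/-
helper21: S4813 (Isaacs–Passman: all nonlinear irreducible degrees prime ⇒ at most three degrees), the SOLVABLE case.
`cd_of_solvable`: `G` solvable, every irreducible degree is `1` or a prime ⇒ there are `q f` with `cd(G) ⊆ {1, q, f}`.
Route: `K` maximal normal with `G/K` non-abelian; `(G/K)'` is abelian (solvable) and is the unique minimal normal
subgroup; Isaacs 12.3: `G/K` is a `p`-group (then `cd(G) ⊆ {1, p}` by Gallagher, `pgroup_quotient_mul`) or a Frobenius
group with kernel `L/K` an elementary abelian `p`-group; then Isaacs 12.4 + Isaacs 11.29 give `cd(G) ⊆ {1, p, |G:L|}`.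
The non-solvable case is excluded by S4466 (helper13: `Helper13.PrimeDegSimple`).
-/
import Mathlib
import Cfsg.Prelude.Def_Blocks
import Cfsg.Prelude.Def_DegreeGraph
import Cfsg.Agent.Lib.Helper21.IsaacsPrimeA
import Cfsg.Agent.Lib.Helper6.Ramification2
import Cfsg.Agent.Lib.Helper6.CliffordCorr

set_option autoImplicit false

namespace Cfsg.Agent.Lib.Helper21.PrimeDegSolv

open Cfsg Cfsg.Agent.CharLib Cfsg.Agent.Lib.Helper6 Cfsg.Agent.Lib.Helper24 Cfsg.Agent.Lib.Helper25
open Cfsg.Agent.Lib.Helper21.Isaacs
open scoped ComplexConjugate commutatorElement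

universe u

/-- in a solvable group whose commutator subgroup is contained in every nontrivial normal subgroup,
the commutator subgroup is abelian -/
theorem comm_commutator_of_solvable {Q : Type*} [Group Q] (hsolv : Group.IsSolvable Q)
    (hmin : ∀ L : Subgroup Q, L.Normal → L ≠ ⊥ → commutator Q ≤ L) :
    ∀ a ∈ commutator Q, ∀ b ∈ commutator Q, a * b = b * a := by
  set D : Subgroup Q := ⁅commutator Q, commutator Q⁆ with hD
  have hDn : D.Normal := Subgroup.commutator_normal _ _
  by_cases hbot : D = ⊥
  · intro a ha b hb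
    have h1 : ⁅a, b⁆ ∈ D := Subgroup.commutator_mem_commutator ha hb
    rw [hbot, Subgroup.mem_bot, commutatorElement_def] at h1
    calc a * b = (a * b * a⁻¹ * b⁻¹) * (b * a) := by group
      _ = b * a := by rw [h1, one_mul]
  · exfalso
    have hle : commutator Q ≤ D := hmin D hDn hbot
    have hle' : D ≤ commutator Q := Subgroup.commutator_le_left _ _
    have heq : D = commutator Q := le_antisymm hle' hle
    have hser : ∀ n : ℕ, derivedSeries Q (n + 1) = commutator Q := by
      intro n
      induction n with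
      | zero => rw [zero_add, derivedSeries_one]
      | succ n ih => rw [derivedSeries_succ, ih, ← hD, heq]
    obtain ⟨n, hn⟩ := hsolv.solvable
    have h2 : derivedSeries Q (n + 1) = ⊥ := by
      rw [derivedSeries_succ, hn]
      exact Subgroup.commutator_bot_left _
    rw [hser n] at h2
    apply hbot
    rw [heq, h2]

variable {G : Type u} [Group G] [Finite G]

/-- the degrees of a solvable group all of whose irreducible degrees are `1` or primes -/
theorem cd_of_solvable (hsolv : Group.IsSolvable G)
    (hprime : ∀ χ : IrrCharacter G, charDegree (χ : G → ℂ) = 1 ∨ (charDegree (χ : G → ℂ)).Prime) :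
    ∃ q f : ℕ, ∀ χ : IrrCharacter G, charDegree (χ : G → ℂ) = 1 ∨ charDegree (χ : G → ℂ) = q ∨
      charDegree (χ : G → ℂ) = f := by
  classical
  by_cases hna : ∀ a b : G, a * b = b * a
  · refine ⟨1, 1, fun χ => Or.inl ?_⟩
    have h1 := (comm_iff_forall_irr_apply_one (G := G)).mp hna χ
    have h2 := irr_apply_one χ
    rw [h1] at h2
    exact_mod_cast h2.symm
  obtain ⟨K, hKn, hKne, hKmax⟩ := exists_max_nonabelian_quotient hna
  have := hKn
  obtain ⟨hmin, hQne⟩ := quotient_min K hKne hKmax
  have := hsolv
  have hQsolv : Group.IsSolvable (G ⧸ K) := inferInstance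
  have hab := comm_commutator_of_solvable hQsolv hmin
  have hQna : ¬ ∀ a b : G ⧸ K, a * b = b * a := by
    intro h
    apply hQne
    rw [eq_bot_iff, commutator_def, Subgroup.commutator_le]
    intro u _ v _
    rw [Subgroup.mem_bot, commutatorElement_def, h u v]
    group
  obtain ⟨p, hp, hcase⟩ := lemma_12_3 hmin hab hQne
  have : Fact p.Prime := ⟨hp⟩
  rcases hcase with hQp | ⟨hMp, hcop, hfpf⟩
  · -- the `p`-group case
    obtain ⟨b, hb0, ⟨χ₀, hχ₀⟩, hmul⟩ := pgroup_quotient_mul K p hp hQp hQna
    have hb1 : b = 1 := by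
      rcases hprime χ₀ with h | h
      · rw [hχ₀] at h
        exact absurd (Nat.pow_eq_one.mp h) (by
          rintro (h' | h')
          · exact hp.one_lt.ne' h'
          · exact hb0 h')
      · rw [hχ₀] at h
        rcases (Nat.Prime.eq_one_or_self_of_dvd h p (dvd_pow_self p hb0)) with h' | h'
        · exact absurd h' hp.one_lt.ne'
        · have h3 : p ^ 1 = p ^ b := by rw [pow_one]; exact h'
          exact (Nat.pow_right_injective hp.two_le h3).symm
    subst hb1
    rw [pow_one] at hmul
    refine ⟨p, p, fun χ => ?_⟩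
    rcases hprime χ with h | h
    · exact Or.inl h
    · right; left
      by_cases hdvd : p ∣ charDegree (χ : G → ℂ)
      · exact ((Nat.prime_dvd_prime_iff_eq hp h).mp hdvd).symm
      · exfalso
        obtain ⟨ψ, hψ⟩ := hmul χ hdvd
        rcases hprime ψ with h' | h'
        · rw [hψ] at h'
          exact hp.one_lt.ne' (Nat.eq_one_of_mul_eq_one_right h')
        · rw [hψ] at h'
          exact Nat.not_prime_mul hp.one_lt.ne' h.one_lt.ne' h'
  · -- the Frobenius case
    set M : Subgroup (G ⧸ K) := commutator (G ⧸ K) with hM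
    set π : G →* G ⧸ K := QuotientGroup.mk' K with hπ
    have hπs : Function.Surjective π := QuotientGroup.mk'_surjective K
    set L : Subgroup G := M.comap π with hL
    have hLn : L.Normal := Subgroup.Normal.comap inferInstance π
    have hmemL : ∀ g : G, g ∈ L ↔ π g ∈ M := fun g => Iff.rfl
    have hmemK : ∀ g : G, g ∈ K ↔ π g = 1 := fun g => (QuotientGroup.eq_one_iff g).symm
    have hA : ∀ a ∈ L, ∀ b ∈ L, a * b * a⁻¹ * b⁻¹ ∈ K := by
      intro a ha b hb
      rw [hmemK, map_mul, map_mul, map_mul, map_inv, map_inv, hab (π a) ha (π b) hb]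
      group
    have hF : ∀ g, g ∉ L → ∀ n ∈ L, g * n * g⁻¹ * n⁻¹ ∈ K → n ∈ K := by
      intro g hg n hn h
      rw [hmemK, map_mul, map_mul, map_mul, map_inv, map_inv] at h
      rw [hmemK]
      apply hfpf (π g) hg (π n) hn
      calc π g * π n = (π g * π n * (π g)⁻¹ * (π n)⁻¹) * (π n * π g) := by group
        _ = π n * π g := by rw [h, one_mul]
    have hrel : K.relIndex L = Nat.card M := by
      have h1 : K = (⊥ : Subgroup (G ⧸ K)).comap π := by
        rw [MonoidHom.comap_bot, hπ, QuotientGroup.ker_mk']
      conv_lhs => rw [h1]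
      rw [Subgroup.relIndex_comap, hL, Subgroup.map_comap_eq_self_of_surjective hπs,
        Subgroup.relIndex_bot_left]
    obtain ⟨a, ha⟩ := hMp.exists_card_eq
    have hP : ∃ a, K.relIndex L = p ^ a := ⟨a, by rw [hrel, ha]⟩
    have hLidx : L.index = M.index := Subgroup.index_comap_of_surjective M hπs
    have hcopL : (L.index).Coprime p := by rw [hLidx]; exact hcop
    have ha0 : a ≠ 0 := by
      intro h0
      rw [h0, pow_zero] at ha
      exact hQne (Subgroup.card_eq_one.mp ha)
    have hone : L.index ≠ 1 := by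
      intro h1
      rw [hLidx] at h1
      have hMtop : M = ⊤ := Subgroup.index_eq_one.mp h1
      apply hQna
      intro u v
      exact hab u (hMtop ▸ Subgroup.mem_top u) v (hMtop ▸ Subgroup.mem_top v)
    refine ⟨p, L.index, fun χ => ?_⟩
    let _ : Fintype G := Fintype.ofFinite G
    let _ : Fintype L := Fintype.ofFinite L
    -- an irreducible constituent of the restriction
    have hres : IsCharacter L (resFun L (χ : G → ℂ)) :=
      isCharacter_resFun L (IsIrrCharacter.isCharacter χ.2)
    have hresne : resFun L (χ : G → ℂ) ≠ 0 := by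
      intro h
      have h1 := congrFun h 1
      have h2 := irr_apply_one χ
      have h3 := irr_charDegree_pos χ
      rw [resFun_apply, Pi.zero_apply, OneMemClass.coe_one, h2] at h1
      have : charDegree (χ : G → ℂ) = 0 := by exact_mod_cast h1
      omega
    obtain ⟨ϑ, hϑ, hcon⟩ := IsCharacter.exists_constituent hres hresne
    set ψ : IrrCharacter L := ⟨ϑ, hϑ⟩ with hψdef
    obtain ⟨hdc, hquot⟩ := degree_ratio_dvd_index L χ.2 hϑ hcon (irr_apply_one χ) (irr_apply_one ψ)
    have hdpos := irr_charDegree_pos ψ
    rcases isaacs_12_4 K L p hA hF hP hcopL ψ with ⟨χ', hχ'⟩ | ⟨-, e, t, d, het, hψd⟩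
    · -- `|G:L| ψ(1)` is a degree
      have h1 := irr_apply_one χ'
      rw [hχ', irr_apply_one ψ] at h1
      have h2 : L.index * charDegree (ψ : L → ℂ) = charDegree (χ' : G → ℂ) := by exact_mod_cast h1
      have hd1 : charDegree (ψ : L → ℂ) = 1 ∧ (L.index).Prime := by
        rcases hprime χ' with h | h
        · rw [← h2] at h
          exact absurd (Nat.eq_one_of_mul_eq_one_right h) hone
        · rw [← h2] at h
          by_cases hd : charDegree (ψ : L → ℂ) = 1
          · rw [hd, mul_one] at h
            exact ⟨hd, h⟩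
          · exact absurd h (Nat.not_prime_mul hone hd)
      rw [hd1.1, Nat.div_one] at hquot
      rcases (Nat.dvd_prime hd1.2).mp hquot with h | h
      · exact Or.inl h
      · exact Or.inr (Or.inr h)
    · -- `p` divides `ψ(1)`
      right; left
      rw [irr_apply_one ψ] at hψd
      have h1 : charDegree (ψ : L → ℂ) = e * t * d := by exact_mod_cast hψd
      have h2 : p ∣ e * e * t := by
        rw [het, hrel, ha]
        exact dvd_pow_self p ha0
      have h3 : p ∣ e * t := by
        rcases (Nat.Prime.dvd_mul hp).mp h2 with h | h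
        · rcases (Nat.Prime.dvd_mul hp).mp h with h' | h'
          · exact dvd_mul_of_dvd_left h' t
          · exact dvd_mul_of_dvd_left h' t
        · exact dvd_mul_of_dvd_right h e
      have h4 : p ∣ charDegree (χ : G → ℂ) := by
        refine dvd_trans ?_ hdc
        rw [h1]
        exact dvd_mul_of_dvd_left h3 d
      rcases hprime χ with h | h
      · rw [h] at h4
        exact absurd (Nat.dvd_one.mp h4) hp.one_lt.ne'
      · exact ((Nat.prime_dvd_prime_iff_eq hp h).mp h4).symm

/-- S4813 for solvable groups -/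
theorem s4813_of (hsolv : Group.IsSolvable G)
    (hprime : ∀ d ∈ Cfsg.charDegrees G, d = 1 ∨ d.Prime) : Nat.card ↥(Cfsg.charDegrees G) ≤ 3 := by
  obtain ⟨q, f, h⟩ := cd_of_solvable hsolv (fun χ => hprime _ ⟨χ, rfl⟩)
  have hsub : Cfsg.charDegrees G ⊆ ({1, q, f} : Set ℕ) := by
    rintro d ⟨χ, rfl⟩
    rcases h χ with h1 | h1 | h1
    · rw [h1]; simp
    · rw [h1]; simp
    · rw [h1]; simp
  have hfin : ({1, q, f} : Set ℕ).Finite := Set.toFinite _
  calc Nat.card ↥(Cfsg.charDegrees G) ≤ Nat.card ↥({1, q, f} : Set ℕ) := Nat.card_mono hfin hsub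
    _ = ({1, q, f} : Set ℕ).ncard := Nat.card_coe_set_eq _
    _ ≤ 3 := by
      refine (Set.ncard_insert_le _ _).trans ?_
      have := Set.ncard_insert_le q ({f} : Set ℕ)
      rw [Set.ncard_singleton] at this
      omega

end Cfsg.Agent.Lib.Helper21.PrimeDegSolv
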