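/-
helper21: 2×2 linear algebra used for the Ruiz–Viruel bounds (S3054, S3055).
-/
import Mathlib
import Cfsg.Agent.Lib.Helper13.DkCases

set_option autoImplicit false

namespace Cfsg.Agent.Lib.Helper21.RV

open Matrix Cfsg.Agent.Lib.Helper13 Cfsg.Agent.Lib.Helper13.Dk

variable {F : Type*} [Field F]

/-- A binary quadratic form with three pairwise non-proportional zeros vanishes. -/
theorem quad_zero (X Y Z a₁ b₁ a₂ b₂ a₃ b₃ : F)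
    (h₁ : X * a₁ ^ 2 + Y * (a₁ * b₁) + Z * b₁ ^ 2 = 0)
    (h₂ : X * a₂ ^ 2 + Y * (a₂ * b₂) + Z * b₂ ^ 2 = 0)
    (h₃ : X * a₃ ^ 2 + Y * (a₃ * b₃) + Z * b₃ ^ 2 = 0)
    (d₁₂ : a₁ * b₂ - a₂ * b₁ ≠ 0) (d₁₃ : a₁ * b₃ - a₃ * b₁ ≠ 0) (d₂₃ : a₂ * b₃ - a₃ * b₂ ≠ 0) :
    X = 0 ∧ Y = 0 ∧ Z = 0 := by
  have hD : (a₁ * b₂ - a₂ * b₁) * (a₁ * b₃ - a₃ * b₁) * (a₂ * b₃ - a₃ * b₂) ≠ 0 :=
    mul_ne_zero (mul_ne_zero d₁₂ d₁₃) d₂₃
  have hX : X * ((a₁ * b₂ - a₂ * b₁) * (a₁ * b₃ - a₃ * b₁) * (a₂ * b₃ - a₃ * b₂)) = 0 := by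
    linear_combination (b₂ * b₃ * (a₂ * b₃ - a₃ * b₂)) * h₁ - (b₁ * b₃ * (a₁ * b₃ - a₃ * b₁)) * h₂
      + (b₁ * b₂ * (a₁ * b₂ - a₂ * b₁)) * h₃
  have hZ : Z * ((a₁ * b₂ - a₂ * b₁) * (a₁ * b₃ - a₃ * b₁) * (a₂ * b₃ - a₃ * b₂)) = 0 := by
    linear_combination (a₂ * a₃ * (a₂ * b₃ - a₃ * b₂)) * h₁ - (a₁ * a₃ * (a₁ * b₃ - a₃ * b₁)) * h₂
      + (a₁ * a₂ * (a₁ * b₂ - a₂ * b₁)) * h₃
  have hY : Y * ((a₁ * b₂ - a₂ * b₁) * (a₁ * b₃ - a₃ * b₁) * (a₂ * b₃ - a₃ * b₂)) = 0 := by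
    linear_combination (-(a₂ * b₃ - a₃ * b₂) * (a₂ * b₃ + a₃ * b₂)) * h₁
      + ((a₁ * b₃ - a₃ * b₁) * (a₁ * b₃ + a₃ * b₁)) * h₂
      - ((a₁ * b₂ - a₂ * b₁) * (a₁ * b₂ + a₂ * b₁)) * h₃
  exact ⟨(mul_eq_zero.mp hX).resolve_right hD, (mul_eq_zero.mp hY).resolve_right hD,
    (mul_eq_zero.mp hZ).resolve_right hD⟩

/-- the components of an eigenvector equation -/
theorem eigen_components {M : Matrix (Fin 2) (Fin 2) F} {v : Fin 2 → F} {μ : F}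
    (h : M *ᵥ v = μ • v) :
    M 0 0 * v 0 + M 0 1 * v 1 = μ * v 0 ∧ M 1 0 * v 0 + M 1 1 * v 1 = μ * v 1 := by
  have h0 := congrFun h 0
  have h1 := congrFun h 1
  simp only [Matrix.mulVec, dotProduct, Fin.sum_univ_two, Pi.smul_apply, smul_eq_mul] at h0 h1
  exact ⟨h0, h1⟩

theorem eigen_of_components {M : Matrix (Fin 2) (Fin 2) F} {v : Fin 2 → F} {μ : F}
    (h0 : M 0 0 * v 0 + M 0 1 * v 1 = μ * v 0) (h1 : M 1 0 * v 0 + M 1 1 * v 1 = μ * v 1) :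
    M *ᵥ v = μ • v := by
  ext i
  fin_cases i
  · simpa [Matrix.mulVec, dotProduct, Fin.sum_univ_two] using h0
  · simpa [Matrix.mulVec, dotProduct, Fin.sum_univ_two] using h1

/-- the quadratic form whose zeros are the eigenvectors -/
theorem eigen_quad {M : Matrix (Fin 2) (Fin 2) F} {v : Fin 2 → F} {μ : F}
    (h : M *ᵥ v = μ • v) :
    (-M 1 0) * v 0 ^ 2 + (M 0 0 - M 1 1) * (v 0 * v 1) + M 0 1 * v 1 ^ 2 = 0 := by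
  obtain ⟨h0, h1⟩ := eigen_components h
  linear_combination v 1 * h0 - v 0 * h1

/-- A matrix with three pairwise independent eigenvectors is scalar. -/
theorem sc_of_three_eigen (M : Matrix (Fin 2) (Fin 2) F) (v₁ v₂ v₃ : Fin 2 → F) (μ₁ μ₂ μ₃ : F)
    (h₁ : M *ᵥ v₁ = μ₁ • v₁) (h₂ : M *ᵥ v₂ = μ₂ • v₂) (h₃ : M *ᵥ v₃ = μ₃ • v₃)
    (d₁₂ : v₁ 0 * v₂ 1 - v₂ 0 * v₁ 1 ≠ 0) (d₁₃ : v₁ 0 * v₃ 1 - v₃ 0 * v₁ 1 ≠ 0)
    (d₂₃ : v₂ 0 * v₃ 1 - v₃ 0 * v₂ 1 ≠ 0) : Emb.sc M := by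
  obtain ⟨hX, hY, hZ⟩ := quad_zero (-M 1 0) (M 0 0 - M 1 1) (M 0 1) (v₁ 0) (v₁ 1) (v₂ 0) (v₂ 1)
    (v₃ 0) (v₃ 1) (eigen_quad h₁) (eigen_quad h₂) (eigen_quad h₃) d₁₂ d₁₃ d₂₃
  exact ⟨hZ, neg_eq_zero.mp hX, sub_eq_zero.mp hY⟩

/-- Anything commuting with a nonscalar matrix preserves its eigenvectors. -/
theorem eigen_of_commute (s t : Matrix (Fin 2) (Fin 2) F) (hs : ¬ Emb.sc s) (hc : t * s = s * t)
    (v : Fin 2 → F) (μ : F) (hv : s *ᵥ v = μ • v) : ∃ ν : F, t *ᵥ v = ν • v := by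
  obtain ⟨α, β, rfl⟩ := exists_eq_smul_add_of_commute s t hs hc
  refine ⟨α + β * μ, ?_⟩
  rw [Matrix.add_mulVec, Matrix.smul_mulVec, Matrix.smul_mulVec, Matrix.one_mulVec, hv, add_smul,
    mul_smul]

/-- An eigenvector with eigenvalue `1` of a determinant-one matrix forces trace `2`. -/
theorem trace_eq_two_of_fix {M : Matrix (Fin 2) (Fin 2) F} (hdet : M.det = 1) {v : Fin 2 → F}
    (hv : v ≠ 0) (h : M *ᵥ v = v) : M.trace = 2 := by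
  have h' : M *ᵥ v = (1 : F) • v := by rw [one_smul]; exact h
  obtain ⟨h0, h1⟩ := eigen_components h'
  rw [Matrix.det_fin_two] at hdet
  rw [Matrix.trace_fin_two]
  have hne : v 0 ≠ 0 ∨ v 1 ≠ 0 := by
    by_contra hcon
    push Not at hcon
    apply hv
    ext i
    fin_cases i
    · exact hcon.1
    · exact hcon.2
  rcases hne with hne | hne
  · have : v 0 * (M 0 0 + M 1 1 - 2) = 0 := by
      linear_combination v 0 * hdet - (M 1 1 - 1) * h0 + M 0 1 * h1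
    have := (mul_eq_zero.mp this).resolve_left hne
    linear_combination this
  · have : v 1 * (M 0 0 + M 1 1 - 2) = 0 := by
      linear_combination v 1 * hdet - (M 0 0 - 1) * h1 + M 1 0 * h0
    have := (mul_eq_zero.mp this).resolve_left hne
    linear_combination this

end Cfsg.Agent.Lib.Helper21.RV
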