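/-
helper21: p'-subgroups of `SL₂(F)` lifted from `GL₂(p)`; preparation for the Ruiz–Viruel bounds.
-/
import Mathlib
import Cfsg.Agent.Lib.Helper13.DkCases
import Cfsg.Agent.Lib.Helper13.NaturalSL2
import Cfsg.Agent.Lib.Helper21.RVLinA

set_option autoImplicit false

namespace Cfsg.Agent.Lib.Helper21.RV

open Matrix Subgroup Cfsg.Agent.Lib.Helper13 Cfsg.Agent.Lib.Helper13.Dk

section hss

variable {F : Type*} [Field F] {p : ℕ} [Fact p.Prime] [CharP F p]

omit [Fact p.Prime] in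
theorem two_ne_zero_of_odd (hpp : p.Prime) (hp2 : p ≠ 2) : (2 : F) ≠ 0 := by
  intro h
  have h1 : ((2 : ℕ) : F) = 0 := by exact_mod_cast h
  rw [CharP.cast_eq_zero_iff F p] at h1
  exact hp2 ((Nat.prime_dvd_prime_iff_eq hpp Nat.prime_two).mp h1)

/-- A `p'`-element of `SL₂(F)` whose trace squares to `4` is scalar. -/
theorem sc_of_pow_of_trace_sq (hp2 : p ≠ 2) (g : SpecialLinearGroup (Fin 2) F) (k : ℕ)
    (hk : ¬ p ∣ k) (hgk : g ^ k = 1)
    (htr : (g : Matrix (Fin 2) (Fin 2) F).trace ^ 2 = 4) :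
    Emb.sc (g : Matrix (Fin 2) (Fin 2) F) := by
  have h2 : (2 : F) ≠ 0 := two_ne_zero_of_odd Fact.out hp2
  set A : Matrix (Fin 2) (Fin 2) F := (g : Matrix (Fin 2) (Fin 2) F) with hA
  have hch := cayley_hamilton_two A g.2
  rw [← Matrix.trace_fin_two] at hch
  have htr2 : ((g ^ 2 : SpecialLinearGroup (Fin 2) F) : Matrix (Fin 2) (Fin 2) F).trace = 2 := by
    rw [pow_two]
    show (A * A).trace = 2
    rw [hch, Matrix.trace_sub, Matrix.trace_smul, Matrix.trace_one, smul_eq_mul, Fintype.card_fin]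
    push_cast
    linear_combination htr
  have h3 := NatSL2.pow_char_eq_one_of_trace p (g ^ 2) htr2
  have h4 : g ^ (2 * p) = 1 := by rw [pow_mul]; exact h3
  have h5 : g ^ (Nat.gcd (2 * p) k) = 1 := pow_gcd_eq_one.mpr ⟨h4, hgk⟩
  have hcop : Nat.Coprime p k := (Nat.Prime.coprime_iff_not_dvd Fact.out).mpr hk
  have h6 : Nat.gcd (2 * p) k = Nat.gcd 2 k := Nat.Coprime.gcd_mul_right_cancel 2 hcop
  have h7 : g ^ 2 = 1 := by
    obtain ⟨e, he⟩ := Nat.gcd_dvd_left 2 k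
    rw [h6] at h5
    calc g ^ 2 = (g ^ Nat.gcd 2 k) ^ e := by rw [← pow_mul, ← he]
      _ = 1 := by rw [h5, one_pow]
  have h8 : A * A = 1 := by
    have := congrArg (fun x : SpecialLinearGroup (Fin 2) F => (x : Matrix (Fin 2) (Fin 2) F)) h7
    simpa [pow_two] using this
  rw [h8] at hch
  have ht0 : A.trace ≠ 0 := by
    intro h0
    rw [h0] at htr
    have h4' : (2 : F) * 2 = 0 := by linear_combination -htr
    exact h2 (mul_self_eq_zero.mp h4')
  have e01 := congr_fun (congr_fun hch 0) 1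
  have e10 := congr_fun (congr_fun hch 1) 0
  have e00 := congr_fun (congr_fun hch 0) 0
  have e11 := congr_fun (congr_fun hch 1) 1
  simp only [Matrix.sub_apply, Matrix.smul_apply, smul_eq_mul, Matrix.one_apply_eq,
    Matrix.one_apply_ne (show (0 : Fin 2) ≠ 1 by decide),
    Matrix.one_apply_ne (show (1 : Fin 2) ≠ 0 by decide)] at e01 e10 e00 e11
  refine ⟨?_, ?_, ?_⟩
  · have : A.trace * A 0 1 = 0 := by linear_combination -e01
    exact (mul_eq_zero.mp this).resolve_left ht0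
  · have : A.trace * A 1 0 = 0 := by linear_combination -e10
    exact (mul_eq_zero.mp this).resolve_left ht0
  · have : A.trace * (A 0 0 - A 1 1) = 0 := by linear_combination e11 - e00
    exact sub_eq_zero.mp ((mul_eq_zero.mp this).resolve_left ht0)

end hss

section lift

variable {p : ℕ} [Fact p.Prime] {F : Type*} [Field F]

/-- The subgroup of `SL₂(F)` of all scalar multiples of images of elements of `O ≤ GL₂(p)`. -/
def liftGrp (j : ZMod p →+* F) (O : Subgroup (GL (Fin 2) (ZMod p))) :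
    Subgroup (SpecialLinearGroup (Fin 2) F) where
  carrier := {s | ∃ g ∈ O, ∃ c : F, c ≠ 0 ∧ (s : Matrix (Fin 2) (Fin 2) F) =
    c • j.mapMatrix ((g : GL (Fin 2) (ZMod p)) : Matrix (Fin 2) (Fin 2) (ZMod p))}
  one_mem' := ⟨1, O.one_mem, 1, one_ne_zero, by simp⟩
  mul_mem' := by
    rintro s t ⟨g, hg, c, hc, hs⟩ ⟨g', hg', c', hc', ht⟩
    refine ⟨g * g', O.mul_mem hg hg', c * c', mul_ne_zero hc hc', ?_⟩
    rw [Matrix.SpecialLinearGroup.coe_mul, hs, ht, Units.val_mul, map_mul, smul_mul_smul_comm]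
  inv_mem' := by
    rintro s ⟨g, hg, c, hc, hs⟩
    refine ⟨g⁻¹, O.inv_mem hg, c⁻¹, inv_ne_zero hc, ?_⟩
    have h1 : (s : Matrix (Fin 2) (Fin 2) F) *
        (c⁻¹ • j.mapMatrix ((g⁻¹ : GL (Fin 2) (ZMod p)) : Matrix (Fin 2) (Fin 2) (ZMod p))) = 1 := by
      rw [hs, smul_mul_smul_comm, ← map_mul, ← Units.val_mul, mul_inv_cancel, mul_inv_cancel₀ hc,
        Units.val_one, map_one, one_smul]
    calc ((s⁻¹ : SpecialLinearGroup (Fin 2) F) : Matrix (Fin 2) (Fin 2) F)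
        = ((s⁻¹ : SpecialLinearGroup (Fin 2) F) : Matrix (Fin 2) (Fin 2) F) *
          ((s : Matrix (Fin 2) (Fin 2) F) *
            (c⁻¹ • j.mapMatrix ((g⁻¹ : GL (Fin 2) (ZMod p)) : Matrix (Fin 2) (Fin 2) (ZMod p)))) := by
          rw [h1, mul_one]
      _ = c⁻¹ • j.mapMatrix ((g⁻¹ : GL (Fin 2) (ZMod p)) : Matrix (Fin 2) (Fin 2) (ZMod p)) := by
          rw [← mul_assoc, ← Matrix.SpecialLinearGroup.coe_mul, inv_mul_cancel]
          exact one_mul _

theorem mem_liftGrp {j : ZMod p →+* F} {O : Subgroup (GL (Fin 2) (ZMod p))}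
    {s : SpecialLinearGroup (Fin 2) F} :
    s ∈ liftGrp j O ↔ ∃ g ∈ O, ∃ c : F, c ≠ 0 ∧ (s : Matrix (Fin 2) (Fin 2) F) =
      c • j.mapMatrix ((g : GL (Fin 2) (ZMod p)) : Matrix (Fin 2) (Fin 2) (ZMod p)) := Iff.rfl

theorem neg_one_mem_liftGrp (j : ZMod p →+* F) (O : Subgroup (GL (Fin 2) (ZMod p))) :
    (-1 : SpecialLinearGroup (Fin 2) F) ∈ liftGrp j O :=
  ⟨1, O.one_mem, -1, neg_ne_zero.mpr one_ne_zero, by simp⟩

theorem exists_pow_eq_one_of_mem [Fintype F] [CharP F p] (j : ZMod p →+* F)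
    (O : Subgroup (GL (Fin 2) (ZMod p))) (hO : ∀ g ∈ O, ∃ k : ℕ, ¬ p ∣ k ∧ g ^ k = 1)
    {s : SpecialLinearGroup (Fin 2) F} (hs : s ∈ liftGrp j O) : ∃ n : ℕ, ¬ p ∣ n ∧ s ^ n = 1 := by
  obtain ⟨g, hg, c, hc, hsg⟩ := hs
  obtain ⟨k, hk, hgk⟩ := hO g hg
  refine ⟨k * (Fintype.card F - 1), ?_, ?_⟩
  · intro hdvd
    rcases (Nat.Prime.dvd_mul Fact.out).mp hdvd with h | h
    · exact hk h
    · have hq : p ∣ Fintype.card F := by
        have : ((Fintype.card F : ℕ) : F) = 0 := Nat.cast_card_eq_zero F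
        exact (CharP.cast_eq_zero_iff F p _).mp this
      have hpos : 0 < Fintype.card F := Fintype.card_pos
      have h1 : Fintype.card F = (Fintype.card F - 1) + 1 := by omega
      rw [h1] at hq
      have : p ∣ 1 := (Nat.dvd_add_right h).mp hq
      exact (Fact.out : p.Prime).one_lt.ne' (Nat.dvd_one.mp this)
  · apply Subtype.ext
    rw [Matrix.SpecialLinearGroup.coe_pow, hsg, smul_pow, ← map_pow,
      ← Units.val_pow_eq_pow_val, pow_mul g, hgk, one_pow, Units.val_one, map_one, pow_mul',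
      FiniteField.pow_card_sub_one_eq_one c hc, one_pow, one_smul]
    rfl

end lift

section eigen

variable {F : Type*} [Field F]

theorem pow_mulVec_eigen {M : Matrix (Fin 2) (Fin 2) F} {w : Fin 2 → F} {μ : F}
    (h : M *ᵥ w = μ • w) (n : ℕ) : (M ^ n) *ᵥ w = μ ^ n • w := by
  induction n with
  | zero => simp
  | succ n ih =>
    rw [pow_succ, ← Matrix.mulVec_mulVec, h, Matrix.mulVec_smul, ih, smul_smul, pow_succ, mul_comm]

theorem eq_of_smul_eq_smul {w : Fin 2 → F} (hw : w ≠ 0) {a b : F} (h : a • w = b • w) : a = b := by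
  have h1 : (a - b) • w = 0 := by rw [sub_smul, h, sub_self]
  rcases smul_eq_zero.mp h1 with h2 | h2
  · exact sub_eq_zero.mp h2
  · exact absurd h2 hw

/-- If `s ^ n` is scalar and `s` has eigenvalue `μ` then `(μ ^ 2) ^ n = 1`. -/
theorem orderOf_dvd_of_sc_pow {s : SpecialLinearGroup (Fin 2) F} {w : Fin 2 → F} (hw : w ≠ 0)
    {μ : F} (h : (s : Matrix (Fin 2) (Fin 2) F) *ᵥ w = μ • w) (n : ℕ)
    (hsc : Emb.sc ((s ^ n : SpecialLinearGroup (Fin 2) F) : Matrix (Fin 2) (Fin 2) F)) :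
    orderOf (μ ^ 2) ∣ n := by
  apply orderOf_dvd_of_pow_eq_one
  have h1 := pow_mulVec_eigen h n
  rw [← Matrix.SpecialLinearGroup.coe_pow] at h1
  have h2 : μ ^ n = 1 ∨ μ ^ n = -1 := by
    rcases scalar_cases (s ^ n) hsc with h3 | h3
    · left
      rw [h3, Matrix.one_mulVec] at h1
      apply eq_of_smul_eq_smul hw
      rw [one_smul, ← h1]
    · right
      rw [h3, Matrix.neg_mulVec, Matrix.one_mulVec] at h1
      apply eq_of_smul_eq_smul hw
      rw [neg_smul, one_smul, ← h1]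
  rw [← pow_mul, mul_comm, pow_mul]
  rcases h2 with h2 | h2 <;> rw [h2] <;> ring

end eigen

end Cfsg.Agent.Lib.Helper21.RV
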