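/-
helper21: centralizer counts and commutation for subgroups of `SL₂(F)` with a common eigenvector.
-/
import Mathlib
import Cfsg.Agent.Lib.Helper21.RVLinB

set_option autoImplicit false

namespace Cfsg.Agent.Lib.Helper21.RV

open Matrix Subgroup Cfsg.Agent.Lib.Helper13 Cfsg.Agent.Lib.Helper13.Dk

section card

variable {F : Type*} [Field F] [Fintype F]

/-- The centralizer of an element with eigenvalue `μ` has at least `2 * orderOf (μ ^ 2)`
elements (powers of the element and their negatives). -/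
theorem two_mul_orderOf_le_card_centralizer (H : Subgroup (SpecialLinearGroup (Fin 2) F))
    (hneg : (-1 : SpecialLinearGroup (Fin 2) F) ∈ H) (h1 : (1 : F) ≠ -1) (s : H)
    (w : Fin 2 → F) (hw : w ≠ 0) (μ : F)
    (h : ((s : SpecialLinearGroup (Fin 2) F) : Matrix (Fin 2) (Fin 2) F) *ᵥ w = μ • w) :
    2 * orderOf (μ ^ 2) ≤ Nat.card (centralizer ({s} : Set H)) := by
  classical
  set m := orderOf (μ ^ 2) with hm
  rcases Nat.eq_zero_or_pos m with hm0 | hmpos
  · rw [hm0]; simp
  have hμ0 : μ ≠ 0 := by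
    intro h0
    have := pow_orderOf_eq_one (μ ^ 2)
    rw [← hm] at this
    rw [h0] at this
    simp [hmpos.ne'] at this
  let negOne : H := ⟨-1, hneg⟩
  have hcentral : ∀ x : H, Commute x negOne := by
    intro x
    apply Subtype.ext
    simp [negOne]
  let sgn : Bool → H := fun b => if b then negOne else 1
  let σ : Bool → F := fun b => if b then -1 else 1
  have hmem : ∀ (i : ℕ) (b : Bool), sgn b * s ^ i ∈ centralizer ({s} : Set H) := by
    intro i b
    rw [mem_centralizer_singleton_iff]
    have h1 : Commute s (sgn b) := by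
      cases b
      · exact Commute.one_right s
      · exact hcentral s
    have h2 : Commute s (s ^ i) := (Commute.refl s).pow_right i
    exact (h1.mul_right h2).eq.symm
  have hval : ∀ (i : ℕ) (b : Bool),
      (((sgn b * s ^ i : H) : SpecialLinearGroup (Fin 2) F) : Matrix (Fin 2) (Fin 2) F) *ᵥ w =
        (σ b * μ ^ i) • w := by
    intro i b
    have hp := pow_mulVec_eigen h i
    cases b
    · have : (((sgn false * s ^ i : H) : SpecialLinearGroup (Fin 2) F) :
          Matrix (Fin 2) (Fin 2) F) =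
          ((s : SpecialLinearGroup (Fin 2) F) : Matrix (Fin 2) (Fin 2) F) ^ i := by
        simp [sgn]
      rw [this, hp]
      simp [σ]
    · have : (((sgn true * s ^ i : H) : SpecialLinearGroup (Fin 2) F) :
          Matrix (Fin 2) (Fin 2) F) =
          -((s : SpecialLinearGroup (Fin 2) F) : Matrix (Fin 2) (Fin 2) F) ^ i := by
        simp [sgn, negOne]
      rw [this, Matrix.neg_mulVec, hp]
      simp [σ]
  let f : Fin m × Bool → centralizer ({s} : Set H) := fun ib =>
    ⟨sgn ib.2 * s ^ (ib.1 : ℕ), hmem _ _⟩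
  have hf : Function.Injective f := by
    rintro ⟨i, b⟩ ⟨i', b'⟩ heq
    have h3 : sgn b * s ^ (i : ℕ) = sgn b' * s ^ (i' : ℕ) := congrArg Subtype.val heq
    have h4 : (σ b * μ ^ (i : ℕ)) • w = (σ b' * μ ^ (i' : ℕ)) • w := by
      rw [← hval, ← hval, h3]
    have h5 := eq_of_smul_eq_smul hw h4
    have hσ : ∀ b : Bool, σ b ^ 2 = 1 := by
      intro b
      cases b <;> simp [σ]
    have h6 : (μ ^ 2) ^ (i : ℕ) = (μ ^ 2) ^ (i' : ℕ) := by
      have := congrArg (fun x => x ^ 2) h5
      simp only [mul_pow, hσ, one_mul] at this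
      rw [pow_right_comm μ 2 (i : ℕ), pow_right_comm μ 2 (i' : ℕ)]
      exact this
    have h7 : (i : ℕ) = (i' : ℕ) :=
      pow_injOn_Iio_orderOf (x := μ ^ 2) (Set.mem_Iio.mpr i.2) (Set.mem_Iio.mpr i'.2) h6
    have h8 : i = i' := Fin.ext h7
    subst h8
    have h9 : σ b = σ b' := mul_right_cancel₀ (pow_ne_zero _ hμ0) h5
    have h10 : b = b' := by
      cases b <;> cases b' <;> simp [σ] at h9 ⊢
      · exact h1 h9
      · exact h1 h9.symm
    rw [h10]
  have := Nat.card_le_card_of_injective f hf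
  rw [Nat.card_prod, Nat.card_fin, Nat.card_eq_fintype_card, Fintype.card_bool] at this
  omega

end card

section commute

variable {F : Type*} [Field F]

/-- Two elements of `SL₂(F)` with a common eigenvector commute, provided their commutator is
scalar once its trace squares to `4`. -/
theorem commute_of_common_eigen (h2 : (2 : F) ≠ 0) (s t : SpecialLinearGroup (Fin 2) F)
    (w : Fin 2 → F) (hw : w ≠ 0) (α β : F)
    (hs : (s : Matrix (Fin 2) (Fin 2) F) *ᵥ w = α • w)
    (ht : (t : Matrix (Fin 2) (Fin 2) F) *ᵥ w = β • w)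
    (hsc : ((s * t * s⁻¹ * t⁻¹ : SpecialLinearGroup (Fin 2) F) :
        Matrix (Fin 2) (Fin 2) F).trace ^ 2 = 4 →
      Emb.sc ((s * t * s⁻¹ * t⁻¹ : SpecialLinearGroup (Fin 2) F) : Matrix (Fin 2) (Fin 2) F)) :
    s * t = t * s := by
  set c : SpecialLinearGroup (Fin 2) F := s * t * s⁻¹ * t⁻¹ with hc
  have hα : α ≠ 0 := by
    intro h0
    rw [h0, zero_smul] at hs
    have hdet : (s : Matrix (Fin 2) (Fin 2) F).det ≠ 0 := by rw [s.2]; exact one_ne_zero
    exact hw (Matrix.eq_zero_of_mulVec_eq_zero hdet hs)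
  have hβ : β ≠ 0 := by
    intro h0
    rw [h0, zero_smul] at ht
    have hdet : (t : Matrix (Fin 2) (Fin 2) F).det ≠ 0 := by rw [t.2]; exact one_ne_zero
    exact hw (Matrix.eq_zero_of_mulVec_eq_zero hdet ht)
  have h3 : c * (t * s) = s * t := by rw [hc]; group
  have h4 : (c : Matrix (Fin 2) (Fin 2) F) *ᵥ ((α * β) • w) = (α * β) • w := by
    have e1 : ((t * s : SpecialLinearGroup (Fin 2) F) : Matrix (Fin 2) (Fin 2) F) *ᵥ w =
        (α * β) • w := by
      rw [Matrix.SpecialLinearGroup.coe_mul, ← Matrix.mulVec_mulVec, hs, Matrix.mulVec_smul, ht,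
        smul_smul]
    have e2 : ((s * t : SpecialLinearGroup (Fin 2) F) : Matrix (Fin 2) (Fin 2) F) *ᵥ w =
        (α * β) • w := by
      rw [Matrix.SpecialLinearGroup.coe_mul, ← Matrix.mulVec_mulVec, ht, Matrix.mulVec_smul, hs,
        smul_smul, mul_comm]
    rw [← e1, Matrix.mulVec_mulVec, ← Matrix.SpecialLinearGroup.coe_mul, h3, e2, e1]
  have h5 : (c : Matrix (Fin 2) (Fin 2) F) *ᵥ w = w := by
    rw [Matrix.mulVec_smul] at h4
    exact smul_right_injective _ (mul_ne_zero hα hβ) h4
  have h6 : (c : Matrix (Fin 2) (Fin 2) F).trace = 2 := trace_eq_two_of_fix c.2 hw h5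
  have h7 := hsc (by rw [h6]; norm_num)
  have h8 : c = 1 := by
    apply Subtype.ext
    rcases scalar_cases c h7 with h9 | h9
    · exact h9
    · exfalso
      rw [h9, Matrix.neg_mulVec, Matrix.one_mulVec] at h5
      have : (2 : F) • w = 0 := by
        rw [two_smul]
        nth_rewrite 1 [← h5]
        simp
      rcases smul_eq_zero.mp this with h10 | h10
      · exact h2 h10
      · exact hw h10
  have h11 : s * t * (t * s)⁻¹ = 1 := by
    rw [_root_.mul_inv_rev, ← mul_assoc]
    exact h8
  exact mul_inv_eq_one.mp h11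

end commute

end Cfsg.Agent.Lib.Helper21.RV
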