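/-
helper21: the linear-algebra core of the Ruiz–Viruel bounds: a `p'`-subgroup of `GL₂(p)` with
three radical lines.
-/
import Mathlib
import Cfsg.Agent.Lib.Helper21.RVLinC

set_option autoImplicit false

namespace Cfsg.Agent.Lib.Helper21.RV

open Matrix Subgroup Cfsg.Agent.Lib.Helper13 Cfsg.Agent.Lib.Helper13.Dk

section general

variable {F : Type*} [Field F] {G : Type*} [Group G]

theorem card_center_le_two [Finite G] (S : Emb F G) (hna : ∃ x y : G, x * y ≠ y * x) :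
    Nat.card (center G) ≤ 2 := by
  classical
  let φ : center G → Bool := fun z => decide (S.m z.1 = 1)
  have hφ : Function.Injective φ := by
    intro z z' h
    apply Subtype.ext
    apply S.m_injective
    have hz := S.m_eq_of_sc ((S.mem_center_iff_sc hna z.1).mp z.2)
    have hz' := S.m_eq_of_sc ((S.mem_center_iff_sc hna z'.1).mp z'.2)
    by_cases h1 : S.m z.1 = 1
    · have : S.m z'.1 = 1 := by
        have h2 : φ z = true := by simp [φ, h1]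
        rw [h] at h2
        simpa [φ] using h2
      rw [h1, this]
    · have h3 : ¬ S.m z'.1 = 1 := by
        intro h4
        have h2 : φ z' = true := by simp [φ, h4]
        rw [← h] at h2
        exact h1 (by simpa [φ] using h2)
      rw [hz.resolve_left h1, hz'.resolve_left h3]
  have := Nat.card_le_card_of_injective φ hφ
  have hb : Nat.card Bool = 2 := by rw [Nat.card_eq_fintype_card, Fintype.card_bool]
  rwa [hb] at this

end general

section core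

variable {p : ℕ} [Fact p.Prime] {F : Type*} [Field F] [Fintype F] [CharP F p]

/-- the tautological embedding of the lifted group -/
def liftEmb (j : ZMod p →+* F) (O : Subgroup (GL (Fin 2) (ZMod p))) : Emb F (liftGrp j O) :=
  ⟨(liftGrp j O).subtype, Subgroup.subtype_injective _⟩

omit [Fintype F] [CharP F p] in
theorem liftEmb_m (j : ZMod p →+* F) (O : Subgroup (GL (Fin 2) (ZMod p))) (y : liftGrp j O) :
    (liftEmb j O).m y = ((y : SpecialLinearGroup (Fin 2) F) : Matrix (Fin 2) (Fin 2) F) := rfl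

theorem liftEmb_hss (hp2 : p ≠ 2) (j : ZMod p →+* F) (O : Subgroup (GL (Fin 2) (ZMod p)))
    (hO : ∀ g ∈ O, ∃ k : ℕ, ¬ p ∣ k ∧ g ^ k = 1) :
    ∀ y : liftGrp j O, ¬ Emb.sc ((liftEmb j O).m y) → (liftEmb j O).tr y ^ 2 ≠ 4 := by
  intro y hy htr
  obtain ⟨n, hn, hyn⟩ := exists_pow_eq_one_of_mem j O hO y.2
  exact hy (sc_of_pow_of_trace_sq hp2 (y : SpecialLinearGroup (Fin 2) F) n hn hyn htr)

/-- The core case analysis: three elements with pairwise independent eigenvectors for an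
eigenvalue `μ` with `μ ^ 2` of order at least `3` force one of the three exceptional types. -/
theorem core (hp2 : p ≠ 2) (j : ZMod p →+* F) (O : Subgroup (GL (Fin 2) (ZMod p)))
    (hO : ∀ g ∈ O, ∃ k : ℕ, ¬ p ∣ k ∧ g ^ k = 1) (μ : F) (hm3 : 3 ≤ orderOf (μ ^ 2))
    (s₁ s₂ s₃ : liftGrp j O) (w₁ w₂ w₃ : Fin 2 → F)
    (h₁ : ((s₁ : SpecialLinearGroup (Fin 2) F) : Matrix (Fin 2) (Fin 2) F) *ᵥ w₁ = μ • w₁)
    (h₂ : ((s₂ : SpecialLinearGroup (Fin 2) F) : Matrix (Fin 2) (Fin 2) F) *ᵥ w₂ = μ • w₂)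
    (h₃ : ((s₃ : SpecialLinearGroup (Fin 2) F) : Matrix (Fin 2) (Fin 2) F) *ᵥ w₃ = μ • w₃)
    (d₁₂ : w₁ 0 * w₂ 1 - w₂ 0 * w₁ 1 ≠ 0) (d₁₃ : w₁ 0 * w₃ 1 - w₃ 0 * w₁ 1 ≠ 0)
    (d₂₃ : w₂ 0 * w₃ 1 - w₃ 0 * w₂ 1 ≠ 0) :
    ∃ n b : ℕ, (n = 12 ∧ b = 3 ∨ n = 24 ∧ b = 4 ∨ n = 60 ∧ b = 5) ∧
      Nat.card (liftGrp j O) = Nat.card (center (liftGrp j O)) * n ∧
      ∀ y : liftGrp j O, ¬ Emb.sc ((liftEmb j O).m y) →
        Nat.card (centralizer ({y} : Set (liftGrp j O))) ≤ 2 * b := by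
  set S := liftEmb j O with hS
  have hss := liftEmb_hss hp2 j O hO
  have hw₁ : w₁ ≠ 0 := by
    intro h; apply d₁₂; rw [h]; simp
  have hw₂ : w₂ ≠ 0 := by
    intro h; apply d₁₂; rw [h]; simp
  have hw₃ : w₃ ≠ 0 := by
    intro h; apply d₁₃; rw [h]; simp
  -- the squares are nonscalar
  have hnsc : ∀ (s : liftGrp j O) (w : Fin 2 → F), w ≠ 0 →
      ((s : SpecialLinearGroup (Fin 2) F) : Matrix (Fin 2) (Fin 2) F) *ᵥ w = μ • w →
      ¬ Emb.sc (S.m (s ^ 2)) := by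
    intro s w hw h hsc
    have h1 : orderOf (μ ^ 2) ∣ 2 := orderOf_dvd_of_sc_pow hw h 2 hsc
    have := Nat.le_of_dvd (by norm_num) h1
    omega
  have heig : ∀ (s : liftGrp j O) (w : Fin 2 → F),
      ((s : SpecialLinearGroup (Fin 2) F) : Matrix (Fin 2) (Fin 2) F) *ᵥ w = μ • w →
      S.m (s ^ 2) *ᵥ w = μ ^ 2 • w := by
    intro s w h
    have := pow_mulVec_eigen h 2
    rw [← Matrix.SpecialLinearGroup.coe_pow] at this
    exact this
  -- the key obstruction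
  have key : ¬ (Commute (s₁ ^ 2) (s₂ ^ 2) ∧ Commute (s₁ ^ 2) (s₃ ^ 2)) := by
    rintro ⟨c₂, c₃⟩
    have e₂ : S.m (s₁ ^ 2) * S.m (s₂ ^ 2) = S.m (s₂ ^ 2) * S.m (s₁ ^ 2) :=
      (S.commute_iff _ _).mp c₂
    have e₃ : S.m (s₁ ^ 2) * S.m (s₃ ^ 2) = S.m (s₃ ^ 2) * S.m (s₁ ^ 2) :=
      (S.commute_iff _ _).mp c₃
    obtain ⟨ν₂, hν₂⟩ := eigen_of_commute (S.m (s₂ ^ 2)) (S.m (s₁ ^ 2)) (hnsc s₂ w₂ hw₂ h₂) e₂ w₂ _
      (heig s₂ w₂ h₂)
    obtain ⟨ν₃, hν₃⟩ := eigen_of_commute (S.m (s₃ ^ 2)) (S.m (s₁ ^ 2)) (hnsc s₃ w₃ hw₃ h₃) e₃ w₃ _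
      (heig s₃ w₃ h₃)
    exact hnsc s₁ w₁ hw₁ h₁ (sc_of_three_eigen (S.m (s₁ ^ 2)) w₁ w₂ w₃ _ _ _ (heig s₁ w₁ h₁) hν₂ hν₃
      d₁₂ d₁₃ d₂₃)
  have hna : ∃ x y : liftGrp j O, x * y ≠ y * x := by
    by_contra h
    push Not at h
    exact key ⟨h _ _, h _ _⟩
  have hZ := card_center_le_two S hna
  have hsmall : ∀ n b : ℕ, Small (liftGrp j O) n b →
      Nat.card (liftGrp j O) = Nat.card (center (liftGrp j O)) * n ∧
      ∀ y : liftGrp j O, ¬ Emb.sc (S.m y) →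
        Nat.card (centralizer ({y} : Set (liftGrp j O))) ≤ 2 * b := by
    intro n b h
    refine ⟨h.1, ?_⟩
    intro y hy
    have hyZ : y ∉ center (liftGrp j O) := fun hc => hy ((S.mem_center_iff_sc hna y).mp hc)
    calc Nat.card (centralizer ({y} : Set (liftGrp j O)))
        ≤ Nat.card (center (liftGrp j O)) * b := h.2 y hyZ
      _ ≤ 2 * b := Nat.mul_le_mul_right b hZ
  rcases S.caseI hna hss with hD | h | h | ⟨h, -⟩
  · exfalso
    obtain ⟨g, hgtr, hgcard⟩ := hD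
    have hidx : (centralizer ({g} : Set (liftGrp j O))).index = 2 := by
      have h1 := Subgroup.card_mul_index (centralizer ({g} : Set (liftGrp j O)))
      rw [← hgcard] at h1
      exact Nat.eq_of_mul_eq_mul_left Nat.card_pos h1
    have hgsc : ¬ Emb.sc (S.m g) := S.sc_of_tr_sq hgtr
    have hcomm : ∀ x : liftGrp j O, Commute (x ^ 2) g := by
      intro x
      have := Subgroup.sq_mem_of_index_two hidx x
      exact mem_centralizer_singleton_iff.mp this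
    exact key ⟨S.caz' hgsc (hcomm s₁) (hcomm s₂), S.caz' hgsc (hcomm s₁) (hcomm s₃)⟩
  · exact ⟨12, 3, Or.inl ⟨rfl, rfl⟩, hsmall 12 3 h⟩
  · exact ⟨24, 4, Or.inr (Or.inl ⟨rfl, rfl⟩), hsmall 24 4 h⟩
  · exact ⟨60, 5, Or.inr (Or.inr ⟨rfl, rfl⟩), hsmall 60 5 h⟩

end core

end Cfsg.Agent.Lib.Helper21.RV
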