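/-
helper21: radical vectors for a `p'`-subgroup of `GL₂(p)` and the resulting bounds.
-/
import Mathlib
import Cfsg.Agent.Lib.Helper21.RVLinD

set_option autoImplicit false

namespace Cfsg.Agent.Lib.Helper21.RV

open Matrix Subgroup Cfsg.Agent.Lib.Helper13 Cfsg.Agent.Lib.Helper13.Dk

section rad

variable {p : ℕ} [Fact p.Prime]

/-- `v` is radical with respect to the unit `lam`: some element of `O` has eigenvalue `lam⁻¹` on
`v` and determinant `lam`. -/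
def IsRad (O : Subgroup (GL (Fin 2) (ZMod p))) (lam : (ZMod p)ˣ) (v : Fin 2 → ZMod p) : Prop :=
  ∃ g ∈ O, ((g : GL (Fin 2) (ZMod p)) : Matrix (Fin 2) (Fin 2) (ZMod p)) *ᵥ v =
      ((lam⁻¹ : (ZMod p)ˣ) : ZMod p) • v ∧
    ((g : GL (Fin 2) (ZMod p)) : Matrix (Fin 2) (Fin 2) (ZMod p)).det = (lam : ZMod p)

variable {F : Type*} [Field F]

theorem map_mulVec_comp (j : ZMod p →+* F) (M : Matrix (Fin 2) (Fin 2) (ZMod p))
    (v : Fin 2 → ZMod p) : j.mapMatrix M *ᵥ (j ∘ v) = j ∘ (M *ᵥ v) := by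
  ext i
  rw [RingHom.mapMatrix_apply, ← RingHom.map_mulVec]
  rfl

theorem comp_smul (j : ZMod p →+* F) (a : ZMod p) (v : Fin 2 → ZMod p) :
    j ∘ (a • v) = j a • (j ∘ v) := by
  ext i
  simp

/-- A radical vector gives an element of the lifted group with a prescribed eigenvalue. -/
theorem exists_elt_of_isRad (j : ZMod p →+* F) (O : Subgroup (GL (Fin 2) (ZMod p)))
    (lam : (ZMod p)ˣ) (c : F) (hc : c * c = j ((lam⁻¹ : (ZMod p)ˣ) : ZMod p))
    (v : Fin 2 → ZMod p) (hv : IsRad O lam v) :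
    ∃ s : liftGrp j O, ((s : SpecialLinearGroup (Fin 2) F) : Matrix (Fin 2) (Fin 2) F) *ᵥ (j ∘ v) =
      (c * j ((lam⁻¹ : (ZMod p)ˣ) : ZMod p)) • (j ∘ v) := by
  obtain ⟨g, hg, hgv, hdet⟩ := hv
  have hc0 : c ≠ 0 := by
    intro h0
    rw [h0, mul_zero] at hc
    have : ((lam⁻¹ : (ZMod p)ˣ) : ZMod p) = 0 := j.injective (by rw [← hc, map_zero])
    exact (lam⁻¹).ne_zero this
  set M : Matrix (Fin 2) (Fin 2) F :=
    c • j.mapMatrix ((g : GL (Fin 2) (ZMod p)) : Matrix (Fin 2) (Fin 2) (ZMod p)) with hM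
  have hMdet : M.det = 1 := by
    rw [hM, Matrix.det_smul, ← RingHom.map_det, hdet, Fintype.card_fin, pow_two, hc, ← map_mul,
      ← Units.val_mul, inv_mul_cancel, Units.val_one, map_one]
  refine ⟨⟨⟨M, hMdet⟩, ⟨g, hg, c, hc0, rfl⟩⟩, ?_⟩
  show M *ᵥ (j ∘ v) = _
  rw [hM, Matrix.smul_mulVec, map_mulVec_comp, hgv, comp_smul, smul_smul]

theorem orderOf_eigen_sq (j : ZMod p →+* F) (lam : (ZMod p)ˣ) (c : F)
    (hc : c * c = j ((lam⁻¹ : (ZMod p)ˣ) : ZMod p)) :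
    orderOf ((c * j ((lam⁻¹ : (ZMod p)ˣ) : ZMod p)) ^ 2) = orderOf (lam ^ 3) := by
  have h1 : (c * j ((lam⁻¹ : (ZMod p)ˣ) : ZMod p)) ^ 2 =
      j ((((lam ^ 3)⁻¹ : (ZMod p)ˣ)) : ZMod p) := by
    calc (c * j ((lam⁻¹ : (ZMod p)ˣ) : ZMod p)) ^ 2
        = (c * c) * j ((lam⁻¹ : (ZMod p)ˣ) : ZMod p) ^ 2 := by ring
      _ = j (((lam⁻¹ : (ZMod p)ˣ) : ZMod p) ^ 3) := by rw [hc, map_pow]; ring
      _ = j ((((lam ^ 3)⁻¹ : (ZMod p)ˣ)) : ZMod p) := by
          rw [← Units.val_pow_eq_pow_val, inv_pow]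
  rw [h1]
  have h2 : orderOf (j ((((lam ^ 3)⁻¹ : (ZMod p)ˣ)) : ZMod p)) =
      orderOf ((((lam ^ 3)⁻¹ : (ZMod p)ˣ)) : ZMod p) :=
    orderOf_injective (j : ZMod p →* F) j.injective _
  rw [h2, orderOf_units, orderOf_inv]

end rad

section main

variable {p : ℕ} [Fact p.Prime] {F : Type*} [Field F] [Fintype F] [CharP F p]

omit [Fintype F] [CharP F p] in
/-- independence is preserved by the field embedding -/
theorem indep_comp (j : ZMod p →+* F) (v v' : Fin 2 → ZMod p)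
    (h : v 0 * v' 1 - v' 0 * v 1 ≠ 0) :
    (j ∘ v) 0 * (j ∘ v') 1 - (j ∘ v') 0 * (j ∘ v) 1 ≠ 0 := by
  intro h0
  apply h
  apply j.injective
  simp only [Function.comp_apply] at h0
  rw [map_sub, map_mul, map_mul, h0, map_zero]

/-- **Three radical lines**: the cube of the unit has order at most `5`. -/
theorem orderOf_le_five_of_three_rad (hp2 : p ≠ 2) (j : ZMod p →+* F)
    (hsq : ∀ a : ZMod p, ∃ c : F, c * c = j a)
    (O : Subgroup (GL (Fin 2) (ZMod p))) (hO : ∀ g ∈ O, ∃ k : ℕ, ¬ p ∣ k ∧ g ^ k = 1)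
    (lam : (ZMod p)ˣ) (v₁ v₂ v₃ : Fin 2 → ZMod p)
    (d₁₂ : v₁ 0 * v₂ 1 - v₂ 0 * v₁ 1 ≠ 0) (d₁₃ : v₁ 0 * v₃ 1 - v₃ 0 * v₁ 1 ≠ 0)
    (d₂₃ : v₂ 0 * v₃ 1 - v₃ 0 * v₂ 1 ≠ 0)
    (r₁ : IsRad O lam v₁) (r₂ : IsRad O lam v₂) (r₃ : IsRad O lam v₃) :
    orderOf (lam ^ 3) ≤ 5 := by
  obtain ⟨c, hc⟩ := hsq ((lam⁻¹ : (ZMod p)ˣ) : ZMod p)
  set μ : F := c * j ((lam⁻¹ : (ZMod p)ˣ) : ZMod p) with hμ
  have hord := orderOf_eigen_sq j lam c hc
  rw [← hμ] at hord
  by_contra hcon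
  push Not at hcon
  obtain ⟨s₁, h₁⟩ := exists_elt_of_isRad j O lam c hc v₁ r₁
  obtain ⟨s₂, h₂⟩ := exists_elt_of_isRad j O lam c hc v₂ r₂
  obtain ⟨s₃, h₃⟩ := exists_elt_of_isRad j O lam c hc v₃ r₃
  have hm3 : 3 ≤ orderOf (μ ^ 2) := by rw [hord]; omega
  obtain ⟨n, b, hnb, -, hsmall⟩ := core hp2 j O hO μ hm3 s₁ s₂ s₃ _ _ _ h₁ h₂ h₃
    (indep_comp j _ _ d₁₂) (indep_comp j _ _ d₁₃) (indep_comp j _ _ d₂₃)
  have hw₁ : j ∘ v₁ ≠ 0 := by
    intro h
    apply indep_comp j _ _ d₁₂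
    rw [h]; simp
  have hnsc : ¬ Emb.sc ((liftEmb j O).m s₁) := by
    intro hsc
    have h1 : orderOf (μ ^ 2) ∣ 1 := by
      apply orderOf_dvd_of_sc_pow hw₁ h₁ 1
      rw [pow_one]
      exact hsc
    have := Nat.le_of_dvd (by norm_num) h1
    omega
  have hle := hsmall s₁ hnsc
  have h11 : (1 : F) ≠ -1 := by
    intro h
    have : (2 : F) = 0 := by linear_combination h
    exact two_ne_zero_of_odd (F := F) (Fact.out : p.Prime) hp2 this
  have hge := two_mul_orderOf_le_card_centralizer (liftGrp j O) (neg_one_mem_liftGrp j O) h11 s₁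
    (j ∘ v₁) hw₁ μ h₁
  rw [hord] at hge
  rcases hnb with ⟨-, rfl⟩ | ⟨-, rfl⟩ | ⟨-, rfl⟩ <;> omega

/-- A `2 × 2` matrix whose cube is scalar has an eigenvector, in the presence of a primitive
cube root of unity. -/
theorem exists_eigen_of_cube_scalar {K : Type*} [Field K] (M : Matrix (Fin 2) (Fin 2) K)
    (h01 : (M ^ 3) 0 1 = 0) (h10 : (M ^ 3) 1 0 = 0) (hd : (M ^ 3) 0 0 = (M ^ 3) 1 1)
    (ω : K) (hω : ω ^ 2 + ω + 1 = 0) :
    ∃ v : Fin 2 → K, v ≠ 0 ∧ ∃ ν : K, M *ᵥ v = ν • v := by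
  set t := M 0 0 + M 1 1 with ht
  set d := M 0 0 * M 1 1 - M 0 1 * M 1 0 with hd'
  have e01 : (M ^ 3) 0 1 = (t ^ 2 - d) * M 0 1 := by
    simp [pow_succ, Matrix.mul_apply, Fin.sum_univ_two, ht, hd']
    ring
  have e10 : (M ^ 3) 1 0 = (t ^ 2 - d) * M 1 0 := by
    simp [pow_succ, Matrix.mul_apply, Fin.sum_univ_two, ht, hd']
    ring
  have e00 : (M ^ 3) 0 0 - (M ^ 3) 1 1 = (t ^ 2 - d) * (M 0 0 - M 1 1) := by
    simp [pow_succ, Matrix.mul_apply, Fin.sum_univ_two, ht, hd']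
    ring
  by_cases hsc : M 0 1 = 0 ∧ M 1 0 = 0 ∧ M 0 0 = M 1 1
  · refine ⟨![1, 0], ?_, M 0 0, ?_⟩
    · intro h
      have := congrFun h 0
      simp at this
    · apply eigen_of_components
      · simp
      · simp [hsc.2.1]
  · have htd : t ^ 2 - d = 0 := by
      by_contra hne
      apply hsc
      refine ⟨?_, ?_, ?_⟩
      · rw [e01] at h01
        exact (mul_eq_zero.mp h01).resolve_left hne
      · rw [e10] at h10
        exact (mul_eq_zero.mp h10).resolve_left hne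
      · have : (t ^ 2 - d) * (M 0 0 - M 1 1) = 0 := by rw [← e00, hd, sub_self]
        exact sub_eq_zero.mp ((mul_eq_zero.mp this).resolve_left hne)
    have hdet0 : (M - (-ω * t) • (1 : Matrix (Fin 2) (Fin 2) K)).det = 0 := by
      rw [Matrix.det_fin_two]
      simp only [Matrix.sub_apply, Matrix.smul_apply, smul_eq_mul, Matrix.one_apply_eq,
        Matrix.one_apply_ne (show (0 : Fin 2) ≠ 1 by decide),
        Matrix.one_apply_ne (show (1 : Fin 2) ≠ 0 by decide), mul_zero, sub_zero, mul_one]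
      linear_combination (-1 : K) * htd + t ^ 2 * hω
    obtain ⟨v, hv, hMv⟩ := Matrix.exists_mulVec_eq_zero_iff.mpr hdet0
    refine ⟨v, hv, -ω * t, ?_⟩
    rw [Matrix.sub_mulVec, Matrix.smul_mulVec, Matrix.one_mulVec] at hMv
    exact sub_eq_zero.mp hMv

/-- **All lines radical, `p = 13`**: impossible. -/
theorem false_of_all_rad_thirteen (hp13 : p = 13) (j : ZMod p →+* F)
    (hsq : ∀ a : ZMod p, ∃ c : F, c * c = j a)
    (O : Subgroup (GL (Fin 2) (ZMod p))) (hO : ∀ g ∈ O, ∃ k : ℕ, ¬ p ∣ k ∧ g ^ k = 1)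
    (lam : (ZMod p)ˣ) (hlam : orderOf (lam ^ 3) = 4)
    (hall : ∀ v : Fin 2 → ZMod p, v ≠ 0 → IsRad O lam v) : False := by
  have hp2 : p ≠ 2 := by omega
  obtain ⟨c, hc⟩ := hsq ((lam⁻¹ : (ZMod p)ˣ) : ZMod p)
  set μ : F := c * j ((lam⁻¹ : (ZMod p)ˣ) : ZMod p) with hμ
  have hord := orderOf_eigen_sq j lam c hc
  rw [← hμ, hlam] at hord
  have h2F : (2 : F) ≠ 0 := two_ne_zero_of_odd (F := F) (Fact.out : p.Prime) hp2
  have hv₁ : (![1, 0] : Fin 2 → ZMod p) ≠ 0 := by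
    intro h
    have := congrFun h 0
    simp at this
  have hv₂ : (![0, 1] : Fin 2 → ZMod p) ≠ 0 := by
    intro h
    have := congrFun h 1
    simp at this
  have hv₃ : (![1, 1] : Fin 2 → ZMod p) ≠ 0 := by
    intro h
    have := congrFun h 0
    simp at this
  obtain ⟨s₁, h₁⟩ := exists_elt_of_isRad j O lam c hc _ (hall _ hv₁)
  obtain ⟨s₂, h₂⟩ := exists_elt_of_isRad j O lam c hc _ (hall _ hv₂)
  obtain ⟨s₃, h₃⟩ := exists_elt_of_isRad j O lam c hc _ (hall _ hv₃)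
  have hm3 : 3 ≤ orderOf (μ ^ 2) := by rw [hord]; norm_num
  obtain ⟨n, b, hnb, hcard, hsmall⟩ := core hp2 j O hO μ hm3 s₁ s₂ s₃ _ _ _ h₁ h₂ h₃
    (indep_comp j _ _ (by simp)) (indep_comp j _ _ (by simp)) (indep_comp j _ _ (by simp))
  -- an element of order three
  have h3 : 3 ∣ Nat.card (liftGrp j O) := by
    rw [hcard]
    apply Dvd.dvd.mul_left
    rcases hnb with ⟨rfl, -⟩ | ⟨rfl, -⟩ | ⟨rfl, -⟩ <;> norm_num
  have : Fact (Nat.Prime 3) := ⟨Nat.prime_three⟩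
  obtain ⟨y, hy3⟩ := exists_prime_orderOf_dvd_card' 3 h3
  obtain ⟨g, hg, c', hc', hyg⟩ := y.2
  set Mg : Matrix (Fin 2) (Fin 2) (ZMod p) :=
    ((g : GL (Fin 2) (ZMod p)) : Matrix (Fin 2) (Fin 2) (ZMod p)) with hMg
  have hy1 : ((y : SpecialLinearGroup (Fin 2) F) : Matrix (Fin 2) (Fin 2) F) ^ 3 = 1 := by
    have h4 : y ^ 3 = 1 := by rw [← hy3]; exact pow_orderOf_eq_one y
    have h5 : (y : SpecialLinearGroup (Fin 2) F) ^ 3 = 1 := by
      have := congrArg Subtype.val h4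
      simpa using this
    have h6 := congrArg (fun x : SpecialLinearGroup (Fin 2) F => (x : Matrix (Fin 2) (Fin 2) F)) h5
    simpa using h6
  have hN : c' ^ 3 • j.mapMatrix (Mg ^ 3) = 1 := by
    rw [map_pow, ← smul_pow, ← hyg]
    exact hy1
  have hc3 : c' ^ 3 ≠ 0 := pow_ne_zero 3 hc'
  have hentry : ∀ a b : Fin 2, c' ^ 3 * j ((Mg ^ 3) a b) = (1 : Matrix (Fin 2) (Fin 2) F) a b := by
    intro a b
    have := congrFun (congrFun hN a) b
    simpa [RingHom.mapMatrix_apply] using this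
  have h01 : (Mg ^ 3) 0 1 = 0 := by
    have := hentry 0 1
    rw [Matrix.one_apply_ne (show (0 : Fin 2) ≠ 1 by decide)] at this
    apply j.injective
    rw [map_zero]
    exact (mul_eq_zero.mp this).resolve_left hc3
  have h10 : (Mg ^ 3) 1 0 = 0 := by
    have := hentry 1 0
    rw [Matrix.one_apply_ne (show (1 : Fin 2) ≠ 0 by decide)] at this
    apply j.injective
    rw [map_zero]
    exact (mul_eq_zero.mp this).resolve_left hc3
  have hdd : (Mg ^ 3) 0 0 = (Mg ^ 3) 1 1 := by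
    have e0 := hentry 0 0
    have e1 := hentry 1 1
    rw [Matrix.one_apply_eq] at e0 e1
    apply j.injective
    exact mul_left_cancel₀ hc3 (e0.trans e1.symm)
  have hω : (3 : ZMod p) ^ 2 + 3 + 1 = 0 := by
    have h13 : ((13 : ℕ) : ZMod p) = 0 := by
      rw [← hp13]
      exact ZMod.natCast_self p
    push_cast at h13
    linear_combination h13
  obtain ⟨v, hv, ν, hν⟩ := exists_eigen_of_cube_scalar Mg h01 h10 hdd 3 hω
  have hjv : j ∘ v ≠ 0 := by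
    intro h
    apply hv
    ext i
    have := congrFun h i
    simp only [Function.comp_apply, Pi.zero_apply] at this
    show v i = 0
    exact j.injective (by rw [this, map_zero])
  have hyv : ((y : SpecialLinearGroup (Fin 2) F) : Matrix (Fin 2) (Fin 2) F) *ᵥ (j ∘ v) =
      (c' * j ν) • (j ∘ v) := by
    rw [hyg, Matrix.smul_mulVec, map_mulVec_comp, hν, comp_smul, smul_smul]
  obtain ⟨sv, hsv⟩ := exists_elt_of_isRad j O lam c hc v (hall v hv)
  -- `y` and `sv` commute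
  have hcomm : (y : SpecialLinearGroup (Fin 2) F) * sv = sv * y := by
    apply commute_of_common_eigen h2F _ _ (j ∘ v) hjv _ _ hyv hsv
    intro htr
    by_contra hsc
    exact liftEmb_hss hp2 j O hO (y * sv * y⁻¹ * sv⁻¹) hsc htr
  have hymem : y ∈ centralizer ({sv} : Set (liftGrp j O)) := by
    rw [mem_centralizer_singleton_iff]
    apply Subtype.ext
    exact hcomm
  have hnsc : ¬ Emb.sc ((liftEmb j O).m sv) := by
    intro hsc
    have h1 : orderOf (μ ^ 2) ∣ 1 := by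
      apply orderOf_dvd_of_sc_pow hjv hsv 1
      rw [pow_one]
      exact hsc
    rw [hord] at h1
    norm_num at h1
  have hle := hsmall sv hnsc
  have hd3 : 3 ∣ Nat.card (centralizer ({sv} : Set (liftGrp j O))) := by
    have := orderOf_dvd_natCard (⟨y, hymem⟩ : centralizer ({sv} : Set (liftGrp j O)))
    rwa [← Subgroup.orderOf_coe, hy3] at this
  have hd4 : 4 ∣ Nat.card (centralizer ({sv} : Set (liftGrp j O))) := by
    have hsvmem : sv ∈ centralizer ({sv} : Set (liftGrp j O)) := by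
      rw [mem_centralizer_singleton_iff]
    have h5 := orderOf_dvd_natCard (⟨sv, hsvmem⟩ : centralizer ({sv} : Set (liftGrp j O)))
    rw [← Subgroup.orderOf_coe] at h5
    have h6 : orderOf (μ ^ 2) ∣ orderOf sv := by
      rw [← Subgroup.orderOf_coe]
      apply orderOf_dvd_of_sc_pow hjv hsv
      rw [pow_orderOf_eq_one]
      exact ⟨by simp, by simp, by simp⟩
    rw [hord] at h6
    exact h6.trans h5
  have h12 : 12 ∣ Nat.card (centralizer ({sv} : Set (liftGrp j O))) :=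
    Nat.Coprime.mul_dvd_of_dvd_of_dvd (by norm_num : Nat.Coprime 3 4) hd3 hd4
  have hpos : 0 < Nat.card (centralizer ({sv} : Set (liftGrp j O))) := Nat.card_pos
  have := Nat.le_of_dvd hpos h12
  rcases hnb with ⟨-, rfl⟩ | ⟨-, rfl⟩ | ⟨-, rfl⟩ <;> omega

end main

end Cfsg.Agent.Lib.Helper21.RV
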