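/-
helper21: the Ruiz–Viruel bounds for `p'`-subgroups of `GL₂(p)` with radical lines, field-free form.
-/
import Mathlib
import Cfsg.Agent.Lib.Helper13.PSL2Subfield
import Cfsg.Agent.Lib.Helper21.RVLinE

set_option autoImplicit false

namespace Cfsg.Agent.Lib.Helper21.RV

open Matrix Subgroup Cfsg.Agent.Lib.Helper13

section final

variable (p : ℕ) [Fact p.Prime]

/-- a finite field of characteristic `p` in which every element of the prime field is a square -/
theorem exists_sqrt_field (hp2 : p ≠ 2) :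
    ∃ (F : Type) (_ : Field F) (_ : Fintype F) (_ : CharP F p) (j : ZMod p →+* F),
      ∀ a : ZMod p, ∃ c : F, c * c = j a := by
  let _ : Fintype (GaloisField p 2) := Fintype.ofFinite _
  refine ⟨GaloisField p 2, inferInstance, inferInstance, inferInstance,
    algebraMap (ZMod p) (GaloisField p 2), ?_⟩
  intro a
  by_cases ha : a = 0
  · exact ⟨0, by simp [ha]⟩
  · have hcard : Fintype.card (ZMod p) ^ 2 = Fintype.card (GaloisField p 2) := by
      rw [ZMod.card, ← Nat.card_eq_fintype_card, GaloisField.card p 2 (by norm_num)]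
    have hodd : Odd (Fintype.card (GaloisField p 2)) := by
      rw [← hcard, ZMod.card]
      exact Odd.pow ((Fact.out : p.Prime).odd_of_ne_two hp2)
    exact exists_sq_of_even (algebraMap (ZMod p) (GaloisField p 2)) 2 hcard hodd (by norm_num)
      (by decide) a ha

/-- a generator of the unit group of `ZMod p` -/
theorem exists_unit_generator : ∃ lam : (ZMod p)ˣ, orderOf lam = p - 1 := by
  obtain ⟨g, hg⟩ := IsCyclic.exists_generator (α := (ZMod p)ˣ)
  refine ⟨g, ?_⟩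
  rw [orderOf_eq_card_of_forall_mem_zpowers hg, Nat.card_eq_fintype_card, ZMod.card_units]

variable {p}

theorem orderOf_cube_of_generator (lam : (ZMod p)ˣ) (hlam : orderOf lam = p - 1) :
    orderOf (lam ^ 3) = (p - 1) / Nat.gcd (p - 1) 3 := by
  rw [orderOf_pow' lam (by norm_num), hlam]

/-- **Three radical lines force `p ≤ 13`.** -/
theorem le_thirteen_of_three_rad (hp2 : p ≠ 2)
    (O : Subgroup (GL (Fin 2) (ZMod p))) (hO : ∀ g ∈ O, ∃ k : ℕ, ¬ p ∣ k ∧ g ^ k = 1)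
    (lam : (ZMod p)ˣ) (hlam : orderOf lam = p - 1) (v₁ v₂ v₃ : Fin 2 → ZMod p)
    (d₁₂ : v₁ 0 * v₂ 1 - v₂ 0 * v₁ 1 ≠ 0) (d₁₃ : v₁ 0 * v₃ 1 - v₃ 0 * v₁ 1 ≠ 0)
    (d₂₃ : v₂ 0 * v₃ 1 - v₃ 0 * v₂ 1 ≠ 0)
    (r₁ : IsRad O lam v₁) (r₂ : IsRad O lam v₂) (r₃ : IsRad O lam v₃) :
    p ≤ 13 ∧ p ≠ 11 := by
  obtain ⟨F, _, _, _, j, hsq⟩ := exists_sqrt_field p hp2
  have h5 := orderOf_le_five_of_three_rad hp2 j hsq O hO lam v₁ v₂ v₃ d₁₂ d₁₃ d₂₃ r₁ r₂ r₃
  rw [orderOf_cube_of_generator lam hlam] at h5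
  have hpp : p.Prime := Fact.out
  have hg : Nat.gcd (p - 1) 3 ∣ 3 := Nat.gcd_dvd_right _ _
  have hg' : Nat.gcd (p - 1) 3 ∣ p - 1 := Nat.gcd_dvd_left _ _
  have hgle : Nat.gcd (p - 1) 3 ≤ 3 := Nat.le_of_dvd (by norm_num) hg
  have hgpos : 0 < Nat.gcd (p - 1) 3 := Nat.gcd_pos_of_pos_right _ (by norm_num)
  obtain ⟨q, hq⟩ := hg'
  have hdiv : (p - 1) / Nat.gcd (p - 1) 3 = q := Nat.div_eq_of_eq_mul_right hgpos hq
  rw [hdiv] at h5
  have h16 : p ≤ 16 := by
    have : p - 1 ≤ 3 * 5 := by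
      calc p - 1 = Nat.gcd (p - 1) 3 * q := hq
        _ ≤ 3 * 5 := Nat.mul_le_mul hgle h5
    omega
  constructor
  · by_contra hcon
    have h3 : p = 14 ∨ p = 15 ∨ p = 16 := by omega
    rcases h3 with h | h | h <;> (rw [h] at hpp; norm_num at hpp)
  · intro h11
    have h1 : Nat.gcd (p - 1) 3 = 1 := by rw [h11]; norm_num
    rw [h1, one_mul] at hq
    omega

/-- **All lines radical force `p ≤ 7`.** -/
theorem le_seven_of_all_rad (hp2 : p ≠ 2)
    (O : Subgroup (GL (Fin 2) (ZMod p))) (hO : ∀ g ∈ O, ∃ k : ℕ, ¬ p ∣ k ∧ g ^ k = 1)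
    (lam : (ZMod p)ˣ) (hlam : orderOf lam = p - 1)
    (hall : ∀ v : Fin 2 → ZMod p, v ≠ 0 → IsRad O lam v) : p ≤ 7 := by
  have hpp : p.Prime := Fact.out
  have hv₁ : (![1, 0] : Fin 2 → ZMod p) ≠ 0 := by
    intro h
    have := congrFun h 0
    simp at this
  have hv₂ : (![0, 1] : Fin 2 → ZMod p) ≠ 0 := by
    intro h
    have := congrFun h 1
    simp at this
  have hv₃ : (![1, 1] : Fin 2 → ZMod p) ≠ 0 := by
    intro h
    have := congrFun h 0
    simp at this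
  obtain ⟨h13, h11⟩ := le_thirteen_of_three_rad hp2 O hO lam hlam ![1, 0] ![0, 1] ![1, 1]
    (by simp) (by simp) (by simp) (hall _ hv₁) (hall _ hv₂) (hall _ hv₃)
  have hne13 : p ≠ 13 := by
    intro h
    obtain ⟨F, _, _, _, j, hsq⟩ := exists_sqrt_field p hp2
    have h4 : orderOf (lam ^ 3) = 4 := by
      rw [orderOf_cube_of_generator lam hlam, h]
      norm_num
    exact false_of_all_rad_thirteen h j hsq O hO lam h4 hall
  by_contra hcon
  have h3 : p = 8 ∨ p = 9 ∨ p = 10 ∨ p = 12 := by omega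
  rcases h3 with h | h | h | h <;> (rw [h] at hpp; norm_num at hpp)

end final

end Cfsg.Agent.Lib.Helper21.RV
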