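/-
helper21: coordinates on an extraspecial group of order `p³` and exponent `p`: the projection to
`(ZMod p)²`, the commutator pairing, and the matrix of an automorphism.
-/
import Mathlib
import Cfsg.Prelude.Def_Transfer
import Cfsg.Agent.Lib.Helper26.ElemAbAut
import Cfsg.Agent.Lib.Helper4.ClassTwoHom

set_option autoImplicit false

namespace Cfsg.Agent.Lib.Helper21.RV

open scoped commutatorElement
open Matrix

section pow

variable {p : ℕ} {G : Type*} [Group G]

theorem pow_eq_pow_of_cast_eq {g : G} (hg : g ^ p = 1) {m n : ℕ}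
    (h : (m : ZMod p) = (n : ZMod p)) : g ^ m = g ^ n := by
  rw [pow_eq_pow_mod m hg, pow_eq_pow_mod n hg, (ZMod.natCast_eq_natCast_iff' m n p).mp h]

end pow

/-- Coordinate data on a group of order `p³` and exponent `p`. -/
structure Coord (p : ℕ) [Fact p.Prime] (P : Type*) [Group P] where
  π : P →* Multiplicative (Fin 2 → ZMod p)
  surj : Function.Surjective π
  ker : ∀ u, π u = 1 ↔ u ∈ Subgroup.center P
  comm : ∀ a b : P, ⁅a, b⁆ ∈ Subgroup.center P
  exp : ∀ u : P, u ^ p = 1
  x : P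
  y : P
  hx : π x = Multiplicative.ofAdd ![1, 0]
  hy : π y = Multiplicative.ofAdd ![0, 1]

namespace Coord

variable {p : ℕ} [Fact p.Prime] {P : Type*} [Group P] (C : Coord p P)

/-- the coordinate vector of an element -/
def vec (u : P) : Fin 2 → ZMod p := Multiplicative.toAdd (C.π u)

/-- the basic commutator -/
def z₀ : P := ⁅C.x, C.y⁆

theorem vec_mul (u w : P) : C.vec (u * w) = C.vec u + C.vec w := by
  simp [vec, map_mul, toAdd_mul]

theorem vec_one : C.vec 1 = 0 := by simp [vec]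

theorem vec_inv (u : P) : C.vec u⁻¹ = -C.vec u := by simp [vec, map_inv, toAdd_inv]

theorem vec_pow (u : P) (n : ℕ) : C.vec (u ^ n) = n • C.vec u := by
  simp [vec, map_pow, toAdd_pow]

theorem vec_eq_zero_iff (u : P) : C.vec u = 0 ↔ u ∈ Subgroup.center P := by
  rw [← C.ker u]
  constructor
  · intro h
    apply Multiplicative.toAdd.injective
    exact h
  · intro h
    show Multiplicative.toAdd (C.π u) = 0
    rw [h]
    rfl

theorem vec_x : C.vec C.x = ![1, 0] := by simp [vec, C.hx]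

theorem vec_y : C.vec C.y = ![0, 1] := by simp [vec, C.hy]

theorem vec_conj (g u : P) : C.vec (g * u * g⁻¹) = C.vec u := by
  rw [vec_mul, vec_mul, vec_inv]
  abel

theorem vec_comm (a b : P) : C.vec ⁅a, b⁆ = 0 := (C.vec_eq_zero_iff _).mpr (C.comm a b)

include C in
theorem commutator_le_center : commutator P ≤ Subgroup.center P := by
  rw [commutator_def, Subgroup.commutator_le]
  intro a _ b _
  exact C.comm a b

theorem exists_decomp (u : P) : ∃ z ∈ Subgroup.center P,
    u = C.x ^ (C.vec u 0).val * C.y ^ (C.vec u 1).val * z := by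
  refine ⟨(C.x ^ (C.vec u 0).val * C.y ^ (C.vec u 1).val)⁻¹ * u, ?_, by group⟩
  rw [← C.vec_eq_zero_iff, vec_mul, vec_inv, vec_mul, vec_pow, vec_pow, vec_x, vec_y]
  ext i
  fin_cases i <;> simp

theorem z₀_mem_center : C.z₀ ∈ Subgroup.center P := C.comm _ _

theorem z₀_pow : C.z₀ ^ p = 1 := C.exp _

/-- **The commutator pairing.** -/
theorem comm_eq (u w : P) :
    ⁅u, w⁆ = C.z₀ ^ (C.vec u 0 * C.vec w 1 - C.vec w 0 * C.vec u 1).val := by
  have h := C.commutator_le_center
  -- left decomposition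
  have hleft : ∀ u w : P, ⁅u, w⁆ = ⁅C.x, w⁆ ^ (C.vec u 0).val * ⁅C.y, w⁆ ^ (C.vec u 1).val := by
    intro u w
    obtain ⟨z, hz, hu⟩ := C.exists_decomp u
    have h1 : ⁅u, w⁆ = Cfsg.Agent.Lib.Helper4.commHom h w u := rfl
    rw [h1]
    nth_rewrite 1 [hu]
    rw [map_mul, map_mul, map_pow, map_pow]
    have h2 : Cfsg.Agent.Lib.Helper4.commHom h w z = 1 := by
      show ⁅z, w⁆ = 1
      rw [commutatorElement_eq_one_iff_mul_comm]
      exact (Subgroup.mem_center_iff.mp hz w).symm
    rw [h2, mul_one]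
    rfl
  have hxx : ⁅C.x, C.x⁆ = 1 := commutatorElement_self _
  have hyy : ⁅C.y, C.y⁆ = 1 := commutatorElement_self _
  have hyx : ⁅C.y, C.x⁆ = C.z₀⁻¹ := by rw [z₀, commutatorElement_inv]
  have hxw : ⁅C.x, w⁆ = C.z₀ ^ (C.vec w 1).val := by
    rw [← commutatorElement_inv, hleft w C.x, hxx, hyx, one_pow, one_mul, inv_pow, inv_inv]
  have hyw : ⁅C.y, w⁆ = (C.z₀ ^ (C.vec w 0).val)⁻¹ := by
    rw [← commutatorElement_inv, hleft w C.y, hyy, one_pow, mul_one]
    rfl
  rw [hleft u w, hxw, hyw, inv_pow, ← pow_mul, ← pow_mul, mul_inv_eq_iff_eq_mul, ← pow_add]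
  apply pow_eq_pow_of_cast_eq C.z₀_pow
  push_cast
  rw [ZMod.natCast_zmod_val, ZMod.natCast_zmod_val, ZMod.natCast_zmod_val, ZMod.natCast_zmod_val,
    ZMod.natCast_zmod_val]
  ring

omit [Fact p.Prime] in
/-- automorphisms preserve the centre -/
theorem map_mem_center (α : P ≃* P) {z : P} (hz : z ∈ Subgroup.center P) :
    α z ∈ Subgroup.center P := by
  rw [Subgroup.mem_center_iff] at hz ⊢
  intro g
  have h2 := congrArg α (hz (α.symm g))
  simpa using h2

/-- the matrix of an automorphism on `P / Z(P)` -/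
def mat (α : MulAut P) : Matrix (Fin 2) (Fin 2) (ZMod p) :=
  Matrix.of fun i k => C.vec (α (![C.x, C.y] k)) i

theorem mat_mulVec (α : MulAut P) (u : P) : C.mat α *ᵥ C.vec u = C.vec (α u) := by
  obtain ⟨z, hz, hu⟩ := C.exists_decomp u
  have hαz : C.vec (α z) = 0 := (C.vec_eq_zero_iff _).mpr (map_mem_center α hz)
  have h1 : C.vec (α u) = (C.vec u 0).val • C.vec (α C.x) + (C.vec u 1).val • C.vec (α C.y) := by
    nth_rewrite 1 [hu]
    rw [map_mul, map_mul, map_pow, map_pow, vec_mul, vec_mul, vec_pow, vec_pow, hαz, add_zero]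
  rw [h1]
  ext i
  simp only [Matrix.mulVec, dotProduct, Fin.sum_univ_two, mat, Matrix.of_apply,
    Matrix.cons_val_zero, Matrix.cons_val_one, Pi.add_apply, Pi.smul_apply]
  simp only [nsmul_eq_mul, ZMod.natCast_zmod_val]
  ring

theorem mat_mul (α β : MulAut P) : C.mat (α * β) = C.mat α * C.mat β := by
  ext i k
  have h1 : (C.mat α * C.mat β) i k = (C.mat α *ᵥ C.vec (β (![C.x, C.y] k))) i := rfl
  rw [h1, mat_mulVec]
  rfl

theorem mat_one : C.mat 1 = 1 := by
  ext i k
  fin_cases i <;> fin_cases k <;> simp [mat, vec_x, vec_y]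

/-- the matrix representation of `Aut P` on `P / Z(P)` -/
def matMonoidHom : MulAut P →* Matrix (Fin 2) (Fin 2) (ZMod p) where
  toFun := C.mat
  map_one' := C.mat_one
  map_mul' := C.mat_mul

/-- the representation `Aut P → GL₂(p)` -/
def matHom : MulAut P →* GL (Fin 2) (ZMod p) := C.matMonoidHom.toHomUnits

theorem matHom_coe (α : MulAut P) :
    ((C.matHom α : GL (Fin 2) (ZMod p)) : Matrix (Fin 2) (Fin 2) (ZMod p)) = C.mat α := rfl

/-- the action on the centre is the determinant -/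
theorem map_z₀ (α : MulAut P) : α C.z₀ = C.z₀ ^ (C.mat α).det.val := by
  rw [z₀, map_commutatorElement, C.comm_eq, ← z₀, Matrix.det_fin_two]
  rfl

end Coord

section exist

variable {p : ℕ} [Fact p.Prime] {P : Type*} [Group P] [Finite P]

theorem nonempty_coord (hE : Cfsg.IsExtraspecial p P) (hcard : Nat.card P = p ^ 3)
    (hexp : Monoid.exponent P = p) : Nonempty (Coord p P) := by
  have hpp : p.Prime := Fact.out
  have hZ : Nat.card (Subgroup.center P) = p := hE.2
  have hcomm : ∀ a b : P, ⁅a, b⁆ ∈ Subgroup.center P := by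
    intro a b
    rw [← hE.1.2.2, commutator_def]
    exact Subgroup.commutator_mem_commutator (Subgroup.mem_top a) (Subgroup.mem_top b)
  have hpow : ∀ u : P, u ^ p = 1 := by
    intro u
    rw [← hexp]
    exact Monoid.pow_exponent_eq_one u
  have hq : Nat.card (P ⧸ Subgroup.center P) = p ^ 2 := by
    have h1 := Subgroup.card_mul_index (Subgroup.center P)
    rw [hZ, hcard] at h1
    have h3 : p ^ 3 = p * p ^ 2 := by ring
    rw [h3] at h1
    exact Nat.eq_of_mul_eq_mul_left hpp.pos h1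
  have hqc : IsMulCommutative (P ⧸ Subgroup.center P) :=
    IsPGroup.isMulCommutative_of_card_eq_prime_sq hq
  have hqcomm : ∀ a b : P ⧸ Subgroup.center P, a * b = b * a := fun a b =>
    isMulCommutative_iff.mp hqc a b
  have hqexp : ∀ a : P ⧸ Subgroup.center P, a ^ p = 1 := by
    intro a
    obtain ⟨u, rfl⟩ := QuotientGroup.mk_surjective a
    rw [← QuotientGroup.mk_pow, hpow]
    rfl
  obtain ⟨e⟩ := Cfsg.Agent.Lib.Helper26.exists_mulEquiv_of_elemAb p hqcomm hqexp hq
  let π : P →* Multiplicative (Fin 2 → ZMod p) :=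
    e.toMonoidHom.comp (QuotientGroup.mk' (Subgroup.center P))
  have hsurj : Function.Surjective π :=
    e.surjective.comp (QuotientGroup.mk'_surjective _)
  obtain ⟨x, hx⟩ := hsurj (Multiplicative.ofAdd ![1, 0])
  obtain ⟨y, hy⟩ := hsurj (Multiplicative.ofAdd ![0, 1])
  refine ⟨⟨π, hsurj, ?_, hcomm, hpow, x, y, hx, hy⟩⟩
  intro u
  show e (QuotientGroup.mk' (Subgroup.center P) u) = 1 ↔ _
  rw [MulEquiv.map_eq_one_iff, QuotientGroup.mk'_apply, QuotientGroup.eq_one_iff]

end exist

end Cfsg.Agent.Lib.Helper21.RV
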