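/-
helper21: automorphisms of an elementary abelian group of order `p²` as matrices, and the
automorphisms induced by conjugation in an ambient group.
-/
import Mathlib
import Cfsg.Agent.Lib.Helper26.ElemAbAut
import Cfsg.Agent.Lib.Helper13.SL2b

set_option autoImplicit false

namespace Cfsg.Agent.Lib.Helper21.RV

open Matrix Cfsg.Agent.Lib.Helper13 Cfsg.Agent.Lib.Helper26

section bridge

variable (p : ℕ) [Fact p.Prime] {V : Type*} [Group V]
  (e : V ≃* Multiplicative (Fin 2 → ZMod p))

/-- the isomorphism `Aut V ≅ GL₂(p)` attached to coordinates `e` -/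
noncomputable def autGL : MulAut V ≃* GL (Fin 2) (ZMod p) :=
  (MulAut.congr e).trans (mulAutEquivGL p)

/-- coordinates of an element -/
def cvec (a : V) : Fin 2 → ZMod p := Multiplicative.toAdd (e a)

theorem mulAutEquivGL_mulVec (ψ : MulAut (Multiplicative (Fin 2 → ZMod p))) (v : Fin 2 → ZMod p) :
    ((mulAutEquivGL p ψ : GL (Fin 2) (ZMod p)) : Matrix (Fin 2) (Fin 2) (ZMod p)) *ᵥ v =
      Multiplicative.toAdd (ψ (Multiplicative.ofAdd v)) := by
  have h1 : ((mulAutEquivGL p ψ : GL (Fin 2) (ZMod p)) : Matrix (Fin 2) (Fin 2) (ZMod p)) =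
      LinearMap.toMatrixAlgEquiv' (linOf p ψ.toMonoidHom) := rfl
  rw [h1, ← Matrix.toLinAlgEquiv'_apply, Matrix.toLinAlgEquiv'_toMatrixAlgEquiv']
  rfl

theorem autGL_mulVec (φ : MulAut V) (a : V) :
    ((autGL p e φ : GL (Fin 2) (ZMod p)) : Matrix (Fin 2) (Fin 2) (ZMod p)) *ᵥ cvec p e a =
      cvec p e (φ a) := by
  have h1 : autGL p e φ = mulAutEquivGL p (MulAut.congr e φ) := rfl
  rw [h1, mulAutEquivGL_mulVec]
  show Multiplicative.toAdd (e (φ (e.symm (e a)))) = _
  rw [MulEquiv.symm_apply_apply]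
  rfl

theorem autGL_symm_mulVec (g : GL (Fin 2) (ZMod p)) (a : V) :
    cvec p e ((autGL p e).symm g a) =
      ((g : GL (Fin 2) (ZMod p)) : Matrix (Fin 2) (Fin 2) (ZMod p)) *ᵥ cvec p e a := by
  rw [← autGL_mulVec, MulEquiv.apply_symm_apply]

theorem cvec_injective : Function.Injective (cvec p e) := by
  intro a b h
  apply e.injective
  apply Multiplicative.toAdd.injective
  exact h

theorem cvec_pow (a : V) (n : ℕ) : cvec p e (a ^ n) = (n : ZMod p) • cvec p e a := by
  rw [Nat.cast_smul_eq_nsmul]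
  show Multiplicative.toAdd (e (a ^ n)) = n • Multiplicative.toAdd (e a)
  rw [map_pow, toAdd_pow]

theorem cvec_mul (a b : V) : cvec p e (a * b) = cvec p e a + cvec p e b := by
  simp [cvec, map_mul, toAdd_mul]

theorem cvec_one : cvec p e 1 = 0 := by simp [cvec]

end bridge

section lower

variable {K : Type*} [Field K]

theorem lSL_mul (a b : K) : lSL a * lSL b = lSL (a + b) := by
  apply Subtype.ext
  show !![1, 0; a, 1] * !![1, 0; b, 1] = !![1, 0; a + b, 1]
  ext i k
  fin_cases i <;> fin_cases k <;> simp [Matrix.mul_apply, Fin.sum_univ_two]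

theorem lSL_zero : lSL (0 : K) = 1 := by
  apply Subtype.ext
  show !![1, 0; (0 : K), 1] = 1
  ext i k
  fin_cases i <;> fin_cases k <;> simp

theorem lSL_pow (a : K) (n : ℕ) : lSL a ^ n = lSL (n * a) := by
  induction n with
  | zero => simp [lSL_zero]
  | succ n ih => rw [pow_succ, ih, lSL_mul]; congr 1; push_cast; ring

theorem lSL_injective : Function.Injective (lSL : K → SpecialLinearGroup (Fin 2) K) := by
  intro a b h
  have := congrArg (fun g : SpecialLinearGroup (Fin 2) K => (g : Matrix (Fin 2) (Fin 2) K) 1 0) h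
  simpa [lSL] using this

theorem orderOf_lSL (p : ℕ) [Fact p.Prime] [CharP K p] (t : K) (ht : t ≠ 0) :
    orderOf (lSL t) = p := by
  apply orderOf_eq_prime
  · rw [lSL_pow, CharP.cast_eq_zero, zero_mul, lSL_zero]
  · intro h
    rw [← lSL_zero] at h
    exact ht (lSL_injective h)

end lower

section induced

variable {G : Type*} [Group G] (p : ℕ) [Fact p.Prime] (A : Subgroup G)
  (e : ↥A ≃* Multiplicative (Fin 2 → ZMod p))

/-- the matrices of the automorphisms of `A` induced by conjugation in `G` -/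
def indGL : Subgroup (GL (Fin 2) (ZMod p)) where
  carrier := {g | ∃ n : G, ∀ a : A, (((autGL p e).symm g a : A) : G) = n * a * n⁻¹}
  one_mem' := ⟨1, by intro a; simp⟩
  mul_mem' := by
    rintro g g' ⟨n, hn⟩ ⟨n', hn'⟩
    refine ⟨n * n', ?_⟩
    intro a
    rw [map_mul, MulAut.mul_apply, hn, hn']
    group
  inv_mem' := by
    rintro g ⟨n, hn⟩
    refine ⟨n⁻¹, ?_⟩
    intro a
    set b := (autGL p e).symm g⁻¹ a with hb
    have h1 : (autGL p e).symm g b = a := by
      rw [hb, ← MulAut.mul_apply, ← map_mul, mul_inv_cancel, map_one]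
      rfl
    have h2 := hn b
    rw [h1] at h2
    rw [h2]
    group

theorem mem_indGL (g : GL (Fin 2) (ZMod p)) :
    g ∈ indGL p A e ↔ ∃ n : G, ∀ a : A, (((autGL p e).symm g a : A) : G) = n * a * n⁻¹ := Iff.rfl

/-- If every automorphism of order `p` is induced, all of `SL₂(p)` is induced. -/
theorem toGL_mem_indGL_of_hSL
    (hSL : ∀ φ : MulAut ↥A, orderOf φ = p → ∃ g : G, ∀ a : ↥A, (φ a : G) = g * (a : G) * g⁻¹)
    (h : SpecialLinearGroup (Fin 2) (ZMod p)) :
    (SpecialLinearGroup.toGL h : GL (Fin 2) (ZMod p)) ∈ indGL p A e := by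
  have hord : ∀ g : GL (Fin 2) (ZMod p), orderOf g = p → g ∈ indGL p A e := by
    intro g hg
    have h1 : orderOf ((autGL p e).symm g) = p := by
      rw [MulEquiv.orderOf_eq]
      exact hg
    exact hSL _ h1
  have hinj := Matrix.SpecialLinearGroup.toGL_injective (n := Fin 2) (R := ZMod p)
  have hU : ∀ t : ZMod p, tSL t ∈ (indGL p A e).comap SpecialLinearGroup.toGL := by
    intro t
    rw [Subgroup.mem_comap]
    by_cases ht : t = 0
    · rw [ht, tSL_zero, map_one]
      exact Subgroup.one_mem _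
    · apply hord
      rw [orderOf_injective SpecialLinearGroup.toGL hinj]
      exact orderOf_tSL p t ht
  have hL : ∀ t : ZMod p, lSL t ∈ (indGL p A e).comap SpecialLinearGroup.toGL := by
    intro t
    rw [Subgroup.mem_comap]
    by_cases ht : t = 0
    · rw [ht, lSL_zero, map_one]
      exact Subgroup.one_mem _
    · apply hord
      rw [orderOf_injective SpecialLinearGroup.toGL hinj]
      exact orderOf_lSL p t ht
  exact mem_of_tSL_lSL_mem _ hU hL h

/-- If all of `SL₂(p)` is induced on `A`, then for every unit `lam` some element of `G` acts on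
`A` as `lam` on the line `⟨z₀⟩` and as `lam⁻¹` modulo that line. -/
theorem exists_torus_conj
    (hall : ∀ h : SpecialLinearGroup (Fin 2) (ZMod p),
      (SpecialLinearGroup.toGL h : GL (Fin 2) (ZMod p)) ∈ indGL p A e)
    (z₀ : A) (hz₀ : z₀ ≠ 1) (lam : (ZMod p)ˣ) :
    ∃ n : G, (∀ a : A, n * (a : G) * n⁻¹ ∈ A) ∧
      n * (z₀ : G) * n⁻¹ = (z₀ : G) ^ (lam : ZMod p).val ∧
      ∀ a : A, ∃ i : ℕ, n * (a : G) * n⁻¹ =
        (a : G) ^ ((lam⁻¹ : (ZMod p)ˣ) : ZMod p).val * (z₀ : G) ^ i := by
  set w := cvec p e z₀ with hw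
  have hw0 : w ≠ 0 := by
    intro h
    apply hz₀
    apply cvec_injective p e
    rw [← hw, h, cvec_one]
  set k : ZMod p := (lam : ZMod p) with hk
  set k' : ZMod p := ((lam⁻¹ : (ZMod p)ˣ) : ZMod p) with hk'
  have hkk' : k * k' = 1 := by rw [hk, hk', ← Units.val_mul, mul_inv_cancel, Units.val_one]
  -- complete `w` to a matrix of determinant one
  obtain ⟨s, t, hst⟩ : ∃ s t : ZMod p, w 0 * t - w 1 * s = 1 := by
    by_cases h0 : w 0 = 0
    · have h1 : w 1 ≠ 0 := by
        intro h1
        apply hw0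
        ext i
        fin_cases i
        · exact h0
        · exact h1
      refine ⟨-(w 1)⁻¹, 0, ?_⟩
      rw [mul_zero, zero_sub, mul_neg, neg_neg, mul_inv_cancel₀ h1]
    · refine ⟨0, (w 0)⁻¹, ?_⟩
      rw [mul_zero, sub_zero, mul_inv_cancel₀ h0]
  set M : Matrix (Fin 2) (Fin 2) (ZMod p) :=
    !![w 0 * k * t - s * k' * w 1, w 0 * s * (k' - k); w 1 * t * (k - k'),
      t * k' * w 0 - w 1 * k * s] with hM
  have hMdet : M.det = 1 := by
    rw [hM, Matrix.det_fin_two_of]
    linear_combination (k * k' * (w 0 * t - w 1 * s) + k * k') * hst + hkk'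
  let h : SpecialLinearGroup (Fin 2) (ZMod p) := ⟨M, hMdet⟩
  obtain ⟨n, hn⟩ := hall h
  have hMv : ∀ a : A, cvec p e ((autGL p e).symm (SpecialLinearGroup.toGL h) a) =
      M *ᵥ cvec p e a := fun a => autGL_symm_mulVec p e _ a
  refine ⟨n, ?_, ?_, ?_⟩
  · intro a
    rw [← hn a]
    exact Subtype.mem _
  · rw [← hn z₀]
    have : (autGL p e).symm (SpecialLinearGroup.toGL h) z₀ = z₀ ^ k.val := by
      apply cvec_injective p e
      rw [hMv, cvec_pow, ZMod.natCast_zmod_val, ← hw]
      ext i
      fin_cases i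
      · simp only [hM, Matrix.mulVec, dotProduct, Fin.sum_univ_two, Matrix.of_apply,
          Matrix.cons_val_zero, Matrix.cons_val_one, Pi.smul_apply, smul_eq_mul, Fin.zero_eta,
          Fin.isValue]
        linear_combination (k * w 0) * hst
      · simp only [hM, Matrix.mulVec, dotProduct, Fin.sum_univ_two, Matrix.of_apply,
          Matrix.cons_val_zero, Matrix.cons_val_one, Pi.smul_apply, smul_eq_mul, Fin.mk_one,
          Fin.isValue]
        linear_combination (k * w 1) * hst
    rw [this]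
    rfl
  · intro a
    set u := cvec p e a with hu
    refine ⟨((k - k') * (t * u 0 - s * u 1)).val, ?_⟩
    rw [← hn a]
    have : (autGL p e).symm (SpecialLinearGroup.toGL h) a =
        a ^ k'.val * z₀ ^ ((k - k') * (t * u 0 - s * u 1)).val := by
      apply cvec_injective p e
      rw [hMv, cvec_mul, cvec_pow, cvec_pow, ZMod.natCast_zmod_val, ZMod.natCast_zmod_val, ← hw,
        ← hu]
      ext i
      fin_cases i
      · simp only [hM, Matrix.mulVec, dotProduct, Fin.sum_univ_two, Matrix.of_apply,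
          Matrix.cons_val_zero, Matrix.cons_val_one, Pi.smul_apply, Pi.add_apply, smul_eq_mul,
          Fin.zero_eta, Fin.isValue]
        linear_combination (k' * u 0) * hst
      · simp only [hM, Matrix.mulVec, dotProduct, Fin.sum_univ_two, Matrix.of_apply,
          Matrix.cons_val_zero, Matrix.cons_val_one, Pi.smul_apply, Pi.add_apply, smul_eq_mul,
          Fin.mk_one, Fin.isValue]
        linear_combination (k' * u 1) * hst
    rw [this]
    rfl

end induced

end Cfsg.Agent.Lib.Helper21.RV
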