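/-
helper21: a Frattini argument for the stabiliser of a flag `⟨z₀⟩ < A`.
-/
import Mathlib
import Cfsg.Agent.Lib.Helper1.Basic

set_option autoImplicit false

namespace Cfsg.Agent.Lib.Helper21.RV

open Subgroup

section flag

variable {G : Type*} [Group G]

/-- the stabiliser of the flag `⟨z₀⟩ < A` acting trivially on both factors -/
def flagStab (A : Subgroup G) (z₀ : G) : Subgroup G where
  carrier := {x | x ∈ normalizer (A : Set G) ∧ x * z₀ * x⁻¹ = z₀ ∧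
    ∀ a ∈ A, x * a * x⁻¹ * a⁻¹ ∈ zpowers z₀}
  one_mem' := ⟨one_mem _, by simp, by intro a _; simp⟩
  mul_mem' := by
    rintro x y ⟨hx1, hx2, hx3⟩ ⟨hy1, hy2, hy3⟩
    refine ⟨mul_mem hx1 hy1, ?_, ?_⟩
    · calc x * y * z₀ * (x * y)⁻¹ = x * (y * z₀ * y⁻¹) * x⁻¹ := by group
        _ = z₀ := by rw [hy2, hx2]
    · intro a ha
      have hb : y * a * y⁻¹ ∈ A := (mem_normalizer_iff.mp hy1 a).mp ha
      have e : x * y * a * (x * y)⁻¹ * a⁻¹ =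
          (x * (y * a * y⁻¹) * x⁻¹ * (y * a * y⁻¹)⁻¹) * (y * a * y⁻¹ * a⁻¹) := by group
      rw [e]
      exact mul_mem (hx3 _ hb) (hy3 a ha)
  inv_mem' := by
    rintro x ⟨hx1, hx2, hx3⟩
    refine ⟨inv_mem hx1, ?_, ?_⟩
    · calc x⁻¹ * z₀ * x⁻¹⁻¹ = x⁻¹ * (x * z₀ * x⁻¹) * x := by rw [hx2, inv_inv]
        _ = z₀ := by group
    · intro a ha
      have hb : x⁻¹ * a * x ∈ A := by
        have := (mem_normalizer_iff.mp (inv_mem hx1) a).mp ha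
        rwa [inv_inv] at this
      have e : x⁻¹ * a * x⁻¹⁻¹ * a⁻¹ = (x * (x⁻¹ * a * x) * x⁻¹ * (x⁻¹ * a * x)⁻¹)⁻¹ := by group
      rw [e]
      exact inv_mem (hx3 _ hb)

theorem mem_flagStab {A : Subgroup G} {z₀ x : G} :
    x ∈ flagStab A z₀ ↔ x ∈ normalizer (A : Set G) ∧ x * z₀ * x⁻¹ = z₀ ∧
      ∀ a ∈ A, x * a * x⁻¹ * a⁻¹ ∈ zpowers z₀ := Iff.rfl

/-- conjugation fixes every power of a fixed element -/
theorem conj_eq_of_mem_zpowers {x z₀ ζ : G} (hx : x * z₀ * x⁻¹ = z₀) (hζ : ζ ∈ zpowers z₀) :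
    x * ζ * x⁻¹ = ζ := by
  obtain ⟨i, rfl⟩ := mem_zpowers_iff.mp hζ
  rw [← conj_zpow, hx]

theorem frattini_flag [Finite G] {p : ℕ} [Fact p.Prime] (P : Sylow p G) (A : Subgroup G)
    (z₀ : G) (k j : ℕ) (hZA : ∀ a ∈ A, ∀ ζ ∈ zpowers z₀, ζ * a = a * ζ)
    (hP : (P : Subgroup G) ≤ flagStab A z₀) (g : G) (hg1 : g ∈ normalizer (A : Set G))
    (hg2 : g * z₀ * g⁻¹ = z₀ ^ k)
    (hg3 : ∀ a ∈ A, (a ^ j)⁻¹ * (g * a * g⁻¹) ∈ zpowers z₀) :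
    ∃ n ∈ normalizer ((P : Subgroup G) : Set G), n ∈ normalizer (A : Set G) ∧
      n * z₀ * n⁻¹ = z₀ ^ k ∧ ∀ a ∈ A, (a ^ j)⁻¹ * (n * a * n⁻¹) ∈ zpowers z₀ := by
  -- `g` normalizes `⟨z₀⟩`
  have hgZ : g ∈ normalizer ((zpowers z₀ : Subgroup G) : Set G) := by
    apply mem_normalizer_fintype
    intro ζ hζ
    obtain ⟨i, rfl⟩ := mem_zpowers_iff.mp hζ
    show g * z₀ ^ i * g⁻¹ ∈ zpowers z₀
    rw [← conj_zpow, hg2]
    exact zpow_mem (pow_mem (mem_zpowers z₀) k) i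
  have hgZ' : ∀ ζ ∈ zpowers z₀, g * ζ * g⁻¹ ∈ zpowers z₀ := fun ζ hζ =>
    (mem_normalizer_iff.mp hgZ ζ).mp hζ
  have hgZ'' : ∀ ζ ∈ zpowers z₀, g⁻¹ * ζ * g ∈ zpowers z₀ := by
    intro ζ hζ
    have := (mem_normalizer_iff.mp (inv_mem hgZ) ζ).mp hζ
    rwa [inv_inv] at this
  have hgA : ∀ a ∈ A, g * a * g⁻¹ ∈ A := fun a ha => (mem_normalizer_iff.mp hg1 a).mp ha
  have hgA' : ∀ a ∈ A, g⁻¹ * a * g ∈ A := by
    intro a ha
    have := (mem_normalizer_iff.mp (inv_mem hg1) a).mp ha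
    rwa [inv_inv] at this
  -- `g` normalizes the flag stabiliser
  have hgK : ∀ x ∈ flagStab A z₀, g * x * g⁻¹ ∈ flagStab A z₀ := by
    rintro x ⟨hx1, hx2, hx3⟩
    refine ⟨mul_mem (mul_mem hg1 hx1) (inv_mem hg1), ?_, ?_⟩
    · have h1 := conj_eq_of_mem_zpowers hx2 (hgZ'' z₀ (mem_zpowers z₀))
      calc g * x * g⁻¹ * z₀ * (g * x * g⁻¹)⁻¹ = g * (x * (g⁻¹ * z₀ * g) * x⁻¹) * g⁻¹ := by group
        _ = z₀ := by rw [h1]; group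
    · intro a ha
      have e : g * x * g⁻¹ * a * (g * x * g⁻¹)⁻¹ * a⁻¹ =
          g * (x * (g⁻¹ * a * g) * x⁻¹ * (g⁻¹ * a * g)⁻¹) * g⁻¹ := by group
      rw [e]
      exact hgZ' _ (hx3 _ (hgA' a ha))
  have h2 : ((g • P : Sylow p G) : Subgroup G) ≤ flagStab A z₀ := by
    intro x hx
    rw [Cfsg.Agent.Lib.Helper1.mem_sylow_smul_iff] at hx
    have := hgK _ (hP hx)
    have e : g * (g⁻¹ * x * g) * g⁻¹ = x := by group
    rwa [e] at this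
  obtain ⟨c, hcK, hcg⟩ := Cfsg.Agent.Lib.Helper1.exists_mem_mul_mem_normalizer P _ g hP h2
  obtain ⟨hc1, hc2, hc3⟩ := hcK
  refine ⟨c * g, hcg, mul_mem hc1 hg1, ?_, ?_⟩
  · calc c * g * z₀ * (c * g)⁻¹ = c * (g * z₀ * g⁻¹) * c⁻¹ := by group
      _ = (c * z₀ * c⁻¹) ^ k := by rw [hg2, conj_pow]
      _ = z₀ ^ k := by rw [hc2]
  · intro a ha
    have hb := hgA a ha
    have hζ' := hc3 _ hb
    have hcomm := hZA _ (inv_mem (pow_mem ha j)) _ hζ'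
    have e : (a ^ j)⁻¹ * (c * g * a * (c * g)⁻¹) =
        (a ^ j)⁻¹ * (c * (g * a * g⁻¹) * c⁻¹ * (g * a * g⁻¹)⁻¹) * (g * a * g⁻¹) := by group
    rw [e, ← hcomm, mul_assoc]
    exact mul_mem hζ' (hg3 a ha)

end flag

end Cfsg.Agent.Lib.Helper21.RV
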