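/-
helper21: the representation of `N_G(P)` on `P / Z(P)` for an extraspecial Sylow subgroup of order
`p³` and exponent `p`, and the torus elements attached to a radical subgroup of order `p²`.
-/
import Mathlib
import Cfsg.Agent.Lib.Helper21.RVGrpA
import Cfsg.Agent.Lib.Helper21.RVGrpB
import Cfsg.Agent.Lib.Helper21.RVGrpC
import Cfsg.Agent.Lib.Helper21.RVLinE

set_option autoImplicit false

namespace Cfsg.Agent.Lib.Helper21.RV

open Subgroup Matrix
open scoped commutatorElement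

section coatom

theorem isCoatom_of_index_prime' {H : Type*} [Group H] {p : ℕ} (hp : p.Prime) (M : Subgroup H)
    (hM : M.index = p) : IsCoatom M := by
  constructor
  · intro h
    rw [h, Subgroup.index_top] at hM
    exact hp.one_lt.ne hM
  · intro K hK
    have h1 := Subgroup.relIndex_mul_index hK.le
    rw [hM] at h1
    have h2 : K.index ∣ p := ⟨_, by rw [← h1, mul_comm]⟩
    rcases (Nat.dvd_prime hp).mp h2 with h3 | h3
    · exact Subgroup.index_eq_one.mp h3
    · exfalso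
      rw [h3] at h1
      have h4 : M.relIndex K = 1 := by
        have : M.relIndex K * p = 1 * p := by rw [h1, one_mul]
        exact Nat.eq_of_mul_eq_mul_right hp.pos this
      have h5 : K ≤ M := Subgroup.relIndex_eq_one.mp h4
      exact lt_irrefl _ (lt_of_lt_of_le hK h5)

end coatom

section rep

variable {G : Type*} [Group G] {p : ℕ} [Fact p.Prime] (Q : Subgroup G) (C : Coord p ↥Q)

/-- the representation of `N_G(Q)` on `Q / Z(Q)` -/
def normRep : ↥(normalizer (Q : Set G)) →* GL (Fin 2) (ZMod p) :=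
  C.matHom.comp Q.normalizerMonoidHom

theorem normRep_coe (n : ↥(normalizer (Q : Set G))) :
    ((normRep Q C n : GL (Fin 2) (ZMod p)) : Matrix (Fin 2) (Fin 2) (ZMod p)) =
      C.mat (Q.normalizerMonoidHom n) := rfl

theorem coe_normalizerMonoidHom (n : ↥(normalizer (Q : Set G))) (u : ↥Q) :
    ((Q.normalizerMonoidHom n u : ↥Q) : G) = n * u * (n : G)⁻¹ := rfl

theorem normRep_eq_one_of_mem (n : ↥(normalizer (Q : Set G))) (hn : (n : G) ∈ Q) :
    normRep Q C n = 1 := by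
  apply Units.ext
  rw [normRep_coe, Units.val_one, ← C.mat_one]
  ext i k
  show C.vec (Q.normalizerMonoidHom n (![C.x, C.y] k)) i = C.vec ((1 : MulAut ↥Q) (![C.x, C.y] k)) i
  have : Q.normalizerMonoidHom n (![C.x, C.y] k) =
      (⟨n, hn⟩ : ↥Q) * (![C.x, C.y] k) * (⟨n, hn⟩ : ↥Q)⁻¹ := by
    apply Subtype.ext
    rfl
  rw [this, C.vec_conj]
  rfl

end rep

section sylow

variable {G : Type*} [Group G] [Finite G] {p : ℕ} [Fact p.Prime] (P : Sylow p G)
  (C : Coord p ↥(P : Subgroup G))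

/-- the image of `N_G(P)` in `GL₂(p)` consists of `p'`-elements -/
theorem normRep_range_pprime :
    ∀ g ∈ (normRep (P : Subgroup G) C).range, ∃ k : ℕ, ¬ p ∣ k ∧ g ^ k = 1 := by
  rintro _ ⟨n, rfl⟩
  have hle : (P : Subgroup G) ≤ normalizer ((P : Subgroup G) : Set G) := le_normalizer
  refine ⟨((P : Subgroup G).subgroupOf (normalizer ((P : Subgroup G) : Set G))).index, ?_, ?_⟩
  · intro hdvd
    have h1 := Subgroup.relIndex_mul_index hle
    have h2 : p ∣ (P : Subgroup G).index := by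
      rw [← h1]
      exact Dvd.dvd.mul_right hdvd _
    exact P.not_dvd_index h2
  · rw [← map_pow]
    apply normRep_eq_one_of_mem
    have := Subgroup.pow_index_mem
      ((P : Subgroup G).subgroupOf (normalizer ((P : Subgroup G) : Set G))) n
    exact Subgroup.mem_subgroupOf.mp this

omit [Finite G] in
/-- powers of the central commutator centralise `P` -/
theorem zpowers_z₀_comm (u : G) (hu : u ∈ (P : Subgroup G)) (ζ : G)
    (hζ : ζ ∈ zpowers ((C.z₀ : ↥(P : Subgroup G)) : G)) : ζ * u = u * ζ := by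
  obtain ⟨i, rfl⟩ := mem_zpowers_iff.mp hζ
  have h1 : (C.z₀ ^ i : ↥(P : Subgroup G)) ∈ center ↥(P : Subgroup G) :=
    zpow_mem C.z₀_mem_center i
  have h2 := Subgroup.mem_center_iff.mp h1 ⟨u, hu⟩
  have h3 := congrArg (Subtype.val) h2
  simpa using h3.symm

/-- `P` stabilises the flag `⟨z₀⟩ < A` and acts trivially on the factors -/
theorem le_flagStab (A : Subgroup G) (hAP : A ≤ (P : Subgroup G))
    (hz₀A : ((C.z₀ : ↥(P : Subgroup G)) : G) ∈ A) :
    (P : Subgroup G) ≤ flagStab A ((C.z₀ : ↥(P : Subgroup G)) : G) := by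
  intro u hu
  have h3 : ∀ a ∈ A, u * a * u⁻¹ * a⁻¹ ∈ zpowers ((C.z₀ : ↥(P : Subgroup G)) : G) := by
    intro a ha
    have h1 := C.comm_eq ⟨u, hu⟩ ⟨a, hAP ha⟩
    have h2 := congrArg (Subtype.val) h1
    rw [commutatorElement_def] at h2
    have h4 : u * a * u⁻¹ * a⁻¹ = ((C.z₀ : ↥(P : Subgroup G)) : G) ^
        (C.vec ⟨u, hu⟩ 0 * C.vec ⟨a, hAP ha⟩ 1 - C.vec ⟨a, hAP ha⟩ 0 * C.vec ⟨u, hu⟩ 1).val := by
      simpa using h2
    rw [h4]
    exact pow_mem (mem_zpowers _) _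
  refine ⟨?_, ?_, h3⟩
  · apply mem_normalizer_fintype
    intro a ha
    have hle : zpowers ((C.z₀ : ↥(P : Subgroup G)) : G) ≤ A := (zpowers_le).mpr hz₀A
    have e : u * a * u⁻¹ = (u * a * u⁻¹ * a⁻¹) * a := by group
    rw [e]
    exact mul_mem (hle (h3 a ha)) ha
  · have := zpowers_z₀_comm P C u hu _ (mem_zpowers _)
    rw [← this]
    group

/-- **Torus elements from a radical subgroup.** -/
theorem exists_rad_elt (hz₀ : C.z₀ ≠ 1) (A : Subgroup G) (hAP : A ≤ (P : Subgroup G))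
    (hz₀A : ((C.z₀ : ↥(P : Subgroup G)) : G) ∈ A)
    (e : ↥A ≃* Multiplicative (Fin 2 → ZMod p))
    (hall : ∀ h : SpecialLinearGroup (Fin 2) (ZMod p),
      (SpecialLinearGroup.toGL h : GL (Fin 2) (ZMod p)) ∈ indGL p A e)
    (lam : (ZMod p)ˣ) :
    ∃ g ∈ (normRep (P : Subgroup G) C).range,
      ((g : GL (Fin 2) (ZMod p)) : Matrix (Fin 2) (Fin 2) (ZMod p)).det = (lam : ZMod p) ∧
      ∀ a : ↥(P : Subgroup G), (a : G) ∈ A →
        ((g : GL (Fin 2) (ZMod p)) : Matrix (Fin 2) (Fin 2) (ZMod p)) *ᵥ C.vec a =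
          ((lam⁻¹ : (ZMod p)ˣ) : ZMod p) • C.vec a := by
  set z : G := ((C.z₀ : ↥(P : Subgroup G)) : G) with hz
  have hzA1 : (⟨z, hz₀A⟩ : ↥A) ≠ 1 := by
    intro h
    apply hz₀
    apply Subtype.ext
    have h' : z = 1 := congrArg (fun x : ↥A => (x : G)) h
    rw [← hz, h']
    rfl
  obtain ⟨g, hg1, hg2, hg3⟩ := exists_torus_conj p A e hall ⟨z, hz₀A⟩ hzA1 lam
  have hg1' : g ∈ normalizer (A : Set G) :=
    mem_normalizer_fintype (fun a ha => hg1 ⟨a, ha⟩)
  have hg3' : ∀ a ∈ A, (a ^ ((lam⁻¹ : (ZMod p)ˣ) : ZMod p).val)⁻¹ * (g * a * g⁻¹) ∈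
      zpowers z := by
    intro a ha
    obtain ⟨i, hi⟩ := hg3 ⟨a, ha⟩
    simp only at hi
    rw [hi, inv_mul_cancel_left]
    exact pow_mem (mem_zpowers _) i
  obtain ⟨n, hnP, hnA, hn2, hn3⟩ := frattini_flag P A z (lam : ZMod p).val
    ((lam⁻¹ : (ZMod p)ˣ) : ZMod p).val
    (fun a ha ζ hζ => zpowers_z₀_comm P C a (hAP ha) ζ hζ) (le_flagStab P C A hAP hz₀A) g hg1'
    hg2 hg3'
  set α : MulAut ↥(P : Subgroup G) := (P : Subgroup G).normalizerMonoidHom ⟨n, hnP⟩ with hα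
  have hαc : ∀ u : ↥(P : Subgroup G), ((α u : ↥(P : Subgroup G)) : G) = n * u * n⁻¹ :=
    fun u => rfl
  refine ⟨normRep (P : Subgroup G) C ⟨n, hnP⟩, ⟨⟨n, hnP⟩, rfl⟩, ?_, ?_⟩
  · rw [normRep_coe, ← hα]
    have h1 : α C.z₀ = C.z₀ ^ (lam : ZMod p).val := by
      apply Subtype.ext
      rw [hαc, SubgroupClass.coe_pow]
      exact hn2
    have h2 := C.map_z₀ α
    have h3 : C.z₀ ^ (lam : ZMod p).val = C.z₀ ^ (C.mat α).det.val := h1.symm.trans h2
    have hord : orderOf C.z₀ = p := orderOf_eq_prime C.z₀_pow hz₀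
    rw [pow_eq_pow_iff_modEq, hord, ← ZMod.natCast_eq_natCast_iff, ZMod.natCast_zmod_val,
      ZMod.natCast_zmod_val] at h3
    exact h3.symm
  · intro a ha
    rw [normRep_coe, ← hα, C.mat_mulVec]
    set j := ((lam⁻¹ : (ZMod p)ˣ) : ZMod p).val with hj
    set ζ : ↥(P : Subgroup G) := (a ^ j)⁻¹ * α a with hζ
    have hζz : (ζ : G) ∈ zpowers z := by
      have := hn3 (a : G) ha
      rw [hζ]
      simpa [hαc] using this
    have hζc : ζ ∈ center ↥(P : Subgroup G) := by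
      obtain ⟨i, hi⟩ := mem_zpowers_iff.mp hζz
      have : ζ = C.z₀ ^ i := by
        apply Subtype.ext
        rw [← hi]
        simp [hz]
      rw [this]
      exact zpow_mem C.z₀_mem_center i
    have h1 : α a = a ^ j * ζ := by rw [hζ]; group
    rw [h1, C.vec_mul, C.vec_pow, (C.vec_eq_zero_iff ζ).mpr hζc, add_zero,
      ← Nat.cast_smul_eq_nsmul (ZMod p), hj, ZMod.natCast_zmod_val]

end sylow

end Cfsg.Agent.Lib.Helper21.RV
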