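/-
helper21: subgroups of order `p²` in an extraspecial Sylow subgroup of order `p³`; assembly of the
three-radical-subgroups bound.
-/
import Mathlib
import Cfsg.Agent.Lib.Helper21.RVGrpD
import Cfsg.Agent.Lib.Helper21.RVFinal

set_option autoImplicit false
set_option linter.unusedSectionVars false

namespace Cfsg.Agent.Lib.Helper21.RV

open Subgroup Matrix
open scoped commutatorElement

theorem Coord.z₀_ne_one {p : ℕ} [Fact p.Prime] {P : Type*} [Group P] [Finite P] (C : Coord p P)
    (hZ : Nat.card (center P) = p) (hcard : Nat.card P = p ^ 3) : C.z₀ ≠ 1 := by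
  intro h
  have hpp : p.Prime := Fact.out
  have hcomm : ∀ a b : P, a * b = b * a := by
    intro a b
    have := C.comm_eq a b
    rw [h, one_pow] at this
    exact commutatorElement_eq_one_iff_mul_comm.mp this
  have htop : center P = ⊤ := by
    ext x
    simp only [Subgroup.mem_center_iff, Subgroup.mem_top, iff_true]
    intro g
    exact hcomm g x
  rw [htop, Subgroup.card_top, hcard] at hZ
  have h2 : p ^ 3 = p ^ 1 := by rw [pow_one]; exact hZ
  have := Nat.pow_right_injective hpp.two_le h2
  omega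

section order_sq

variable {G : Type*} [Group G] [Finite G] {p : ℕ} [Fact p.Prime] (P : Sylow p G)
  (A : Subgroup G) (hAP : A ≤ (P : Subgroup G)) (hAcard : Nat.card A = p ^ 2)

include hAcard in
theorem comm_of_card_sq (a b : G) (ha : a ∈ A) (hb : b ∈ A) : a * b = b * a := by
  have hc : IsMulCommutative ↥A := IsPGroup.isMulCommutative_of_card_eq_prime_sq hAcard
  have := isMulCommutative_iff.mp hc ⟨a, ha⟩ ⟨b, hb⟩
  exact congrArg Subtype.val this

include hAP hAcard in
theorem isCoatom_subgroupOf (hcard : Nat.card (P : Subgroup G) = p ^ 3) :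
    IsCoatom (A.subgroupOf (P : Subgroup G)) := by
  have hpp : p.Prime := Fact.out
  apply isCoatom_of_index_prime' hpp
  have h1 := Subgroup.card_mul_index (A.subgroupOf (P : Subgroup G))
  have h2 : Nat.card (A.subgroupOf (P : Subgroup G)) = p ^ 2 := by
    rw [← hAcard]
    exact Nat.card_congr (Subgroup.subgroupOfEquivOfLe hAP).toEquiv
  rw [h2, hcard] at h1
  have h3 : p ^ 3 = p ^ 2 * p := by ring
  rw [h3] at h1
  exact Nat.eq_of_mul_eq_mul_left (pow_pos hpp.pos 2) h1

include hAP hAcard in
theorem center_le_subgroupOf (hcard : Nat.card (P : Subgroup G) = p ^ 3)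
    (hfr : frattini ↥(P : Subgroup G) = center ↥(P : Subgroup G)) :
    center ↥(P : Subgroup G) ≤ A.subgroupOf (P : Subgroup G) := by
  rw [← hfr]
  exact frattini_le_coatom (isCoatom_subgroupOf P A hAP hAcard hcard)

include hAP hAcard in
theorem exists_noncentral (hZ : Nat.card (center ↥(P : Subgroup G)) = p) :
    ∃ a : ↥(P : Subgroup G), (a : G) ∈ A ∧ a ∉ center ↥(P : Subgroup G) := by
  have hpp : p.Prime := Fact.out
  by_contra hcon
  push Not at hcon
  have hle : A.subgroupOf (P : Subgroup G) ≤ center ↥(P : Subgroup G) := by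
    intro a ha
    exact hcon a (Subgroup.mem_subgroupOf.mp ha)
  have h1 := Subgroup.card_le_of_le hle
  have h2 : Nat.card (A.subgroupOf (P : Subgroup G)) = p ^ 2 := by
    rw [← hAcard]
    exact Nat.card_congr (Subgroup.subgroupOfEquivOfLe hAP).toEquiv
  rw [h2, hZ] at h1
  have : p * 2 ≤ p * p := Nat.mul_le_mul_left p hpp.two_le
  nlinarith [hpp.two_le]

include hAP hAcard in
theorem subgroupOf_eq_centralizer (hcard : Nat.card (P : Subgroup G) = p ^ 3)
    (a : ↥(P : Subgroup G)) (haA : (a : G) ∈ A) (hna : a ∉ center ↥(P : Subgroup G)) :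
    A.subgroupOf (P : Subgroup G) = centralizer ({a} : Set ↥(P : Subgroup G)) := by
  have hco := isCoatom_subgroupOf P A hAP hAcard hcard
  have hle : A.subgroupOf (P : Subgroup G) ≤ centralizer ({a} : Set ↥(P : Subgroup G)) := by
    intro u hu
    rw [mem_centralizer_singleton_iff]
    apply Subtype.ext
    exact comm_of_card_sq A hAcard _ _ (Subgroup.mem_subgroupOf.mp hu) haA
  rcases hco.le_iff.mp hle with htop | heq
  · exfalso
    apply hna
    rw [Subgroup.mem_center_iff]
    intro g
    have : g ∈ centralizer ({a} : Set ↥(P : Subgroup G)) := htop ▸ Subgroup.mem_top g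
    exact (mem_centralizer_singleton_iff.mp this)
  · exact heq.symm

include hAP hAcard in
theorem nonempty_equiv_of_card_sq (hexp : ∀ u : ↥(P : Subgroup G), u ^ p = 1) :
    Nonempty (↥A ≃* Multiplicative (Fin 2 → ZMod p)) := by
  apply Cfsg.Agent.Lib.Helper26.exists_mulEquiv_of_elemAb p _ _ hAcard
  · intro a b
    apply Subtype.ext
    exact comm_of_card_sq A hAcard _ _ a.2 b.2
  · intro a
    apply Subtype.ext
    have := congrArg Subtype.val (hexp ⟨a, hAP a.2⟩)
    simpa using this

end order_sq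

section three

variable {G : Type*} [Group G] [Finite G] {p : ℕ} [Fact p.Prime]

/-- distinct subgroups of order `p²` give independent coordinate vectors -/
theorem indep_of_ne (P : Sylow p G) (C : Coord p ↥(P : Subgroup G))
    (hcard : Nat.card (P : Subgroup G) = p ^ 3)
    (A B : Subgroup G) (hAP : A ≤ (P : Subgroup G)) (hBP : B ≤ (P : Subgroup G))
    (hAcard : Nat.card A = p ^ 2) (hBcard : Nat.card B = p ^ 2) (hAB : A ≠ B)
    (a b : ↥(P : Subgroup G)) (haA : (a : G) ∈ A) (hbB : (b : G) ∈ B)
    (hna : a ∉ center ↥(P : Subgroup G)) (hnb : b ∉ center ↥(P : Subgroup G)) :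
    C.vec a 0 * C.vec b 1 - C.vec b 0 * C.vec a 1 ≠ 0 := by
  intro hd
  apply hAB
  have hcomm : ⁅a, b⁆ = 1 := by rw [C.comm_eq, hd, ZMod.val_zero, pow_zero]
  have hab : a * b = b * a := commutatorElement_eq_one_iff_mul_comm.mp hcomm
  have hA' := subgroupOf_eq_centralizer P A hAP hAcard hcard a haA hna
  have hB' := subgroupOf_eq_centralizer P B hBP hBcard hcard b hbB hnb
  have hbA : (b : G) ∈ A := by
    have : b ∈ centralizer ({a} : Set ↥(P : Subgroup G)) := by
      rw [mem_centralizer_singleton_iff]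
      exact hab.symm
    rw [← hA'] at this
    exact Subgroup.mem_subgroupOf.mp this
  have hle : A.subgroupOf (P : Subgroup G) ≤ B.subgroupOf (P : Subgroup G) := by
    rw [hB']
    intro u hu
    rw [mem_centralizer_singleton_iff]
    apply Subtype.ext
    exact comm_of_card_sq A hAcard _ _ (Subgroup.mem_subgroupOf.mp hu) hbA
  have hcoA := isCoatom_subgroupOf P A hAP hAcard hcard
  have hcoB := isCoatom_subgroupOf P B hBP hBcard hcard
  have heq : B.subgroupOf (P : Subgroup G) = A.subgroupOf (P : Subgroup G) := by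
    rcases hcoA.le_iff.mp hle with h | h
    · exact absurd h hcoB.1
    · exact h
  have := Subgroup.subgroupOf_inj.mp heq
  rw [inf_eq_left.mpr hBP, inf_eq_left.mpr hAP] at this
  exact this.symm

/-- **Three radical subgroups of order `p²` force `p ≤ 13`.** -/
theorem three_radical_bound (hp : p ≠ 2) (P : Sylow p G)
    (hE : Cfsg.IsExtraspecial p ↥(P : Subgroup G))
    (hcard : Nat.card (P : Subgroup G) = p ^ 3) (hexp : Monoid.exponent ↥(P : Subgroup G) = p)
    (A : Fin 3 → Subgroup G) (hA : Function.Injective A) (hAP : ∀ i, A i ≤ (P : Subgroup G))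
    (hAcard : ∀ i, Nat.card ↥(A i) = p ^ 2)
    (hSL : ∀ i, ∀ φ : MulAut ↥(A i), orderOf φ = p →
      ∃ g : G, ∀ a : ↥(A i), (φ a : G) = g * (a : G) * g⁻¹) :
    p ≤ 13 := by
  obtain ⟨C⟩ := nonempty_coord hE hcard hexp
  have hZ : Nat.card (center ↥(P : Subgroup G)) = p := hE.2
  have hfr : frattini ↥(P : Subgroup G) = center ↥(P : Subgroup G) := hE.1.2.1
  have hz₀ := C.z₀_ne_one hZ hcard
  obtain ⟨lam, hlam⟩ := exists_unit_generator p
  have hO := normRep_range_pprime P C
  have key : ∀ i, ∃ a : ↥(P : Subgroup G), (a : G) ∈ A i ∧ a ∉ center ↥(P : Subgroup G) ∧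
      IsRad (normRep (P : Subgroup G) C).range lam (C.vec a) := by
    intro i
    obtain ⟨e⟩ := nonempty_equiv_of_card_sq P (A i) (hAP i) (hAcard i) C.exp
    have hall := toGL_mem_indGL_of_hSL p (A i) e (hSL i)
    have hz₀A : ((C.z₀ : ↥(P : Subgroup G)) : G) ∈ A i :=
      Subgroup.mem_subgroupOf.mp
        (center_le_subgroupOf P (A i) (hAP i) (hAcard i) hcard hfr C.z₀_mem_center)
    obtain ⟨g, hgO, hdet, heig⟩ := exists_rad_elt P C hz₀ (A i) (hAP i) hz₀A e hall lam
    obtain ⟨a, haA, hna⟩ := exists_noncentral P (A i) (hAP i) (hAcard i) hZ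
    exact ⟨a, haA, hna, g, hgO, heig a haA, hdet⟩
  choose a haA hna hrad using key
  have hind : ∀ i j, i ≠ j →
      C.vec (a i) 0 * C.vec (a j) 1 - C.vec (a j) 0 * C.vec (a i) 1 ≠ 0 := by
    intro i j hij
    exact indep_of_ne P C hcard (A i) (A j) (hAP i) (hAP j) (hAcard i) (hAcard j)
      (fun h => hij (hA h)) (a i) (a j) (haA i) (haA j) (hna i) (hna j)
  exact (le_thirteen_of_three_rad hp _ hO lam hlam _ _ _ (hind 0 1 (by decide))
    (hind 0 2 (by decide)) (hind 1 2 (by decide)) (hrad 0) (hrad 1) (hrad 2)).1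

end three

end Cfsg.Agent.Lib.Helper21.RV
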