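/-
helper21: two distinct `p`-groups of induced automorphisms of an elementary abelian group of order
`p²` induce all of `SL₂(p)`; centralizers of noncentral elements in an extraspecial group of order
`p³`.
-/
import Mathlib
import Cfsg.Agent.Lib.Helper21.RVGrpE

set_option autoImplicit false
set_option linter.unusedSectionVars false

namespace Cfsg.Agent.Lib.Helper21.RV

open Subgroup Matrix Cfsg.Agent.Lib.Helper26
open scoped commutatorElement

section two

variable {G : Type*} [Group G] (p : ℕ) [Fact p.Prime] (A : Subgroup G)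
  (e : ↥A ≃* Multiplicative (Fin 2 → ZMod p))

/-- the matrix representation of `N_G(A)` on `A` -/
noncomputable def normGL : ↥(normalizer (A : Set G)) →* GL (Fin 2) (ZMod p) :=
  (autGL p e).toMonoidHom.comp A.normalizerMonoidHom

theorem normGL_mem_indGL (n : ↥(normalizer (A : Set G))) : normGL p A e n ∈ indGL p A e := by
  refine ⟨n, fun a => ?_⟩
  show (((autGL p e).symm (autGL p e (A.normalizerMonoidHom n)) a : A) : G) = _
  rw [MulEquiv.symm_apply_apply]
  rfl

theorem normGL_eq_iff (n n' : ↥(normalizer (A : Set G))) :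
    normGL p A e n = normGL p A e n' ↔
      ∀ x : A, (n : G) * x * (n : G)⁻¹ = (n' : G) * x * (n' : G)⁻¹ := by
  constructor
  · intro h x
    have h1 : A.normalizerMonoidHom n = A.normalizerMonoidHom n' := (autGL p e).injective h
    exact congrArg (fun φ : MulAut A => ((φ x : A) : G)) h1
  · intro h
    have h1 : A.normalizerMonoidHom n = A.normalizerMonoidHom n' := by
      ext x
      exact h x
    show autGL p e (A.normalizerMonoidHom n) = autGL p e (A.normalizerMonoidHom n')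
    rw [h1]

/-- Two `p`-subgroups of `N_G(A)` acting nontrivially and differently on `A` induce all of
`SL₂(p)` on `A`. -/
theorem toGL_mem_indGL_of_two (R₁ R₂ : Subgroup G) (hR₁ : R₁ ≤ normalizer (A : Set G))
    (hR₂ : R₂ ≤ normalizer (A : Set G)) (hp₁ : IsPGroup p R₁) (hp₂ : IsPGroup p R₂)
    (x₁ : A) (r₁ : G) (hr₁ : r₁ ∈ R₁) (h₁ : r₁ * x₁ * r₁⁻¹ ≠ x₁)
    (x₀ : A) (r₂ : G) (hr₂ : r₂ ∈ R₂) (h₂ : r₂ * x₀ * r₂⁻¹ ≠ x₀)
    (h₃ : ∀ r ∈ R₁, r * x₀ * r⁻¹ = x₀)
    (h : SpecialLinearGroup (Fin 2) (ZMod p)) :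
    (SpecialLinearGroup.toGL h : GL (Fin 2) (ZMod p)) ∈ indGL p A e := by
  set N := normalizer (A : Set G) with hN
  set Q₁ := (R₁.subgroupOf N).map (normGL p A e) with hQ₁
  set Q₂ := (R₂.subgroupOf N).map (normGL p A e) with hQ₂
  have hle₁ : Q₁ ≤ indGL p A e := by
    rintro _ ⟨n, -, rfl⟩
    exact normGL_mem_indGL p A e n
  have hle₂ : Q₂ ≤ indGL p A e := by
    rintro _ ⟨n, -, rfl⟩
    exact normGL_mem_indGL p A e n
  have hpQ₁ : IsPGroup p Q₁ := (hp₁.comap_subtype).map _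
  have hpQ₂ : IsPGroup p Q₂ := (hp₂.comap_subtype).map _
  have hmem₁ : normGL p A e ⟨r₁, hR₁ hr₁⟩ ∈ Q₁ :=
    Subgroup.mem_map_of_mem _ (Subgroup.mem_subgroupOf.mpr hr₁)
  have hmem₂ : normGL p A e ⟨r₂, hR₂ hr₂⟩ ∈ Q₂ :=
    Subgroup.mem_map_of_mem _ (Subgroup.mem_subgroupOf.mpr hr₂)
  have hne₁ : Q₁ ≠ ⊥ := by
    intro hbot
    rw [hbot, Subgroup.mem_bot] at hmem₁
    have h4 : normGL p A e ⟨r₁, hR₁ hr₁⟩ = normGL p A e 1 := by rw [hmem₁, map_one]
    have := (normGL_eq_iff p A e _ _).mp h4 x₁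
    apply h₁
    simpa using this
  have hne₂ : Q₂ ≠ ⊥ := by
    intro hbot
    rw [hbot, Subgroup.mem_bot] at hmem₂
    have h4 : normGL p A e ⟨r₂, hR₂ hr₂⟩ = normGL p A e 1 := by rw [hmem₂, map_one]
    have := (normGL_eq_iff p A e _ _).mp h4 x₀
    apply h₂
    simpa using this
  have hne : Q₁ ≠ Q₂ := by
    intro heq
    rw [← heq] at hmem₂
    obtain ⟨n, hn, hn'⟩ := hmem₂
    have := (normGL_eq_iff p A e _ _).mp hn' x₀
    apply h₂
    rw [← this]
    exact h₃ _ (Subgroup.mem_subgroupOf.mp hn)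
  have := range_toGL_le_of_two_pgroups p (indGL p A e) Q₁ Q₂ hle₁ hle₂ hpQ₁ hpQ₂ hne₁ hne₂ hne
  exact this ⟨h, rfl⟩

end two

section cent

variable {p : ℕ} [Fact p.Prime] {P : Type*} [Group P] [Finite P]

theorem Coord.card_centralizer (C : Coord p P) (hZ : Nat.card (center P) = p) (hcard : Nat.card P = p ^ 3)
    (a : P) (ha : a ∉ center P) : Nat.card (centralizer ({a} : Set P)) = p ^ 2 := by
  have hpp : p.Prime := Fact.out
  have h := C.commutator_le_center
  have hidx := Cfsg.Agent.Lib.Helper4.index_centralizer_eq_card_range h a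
  have hle : (Cfsg.Agent.Lib.Helper4.commHom h a).range ≤ center P :=
    (Cfsg.Agent.Lib.Helper4.commHom_range_le h a).trans h
  have hdvd : Nat.card (Cfsg.Agent.Lib.Helper4.commHom h a).range ∣ p := by
    rw [← hZ]
    exact Subgroup.card_dvd_of_le hle
  have hne : Nat.card (Cfsg.Agent.Lib.Helper4.commHom h a).range ≠ 1 := by
    intro h1
    have hbot := Subgroup.card_eq_one.mp h1
    apply ha
    rw [Subgroup.mem_center_iff]
    intro g
    have h2 : Cfsg.Agent.Lib.Helper4.commHom h a g ∈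
        (Cfsg.Agent.Lib.Helper4.commHom h a).range := ⟨g, rfl⟩
    rw [hbot, Subgroup.mem_bot] at h2
    exact commutatorElement_eq_one_iff_mul_comm.mp h2
  have hp' : Nat.card (Cfsg.Agent.Lib.Helper4.commHom h a).range = p :=
    ((Nat.dvd_prime hpp).mp hdvd).resolve_left hne
  rw [hp'] at hidx
  have h1 := Subgroup.card_mul_index (centralizer ({a} : Set P))
  rw [hidx, hcard] at h1
  have h3 : p ^ 3 = p ^ 2 * p := by ring
  rw [h3] at h1
  exact Nat.eq_of_mul_eq_mul_right hpp.pos h1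

theorem Coord.center_eq_zpowers (C : Coord p P) (hZ : Nat.card (center P) = p) (hz₀ : C.z₀ ≠ 1) :
    center P = zpowers C.z₀ := by
  symm
  apply Subgroup.eq_of_le_of_card_ge ((zpowers_le).mpr C.z₀_mem_center)
  rw [hZ, Nat.card_zpowers, orderOf_eq_prime C.z₀_pow hz₀]

end cent

section sylowconj

variable {G : Type*} [Group G]

/-- A `p`-subgroup `T` of a subgroup `L` containing the Sylow `p`-subgroup `P` of `G` is
conjugate into `P` by an element of `L` (copied from helper8's `BG76`). -/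
theorem exists_conj_le_sylow' [Finite G] {p : ℕ} [Fact p.Prime] (P : Sylow p G)
    {L T : Subgroup G} (hPL : (P : Subgroup G) ≤ L) (hTL : T ≤ L) (hT : IsPGroup p ↥T) :
    ∃ g ∈ L, ∀ t ∈ T, g * t * g⁻¹ ∈ (P : Subgroup G) := by
  have hT' : IsPGroup p ↥(T.subgroupOf L) := hT.comap_subtype
  obtain ⟨Q, hQ⟩ := hT'.exists_le_sylow
  obtain ⟨g, hg⟩ := MulAction.exists_smul_eq ↥L Q (P.subtype hPL)
  refine ⟨g, g.2, fun t ht => ?_⟩
  have h1 : (⟨t, hTL ht⟩ : ↥L) ∈ (Q : Subgroup ↥L) := hQ (Subgroup.mem_subgroupOf.mpr ht)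
  have h2 : g * ⟨t, hTL ht⟩ * g⁻¹ ∈ ((g • Q : Sylow p ↥L) : Subgroup ↥L) := by
    rw [Sylow.coe_subgroup_smul]
    have := Subgroup.smul_mem_pointwise_smul (⟨t, hTL ht⟩ : ↥L) (MulAut.conj g)
      (Q : Subgroup ↥L) h1
    simpa [MulAut.smul_def] using this
  rw [hg] at h2
  have h3 : g * ⟨t, hTL ht⟩ * g⁻¹ ∈ (P : Subgroup G).subgroupOf L := h2
  exact Subgroup.mem_subgroupOf.mp h3

end sylowconj

section allconj

variable {G : Type*} [Group G] [Finite G] {p : ℕ} [Fact p.Prime] (P : Sylow p G)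
  (C : Coord p ↥(P : Subgroup G))

/-- the centraliser in `P` of an element, as a subgroup of `G` -/
def centIn (a : G) : Subgroup G := (P : Subgroup G) ⊓ centralizer ({a} : Set G)

omit [Finite G] in
theorem mem_centIn {a u : G} : u ∈ centIn P a ↔ u ∈ (P : Subgroup G) ∧ u * a = a * u := by
  rw [centIn, Subgroup.mem_inf, mem_centralizer_singleton_iff]

omit [Finite G] in
theorem centIn_le (a : G) : centIn P a ≤ (P : Subgroup G) := inf_le_left

omit [Finite G] in
theorem centIn_subgroupOf (a : ↥(P : Subgroup G)) :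
    (centIn P (a : G)).subgroupOf (P : Subgroup G) =
      centralizer ({a} : Set ↥(P : Subgroup G)) := by
  ext u
  rw [Subgroup.mem_subgroupOf, mem_centIn, mem_centralizer_singleton_iff]
  constructor
  · rintro ⟨-, h⟩
    exact Subtype.ext h
  · intro h
    exact ⟨u.2, congrArg Subtype.val h⟩

include C in
theorem card_centIn (hZ : Nat.card (center ↥(P : Subgroup G)) = p)
    (hcard : Nat.card (P : Subgroup G) = p ^ 3) (a : ↥(P : Subgroup G))
    (ha : a ∉ center ↥(P : Subgroup G)) : Nat.card (centIn P (a : G)) = p ^ 2 := by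
  rw [← C.card_centralizer hZ hcard a ha, ← centIn_subgroupOf]
  exact (Nat.card_congr (Subgroup.subgroupOfEquivOfLe (centIn_le P _)).toEquiv).symm

/-- a conjugating element to `z₀` may be chosen to map `C_P(a)` into `P` -/
theorem exists_conj_centIn (a : ↥(P : Subgroup G)) (g₁ : G)
    (hg₁ : g₁ * (a : G) * g₁⁻¹ = ((C.z₀ : ↥(P : Subgroup G)) : G)) :
    ∃ g : G, g * (a : G) * g⁻¹ = ((C.z₀ : ↥(P : Subgroup G)) : G) ∧
      ∀ u ∈ centIn P (a : G), g * u * g⁻¹ ∈ (P : Subgroup G) := by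
  set z : G := ((C.z₀ : ↥(P : Subgroup G)) : G) with hz
  have hPL : (P : Subgroup G) ≤ centralizer ({z} : Set G) := by
    intro u hu
    rw [mem_centralizer_singleton_iff]
    exact (zpowers_z₀_comm P C u hu z (mem_zpowers z)).symm
  have hTL : (centIn P (a : G)).map (MulAut.conj g₁).toMonoidHom ≤
      centralizer ({z} : Set G) := by
    rintro _ ⟨u, hu, rfl⟩
    rw [mem_centralizer_singleton_iff]
    have h1 := (mem_centIn P).mp hu
    show g₁ * u * g₁⁻¹ * z = z * (g₁ * u * g₁⁻¹)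
    rw [← hg₁]
    calc g₁ * u * g₁⁻¹ * (g₁ * (a : G) * g₁⁻¹) = g₁ * (u * (a : G)) * g₁⁻¹ := by group
      _ = g₁ * ((a : G) * u) * g₁⁻¹ := by rw [h1.2]
      _ = g₁ * (a : G) * g₁⁻¹ * (g₁ * u * g₁⁻¹) := by group
  have hT : IsPGroup p ↥((centIn P (a : G)).map (MulAut.conj g₁).toMonoidHom) :=
    (P.isPGroup'.to_le (centIn_le P _)).map _
  obtain ⟨c, hcL, hc⟩ := exists_conj_le_sylow' P hPL hTL hT
  rw [mem_centralizer_singleton_iff] at hcL
  refine ⟨c * g₁, ?_, ?_⟩
  · calc c * g₁ * (a : G) * (c * g₁)⁻¹ = c * (g₁ * (a : G) * g₁⁻¹) * c⁻¹ := by group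
      _ = c * z * c⁻¹ := by rw [hg₁]
      _ = z := by rw [hcL]; group
  · intro u hu
    have := hc (g₁ * u * g₁⁻¹) ⟨u, hu, rfl⟩
    have e : c * g₁ * u * (c * g₁)⁻¹ = c * (g₁ * u * g₁⁻¹) * c⁻¹ := by group
    rw [e]
    exact this

/-- **Every noncentral element spans a radical line.** -/
theorem isRad_of_conj (hZ : Nat.card (center ↥(P : Subgroup G)) = p)
    (hcard : Nat.card (P : Subgroup G) = p ^ 3)
    (hconj : ∀ x y : ↥(P : Subgroup G), x ≠ 1 → y ≠ 1 → ∃ g : G, g * (x : G) * g⁻¹ = (y : G))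
    (lam : (ZMod p)ˣ) (a : ↥(P : Subgroup G)) (ha : a ∉ center ↥(P : Subgroup G)) :
    IsRad (normRep (P : Subgroup G) C).range lam (C.vec a) := by
  have hpp : p.Prime := Fact.out
  have hz₀ := C.z₀_ne_one hZ hcard
  have ha1 : a ≠ 1 := fun h => ha (h ▸ one_mem _)
  obtain ⟨g₁, hg₁⟩ := hconj a C.z₀ ha1 hz₀
  obtain ⟨g, hga, hgA⟩ := exists_conj_centIn P C a g₁ hg₁
  set z : G := ((C.z₀ : ↥(P : Subgroup G)) : G) with hz
  have hAP : centIn P (a : G) ≤ (P : Subgroup G) := centIn_le P _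
  have hzP : z ∈ (P : Subgroup G) := C.z₀.2
  have hzcomm : ∀ u ∈ (P : Subgroup G), z * u = u * z :=
    fun u hu => zpowers_z₀_comm P C u hu z (mem_zpowers z)
  have hzA : z ∈ centIn P (a : G) := (mem_centIn P).mpr ⟨hzP, hzcomm _ a.2⟩
  have haA : (a : G) ∈ centIn P (a : G) := (mem_centIn P).mpr ⟨a.2, rfl⟩
  have hAcard : Nat.card (centIn P (a : G)) = p ^ 2 := card_centIn P C hZ hcard a ha
  obtain ⟨e⟩ := nonempty_equiv_of_card_sq P (centIn P (a : G)) hAP hAcard C.exp
  have hA'P : (centIn P (a : G)).map (MulAut.conj g).toMonoidHom ≤ (P : Subgroup G) := by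
    rintro _ ⟨u, hu, rfl⟩
    exact hgA u hu
  have hzA' : z ∈ (centIn P (a : G)).map (MulAut.conj g).toMonoidHom := ⟨a, haA, hga⟩
  have hflag' := le_flagStab P C _ hA'P hzA'
  have hflag := le_flagStab P C _ hAP hzA
  have hR'p : IsPGroup p ↥((P : Subgroup G).comap (MulAut.conj g).toMonoidHom) :=
    P.isPGroup'.comap_of_injective _ (MulAut.conj g).injective
  have hR'N : (P : Subgroup G).comap (MulAut.conj g).toMonoidHom ≤
      normalizer (centIn P (a : G) : Set G) := by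
    intro r hr
    have hr' : g * r * g⁻¹ ∈ (P : Subgroup G) := hr
    apply mem_normalizer_fintype
    intro u hu
    have h1 := (mem_flagStab.mp (hflag' hr')).1
    have h2 : g * u * g⁻¹ ∈ (centIn P (a : G)).map (MulAut.conj g).toMonoidHom := ⟨u, hu, rfl⟩
    obtain ⟨w, hw, hw'⟩ := (mem_normalizer_iff.mp h1 _).mp h2
    have h4 : g * w * g⁻¹ = g * r * g⁻¹ * (g * u * g⁻¹) * (g * r * g⁻¹)⁻¹ := hw'
    have h5 : g * w * g⁻¹ = g * (r * u * r⁻¹) * g⁻¹ := by rw [h4]; group
    have h6 : w = r * u * r⁻¹ := mul_left_cancel (mul_right_cancel h5)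
    rw [SetLike.mem_coe, ← h6]
    exact hw
  have hPN : (P : Subgroup G) ≤ normalizer (centIn P (a : G) : Set G) :=
    fun u hu => (mem_flagStab.mp (hflag hu)).1
  -- an element of `P` moving `a`
  obtain ⟨r₁, hr₁⟩ : ∃ r : ↥(P : Subgroup G), r * a ≠ a * r := by
    by_contra hcon
    push Not at hcon
    exact ha (Subgroup.mem_center_iff.mpr hcon)
  have h₁ : (r₁ : G) * (a : G) * (r₁ : G)⁻¹ ≠ (a : G) := by
    intro h
    apply hr₁
    apply Subtype.ext
    exact mul_inv_eq_iff_eq_mul.mp h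
  have hva : C.vec a ≠ 0 := fun h => ha ((C.vec_eq_zero_iff a).mp h)
  -- an element of `R'` moving `z`
  obtain ⟨r₂, hr₂, h₂⟩ : ∃ r ∈ (P : Subgroup G).comap (MulAut.conj g).toMonoidHom,
      r * z * r⁻¹ ≠ z := by
    by_contra hcon
    push Not at hcon
    have hwP : g * z * g⁻¹ ∈ (P : Subgroup G) := hgA z hzA
    have hwc : ∀ u ∈ (P : Subgroup G), u * (g * z * g⁻¹) * u⁻¹ = g * z * g⁻¹ := by
      intro u hu
      have hr : g⁻¹ * u * g ∈ (P : Subgroup G).comap (MulAut.conj g).toMonoidHom := by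
        show g * (g⁻¹ * u * g) * g⁻¹ ∈ (P : Subgroup G)
        have e1 : g * (g⁻¹ * u * g) * g⁻¹ = u := by group
        rw [e1]
        exact hu
      calc u * (g * z * g⁻¹) * u⁻¹ = g * (g⁻¹ * u * g * z * (g⁻¹ * u * g)⁻¹) * g⁻¹ := by group
        _ = g * z * g⁻¹ := by rw [hcon _ hr]
    have hcen : (⟨g * z * g⁻¹, hwP⟩ : ↥(P : Subgroup G)) ∈ center ↥(P : Subgroup G) := by
      rw [Subgroup.mem_center_iff]
      intro u
      apply Subtype.ext
      exact mul_inv_eq_iff_eq_mul.mp (hwc u u.2)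
    rw [C.center_eq_zpowers hZ hz₀, ← mem_powers_iff_mem_zpowers] at hcen
    obtain ⟨k, hk⟩ := hcen
    have hk' : z ^ k = g * z * g⁻¹ := by
      have := congrArg Subtype.val hk
      simpa using this
    have hk2 : g * (a : G) ^ k * g⁻¹ = g * z * g⁻¹ := by
      rw [← conj_pow, hga]
      exact hk'
    have hk3 : (a : G) ^ k = z := mul_left_cancel (mul_right_cancel hk2)
    have hk4 : a ^ k = C.z₀ := by
      apply Subtype.ext
      rw [SubgroupClass.coe_pow]
      exact hk3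
    have hk5 : k • C.vec a = 0 := by
      rw [← C.vec_pow, hk4]
      exact (C.vec_eq_zero_iff _).mpr C.z₀_mem_center
    rw [← Nat.cast_smul_eq_nsmul (ZMod p), smul_eq_zero] at hk5
    rcases hk5 with hk5 | hk5
    · rw [ZMod.natCast_eq_zero_iff] at hk5
      obtain ⟨m, rfl⟩ := hk5
      apply hz₀
      rw [← hk4, pow_mul, C.exp a, one_pow]
    · exact hva hk5
  have h₃ : ∀ r ∈ (P : Subgroup G), r * z * r⁻¹ = z := by
    intro r hr
    rw [← hzcomm r hr]
    group
  have hall : ∀ h : SpecialLinearGroup (Fin 2) (ZMod p),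
      (SpecialLinearGroup.toGL h : GL (Fin 2) (ZMod p)) ∈ indGL p (centIn P (a : G)) e :=
    fun h => toGL_mem_indGL_of_two p (centIn P (a : G)) e (P : Subgroup G) _ hPN hR'N
      P.isPGroup' hR'p ⟨(a : G), haA⟩ (r₁ : G) r₁.2 h₁ ⟨z, hzA⟩ r₂ hr₂ h₂ h₃ h
  obtain ⟨g', hg'O, hdet, heig⟩ := exists_rad_elt P C hz₀ _ hAP hzA e hall lam
  exact ⟨g', hg'O, heig a haA, hdet⟩

/-- **All nonidentity elements conjugate force `p ≤ 7`.** -/
theorem all_conj_bound (hp : p ≠ 2)
    (hE : Cfsg.IsExtraspecial p ↥(P : Subgroup G))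
    (hcard : Nat.card (P : Subgroup G) = p ^ 3) (hexp : Monoid.exponent ↥(P : Subgroup G) = p)
    (hconj : ∀ x y : ↥(P : Subgroup G), x ≠ 1 → y ≠ 1 → ∃ g : G, g * (x : G) * g⁻¹ = (y : G)) :
    p ≤ 7 := by
  obtain ⟨C⟩ := nonempty_coord hE hcard hexp
  have hZ : Nat.card (center ↥(P : Subgroup G)) = p := hE.2
  obtain ⟨lam, hlam⟩ := exists_unit_generator p
  have hO := normRep_range_pprime P C
  apply le_seven_of_all_rad hp _ hO lam hlam
  intro v hv
  obtain ⟨a, ha⟩ := C.surj (Multiplicative.ofAdd v)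
  have hva : C.vec a = v := by
    show Multiplicative.toAdd (C.π a) = v
    rw [ha]
    rfl
  rw [← hva]
  apply isRad_of_conj P C hZ hcard hconj lam a
  intro hc
  apply hv
  rw [← hva]
  exact (C.vec_eq_zero_iff a).mpr hc

end allconj

end Cfsg.Agent.Lib.Helper21.RV
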