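import Mathlib

/-! Recognition of the group `3^{1+2} : 2` of order `54` (the involution inverting both
generators) by generators and relations (helper21, task B2 for helper1's S5559).

Method: the presented group `P` on the seven relations has every element of the normal form
`d^e x^i y^j [x,y]^k` with `e < 2`, `i j k < 3`, so `|P| ≤ 54`; a group of order `54` generated by
elements satisfying the relations is a quotient of `P`, hence isomorphic to `P`. -/

set_option autoImplicit false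

open scoped commutatorElement

namespace Cfsg.Agent.Lib.Helper21.Recog54

section general

variable {G : Type*} [Group G]

/-- `a b = z b a` with `z` commuting with `b`: `a b^j = z^j b^j a` -/
theorem mul_pow_of_twist (a b z : G) (hab : a * b = z * b * a) (hzb : Commute z b) (j : ℕ) :
    a * b ^ j = z ^ j * b ^ j * a := by
  induction j with
  | zero => simp
  | succ j ih =>
    calc a * b ^ (j + 1) = (a * b ^ j) * b := by rw [pow_succ, mul_assoc]
      _ = z ^ j * b ^ j * (a * b) := by rw [ih]; simp only [mul_assoc]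
      _ = z ^ j * b ^ j * (z * b * a) := by rw [hab]
      _ = z ^ j * (b ^ j * z) * b * a := by simp only [mul_assoc]
      _ = z ^ j * (z * b ^ j) * b * a := by rw [(hzb.pow_right j).eq]
      _ = z ^ (j + 1) * b ^ (j + 1) * a := by rw [pow_succ, pow_succ]; simp only [mul_assoc]

/-- an element inverting an element of order `3` -/
theorem pow_mul_invol (d a : G) (ha : a ^ 3 = 1) (hda : d * a * d⁻¹ = a⁻¹)
    (i : ℕ) : a ^ i * d = d * a ^ (2 * i) := by
  have hainv : a⁻¹ = a ^ 2 := inv_eq_of_mul_eq_one_right (by rw [← pow_succ', ha])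
  have h1 : d * a = a ^ 2 * d := by
    rw [← hainv, ← hda]; group
  have h2 : d * a ^ 2 = a * d := by
    have : d * a ^ 2 = a ^ 4 * d := by
      calc d * a ^ 2 = (d * a) * a := by rw [pow_two, mul_assoc]
        _ = (a ^ 2 * d) * a := by rw [h1]
        _ = a ^ 2 * (d * a) := by rw [mul_assoc]
        _ = a ^ 4 * d := by rw [h1, ← mul_assoc, ← pow_add]
    rw [this, show 4 = 3 + 1 from rfl, pow_add, ha, one_mul, pow_one]
  have hs : SemiconjBy d (a ^ 2) a := h2
  have := (hs.pow_right i).eq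
  rw [← pow_mul] at this
  exact this.symm

end general

section rel

variable {Y : Type*} [Group Y] (d x y : Y)

/-- the relations -/
def Rel : Prop :=
  d ^ 2 = 1 ∧ x ^ 3 = 1 ∧ y ^ 3 = 1 ∧ d * x * d⁻¹ = x⁻¹ ∧ d * y * d⁻¹ = y⁻¹ ∧
    Commute ⁅x, y⁆ x ∧ Commute ⁅x, y⁆ y

/-- the normal form -/
def nf (e i j k : ℕ) : Y := d ^ e * x ^ i * y ^ j * ⁅x, y⁆ ^ k

theorem xy_twist : x * y = ⁅x, y⁆ * y * x := by
  rw [commutatorElement_def]; group

variable {d x y}

theorem comm_pow_three (h : Rel d x y) : ⁅x, y⁆ ^ 3 = 1 := by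
  obtain ⟨-, hx, hy, -, -, hcx, hcy⟩ := h
  -- `x y^3 = c^3 y^3 x`
  have h1 := mul_pow_of_twist x y ⁅x, y⁆ (xy_twist x y) hcy 3
  rw [hy, mul_one, mul_one] at h1
  have h2 : ⁅x, y⁆ ^ 3 * x = 1 * x := by rw [one_mul]; exact h1.symm
  exact mul_right_cancel h2

/-- `y^j x = c^(2j) x y^j` -/
theorem y_pow_mul_x (h : Rel d x y) (j : ℕ) : y ^ j * x = ⁅x, y⁆ ^ (2 * j) * x * y ^ j := by
  have h3 := comm_pow_three h
  obtain ⟨-, hx, hy, -, -, hcx, hcy⟩ := h
  have h1 := mul_pow_of_twist x y ⁅x, y⁆ (xy_twist x y) hcy j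
  rw [mul_assoc, h1, ← mul_assoc, ← mul_assoc, ← pow_add]
  have e : 2 * j + j = 3 * j := by ring
  rw [e, pow_mul, h3, one_pow, one_mul]

theorem comm_mul_d (h : Rel d x y) : ⁅x, y⁆ * d = d * ⁅x, y⁆ := by
  obtain ⟨hd, hx, hy, hdx, hdy, hcx, hcy⟩ := h
  -- `d c d⁻¹ = ⁅x⁻¹, y⁻¹⁆ = c`
  have h1 : d * ⁅x, y⁆ * d⁻¹ = ⁅x⁻¹, y⁻¹⁆ := by
    have := map_commutatorElement (MulAut.conj d).toMonoidHom x y
    simp only [MulEquiv.toMonoidHom_eq_coe, MonoidHom.coe_coe, MulAut.conj_apply] at this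
    rw [this, hdx, hdy]
  have h2 : ⁅x⁻¹, y⁻¹⁆ = ⁅x, y⁆ := by
    have e1 : ⁅x⁻¹, y⁻¹⁆ = (y * x)⁻¹ * (x * y) := by
      rw [commutatorElement_def]; group
    have hc : Commute ⁅x, y⁆ (y * x) := hcy.mul_right hcx
    rw [e1, xy_twist x y, mul_assoc, hc.eq]; group
  rw [h2] at h1
  have : d * ⁅x, y⁆ = ⁅x, y⁆ * d := by
    calc d * ⁅x, y⁆ = (d * ⁅x, y⁆ * d⁻¹) * d := by group
      _ = ⁅x, y⁆ * d := by rw [h1]
  exact this.symm

theorem nf_mul_y (h : Rel d x y) (e i j k : ℕ) : nf d x y e i j k * y = nf d x y e i (j + 1) k := by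
  obtain ⟨-, -, -, -, -, hcx, hcy⟩ := h
  unfold nf
  rw [mul_assoc, ((hcy.pow_left k).eq), pow_succ]; simp only [mul_assoc]

theorem nf_mul_x (h : Rel d x y) (e i j k : ℕ) :
    nf d x y e i j k * x = nf d x y e (i + 1) j (k + 2 * j) := by
  have hyx := y_pow_mul_x h j
  obtain ⟨-, -, -, -, -, hcx, hcy⟩ := h
  unfold nf
  have hc1 : Commute (⁅x, y⁆ ^ (2 * j)) (x * y ^ j) :=
    ((hcx.mul_right (hcy.pow_right j))).pow_left (2 * j)
  calc d ^ e * x ^ i * y ^ j * ⁅x, y⁆ ^ k * x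
      = d ^ e * x ^ i * (y ^ j * x) * ⁅x, y⁆ ^ k := by
        rw [mul_assoc _ (⁅x, y⁆ ^ k) x, (hcx.pow_left k).eq]; simp only [mul_assoc]
    _ = d ^ e * x ^ i * (⁅x, y⁆ ^ (2 * j) * (x * y ^ j)) * ⁅x, y⁆ ^ k := by
        rw [hyx]; simp only [mul_assoc]
    _ = d ^ e * x ^ i * ((x * y ^ j) * ⁅x, y⁆ ^ (2 * j)) * ⁅x, y⁆ ^ k := by rw [hc1.eq]
    _ = d ^ e * x ^ (i + 1) * y ^ j * ⁅x, y⁆ ^ (k + 2 * j) := by
        rw [pow_succ, pow_add, (Commute.pow_pow_self ⁅x, y⁆ k (2 * j)).eq]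
        simp only [mul_assoc]

theorem nf_mul_d (h : Rel d x y) (e i j k : ℕ) :
    nf d x y e i j k * d = nf d x y (e + 1) (2 * i) (2 * j) k := by
  have hcd := comm_mul_d h
  obtain ⟨hd, hx, hy, hdx, hdy, hcx, hcy⟩ := h
  have hxd := pow_mul_invol d x hx hdx i
  have hyd := pow_mul_invol d y hy hdy j
  have hcd' : ⁅x, y⁆ ^ k * d = d * ⁅x, y⁆ ^ k := by
    have hs : SemiconjBy d ⁅x, y⁆ ⁅x, y⁆ := hcd.symm
    exact ((hs.pow_right k).eq).symm
  unfold nf
  calc d ^ e * x ^ i * y ^ j * ⁅x, y⁆ ^ k * d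
      = d ^ e * x ^ i * (y ^ j * d) * ⁅x, y⁆ ^ k := by
        rw [mul_assoc _ (⁅x, y⁆ ^ k) d, hcd']; simp only [mul_assoc]
    _ = d ^ e * (x ^ i * d) * y ^ (2 * j) * ⁅x, y⁆ ^ k := by rw [hyd]; simp only [mul_assoc]
    _ = d ^ (e + 1) * x ^ (2 * i) * y ^ (2 * j) * ⁅x, y⁆ ^ k := by
        rw [hxd, pow_succ]; simp only [mul_assoc]

theorem nf_mod (h : Rel d x y) (e i j k : ℕ) :
    nf d x y e i j k = nf d x y (e % 2) (i % 3) (j % 3) (k % 3) := by
  have h3 := comm_pow_three h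
  obtain ⟨hd, hx, hy, -, -, -, -⟩ := h
  unfold nf
  rw [pow_eq_pow_mod e hd, pow_eq_pow_mod i hx, pow_eq_pow_mod j hy, pow_eq_pow_mod k h3]

/-- the parametrisation of the normal forms -/
def param (d x y : Y) (a : Fin 2 × Fin 3 × Fin 3 × Fin 3) : Y :=
  nf d x y a.1 a.2.1 a.2.2.1 a.2.2.2

theorem nf_mem_range (h : Rel d x y) (e i j k : ℕ) : nf d x y e i j k ∈ Set.range (param d x y) := by
  refine ⟨(⟨e % 2, Nat.mod_lt _ (by norm_num)⟩, ⟨i % 3, Nat.mod_lt _ (by norm_num)⟩,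
    ⟨j % 3, Nat.mod_lt _ (by norm_num)⟩, ⟨k % 3, Nat.mod_lt _ (by norm_num)⟩), ?_⟩
  rw [nf_mod h e i j k]
  rfl

theorem param_surjective (h : Rel d x y) (hg : Subgroup.closure {d, x, y} = ⊤) :
    Function.Surjective (param d x y) := by
  intro g
  have hgm : g ∈ Subgroup.closure {d, x, y} := by rw [hg]; trivial
  have hdinv : d⁻¹ = d := by
    rw [inv_eq_iff_mul_eq_one, ← pow_two, h.1]
  have hxinv : x⁻¹ = x * x := by
    refine inv_eq_of_mul_eq_one_right ?_
    rw [← pow_two, ← pow_succ', h.2.1]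
  have hyinv : y⁻¹ = y * y := by
    refine inv_eq_of_mul_eq_one_right ?_
    rw [← pow_two, ← pow_succ', h.2.2.1]
  have key : ∀ g ∈ Set.range (param d x y), ∀ s ∈ ({d, x, y} : Set Y),
      g * s ∈ Set.range (param d x y) := by
    rintro _ ⟨a, rfl⟩ s hs
    simp only [Set.mem_insert_iff, Set.mem_singleton_iff] at hs
    unfold param
    rcases hs with rfl | rfl | rfl
    · rw [nf_mul_d h]; exact nf_mem_range h _ _ _ _
    · rw [nf_mul_x h]; exact nf_mem_range h _ _ _ _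
    · rw [nf_mul_y h]; exact nf_mem_range h _ _ _ _
  induction hgm using Subgroup.closure_induction_right with
  | one =>
    have := nf_mem_range h 0 0 0 0
    simpa [nf] using this
  | mul_right g hg s hs ih => exact key g ih s hs
  | mul_inv_cancel g hg s hs ih =>
    have hs' := hs
    simp only [Set.mem_insert_iff, Set.mem_singleton_iff] at hs'
    rcases hs' with rfl | rfl | rfl
    · rw [hdinv]; exact key g ih _ hs
    · rw [hxinv, ← mul_assoc]; exact key _ (key g ih _ hs) _ hs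
    · rw [hyinv, ← mul_assoc]; exact key _ (key g ih _ hs) _ hs

theorem finite_of_rel (h : Rel d x y) (hg : Subgroup.closure {d, x, y} = ⊤) : Finite Y :=
  Finite.of_surjective _ (param_surjective h hg)

theorem card_le_of_rel (h : Rel d x y) (hg : Subgroup.closure {d, x, y} = ⊤) : Nat.card Y ≤ 54 := by
  have := Nat.card_le_card_of_surjective _ (param_surjective h hg)
  simpa [Nat.card_prod] using this

end rel

section presented

/-- the free generators -/
abbrev fd : FreeGroup (Fin 3) := FreeGroup.of 0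
/-- the free generators -/
abbrev fx : FreeGroup (Fin 3) := FreeGroup.of 1
/-- the free generators -/
abbrev fy : FreeGroup (Fin 3) := FreeGroup.of 2

/-- the relators -/
def rels : Set (FreeGroup (Fin 3)) :=
  {fd ^ 2, fx ^ 3, fy ^ 3, fd * fx * fd⁻¹ * fx, fd * fy * fd⁻¹ * fy, ⁅⁅fx, fy⁆, fx⁆, ⁅⁅fx, fy⁆, fy⁆}

/-- the presented group -/
abbrev P : Type := PresentedGroup rels

theorem rel_P : Rel (PresentedGroup.mk rels fd) (PresentedGroup.mk rels fx)
    (PresentedGroup.mk rels fy) := by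
  have h1 : PresentedGroup.mk rels (fd ^ 2) = 1 :=
    PresentedGroup.one_of_mem (by simp [rels])
  have h2 : PresentedGroup.mk rels (fx ^ 3) = 1 :=
    PresentedGroup.one_of_mem (by simp [rels])
  have h3 : PresentedGroup.mk rels (fy ^ 3) = 1 :=
    PresentedGroup.one_of_mem (by simp [rels])
  have h4 : PresentedGroup.mk rels (fd * fx * fd⁻¹ * fx) = 1 :=
    PresentedGroup.one_of_mem (by simp [rels])
  have h5 : PresentedGroup.mk rels (fd * fy * fd⁻¹ * fy) = 1 :=
    PresentedGroup.one_of_mem (by simp [rels])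
  have h6 : PresentedGroup.mk rels ⁅⁅fx, fy⁆, fx⁆ = 1 :=
    PresentedGroup.one_of_mem (by simp [rels])
  have h7 : PresentedGroup.mk rels ⁅⁅fx, fy⁆, fy⁆ = 1 :=
    PresentedGroup.one_of_mem (by simp [rels])
  rw [map_pow] at h1 h2 h3
  rw [map_mul, map_mul, map_mul, map_inv] at h4 h5
  rw [map_commutatorElement, map_commutatorElement] at h6 h7
  refine ⟨h1, h2, h3, ?_, ?_, ?_, ?_⟩
  · exact eq_inv_of_mul_eq_one_left h4
  · exact eq_inv_of_mul_eq_one_left h5
  · exact commutatorElement_eq_one_iff_commute.mp h6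
  · exact commutatorElement_eq_one_iff_commute.mp h7

theorem closure_P : Subgroup.closure {PresentedGroup.mk rels fd,
    PresentedGroup.mk rels fx, PresentedGroup.mk rels fy} = ⊤ := by
  rw [← PresentedGroup.closure_range_of rels]
  congr 1
  ext g
  simp only [Set.mem_insert_iff, Set.mem_singleton_iff, Set.mem_range]
  constructor
  · rintro (rfl | rfl | rfl)
    · exact ⟨0, rfl⟩
    · exact ⟨1, rfl⟩
    · exact ⟨2, rfl⟩
  · rintro ⟨i, rfl⟩
    fin_cases i
    · left; rfl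
    · right; left; rfl
    · right; right; rfl

theorem finite_P : Finite P := finite_of_rel rel_P closure_P

theorem card_P_le : Nat.card P ≤ 54 := card_le_of_rel rel_P closure_P

variable {Y : Type*} [Group Y] {d x y : Y}

theorem lift_rels (h : Rel d x y) : ∀ r ∈ rels, FreeGroup.lift ![d, x, y] r = 1 := by
  obtain ⟨hd, hx, hy, hdx, hdy, hcx, hcy⟩ := h
  have e0 : FreeGroup.lift ![d, x, y] fd = d := by simp [fd]
  have e1 : FreeGroup.lift ![d, x, y] fx = x := by simp [fx]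
  have e2 : FreeGroup.lift ![d, x, y] fy = y := by simp [fy]
  intro r hr
  simp only [rels, Set.mem_insert_iff, Set.mem_singleton_iff] at hr
  rcases hr with rfl | rfl | rfl | rfl | rfl | rfl | rfl
  · rw [map_pow, e0, hd]
  · rw [map_pow, e1, hx]
  · rw [map_pow, e2, hy]
  · rw [map_mul, map_mul, map_mul, map_inv, e0, e1, hdx, inv_mul_cancel]
  · rw [map_mul, map_mul, map_mul, map_inv, e0, e2, hdy, inv_mul_cancel]
  · rw [map_commutatorElement, map_commutatorElement, e1, e2]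
    exact commutatorElement_eq_one_iff_commute.mpr hcx
  · rw [map_commutatorElement, map_commutatorElement, e1, e2]
    exact commutatorElement_eq_one_iff_commute.mpr hcy

/-- the canonical map from the presented group -/
noncomputable def toY (h : Rel d x y) : P →* Y :=
  PresentedGroup.toGroup (f := ![d, x, y]) (rels := rels) (lift_rels h)

theorem toY_surjective (h : Rel d x y) (hg : Subgroup.closure {d, x, y} = ⊤) :
    Function.Surjective (toY h) := by
  rw [← MonoidHom.range_eq_top, eq_top_iff, ← hg, Subgroup.closure_le]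
  intro s hs
  simp only [Set.mem_insert_iff, Set.mem_singleton_iff] at hs
  rcases hs with rfl | rfl | rfl
  · exact ⟨PresentedGroup.of 0, by simp [toY]⟩
  · exact ⟨PresentedGroup.of 1, by simp [toY]⟩
  · exact ⟨PresentedGroup.of 2, by simp [toY]⟩

/-- a group of order `54` generated by elements satisfying the relations is `P` -/
noncomputable def equivP (h : Rel d x y) (hg : Subgroup.closure {d, x, y} = ⊤)
    (hc : Nat.card Y = 54) : P ≃* Y :=
  haveI := finite_P
  MulEquiv.ofBijective (toY h)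
    ((toY_surjective h hg).bijective_of_nat_card_le (by rw [hc]; exact card_P_le))

end presented

/-- **Recognition of `3^{1+2} : 2`** (order `54`, the involution inverting both generators). -/
theorem recog54 {Y1 Y2 : Type*} [Group Y1] [Group Y2] (d1 x1 y1 : Y1) (d2 x2 y2 : Y2)
    (h1 : d1 ^ 2 = 1 ∧ x1 ^ 3 = 1 ∧ y1 ^ 3 = 1 ∧ d1 * x1 * d1⁻¹ = x1⁻¹ ∧ d1 * y1 * d1⁻¹ = y1⁻¹ ∧
      Commute ⁅x1, y1⁆ x1 ∧ Commute ⁅x1, y1⁆ y1)
    (h2 : d2 ^ 2 = 1 ∧ x2 ^ 3 = 1 ∧ y2 ^ 3 = 1 ∧ d2 * x2 * d2⁻¹ = x2⁻¹ ∧ d2 * y2 * d2⁻¹ = y2⁻¹ ∧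
      Commute ⁅x2, y2⁆ x2 ∧ Commute ⁅x2, y2⁆ y2)
    (hg1 : Subgroup.closure {d1, x1, y1} = ⊤) (hg2 : Subgroup.closure {d2, x2, y2} = ⊤)
    (hc1 : Nat.card Y1 = 54) (hc2 : Nat.card Y2 = 54) : Nonempty (Y1 ≃* Y2) :=
  ⟨(equivP h1 hg1 hc1).symm.trans (equivP h2 hg2 hc2)⟩

end Cfsg.Agent.Lib.Helper21.Recog54
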