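import Mathlib
import Cfsg.Agent.Lib.Helper17.Coprime
import Cfsg.Agent.Lib.Helper22.Ito

set_option autoImplicit false

namespace Cfsg.Agent.Lib.Helper21.RelCS

open Subgroup
open Cfsg.Agent.Lib.Helper22.Ito (mem_cent_iff cent_le_cent_pow cent_le_cent_zpow center_le_cent
  index_cent_eq_one_iff mem_zpowers_mul_of_coprime normal_of_le_center' card_le_of_isPGroup_of_le
  isPGroup_zpowers)

variable {G : Type*} [Group G]

/-- relative two-class-size hypothesis: `N` normal, every element of `N` has `G`-class size `1` or `m`,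
and all `r`-elements of `G` lie in `N`. -/
structure Hyp (r : ℕ) (N : Subgroup G) (m : ℕ) : Prop where
  normal : N.Normal
  cs : ∀ x ∈ N, (centralizer ({x} : Set G)).index = 1 ∨ (centralizer ({x} : Set G)).index = m
  relt : ∀ x : G, (∃ k : ℕ, orderOf x = r ^ k) → x ∈ N

variable {r : ℕ} {N : Subgroup G} {m : ℕ}

theorem Hyp.index_eq (H : Hyp r N m) {x : G} (hx : x ∈ N) (hxc : x ∉ center G) :
    (centralizer ({x} : Set G)).index = m := by
  rcases H.cs x hx with h1 | h1
  · exact absurd ((index_cent_eq_one_iff x).1 h1) hxc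
  · exact h1

variable [Finite G]

theorem Hyp.m_pos (H : Hyp r N m) {x : G} (hx : x ∈ N) (hxc : x ∉ center G) : 0 < m := by
  rw [← H.index_eq hx hxc]
  exact Nat.pos_of_ne_zero (Subgroup.index_ne_zero_of_finite)

theorem Hyp.card_cent_eq (H : Hyp r N m) {x y : G} (hx : x ∈ N) (hy : y ∈ N)
    (hxc : x ∉ center G) (hyc : y ∉ center G) :
    Nat.card (centralizer ({x} : Set G)) = Nat.card (centralizer ({y} : Set G)) := by
  have h1 := H.index_eq hx hxc
  have h2 := H.index_eq hy hyc
  have h3 := Subgroup.card_mul_index (centralizer ({x} : Set G))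
  have h4 := Subgroup.card_mul_index (centralizer ({y} : Set G))
  rw [h1] at h3; rw [h2] at h4
  exact Nat.eq_of_mul_eq_mul_right (H.m_pos hx hxc) (h3.trans h4.symm)

/-- centralizers of noncentral elements of `N` are incomparable -/
theorem Hyp.cent_eq_of_le (H : Hyp r N m) {x y : G} (hx : x ∈ N) (hy : y ∈ N)
    (hyc : y ∉ center G)
    (hle : centralizer ({x} : Set G) ≤ centralizer ({y} : Set G)) :
    centralizer ({x} : Set G) = centralizer ({y} : Set G) := by
  have hxc : x ∉ center G := by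
    intro hxc
    apply hyc
    have : centralizer ({x} : Set G) = ⊤ := by
      rw [← Subgroup.index_eq_one]; exact (index_cent_eq_one_iff x).2 hxc
    rw [this] at hle
    rw [← index_cent_eq_one_iff, Subgroup.index_eq_one]
    exact top_le_iff.1 hle
  have h1 := H.index_eq hx hxc
  have h2 := H.index_eq hy hyc
  have h3 := Subgroup.relIndex_mul_index hle
  rw [h1, h2] at h3
  have h4 : (centralizer ({x} : Set G)).relIndex (centralizer ({y} : Set G)) = 1 :=
    Nat.eq_of_mul_eq_mul_right (H.m_pos hx hxc) (by rw [h3, one_mul])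
  exact le_antisymm hle (Subgroup.relIndex_eq_one.1 h4)

/-- commuting elements of `N` of coprime orders -/
theorem Hyp.cent_le_of_coprime (H : Hyp r N m) {x y : G} (hx : x ∈ N) (hy : y ∈ N)
    (hxc : x ∉ center G) (hc : Commute x y) (hcop : (orderOf x).Coprime (orderOf y)) :
    centralizer ({x} : Set G) ≤ centralizer ({y} : Set G) := by
  obtain ⟨k, hk⟩ := mem_zpowers_mul_of_coprime hc hcop
  obtain ⟨l, hl⟩ := mem_zpowers_mul_of_coprime hc.symm hcop.symm
  rw [hc.symm.eq] at hl
  have h1 : centralizer ({x * y} : Set G) ≤ centralizer ({x} : Set G) := by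
    have := cent_le_cent_pow (x * y) k
    rwa [hk] at this
  have h2 : centralizer ({x * y} : Set G) ≤ centralizer ({y} : Set G) := by
    have := cent_le_cent_pow (x * y) l
    rwa [hl] at this
  rw [← H.cent_eq_of_le (N.mul_mem hx hy) hx hxc h1]
  exact h2

omit [Finite G] in
theorem self_mem_cent (x : G) : x ∈ centralizer ({x} : Set G) :=
  Subgroup.mem_centralizer_singleton_iff.2 rfl

/-- the centralizer of a power -/
theorem Hyp.cent_zpow_eq (H : Hyp r N m) {x : G} (hx : x ∈ N) (k : ℤ) (hk : x ^ k ∉ center G) :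
    centralizer ({x} : Set G) = centralizer ({x ^ k} : Set G) :=
  H.cent_eq_of_le hx (N.zpow_mem hx k) hk (cent_le_cent_zpow x k)

/-- Lemma K for the prime `r`: every noncentral element of `N` commutes with a noncentral
`r`-element. -/
theorem Hyp.exists_relt (H : Hyp r N m) [hr : Fact r.Prime] {x0 : G} (hx0c : x0 ∉ center G)
    (hx0o : ∃ k : ℕ, orderOf x0 = r ^ k) {w : G} (hw : w ∈ N) (hwc : w ∉ center G) :
    ∃ x ∈ centralizer ({w} : Set G), (∃ k : ℕ, orderOf x = r ^ k) ∧ x ∉ center G := by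
  by_contra hall
  push Not at hall
  obtain ⟨e0, he0⟩ := hx0o
  have hx0 : x0 ∈ N := H.relt x0 ⟨e0, he0⟩
  obtain ⟨S⟩ : Nonempty (Sylow r (centralizer ({w} : Set G))) := inferInstance
  set S' : Subgroup G := (S : Subgroup (centralizer ({w} : Set G))).map
    (centralizer ({w} : Set G)).subtype with hS'
  have hS'c : S' ≤ center G := by
    rintro s ⟨s0, hs0, rfl⟩
    apply hall _ s0.2
    obtain ⟨k, hk⟩ := S.2 ⟨s0, hs0⟩
    have hk1 : s0 ^ r ^ k = 1 := by
      have := congrArg Subtype.val hk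
      simpa using this
    have hk' : (s0 : G) ^ r ^ k = 1 := by
      rw [← Subgroup.coe_pow, hk1, Subgroup.coe_one]
    have hd : orderOf (s0 : G) ∣ r ^ k := orderOf_dvd_of_pow_eq_one hk'
    obtain ⟨e', -, he'⟩ := (Nat.dvd_prime_pow hr.out).1 hd
    exact ⟨e', he'⟩
  have hS'card : Nat.card S' = r ^ (Nat.card (centralizer ({w} : Set G))).factorization r := by
    rw [hS', Subgroup.card_map_of_injective (Subgroup.subtype_injective _)]
    exact S.card_eq_multiplicity
  have hS'n : S'.Normal := normal_of_le_center' hS'c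
  have hS'p : IsPGroup r S' := by
    rw [hS']; exact S.2.map _
  have hwp : IsPGroup r (zpowers x0) := isPGroup_zpowers he0
  have hTp : IsPGroup r (S' ⊔ zpowers x0 : Subgroup G) := IsPGroup.to_sup_of_normal_left hS'p hwp
  have hTle : S' ⊔ zpowers x0 ≤ centralizer ({x0} : Set G) := by
    apply sup_le (hS'c.trans (center_le_cent x0))
    rw [Subgroup.zpowers_le]; exact self_mem_cent x0
  obtain ⟨k, hk, hkle⟩ := card_le_of_isPGroup_of_le hTp hTle
  rw [H.card_cent_eq hx0 hw hx0c hwc] at hkle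
  have hle : Nat.card (S' ⊔ zpowers x0 : Subgroup G) ≤ Nat.card S' := by
    rw [hk, hS'card]; exact Nat.pow_le_pow_right hr.out.pos hkle
  have heq : S' = S' ⊔ zpowers x0 := Subgroup.eq_of_le_of_card_ge le_sup_left hle
  apply hx0c
  apply hS'c
  rw [heq]
  exact le_sup_right (a := S') (Subgroup.mem_zpowers x0)

/-- `x` is a noncentral `r`-element commuting with a noncentral `r'`-element of `N` -/
def TA (r : ℕ) (N : Subgroup G) (x : G) : Prop :=
  x ∉ center G ∧ (∃ k : ℕ, orderOf x = r ^ k) ∧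
    ∃ y ∈ N, y ∉ center G ∧ (orderOf y).Coprime r ∧ Commute x y

/-- `C` is the centralizer of an element of type `TA` -/
def Comp (r : ℕ) (N : Subgroup G) (C : Subgroup G) : Prop :=
  ∃ x : G, TA r N x ∧ C = centralizer ({x} : Set G)

omit [Finite G] in
theorem conj_mem_center_iff (g x : G) : g * x * g⁻¹ ∈ center G ↔ x ∈ center G := by
  constructor
  · intro h
    have h2 := (Subgroup.normal_of_characteristic (center G)).conj_mem _ h g⁻¹
    simpa [mul_assoc] using h2
  · intro h
    exact (Subgroup.normal_of_characteristic (center G)).conj_mem _ h g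

omit [Finite G] in
theorem orderOf_conj'' (g y : G) : orderOf (g * y * g⁻¹) = orderOf y := by
  have := (MulAut.conj g).orderOf_eq y
  rwa [MulAut.conj_apply] at this

omit [Finite G] in
theorem TA.conj (hN : N.Normal) {x : G} (hx : TA r N x) (g : G) : TA r N (g * x * g⁻¹) := by
  obtain ⟨hxc, hxo, y, hy, hyc, hyo, hxy⟩ := hx
  refine ⟨fun h => hxc ((conj_mem_center_iff g x).1 h), ?_, g * y * g⁻¹, hN.conj_mem y hy g,
    fun h => hyc ((conj_mem_center_iff g y).1 h), ?_, ?_⟩
  · rw [orderOf_conj'']; exact hxo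
  · rw [orderOf_conj'']; exact hyo
  · show g * x * g⁻¹ * (g * y * g⁻¹) = g * y * g⁻¹ * (g * x * g⁻¹)
    have : x * y = y * x := hxy
    calc g * x * g⁻¹ * (g * y * g⁻¹) = g * (x * y) * g⁻¹ := by group
      _ = g * (y * x) * g⁻¹ := by rw [this]
      _ = g * y * g⁻¹ * (g * x * g⁻¹) := by group

omit [Finite G] in
theorem cent_conj (g x : G) : centralizer ({g * x * g⁻¹} : Set G) =
    (centralizer ({x} : Set G)).map (MulAut.conj g).toMonoidHom := by
  ext a
  rw [mem_cent_iff, Subgroup.mem_map]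
  constructor
  · intro h
    refine ⟨g⁻¹ * a * g, ?_, ?_⟩
    · rw [mem_cent_iff]
      have : g⁻¹ * a * g * x = g⁻¹ * (a * (g * x * g⁻¹)) * g := by group
      rw [this, h]; group
    · simp [MulAut.conj_apply, mul_assoc]
  · rintro ⟨b, hb, rfl⟩
    rw [mem_cent_iff] at hb
    simp only [MulEquiv.coe_toMonoidHom, MulAut.conj_apply]
    calc g * b * g⁻¹ * (g * x * g⁻¹) = g * (b * x) * g⁻¹ := by group
      _ = g * (x * b) * g⁻¹ := by rw [hb]
      _ = g * x * g⁻¹ * (g * b * g⁻¹) := by group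

/-- the structure of a component -/
theorem Hyp.ta_cent (H : Hyp r N m) [hr : Fact r.Prime] {x : G} (hx : TA r N x) {w : G}
    (hwN : w ∈ N) (hwC : w ∈ centralizer ({x} : Set G)) :
    centralizer ({x} : Set G) ≤ centralizer ({w} : Set G) := by
  obtain ⟨hxc, ⟨k, hxo⟩, y, hy, hyc, hyo, hxy⟩ := hx
  have hxN : x ∈ N := H.relt x ⟨k, hxo⟩
  have hcop : (orderOf x).Coprime (orderOf y) := by
    rw [hxo]; exact (Nat.Coprime.pow_right k hyo).symm
  have hCxy : centralizer ({x} : Set G) = centralizer ({y} : Set G) :=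
    H.cent_eq_of_le hxN hy hyc (H.cent_le_of_coprime hxN hy hxc hxy hcop)
  obtain ⟨i, j, hij, ⟨f, hf⟩, hcj⟩ := Cfsg.Agent.Lib.Helper17.exists_p_pprime_decomp r w
  have hwx : Commute w x := by
    rw [mem_cent_iff] at hwC; exact hwC
  -- r'-part
  have h1 : centralizer ({x} : Set G) ≤ centralizer ({w ^ j} : Set G) := by
    apply H.cent_le_of_coprime hxN (N.zpow_mem hwN j) hxc
    · exact (hwx.zpow_left j).symm
    · rw [hxo]; exact (Nat.Coprime.pow_right k hcj).symm
  have hwy : Commute w y := by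
    rw [hCxy, mem_cent_iff] at hwC; exact hwC
  have h2 : centralizer ({y} : Set G) ≤ centralizer ({w ^ i} : Set G) := by
    apply H.cent_le_of_coprime hy (N.zpow_mem hwN i) hyc
    · exact (hwy.zpow_left i).symm
    · rw [hf]; exact Nat.Coprime.pow_right f hyo
  intro g hg
  have hg1 := h1 hg
  have hg2 := h2 (hCxy ▸ hg)
  rw [mem_cent_iff] at hg1 hg2 ⊢
  rw [hij, ← mul_assoc, hg2, mul_assoc, hg1, mul_assoc]

theorem Hyp.comp_le_cent (H : Hyp r N m) [hr : Fact r.Prime] {C : Subgroup G} (hC : Comp r N C)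
    {w : G} (hwN : w ∈ N) (hwC : w ∈ C) : C ≤ centralizer ({w} : Set G) := by
  obtain ⟨x, hx, rfl⟩ := hC
  exact H.ta_cent hx hwN hwC

theorem Hyp.comp_cent_eq (H : Hyp r N m) [hr : Fact r.Prime] {C : Subgroup G} (hC : Comp r N C)
    {w : G} (hwN : w ∈ N) (hwC : w ∈ C) (hwc : w ∉ center G) : centralizer ({w} : Set G) = C := by
  have h1 := H.comp_le_cent hC hwN hwC
  obtain ⟨x, hx, rfl⟩ := hC
  obtain ⟨hxc, ⟨k, hxo⟩, -⟩ := hx
  exact (H.cent_eq_of_le (H.relt x ⟨k, hxo⟩) hwN hwc h1).symm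

theorem Hyp.comp_comm (H : Hyp r N m) [hr : Fact r.Prime] {C : Subgroup G} (hC : Comp r N C)
    {a b : G} (haN : a ∈ N) (haC : a ∈ C) (hbC : b ∈ C) : a * b = b * a := by
  have h1 := H.comp_le_cent hC haN haC hbC
  rw [mem_cent_iff] at h1
  exact h1.symm

omit [Finite G] in
theorem Comp.center_le {C : Subgroup G} (hC : Comp r N C) : center G ≤ C := by
  obtain ⟨x, -, rfl⟩ := hC
  exact center_le_cent x

/-- a noncentral element of `N` with noncentral `r'`-part lies in a component -/
theorem Hyp.comp_of_rprime (H : Hyp r N m) [hr : Fact r.Prime] {x0 : G} (hx0c : x0 ∉ center G)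
    (hx0o : ∃ k : ℕ, orderOf x0 = r ^ k) {y : G} (hy : y ∈ N) (hyc : y ∉ center G)
    (hyo : (orderOf y).Coprime r) : Comp r N (centralizer ({y} : Set G)) := by
  obtain ⟨x, hxC, ⟨k, hxo⟩, hxc⟩ := H.exists_relt hx0c hx0o hy hyc
  have hxy : Commute x y := by
    rw [mem_cent_iff] at hxC; exact hxC
  have hxN : x ∈ N := H.relt x ⟨k, hxo⟩
  have hcop : (orderOf x).Coprime (orderOf y) := by
    rw [hxo]; exact (Nat.Coprime.pow_right k hyo).symm
  refine ⟨x, ⟨hxc, ⟨k, hxo⟩, y, hy, hyc, hyo, hxy⟩, ?_⟩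
  exact (H.cent_eq_of_le hxN hy hyc (H.cent_le_of_coprime hxN hy hxc hxy hcop)).symm

/-- every noncentral element of `N` lies in a component, provided all noncentral `r`-elements
are of type `TA`. -/
theorem Hyp.comp_of_noncentral (H : Hyp r N m) [hr : Fact r.Prime] {x0 : G} (hx0c : x0 ∉ center G)
    (hx0o : ∃ k : ℕ, orderOf x0 = r ^ k)
    (hall : ∀ t : G, t ∉ center G → (∃ k : ℕ, orderOf t = r ^ k) → TA r N t)
    {w : G} (hw : w ∈ N) (hwc : w ∉ center G) : Comp r N (centralizer ({w} : Set G)) := by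
  obtain ⟨i, j, hij, hf, hcj⟩ := Cfsg.Agent.Lib.Helper17.exists_p_pprime_decomp r w
  by_cases hj : w ^ j ∈ center G
  · have hi : w ^ i ∉ center G := by
      intro hi
      apply hwc
      rw [hij]; exact (center G).mul_mem hi hj
    rw [H.cent_zpow_eq hw i hi]
    exact ⟨w ^ i, hall _ hi hf, rfl⟩
  · rw [H.cent_zpow_eq hw j hj]
    exact H.comp_of_rprime hx0c hx0o (N.zpow_mem hw j) hj hcj

end Cfsg.Agent.Lib.Helper21.RelCS
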