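import Mathlib
import Cfsg.Agent.Lib.Helper21.Frobenius

set_option autoImplicit false

namespace Cfsg.Agent.Lib.Helper21.RelCS

open Subgroup

variable {G : Type*} [Group G]

theorem card_inf_mul_relIndex [Finite G] (H K : Subgroup G) :
    Nat.card (H ⊓ K : Subgroup G) * H.relIndex K = Nat.card K := by
  have h := Subgroup.relIndex_mul_relIndex (H := ⊥) (K := H ⊓ K) (L := K) bot_le inf_le_right
  rw [Subgroup.relIndex_bot_left, Subgroup.relIndex_bot_left, Subgroup.inf_relIndex_right] at h
  exact h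

/-- if `L/K` is an `r`-group then `|L : K|` is a power of `r` -/
theorem relIndex_eq_pow_of_pow_mem [Finite G] {r : ℕ} [hr : Fact r.Prime] (K L : Subgroup G)
    (hnorm : L ≤ normalizer (K : Set G)) (hpow : ∀ g ∈ L, ∃ k : ℕ, g ^ (r ^ k) ∈ K) :
    ∃ n : ℕ, K.relIndex L = r ^ n := by
  have : (K.subgroupOf L).Normal := Subgroup.normal_subgroupOf_of_le_normalizer hnorm
  have hp : IsPGroup r (↥L ⧸ K.subgroupOf L) := by
    intro q
    induction q using QuotientGroup.induction_on with
    | H g =>
      obtain ⟨k, hk⟩ := hpow g g.2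
      refine ⟨k, ?_⟩
      rw [← QuotientGroup.mk_pow, QuotientGroup.eq_one_iff, Subgroup.mem_subgroupOf]
      simpa using hk
  obtain ⟨n, hn⟩ := IsPGroup.iff_card.1 hp
  exact ⟨n, by rw [Subgroup.relIndex, Subgroup.index_eq_card, hn]⟩

/-- orbit counting: if `S` acts by conjugation on `Ω` with all stabilizers equal to `K`,
then `|S : K|` divides `|Ω|`. -/
theorem relIndex_dvd_card_of_stabilizer [Fintype G] [DecidableEq G] (S K : Subgroup G)
    (Ω : Finset G) (hK : K ≤ S)
    (hstab : ∀ a ∈ Ω, ∀ g ∈ S, g * a * g⁻¹ ∈ Ω)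
    (hfix : ∀ a ∈ Ω, ∀ g ∈ S, (g * a * g⁻¹ = a ↔ g ∈ K)) : K.relIndex S ∣ Ω.card := by
  classical
  let rel : Setoid G :=
    { r := fun a b => ∃ g ∈ S, g * a * g⁻¹ = b
      iseqv := by
        refine ⟨fun a => ⟨1, S.one_mem, by simp⟩, ?_, ?_⟩
        · rintro a b ⟨g, hg, rfl⟩
          exact ⟨g⁻¹, S.inv_mem hg, by group⟩
        · rintro a b c ⟨g, hg, rfl⟩ ⟨h, hh, rfl⟩
          exact ⟨h * g, S.mul_mem hh hg, by group⟩ }
  have key := dvd_sum_of_setoid' rel Ω (fun _ => 1) (K.relIndex S)
    (by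
      rintro y y' hy ⟨g, hg, rfl⟩
      exact hstab y hy g hg)
    (fun _ _ _ => rfl)
    (by
      intro y hy
      rw [mul_one]
      -- the class of y has exactly |S : K| elements
      set cls := Finset.univ.filter (fun y' => rel.r y y') with hcls
      set SS : Finset G := Finset.univ.filter (fun g => g ∈ S) with hSS
      have hmaps : ∀ g ∈ SS, g * y * g⁻¹ ∈ cls := by
        intro g hg
        rw [hSS, Finset.mem_filter] at hg
        rw [hcls, Finset.mem_filter]
        exact ⟨Finset.mem_univ _, g, hg.2, rfl⟩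
      have h1 := Finset.card_eq_sum_card_fiberwise hmaps
      have hfib : ∀ b ∈ cls, (SS.filter (fun g => g * y * g⁻¹ = b)).card = Nat.card K := by
        intro b hb
        rw [hcls, Finset.mem_filter] at hb
        obtain ⟨-, g0, hg0, rfl⟩ := hb
        have : SS.filter (fun g => g * y * g⁻¹ = g0 * y * g0⁻¹) =
            (Finset.univ.filter (fun k => k ∈ K)).image (fun k => g0 * k) := by
          ext g
          simp only [Finset.mem_filter, Finset.mem_image, hSS, Finset.mem_univ, true_and]
          constructor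
          · rintro ⟨hg, hgy⟩
            refine ⟨g0⁻¹ * g, ?_, by group⟩
            rw [← hfix y hy (g0⁻¹ * g) (S.mul_mem (S.inv_mem hg0) hg)]
            calc g0⁻¹ * g * y * (g0⁻¹ * g)⁻¹ = g0⁻¹ * (g * y * g⁻¹) * g0 := by group
              _ = g0⁻¹ * (g0 * y * g0⁻¹) * g0 := by rw [hgy]
              _ = y := by group
          · rintro ⟨k, hk, rfl⟩
            refine ⟨S.mul_mem hg0 (hK hk), ?_⟩
            have := (hfix y hy k (hK hk)).2 hk
            calc g0 * k * y * (g0 * k)⁻¹ = g0 * (k * y * k⁻¹) * g0⁻¹ := by group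
              _ = g0 * y * g0⁻¹ := by rw [this]
        rw [this, Finset.card_image_of_injective _ (mul_right_injective g0)]
        rw [Nat.card_eq_fintype_card, Fintype.card_subtype]
      rw [Finset.sum_congr rfl hfib, Finset.sum_const, smul_eq_mul] at h1
      have hSScard : SS.card = Nat.card S := by
        rw [Nat.card_eq_fintype_card, Fintype.card_subtype]
      have h2 := card_inf_mul_relIndex K S
      rw [inf_of_le_left hK] at h2
      rw [hSScard, ← h2, mul_comm] at h1
      have hKpos : 0 < Nat.card K := Nat.card_pos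
      have := Nat.eq_of_mul_eq_mul_right hKpos h1
      rw [this])
  simpa using key

/-- index bound via a map with fibres inside cosets -/
theorem relIndex_le_card_of_fibers [Fintype G] [DecidableEq G] {β : Type*} [DecidableEq β]
    (L K' : Subgroup G) (X : Finset β) (f : G → β) (hf : ∀ c ∈ L, f c ∈ X)
    (hinj : ∀ c₁ ∈ L, ∀ c₂ ∈ L, f c₁ = f c₂ → c₂⁻¹ * c₁ ∈ K') : K'.relIndex L ≤ X.card := by
  classical
  set LL : Finset G := Finset.univ.filter (fun g => g ∈ L) with hLL
  have hmaps : ∀ g ∈ LL, f g ∈ X := by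
    intro g hg
    rw [hLL, Finset.mem_filter] at hg
    exact hf g hg.2
  have h1 := Finset.card_eq_sum_card_fiberwise hmaps
  have hfib : ∀ b ∈ X, (LL.filter (fun g => f g = b)).card ≤ Nat.card (K' ⊓ L : Subgroup G) := by
    intro b _
    by_cases hne : (LL.filter (fun g => f g = b)).Nonempty
    · obtain ⟨c2, hc2⟩ := hne
      rw [Finset.mem_filter, hLL, Finset.mem_filter] at hc2
      have hsub : LL.filter (fun g => f g = b) ⊆
          (Finset.univ.filter (fun k => k ∈ (K' ⊓ L : Subgroup G))).image (fun k => c2 * k) := by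
        intro g hg
        rw [Finset.mem_filter, hLL, Finset.mem_filter] at hg
        rw [Finset.mem_image]
        refine ⟨c2⁻¹ * g, ?_, by group⟩
        rw [Finset.mem_filter]
        refine ⟨Finset.mem_univ _, ?_, L.mul_mem (L.inv_mem hc2.1.2) hg.1.2⟩
        exact hinj g hg.1.2 c2 hc2.1.2 (hg.2.trans hc2.2.symm)
      refine (Finset.card_le_card hsub).trans ?_
      rw [Finset.card_image_of_injective _ (mul_right_injective c2)]
      rw [Nat.card_eq_fintype_card, Fintype.card_subtype]
    · rw [Finset.not_nonempty_iff_eq_empty] at hne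
      rw [hne, Finset.card_empty]; exact Nat.zero_le _
  have h2 : LL.card ≤ X.card * Nat.card (K' ⊓ L : Subgroup G) := by
    rw [h1]
    calc ∑ b ∈ X, (LL.filter (fun g => f g = b)).card
        ≤ ∑ _b ∈ X, Nat.card (K' ⊓ L : Subgroup G) := Finset.sum_le_sum hfib
      _ = X.card * Nat.card (K' ⊓ L : Subgroup G) := by rw [Finset.sum_const, smul_eq_mul]
  have hLLcard : LL.card = Nat.card L := by
    rw [Nat.card_eq_fintype_card, Fintype.card_subtype]
  have h3 := card_inf_mul_relIndex K' L
  rw [hLLcard, ← h3, mul_comm] at h2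
  exact Nat.le_of_mul_le_mul_right h2 Nat.card_pos

/-- number of `r'`-elements of `M` -/
noncomputable def rp (r : ℕ) (M : Subgroup G) : ℕ :=
  Nat.card {a : G // a ∈ M ∧ (orderOf a).Coprime r}

theorem coprime_iff_pow_ordCompl [Finite G] {r : ℕ} [hr : Fact r.Prime] (M : Subgroup G) (g : M) :
    (orderOf (g : G)).Coprime r ↔ g ^ (ordCompl[r] (Nat.card M)) = 1 := by
  have hpos : Nat.card M ≠ 0 := Nat.card_pos.ne'
  have hcop : r.Coprime (ordCompl[r] (Nat.card M)) := Nat.coprime_ordCompl hr.out hpos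
  rw [Subgroup.orderOf_coe]
  constructor
  · intro h
    apply orderOf_dvd_iff_pow_eq_one.1
    have h1 : orderOf g ∣ ordProj[r] (Nat.card M) * ordCompl[r] (Nat.card M) := by
      rw [Nat.ordProj_mul_ordCompl_eq_self]; exact orderOf_dvd_natCard g
    exact (Nat.Coprime.pow_right _ h).dvd_of_dvd_mul_left h1
  · intro h
    have h1 : orderOf g ∣ ordCompl[r] (Nat.card M) := orderOf_dvd_of_pow_eq_one h
    exact Nat.Coprime.coprime_dvd_left h1 hcop.symm

theorem rp_eq [Finite G] {r : ℕ} [hr : Fact r.Prime] (M : Subgroup G) :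
    rp r M = Nat.card {g : M // g ^ (ordCompl[r] (Nat.card M)) = 1} := by
  unfold rp
  exact Nat.card_congr
    { toFun := fun a => ⟨⟨a.1, a.2.1⟩, (coprime_iff_pow_ordCompl M ⟨a.1, a.2.1⟩).1 a.2.2⟩
      invFun := fun g => ⟨g.1.1, g.1.2, (coprime_iff_pow_ordCompl M g.1).2 g.2⟩
      left_inv := fun _ => rfl
      right_inv := fun _ => rfl }

theorem ordCompl_dvd_rp {G : Type*} [Group G] [Finite G] {r : ℕ} [hr : Fact r.Prime]
    (M : Subgroup G) : ordCompl[r] (Nat.card M) ∣ rp r M := by
  rw [rp_eq]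
  exact frobenius_dvd_card_pow_eq_one _ (Nat.ordCompl_dvd _ _)

theorem rp_of_comm {G : Type*} [Group G] [Finite G] {r : ℕ} [hr : Fact r.Prime] (M : Subgroup G)
    (hM : ∀ a ∈ M, ∀ b ∈ M, a * b = b * a) : rp r M = ordCompl[r] (Nat.card M) := by
  have hpos : Nat.card M ≠ 0 := Nat.card_pos.ne'
  have hcop : r.Coprime (ordCompl[r] (Nat.card M)) := Nat.coprime_ordCompl hr.out hpos
  set n' := ordCompl[r] (Nat.card M) with hn'
  have hcomm : ∀ a b : M, a * b = b * a := fun a b => Subtype.ext (hM a a.2 b b.2)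
  let K : Subgroup M :=
    { carrier := {g | g ^ n' = 1}
      mul_mem' := by
        intro a b ha hb
        have ha' : a ^ n' = 1 := ha
        have hb' : b ^ n' = 1 := hb
        show (a * b) ^ n' = 1
        rw [(show Commute a b from hcomm a b).mul_pow, ha', hb', mul_one]
      one_mem' := by simp
      inv_mem' := by
        intro a ha
        have ha' : a ^ n' = 1 := ha
        show a⁻¹ ^ n' = 1
        rw [inv_pow, ha', inv_one] }
  have hK : rp r M = Nat.card K := by
    rw [rp_eq]; rfl
  have h1 : n' ∣ Nat.card K := hK ▸ ordCompl_dvd_rp M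
  have h2 : Nat.card K ∣ ordProj[r] (Nat.card M) * n' := by
    rw [Nat.ordProj_mul_ordCompl_eq_self]; exact Subgroup.card_subgroup_dvd_card K
  have h3 : (Nat.card K).Coprime r := by
    rw [Nat.coprime_comm, Nat.Prime.coprime_iff_not_dvd hr.out]
    intro hdvd
    obtain ⟨g, hg⟩ := exists_prime_orderOf_dvd_card' (G := K) r hdvd
    have hg1 : (g : M) ^ n' = 1 := g.2
    have : orderOf (g : M) ∣ n' := orderOf_dvd_of_pow_eq_one hg1
    rw [Subgroup.orderOf_coe, hg] at this
    exact (Nat.Prime.coprime_iff_not_dvd hr.out).1 hcop this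
  have h4 : Nat.card K ∣ n' := (Nat.Coprime.pow_right _ h3).dvd_of_dvd_mul_left h2
  rw [hK]
  exact Nat.dvd_antisymm h4 h1

open Classical in
theorem rp_eq_card_filter [Fintype G] (r : ℕ) (M : Subgroup G) :
    rp r M = (Finset.univ.filter (fun a => a ∈ M ∧ (orderOf a).Coprime r)).card := by
  classical
  unfold rp
  rw [Nat.card_eq_fintype_card, Fintype.card_subtype]

end Cfsg.Agent.Lib.Helper21.RelCS
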