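import Mathlib
import Cfsg.Agent.Lib.Helper1.MaxNormalAbelian
import Cfsg.Agent.Lib.Helper21.RelCSA
import Cfsg.Agent.Lib.Helper21.RelCSB

set_option autoImplicit false

namespace Cfsg.Agent.Lib.Helper21.RelCS

open Subgroup
open Cfsg.Agent.Lib.Helper22.Ito (mem_cent_iff cent_le_cent_pow cent_le_cent_zpow center_le_cent
  index_cent_eq_one_iff)

variable {G : Type*} [Group G]

/-- the stabilizer of the coset `d Z(G)` under conjugation -/
def cstab (d : G) : Subgroup G where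
  carrier := {g | g * d * g⁻¹ * d⁻¹ ∈ center G}
  one_mem' := by simp
  mul_mem' := by
    intro g h hg hh
    have hg' : g * d * g⁻¹ * d⁻¹ ∈ center G := hg
    have hh' : h * d * h⁻¹ * d⁻¹ ∈ center G := hh
    show g * h * d * (g * h)⁻¹ * d⁻¹ ∈ center G
    have e : g * h * d * (g * h)⁻¹ * d⁻¹ = (h * d * h⁻¹ * d⁻¹) * (g * d * g⁻¹ * d⁻¹) := by
      calc g * h * d * (g * h)⁻¹ * d⁻¹ = g * (h * d * h⁻¹ * d⁻¹) * (d * g⁻¹ * d⁻¹) := by group
        _ = (h * d * h⁻¹ * d⁻¹) * g * (d * g⁻¹ * d⁻¹) := by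
          rw [(Subgroup.mem_center_iff.1 hh') g]
        _ = (h * d * h⁻¹ * d⁻¹) * (g * d * g⁻¹ * d⁻¹) := by group
    rw [e]
    exact (center G).mul_mem hh' hg'
  inv_mem' := by
    intro g hg
    have hg' : g * d * g⁻¹ * d⁻¹ ∈ center G := hg
    show g⁻¹ * d * g⁻¹⁻¹ * d⁻¹ ∈ center G
    have e : g⁻¹ * d * g⁻¹⁻¹ * d⁻¹ = (g⁻¹ * (g * d * g⁻¹ * d⁻¹) * g⁻¹⁻¹)⁻¹ := by group
    rw [e]
    exact (center G).inv_mem ((conj_mem_center_iff g⁻¹ _).2 hg')

theorem mem_cstab {d g : G} : g ∈ cstab d ↔ g * d * g⁻¹ * d⁻¹ ∈ center G := Iff.rfl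

theorem cent_le_cstab (d : G) : centralizer ({d} : Set G) ≤ cstab d := by
  intro g hg
  rw [mem_cent_iff] at hg
  rw [mem_cstab, hg]
  have : d * g * g⁻¹ * d⁻¹ = 1 := by group
  rw [this]; exact (center G).one_mem

theorem cstab_symm {d t : G} (h : t ∈ cstab d) : d ∈ cstab t := by
  rw [mem_cstab] at h ⊢
  have : d * t * d⁻¹ * t⁻¹ = (t * d * t⁻¹ * d⁻¹)⁻¹ := by group
  rw [this]; exact (center G).inv_mem h

theorem cstab_le_normalizer (d : G) : cstab d ≤ normalizer (centralizer ({d} : Set G)) := by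
  rw [Subgroup.le_normalizer_iff]
  intro g hg c hc
  rw [mem_cstab] at hg
  rw [mem_cent_iff] at hc ⊢
  have hz : ∀ a : G, Commute a (g * d * g⁻¹ * d⁻¹) := fun a => (Subgroup.mem_center_iff.1 hg) a
  have h1 : Commute (g * c * g⁻¹) (g * d * g⁻¹) := by
    show g * c * g⁻¹ * (g * d * g⁻¹) = g * d * g⁻¹ * (g * c * g⁻¹)
    calc g * c * g⁻¹ * (g * d * g⁻¹) = g * (c * d) * g⁻¹ := by group
      _ = g * (d * c) * g⁻¹ := by rw [hc]
      _ = g * d * g⁻¹ * (g * c * g⁻¹) := by group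
  have h2 : Commute (g * c * g⁻¹) ((g * d * g⁻¹ * d⁻¹)⁻¹ * (g * d * g⁻¹)) :=
    (Commute.inv_right (hz _)).mul_right h1
  have e : (g * d * g⁻¹ * d⁻¹)⁻¹ * (g * d * g⁻¹) = d := by group
  rw [e] at h2
  exact h2

theorem cstab_pow_mem {d g : G} (hg : g ∈ cstab d) {n : ℕ} (hd : d ^ n = 1) :
    g ^ n ∈ centralizer ({d} : Set G) := by
  rw [mem_cstab] at hg
  have hz : ∀ a : G, a * (g * d * g⁻¹ * d⁻¹) = (g * d * g⁻¹ * d⁻¹) * a :=
    fun a => (Subgroup.mem_center_iff.1 hg) a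
  have key : ∀ k : ℕ, g ^ k * d * (g ^ k)⁻¹ * d⁻¹ = (g * d * g⁻¹ * d⁻¹) ^ k := by
    intro k
    induction k with
    | zero => simp
    | succ k ih =>
      have e1 : g ^ (k + 1) * d * (g ^ (k + 1))⁻¹ * d⁻¹ =
          g * (g ^ k * d * (g ^ k)⁻¹ * d⁻¹) * (d * g⁻¹ * d⁻¹) := by
        rw [pow_succ']; group
      rw [e1, ih]
      have hzk : ∀ a : G, a * (g * d * g⁻¹ * d⁻¹) ^ k = (g * d * g⁻¹ * d⁻¹) ^ k * a := by
        intro a
        exact ((show Commute a (g * d * g⁻¹ * d⁻¹) from hz a).pow_right k).eq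
      rw [hzk g, pow_succ]
      group
  have hzn : (g * d * g⁻¹ * d⁻¹) ^ n = 1 := by
    have h1 : (g * d * g⁻¹) ^ n = 1 := by
      rw [conj_pow, hd]; group
    have h2 : g * d * g⁻¹ = (g * d * g⁻¹ * d⁻¹) * d := by group
    rw [h2, (show Commute (g * d * g⁻¹ * d⁻¹) d from (hz d).symm).mul_pow, hd, mul_one] at h1
    exact h1
  rw [mem_cent_iff]
  have := key n
  rw [hzn] at this
  have e : g ^ n * d = (g ^ n * d * (g ^ n)⁻¹ * d⁻¹) * (d * g ^ n) := by group
  rw [e, this, one_mul]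

variable [Finite G] {r : ℕ} {N : Subgroup G} {m : ℕ}

theorem Hyp.inf_cent_le_center (H : Hyp r N m) [Fact r.Prime] {x t : G} (hx : TA r N x)
    (ht : t ∉ centralizer ({x} : Set G)) {w : G} (hwN : w ∈ N)
    (hwC : w ∈ centralizer ({x} : Set G)) (hwt : w ∈ centralizer ({t} : Set G)) :
    w ∈ center G := by
  by_contra hwc
  have h1 := H.comp_cent_eq ⟨x, hx, rfl⟩ hwN hwC hwc
  apply ht
  rw [← h1, mem_cent_iff]
  rw [mem_cent_iff] at hwt
  exact hwt.symm

theorem relIndex_ne_zero' (A B : Subgroup G) : A.relIndex B ≠ 0 := by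
  unfold Subgroup.relIndex; exact Subgroup.index_ne_zero_of_finite

theorem Hyp.prop_ge (H : Hyp r N m) [Fact r.Prime] {x t : G} (hx : TA r N x)
    (ht : t ∉ centralizer ({x} : Set G)) :
    (N ⊓ center G).relIndex (N ⊓ centralizer ({x} : Set G)) ≤
      (centralizer ({t} : Set G)).relIndex (centralizer ({x} : Set G)) := by
  have h1 : (centralizer ({t} : Set G)).relIndex (N ⊓ centralizer ({x} : Set G)) ≤
      (centralizer ({t} : Set G)).relIndex (centralizer ({x} : Set G)) :=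
    Subgroup.relIndex_le_of_le_right inf_le_right (relIndex_ne_zero' _ _)
  have h2 : centralizer ({t} : Set G) ⊓ (N ⊓ centralizer ({x} : Set G)) =
      (N ⊓ center G) ⊓ (N ⊓ centralizer ({x} : Set G)) := by
    ext w
    simp only [Subgroup.mem_inf]
    constructor
    · rintro ⟨hwt, hwN, hwC⟩
      exact ⟨⟨hwN, H.inf_cent_le_center hx ht hwN hwC hwt⟩, hwN, hwC⟩
    · rintro ⟨⟨hwN, hwz⟩, -, hwC⟩
      exact ⟨center_le_cent t hwz, hwN, hwC⟩
  have e1 : (centralizer ({t} : Set G)).relIndex (N ⊓ centralizer ({x} : Set G)) =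
      (N ⊓ center G).relIndex (N ⊓ centralizer ({x} : Set G)) := by
    rw [← Subgroup.inf_relIndex_right, h2, Subgroup.inf_relIndex_right]
  rw [e1] at h1
  exact h1

theorem Hyp.exists_d (H : Hyp r N m) [hr : Fact r.Prime] {x t : G} (hx : TA r N x)
    (hto : ∃ k : ℕ, orderOf t = r ^ k)
    (htn : t ∈ normalizer (centralizer ({x} : Set G) : Set G)) :
    ∃ d ∈ N, d ∈ centralizer ({x} : Set G) ∧ (∃ k : ℕ, orderOf d = r ^ k) ∧ d ∉ center G ∧
      t ∈ cstab d := by
  classical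
  have hcomp : Comp r N (centralizer ({x} : Set G)) := ⟨x, hx, rfl⟩
  obtain ⟨hxc, ⟨kx, hxo⟩, -⟩ := hx
  have hxN : x ∈ N := H.relt x ⟨kx, hxo⟩
  set e := (Nat.card G).factorization r with he
  let Q : Subgroup G :=
    { carrier := {a | a ∈ N ∧ a ∈ centralizer ({x} : Set G) ∧ a ^ (r ^ e) = 1}
      one_mem' := ⟨N.one_mem, Subgroup.one_mem _, one_pow _⟩
      mul_mem' := by
        rintro a b ⟨haN, haC, ha⟩ ⟨hbN, hbC, hb⟩
        refine ⟨N.mul_mem haN hbN, Subgroup.mul_mem _ haC hbC, ?_⟩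
        rw [(show Commute a b from H.comp_comm hcomp haN haC hbC).mul_pow, ha, hb, mul_one]
      inv_mem' := by
        rintro a ⟨haN, haC, ha⟩
        exact ⟨N.inv_mem haN, Subgroup.inv_mem _ haC, by rw [inv_pow, ha, inv_one]⟩ }
  have hQmem : ∀ a, a ∈ Q ↔ a ∈ N ∧ a ∈ centralizer ({x} : Set G) ∧ a ^ (r ^ e) = 1 :=
    fun a => Iff.rfl
  have hrelt : ∀ a : G, (∃ k, orderOf a = r ^ k) → a ^ (r ^ e) = 1 := by
    rintro a ⟨k, hk⟩
    apply orderOf_dvd_iff_pow_eq_one.1
    rw [hk]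
    apply pow_dvd_pow
    have : r ^ k ∣ Nat.card G := hk ▸ orderOf_dvd_natCard a
    exact (hr.out.pow_dvd_iff_le_factorization Nat.card_pos.ne').1 this
  have hQp : IsPGroup r Q := by
    intro a
    refine ⟨e, ?_⟩
    apply Subtype.ext
    rw [Subgroup.coe_pow]
    exact ((hQmem a).1 a.2).2.2
  have hxQ : x ∈ Q := ⟨hxN, self_mem_cent x, hrelt x ⟨kx, hxo⟩⟩
  obtain ⟨kt, hkt⟩ := hto
  have htp : IsPGroup r (zpowers t) := Cfsg.Agent.Lib.Helper22.Ito.isPGroup_zpowers hkt
  have htQ : zpowers t ≤ normalizer (Q : Set G) := by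
    rw [Subgroup.le_normalizer_iff]
    intro h hh a ha
    obtain ⟨haN, haC, ha1⟩ := ha
    have hhn : h ∈ normalizer (centralizer ({x} : Set G) : Set G) :=
      (Subgroup.zpowers_le.2 htn) hh
    refine ⟨H.normal.conj_mem a haN h, (Subgroup.mem_normalizer_iff.1 hhn a).1 haC, ?_⟩
    rw [conj_pow, ha1]; group
  set T : Subgroup G := zpowers t ⊔ Q with hT
  have hTp : IsPGroup r T := IsPGroup.to_sup_of_normal_right' htp hQp htQ
  have hTQ : T ≤ normalizer (Q : Set G) := sup_le htQ Subgroup.le_normalizer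
  have : (Q.subgroupOf T).Normal := Subgroup.normal_subgroupOf_of_le_normalizer hTQ
  have hnot : ¬ Q.subgroupOf T ≤ (center G).subgroupOf T := by
    intro hle
    apply hxc
    have h1 : (⟨x, le_sup_right (a := zpowers t) hxQ⟩ : T) ∈ Q.subgroupOf T := by
      rw [Subgroup.mem_subgroupOf]; exact hxQ
    have h2 := hle h1
    rwa [Subgroup.mem_subgroupOf] at h2
  obtain ⟨d, hdQ, hdc, hdcomm⟩ := Cfsg.Agent.Lib.Helper1.exists_central_mod_of_lt hTp
    ((center G).subgroupOf T) (Q.subgroupOf T) hnot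
  rw [Subgroup.mem_subgroupOf] at hdQ hdc
  obtain ⟨hdN, hdC, hd1⟩ := (hQmem _).1 hdQ
  refine ⟨(d : G), hdN, hdC, ?_, hdc, ?_⟩
  · have := orderOf_dvd_of_pow_eq_one hd1
    obtain ⟨j, -, hj⟩ := (Nat.dvd_prime_pow hr.out).1 this
    exact ⟨j, hj⟩
  · have h1 := hdcomm ⟨t, le_sup_left (b := Q) (Subgroup.mem_zpowers t)⟩
    rw [Subgroup.mem_subgroupOf, commutatorElement_def] at h1
    rw [mem_cstab]
    simpa using h1

open Classical in
/-- semiregular action: a group `S` normalizing a component `C` with `|S : S ∩ C|` a power of `r` -/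
theorem Hyp.semi (H : Hyp r N m) [hr : Fact r.Prime] {C : Subgroup G} (hC : Comp r N C)
    (S : Subgroup G) (hS : S ≤ normalizer (C : Set G)) (n : ℕ) (hn : C.relIndex S = r ^ n) :
    (r ^ n + 1) * ordCompl[r] (Nat.card (N ⊓ center G : Subgroup G)) ≤
      ordCompl[r] (Nat.card (N ⊓ C : Subgroup G)) := by
  have := Fintype.ofFinite G
  have hZD : N ⊓ center G ≤ N ⊓ C := inf_le_inf_left N hC.center_le
  have hDcomm : ∀ a ∈ N ⊓ C, ∀ b ∈ N ⊓ C, a * b = b * a :=
    fun a ha b hb => H.comp_comm hC ha.1 ha.2 hb.2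
  have hZcomm : ∀ a ∈ N ⊓ center G, ∀ b ∈ N ⊓ center G, a * b = b * a :=
    fun a ha b hb => hDcomm a (hZD ha) b (hZD hb)
  have hbD : rp r (N ⊓ C) = ordCompl[r] (Nat.card (N ⊓ C : Subgroup G)) := rp_of_comm _ hDcomm
  have hbZ : rp r (N ⊓ center G) = ordCompl[r] (Nat.card (N ⊓ center G : Subgroup G)) :=
    rp_of_comm _ hZcomm
  set FD := Finset.univ.filter (fun a : G => a ∈ N ⊓ C ∧ (orderOf a).Coprime r) with hFD
  set FZ := Finset.univ.filter (fun a : G => a ∈ N ⊓ center G ∧ (orderOf a).Coprime r) with hFZ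
  have hFZD : FZ ⊆ FD := by
    intro a ha
    rw [hFZ, Finset.mem_filter] at ha
    rw [hFD, Finset.mem_filter]
    exact ⟨Finset.mem_univ _, hZD ha.2.1, ha.2.2⟩
  have hΩmem : ∀ a, a ∈ FD \ FZ ↔ a ∈ N ∧ a ∈ C ∧ (orderOf a).Coprime r ∧ a ∉ center G := by
    intro a
    rw [Finset.mem_sdiff, hFD, hFZ, Finset.mem_filter, Finset.mem_filter]
    simp only [Finset.mem_univ, true_and, Subgroup.mem_inf]
    tauto
  have hΩcard : (FD \ FZ).card = rp r (N ⊓ C) - rp r (N ⊓ center G) := by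
    rw [Finset.card_sdiff_of_subset hFZD, rp_eq_card_filter, rp_eq_card_filter]
  -- orbit counting
  have horb : (C ⊓ S).relIndex S ∣ (FD \ FZ).card := by
    apply relIndex_dvd_card_of_stabilizer S (C ⊓ S) (FD \ FZ) inf_le_right
    · intro a ha g hg
      rw [hΩmem] at ha ⊢
      obtain ⟨haN, haC, hao, hac⟩ := ha
      refine ⟨H.normal.conj_mem a haN g, (Subgroup.mem_normalizer_iff.1 (hS hg) a).1 haC, ?_, ?_⟩
      · rw [orderOf_conj'']; exact hao
      · rw [conj_mem_center_iff]; exact hac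
    · intro a ha g hg
      rw [hΩmem] at ha
      obtain ⟨haN, haC, hao, hac⟩ := ha
      have hCa := H.comp_cent_eq hC haN haC hac
      constructor
      · intro h
        refine Subgroup.mem_inf.2 ⟨?_, hg⟩
        rw [← hCa, mem_cent_iff]
        calc g * a = g * a * g⁻¹ * g := by group
          _ = a * g := by rw [h]
      · intro hgK
        have hgC := (Subgroup.mem_inf.1 hgK).1
        rw [← hCa, mem_cent_iff] at hgC
        rw [hgC]; group
  rw [Subgroup.inf_relIndex_right, hn, hΩcard, hbD, hbZ] at horb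
  -- nonempty
  obtain ⟨x, ⟨hxc, hxo, y, hy, hyc, hyo, hxy⟩, rfl⟩ := hC
  have hyΩ : y ∈ FD \ FZ := by
    rw [hΩmem]
    refine ⟨hy, ?_, hyo, hyc⟩
    rw [mem_cent_iff]; exact hxy.symm.eq
  have hpos : 0 < (FD \ FZ).card := Finset.card_pos.2 ⟨y, hyΩ⟩
  rw [hΩcard, hbD, hbZ] at hpos
  have hdvd : ordCompl[r] (Nat.card (N ⊓ center G : Subgroup G)) ∣
      ordCompl[r] (Nat.card (N ⊓ centralizer ({x} : Set G) : Subgroup G)) :=
    Nat.ordCompl_dvd_ordCompl_of_dvd (Subgroup.card_dvd_of_le hZD) r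
  have hdvd2 : ordCompl[r] (Nat.card (N ⊓ center G : Subgroup G)) ∣
      ordCompl[r] (Nat.card (N ⊓ centralizer ({x} : Set G) : Subgroup G)) -
        ordCompl[r] (Nat.card (N ⊓ center G : Subgroup G)) :=
    Nat.dvd_sub hdvd (dvd_refl _)
  have hcop : (r ^ n).Coprime (ordCompl[r] (Nat.card (N ⊓ center G : Subgroup G))) :=
    Nat.Coprime.pow_left n (Nat.coprime_ordCompl hr.out Nat.card_pos.ne')
  have hmul := Nat.Coprime.mul_dvd_of_dvd_of_dvd hcop horb hdvd2
  have hle := Nat.le_of_dvd hpos hmul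
  have : (r ^ n + 1) * ordCompl[r] (Nat.card (N ⊓ center G : Subgroup G)) =
      r ^ n * ordCompl[r] (Nat.card (N ⊓ center G : Subgroup G)) +
        ordCompl[r] (Nat.card (N ⊓ center G : Subgroup G)) := by ring
  omega

open Classical in
theorem Hyp.idx (H : Hyp r N m) {d t : G} (hdN : d ∈ N) (hdt : d ∈ cstab t) :
    (cstab d).relIndex (centralizer ({t} : Set G)) ≤
      (N ⊓ center G).relIndex (N ⊓ centralizer ({t} : Set G)) := by
  have := Fintype.ofFinite G
  have : Fintype (G ⧸ center G) := Fintype.ofFinite _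
  set Dt := N ⊓ centralizer ({t} : Set G) with hDt
  let f : G → G ⧸ center G := fun c => QuotientGroup.mk' (center G) (c * d * c⁻¹ * d⁻¹)
  let X : Finset (G ⧸ center G) :=
    Finset.univ.filter (fun q => q ∈ Dt.map (QuotientGroup.mk' (center G)))
  have hXcard : X.card = (N ⊓ center G).relIndex Dt := by
    have h1 : X.card = Nat.card (Dt.map (QuotientGroup.mk' (center G))) := by
      rw [Nat.card_eq_fintype_card, Fintype.card_subtype]
    rw [h1, ← Subgroup.relIndex_ker, QuotientGroup.ker_mk', ← Subgroup.inf_relIndex_right,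
      ← Subgroup.inf_relIndex_right (H := N ⊓ center G)]
    congr 1
    ext w
    simp only [hDt, Subgroup.mem_inf]
    tauto
  rw [← hXcard]
  apply relIndex_le_card_of_fibers (centralizer ({t} : Set G)) (cstab d) X f
  · intro c hc
    show f c ∈ X
    rw [Finset.mem_filter]
    refine ⟨Finset.mem_univ _, ?_⟩
    apply Subgroup.mem_map_of_mem
    refine ⟨?_, ?_⟩
    · have : c * d * c⁻¹ * d⁻¹ = (c * d * c⁻¹) * d⁻¹ := by group
      rw [this]
      exact N.mul_mem (H.normal.conj_mem d hdN c) (N.inv_mem hdN)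
    · have h1 : d * c⁻¹ * d⁻¹ ∈ centralizer ({t} : Set G) :=
        (Subgroup.mem_normalizer_iff.1 (cstab_le_normalizer t hdt) c⁻¹).1 (Subgroup.inv_mem _ hc)
      have : c * d * c⁻¹ * d⁻¹ = c * (d * c⁻¹ * d⁻¹) := by group
      rw [this]
      exact Subgroup.mul_mem _ hc h1
  · intro c₁ _ c₂ _ h
    have h' : (c₁ * d * c₁⁻¹ * d⁻¹)⁻¹ * (c₂ * d * c₂⁻¹ * d⁻¹) ∈ center G := by
      have := (QuotientGroup.eq (s := center G)).1 h
      exact this
    rw [mem_cstab]
    have e : (c₂⁻¹ * c₁) * d * (c₂⁻¹ * c₁)⁻¹ * d⁻¹ =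
        (c₂⁻¹ * (c₁ * d * c₁⁻¹ * d⁻¹)) *
          ((c₁ * d * c₁⁻¹ * d⁻¹)⁻¹ * (c₂ * d * c₂⁻¹ * d⁻¹))⁻¹ *
            (c₂⁻¹ * (c₁ * d * c₁⁻¹ * d⁻¹))⁻¹ := by group
    rw [e, conj_mem_center_iff]
    exact (center G).inv_mem h'

theorem Hyp.typeb_bound (H : Hyp r N m) [hr : Fact r.Prime] {t : G}
    (hb : ∀ y ∈ N, y ∈ centralizer ({t} : Set G) → (orderOf y).Coprime r → y ∈ center G) :
    (N ⊓ center G).relIndex (N ⊓ centralizer ({t} : Set G)) * Nat.card (N ⊓ center G : Subgroup G) ≤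
      ordProj[r] (Nat.card (centralizer ({t} : Set G))) *
        ordCompl[r] (Nat.card (N ⊓ center G : Subgroup G)) := by
  have hZD : N ⊓ center G ≤ N ⊓ centralizer ({t} : Set G) := inf_le_inf_left N (center_le_cent t)
  have hnorm : N ⊓ centralizer ({t} : Set G) ≤ normalizer ((N ⊓ center G : Subgroup G) : Set G) := by
    rw [Subgroup.le_normalizer_iff]
    intro h _ k hk
    exact ⟨H.normal.conj_mem k hk.1 h, (conj_mem_center_iff h k).2 hk.2⟩
  obtain ⟨n, hn⟩ := relIndex_eq_pow_of_pow_mem (r := r) (N ⊓ center G)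
    (N ⊓ centralizer ({t} : Set G)) hnorm (by
      intro w hw
      obtain ⟨i, j, hij, ⟨f, hf⟩, hcj⟩ := Cfsg.Agent.Lib.Helper17.exists_p_pprime_decomp r w
      refine ⟨f, ?_⟩
      have hwj : w ^ j ∈ center G :=
        hb _ (N.zpow_mem hw.1 j) (Subgroup.zpow_mem _ hw.2 j) hcj
      have h1 : w ^ (r ^ f) = (w ^ j) ^ (r ^ f) := by
        conv_lhs => rw [hij]
        rw [((Commute.refl w).zpow_zpow i j).mul_pow, ← hf, pow_orderOf_eq_one, one_mul]
      rw [h1]
      exact ⟨N.pow_mem (N.zpow_mem hw.1 j) _, (center G).pow_mem hwj _⟩)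
  have hcard := card_inf_mul_relIndex (N ⊓ center G) (N ⊓ centralizer ({t} : Set G))
  rw [inf_of_le_left hZD, hn] at hcard
  have hdvd : Nat.card (N ⊓ centralizer ({t} : Set G) : Subgroup G) ∣
      Nat.card (centralizer ({t} : Set G)) := Subgroup.card_dvd_of_le inf_le_right
  rw [hn]
  set z := Nat.card (N ⊓ center G : Subgroup G) with hz
  have hzpos : z ≠ 0 := Nat.card_pos.ne'
  have hzsplit : ordProj[r] z * ordCompl[r] z = z := Nat.ordProj_mul_ordCompl_eq_self z r
  have h2 : r ^ (z.factorization r + n) ∣ Nat.card (centralizer ({t} : Set G)) := by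
    refine dvd_trans ?_ hdvd
    rw [← hcard, pow_add]
    exact Nat.mul_dvd_mul_right (Nat.ordProj_dvd z r) _
  have h3 : z.factorization r + n ≤ (Nat.card (centralizer ({t} : Set G))).factorization r :=
    (hr.out.pow_dvd_iff_le_factorization Nat.card_pos.ne').1 h2
  have h4 : r ^ (z.factorization r + n) ≤ ordProj[r] (Nat.card (centralizer ({t} : Set G))) :=
    Nat.pow_le_pow_right hr.out.pos h3
  calc r ^ n * z = r ^ n * (ordProj[r] z * ordCompl[r] z) := by rw [hzsplit]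
    _ = r ^ (z.factorization r + n) * ordCompl[r] z := by rw [pow_add]; ring
    _ ≤ ordProj[r] (Nat.card (centralizer ({t} : Set G))) * ordCompl[r] z :=
      Nat.mul_le_mul_right _ h4

theorem Hyp.ordProj_inf (H : Hyp r N m) [hr : Fact r.Prime] (C : Subgroup G) :
    ordProj[r] (Nat.card (N ⊓ C : Subgroup G)) = ordProj[r] (Nat.card C) := by
  apply Nat.dvd_antisymm
  · exact Nat.ordProj_dvd_ordProj_of_dvd Nat.card_pos.ne' (Subgroup.card_dvd_of_le inf_le_right) r
  · obtain ⟨S⟩ : Nonempty (Sylow r C) := inferInstance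
    have hle : (S : Subgroup C).map C.subtype ≤ N ⊓ C := by
      rintro s ⟨s0, hs0, rfl⟩
      refine ⟨?_, s0.2⟩
      apply H.relt
      obtain ⟨k, hk⟩ := (IsPGroup.iff_orderOf.1 S.2) ⟨s0, hs0⟩
      refine ⟨k, ?_⟩
      rw [← hk]
      simp [Subgroup.orderOf_mk]
    have hcard : Nat.card ((S : Subgroup C).map C.subtype) = ordProj[r] (Nat.card C) := by
      rw [Subgroup.card_map_of_injective (Subgroup.subtype_injective _)]
      exact S.card_eq_multiplicity
    have h1 : r ^ (Nat.card C).factorization r ∣ Nat.card (N ⊓ C : Subgroup G) :=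
      hcard ▸ Subgroup.card_dvd_of_le hle
    have h2 := (hr.out.pow_dvd_iff_le_factorization Nat.card_pos.ne').1 h1
    exact pow_dvd_pow r h2

/-- **Propagation lemma.**  If `x` is of type `TA`, and the `r`-element `t` normalizes `C_G(x)` but
does not lie in it, then `t` is of type `TA` as well. -/
theorem Hyp.propagate (H : Hyp r N m) [hr : Fact r.Prime] {x t : G} (hx : TA r N x)
    (hto : ∃ k : ℕ, orderOf t = r ^ k) (htC : t ∉ centralizer ({x} : Set G))
    (htn : t ∈ normalizer (centralizer ({x} : Set G) : Set G)) : TA r N t := by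
  by_contra hnot
  have htc : t ∉ center G := fun h => htC (center_le_cent x h)
  have hb : ∀ y ∈ N, y ∈ centralizer ({t} : Set G) → (orderOf y).Coprime r → y ∈ center G := by
    intro y hy hyt hyo
    by_contra hyc
    apply hnot
    refine ⟨htc, hto, y, hy, hyc, hyo, ?_⟩
    rw [mem_cent_iff] at hyt
    exact hyt.symm
  obtain ⟨d, hdN, hdC, ⟨kd, hdo⟩, hdc, htd⟩ := H.exists_d hx hto htn
  have hcomp : Comp r N (centralizer ({x} : Set G)) := ⟨x, hx, rfl⟩
  have hCd : centralizer ({d} : Set G) = centralizer ({x} : Set G) :=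
    H.comp_cent_eq hcomp hdN hdC hdc
  have hnormd : cstab d ≤ normalizer (centralizer ({x} : Set G) : Set G) :=
    hCd ▸ cstab_le_normalizer d
  obtain ⟨n, hn⟩ := relIndex_eq_pow_of_pow_mem (r := r) (centralizer ({x} : Set G)) (cstab d)
    hnormd
    (fun g hg => ⟨kd, hCd ▸ cstab_pow_mem hg (by rw [← hdo]; exact pow_orderOf_eq_one d)⟩)
  have hsemi := H.semi hcomp (cstab d) hnormd n hn
  have hge := H.prop_ge hx htC
  have hidx := H.idx hdN (cstab_symm htd)
  have htb := H.typeb_bound hb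
  obtain ⟨hxc, ⟨kx, hxo⟩, -⟩ := hx
  have hxN : x ∈ N := H.relt x ⟨kx, hxo⟩
  have htN : t ∈ N := H.relt t hto
  have hcard : Nat.card (centralizer ({x} : Set G)) = Nat.card (centralizer ({t} : Set G)) :=
    H.card_cent_eq hxN htN hxc htc
  have hswap : (centralizer ({t} : Set G)).relIndex (centralizer ({x} : Set G)) =
      (centralizer ({x} : Set G)).relIndex (centralizer ({t} : Set G)) := by
    have h1 := card_inf_mul_relIndex (centralizer ({t} : Set G)) (centralizer ({x} : Set G))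
    have h2 := card_inf_mul_relIndex (centralizer ({x} : Set G)) (centralizer ({t} : Set G))
    rw [inf_comm] at h2
    rw [← hcard, ← h1] at h2
    exact (Nat.eq_of_mul_eq_mul_left Nat.card_pos h2).symm
  have hCS : centralizer ({x} : Set G) ≤ cstab d := hCd ▸ cent_le_cstab d
  have hchain := Subgroup.relIndex_mul_relIndex
    (H := centralizer ({x} : Set G) ⊓ centralizer ({t} : Set G))
    (K := cstab d ⊓ centralizer ({t} : Set G)) (L := centralizer ({t} : Set G))
    (inf_le_inf_right _ hCS) inf_le_right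
  rw [Subgroup.inf_relIndex_right (H := cstab d),
    Subgroup.inf_relIndex_right (H := centralizer ({x} : Set G))] at hchain
  have hfirst : (centralizer ({x} : Set G) ⊓ centralizer ({t} : Set G)).relIndex
      (cstab d ⊓ centralizer ({t} : Set G)) ≤ r ^ n := by
    have e : centralizer ({x} : Set G) ⊓ centralizer ({t} : Set G) =
        centralizer ({x} : Set G) ⊓ (cstab d ⊓ centralizer ({t} : Set G)) := by
      rw [← inf_assoc, inf_of_le_left hCS]
    rw [e, Subgroup.inf_relIndex_right, ← hn]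
    exact Subgroup.relIndex_le_of_le_right inf_le_left (relIndex_ne_zero' _ _)
  -- numbers
  have hZD : N ⊓ center G ≤ N ⊓ centralizer ({x} : Set G) := inf_le_inf_left N (center_le_cent x)
  have haz := card_inf_mul_relIndex (N ⊓ center G) (N ⊓ centralizer ({x} : Set G))
  rw [inf_of_le_left hZD] at haz
  have hsplit : ordProj[r] (Nat.card (centralizer ({x} : Set G))) *
      ordCompl[r] (Nat.card (N ⊓ centralizer ({x} : Set G) : Subgroup G)) =
      Nat.card (N ⊓ centralizer ({x} : Set G) : Subgroup G) := by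
    rw [← H.ordProj_inf]
    exact Nat.ordProj_mul_ordCompl_eq_self _ r
  rw [← hcard] at htb
  have hPpos : 0 < ordProj[r] (Nat.card (centralizer ({x} : Set G))) := Nat.ordProj_pos _ _
  have hζpos : 0 < ordCompl[r] (Nat.card (N ⊓ center G : Subgroup G)) :=
    Nat.ordCompl_pos _ Nat.card_pos.ne'
  have ha_le : (N ⊓ center G).relIndex (N ⊓ centralizer ({x} : Set G)) ≤
      r ^ n * (N ⊓ center G).relIndex (N ⊓ centralizer ({t} : Set G)) := by
    calc (N ⊓ center G).relIndex (N ⊓ centralizer ({x} : Set G))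
        ≤ (centralizer ({t} : Set G)).relIndex (centralizer ({x} : Set G)) := hge
      _ = (centralizer ({x} : Set G)).relIndex (centralizer ({t} : Set G)) := hswap
      _ = _ := hchain.symm
      _ ≤ r ^ n * (N ⊓ center G).relIndex (N ⊓ centralizer ({t} : Set G)) :=
        Nat.mul_le_mul hfirst hidx
  have key : ∀ (a at' z P ζ bD s cD : ℕ), z * a = cD → P * bD = cD → a ≤ s * at' →
      at' * z ≤ P * ζ → (s + 1) * ζ ≤ bD → 0 < P → 0 < ζ → False := by
    intro a at' z P ζ bD s cD h1 h2 h3 h4 h5 hP hζ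
    have h9 : z * a ≤ s * (P * ζ) := by
      calc z * a ≤ z * (s * at') := Nat.mul_le_mul_left z h3
        _ = s * (at' * z) := by ring
        _ ≤ s * (P * ζ) := Nat.mul_le_mul_left s h4
    have h6 : P * ((s + 1) * ζ) ≤ P * bD := Nat.mul_le_mul_left P h5
    have h7 : P * ((s + 1) * ζ) = s * (P * ζ) + P * ζ := by ring
    have h8 : 0 < P * ζ := Nat.mul_pos hP hζ
    omega
  exact key _ _ _ _ _ _ _ _ haz hsplit ha_le htb hsemi hPpos hζpos

end Cfsg.Agent.Lib.Helper21.RelCS
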