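import Mathlib
import Cfsg.Agent.Lib.Helper21.CaminaD
import Cfsg.Agent.Lib.Helper21.RelCSC

set_option autoImplicit false

namespace Cfsg.Agent.Lib.Helper21.RelCS

open Subgroup
open Cfsg.Agent.Lib.Helper21.S4081
open Cfsg.Agent.Lib.Helper21.Camina (end_sum_apply cj_fix_iff)
open Cfsg.Agent.Lib.Helper22.Ito (mem_cent_iff cent_le_cent_pow cent_le_cent_zpow center_le_cent
  index_cent_eq_one_iff)
open scoped IsMulCommutative

section Ring

theorem natCast_add_eq_of_geom {E : Type*} [Ring E] (α β : E) (hc : Commute α β) (q : ℕ)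
    (hq : 0 < q) :
    (q : E) + ∑ i ∈ (Finset.range q).erase 0, α ^ i * ∑ k ∈ Finset.range q, (β ^ i) ^ k =
      ∑ k ∈ Finset.range q, ∑ i ∈ Finset.range q, (α * β ^ k) ^ i := by
  rw [Finset.sum_comm]
  have h4 : ∀ i, ∑ k ∈ Finset.range q, (α * β ^ k) ^ i =
      α ^ i * ∑ k ∈ Finset.range q, (β ^ i) ^ k := by
    intro i
    rw [Finset.mul_sum]
    apply Finset.sum_congr rfl
    intro k _
    rw [(hc.pow_right k).mul_pow, ← pow_mul, ← pow_mul, mul_comm k i]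
  simp only [h4]
  rw [← Finset.add_sum_erase (Finset.range q) _ (Finset.mem_range.mpr hq)]
  simp

end Ring

section RankTwo

variable {Γ : Type*} [Group Γ] (V : Subgroup Γ) [V.Normal] [IsMulCommutative V]

theorem pow_mem_of_rank_two (K : Subgroup Γ) (q : ℕ) (hq : q.Prime) (γ₁ γ₂ : Γ)
    (h1 : ∀ v ∈ V, γ₁ ^ q * v * (γ₁ ^ q)⁻¹ = v) (h2 : ∀ v ∈ V, γ₂ ^ q * v * (γ₂ ^ q)⁻¹ = v)
    (h12 : ∀ v ∈ V, (γ₁ * γ₂) * v * (γ₁ * γ₂)⁻¹ = (γ₂ * γ₁) * v * (γ₂ * γ₁)⁻¹)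
    (hK : ∀ v ∈ V, v ∈ K → γ₁ * v * γ₁⁻¹ = v)
    (hfix : ∀ i j : ℕ, ¬ (q ∣ i ∧ q ∣ j) → ∀ v ∈ V,
      (γ₁ ^ i * γ₂ ^ j) * v * (γ₁ ^ i * γ₂ ^ j)⁻¹ = v → v ∈ K) :
    ∀ v ∈ V, v ^ q ∈ K := by
  let K' : AddSubgroup (Additive V) := Subgroup.toAddSubgroup (K.subgroupOf V)
  have hK'mem : ∀ w : Additive V, w ∈ K' ↔ ((Additive.toMul w : V) : Γ) ∈ K := fun w => Iff.rfl
  have hone : ∀ g : Γ, (∀ v ∈ V, g * v * g⁻¹ = v) → cjEnd V g = 1 := by
    intro g hg
    refine AddMonoidHom.ext fun v => ?_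
    exact (cj_fix_iff V g v).mpr (hg _ (Additive.toMul v : V).2)
  have hα : cjEnd V γ₁ ^ q = 1 := by rw [cjEnd_pow]; exact hone _ h1
  have hβ : cjEnd V γ₂ ^ q = 1 := by rw [cjEnd_pow]; exact hone _ h2
  have hcomm : Commute (cjEnd V γ₁) (cjEnd V γ₂) := by
    show cjEnd V γ₁ * cjEnd V γ₂ = cjEnd V γ₂ * cjEnd V γ₁
    rw [← map_mul, ← map_mul]
    refine AddMonoidHom.ext fun v => ?_
    apply Additive.toMul.injective
    apply Subtype.ext
    have e1 := cjEnd_apply V (γ₁ * γ₂) v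
    have e2 := cjEnd_apply V (γ₂ * γ₁) v
    exact e1.trans ((h12 _ (Additive.toMul v : V).2).trans e2.symm)
  -- geometric sums land in K'
  have hs : ∀ c : AddMonoid.End (Additive V), c ^ q = 1 → (∀ w, c w = w → w ∈ K') →
      ∀ w, (∑ i ∈ Finset.range q, c ^ i) w ∈ K' := by
    intro c hcq hcfix w
    apply hcfix
    have h1 : (c - 1) * ∑ i ∈ Finset.range q, c ^ i = 0 := by rw [mul_geom_sum, hcq, sub_self]
    have := congrArg (fun f => f w) h1
    simp only [AddMonoid.End.coe_mul, Function.comp_apply] at this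
    exact sub_eq_zero.mp this
  have hfix' : ∀ i j : ℕ, ¬ (q ∣ i ∧ q ∣ j) → ∀ w : Additive V,
      cjEnd V (γ₁ ^ i * γ₂ ^ j) w = w → w ∈ K' := by
    intro i j hij w hw
    rw [hK'mem]
    exact hfix i j hij _ (Additive.toMul w : V).2 ((cj_fix_iff V _ w).mp hw)
  have hαfix : ∀ w ∈ K', ∀ i : ℕ, (cjEnd V γ₁ ^ i) w = w := by
    intro w hw i
    have h0 : cjEnd V γ₁ w = w :=
      (cj_fix_iff V γ₁ w).mpr (hK _ (Additive.toMul w : V).2 ((hK'mem w).1 hw))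
    induction i with
    | zero => simp
    | succ i ih => rw [pow_succ, AddMonoid.End.coe_mul, Function.comp_apply, h0, ih]
  have hident := natCast_add_eq_of_geom (cjEnd V γ₁) (cjEnd V γ₂) hcomm q hq.pos
  intro v hv
  have happ := DFunLike.congr_fun hident (Additive.ofMul (⟨v, hv⟩ : V))
  rw [show ∀ (f g : AddMonoid.End (Additive V)) (x : Additive V), (f + g) x = f x + g x from
    fun _ _ _ => rfl, end_sum_apply, end_sum_apply] at happ
  have hR : ∑ k ∈ Finset.range q, (∑ i ∈ Finset.range q, (cjEnd V γ₁ * cjEnd V γ₂ ^ k) ^ i)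
      (Additive.ofMul (⟨v, hv⟩ : V)) ∈ K' := by
    apply AddSubgroup.sum_mem
    intro k _
    apply hs
    · rw [(hcomm.pow_right k).mul_pow, hα, ← pow_mul, mul_comm k q, pow_mul, hβ, one_pow, one_mul]
    · have : cjEnd V γ₁ * cjEnd V γ₂ ^ k = cjEnd V (γ₁ ^ 1 * γ₂ ^ k) := by
        simp only [map_mul, map_pow, pow_one]
      rw [this]
      apply hfix' 1 k
      rintro ⟨h, -⟩
      exact hq.one_lt.ne' (Nat.dvd_one.mp h)
  have hL : ∑ i ∈ (Finset.range q).erase 0,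
      (cjEnd V γ₁ ^ i * ∑ k ∈ Finset.range q, (cjEnd V γ₂ ^ i) ^ k)
        (Additive.ofMul (⟨v, hv⟩ : V)) ∈ K' := by
    apply AddSubgroup.sum_mem
    intro i hi
    rw [Finset.mem_erase, Finset.mem_range] at hi
    rw [AddMonoid.End.coe_mul, Function.comp_apply]
    have hmem : (∑ k ∈ Finset.range q, (cjEnd V γ₂ ^ i) ^ k) (Additive.ofMul (⟨v, hv⟩ : V)) ∈ K' := by
      apply hs
      · rw [← pow_mul, mul_comm i q, pow_mul, hβ, one_pow]
      · have : cjEnd V γ₂ ^ i = cjEnd V (γ₁ ^ 0 * γ₂ ^ i) := by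
          rw [pow_zero, one_mul, map_pow]
        rw [this]
        apply hfix' 0 i
        rintro ⟨-, h⟩
        exact absurd (Nat.le_of_dvd (Nat.pos_of_ne_zero hi.1) h) (not_le.mpr hi.2)
    rw [hαfix _ hmem i]
    exact hmem
  have hq' : (q : AddMonoid.End (Additive V)) (Additive.ofMul (⟨v, hv⟩ : V)) ∈ K' := by
    have := K'.sub_mem hR hL
    rw [← happ, add_sub_cancel_right] at this
    exact this
  rw [AddMonoid.End.natCast_apply, hK'mem] at hq'
  simpa using hq'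

end RankTwo

section RankTwo'

variable {G : Type*} [Group G]

theorem pow_mem_of_rank_two' (D K : Subgroup G) (hcomm : ∀ a ∈ D, ∀ b ∈ D, a * b = b * a)
    (q : ℕ) (hq : q.Prime) (g₁ g₂ : G) (hg₁ : g₁ ∈ normalizer (D : Set G))
    (hg₂ : g₂ ∈ normalizer (D : Set G))
    (h1 : ∀ v ∈ D, g₁ ^ q * v * (g₁ ^ q)⁻¹ = v) (h2 : ∀ v ∈ D, g₂ ^ q * v * (g₂ ^ q)⁻¹ = v)
    (h12 : ∀ v ∈ D, (g₁ * g₂) * v * (g₁ * g₂)⁻¹ = (g₂ * g₁) * v * (g₂ * g₁)⁻¹)
    (hK : ∀ v ∈ D, v ∈ K → g₁ * v * g₁⁻¹ = v)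
    (hfix : ∀ i j : ℕ, ¬ (q ∣ i ∧ q ∣ j) → ∀ v ∈ D,
      (g₁ ^ i * g₂ ^ j) * v * (g₁ ^ i * g₂ ^ j)⁻¹ = v → v ∈ K) :
    ∀ v ∈ D, v ^ q ∈ K := by
  intro v hv
  have hDle : D ≤ normalizer (D : Set G) := Subgroup.le_normalizer
  have : IsMulCommutative (D.subgroupOf (normalizer (D : Set G))) := by
    refine .of_setLike_mul_comm ?_
    intro a ha b hb
    apply Subtype.ext
    exact hcomm _ (Subgroup.mem_subgroupOf.1 ha) _ (Subgroup.mem_subgroupOf.1 hb)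
  have key := pow_mem_of_rank_two (D.subgroupOf (normalizer (D : Set G)))
    (K.subgroupOf (normalizer (D : Set G))) q hq ⟨g₁, hg₁⟩ ⟨g₂, hg₂⟩ ?_ ?_ ?_ ?_ ?_
    ⟨v, hDle hv⟩ (Subgroup.mem_subgroupOf.2 hv)
  · rw [Subgroup.mem_subgroupOf] at key
    simpa using key
  · intro w hw
    apply Subtype.ext
    simpa using h1 _ (Subgroup.mem_subgroupOf.1 hw)
  · intro w hw
    apply Subtype.ext
    simpa using h2 _ (Subgroup.mem_subgroupOf.1 hw)
  · intro w hw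
    apply Subtype.ext
    simpa using h12 _ (Subgroup.mem_subgroupOf.1 hw)
  · intro w hw hwK
    apply Subtype.ext
    simpa using hK _ (Subgroup.mem_subgroupOf.1 hw) (Subgroup.mem_subgroupOf.1 hwK)
  · intro i j hij w hw hfixw
    rw [Subgroup.mem_subgroupOf]
    apply hfix i j hij _ (Subgroup.mem_subgroupOf.1 hw)
    have := congrArg Subtype.val hfixw
    simpa using this

end RankTwo'

section Main

variable {G : Type*} [Group G]

theorem cstab_comm_mul {d g h : G} (hh : h ∈ cstab d) :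
    (g * h) * d * (g * h)⁻¹ * d⁻¹ = (h * d * h⁻¹ * d⁻¹) * (g * d * g⁻¹ * d⁻¹) := by
  rw [mem_cstab] at hh
  calc g * h * d * (g * h)⁻¹ * d⁻¹ = g * (h * d * h⁻¹ * d⁻¹) * (d * g⁻¹ * d⁻¹) := by group
    _ = (h * d * h⁻¹ * d⁻¹) * g * (d * g⁻¹ * d⁻¹) := by rw [(Subgroup.mem_center_iff.1 hh) g]
    _ = _ := by group

theorem cstab_comm_pow {d g : G} (hg : g ∈ cstab d) (k : ℕ) :
    g ^ k * d * (g ^ k)⁻¹ * d⁻¹ = (g * d * g⁻¹ * d⁻¹) ^ k := by
  induction k with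
  | zero => simp
  | succ k ih =>
    have hk : g ^ k ∈ cstab d := (cstab d).pow_mem hg k
    rw [pow_succ', cstab_comm_mul hk, ih, pow_succ]

theorem cstab_comm_pow_eq_one {d g : G} (hg : g ∈ cstab d) {n : ℕ} (hd : d ^ n ∈ center G) :
    (g * d * g⁻¹ * d⁻¹) ^ n = 1 := by
  have hz := mem_cstab.1 hg
  have hzd : Commute (g * d * g⁻¹ * d⁻¹) d := ((Subgroup.mem_center_iff.1 hz) d).symm
  have h1 : (g * d * g⁻¹) ^ n = d ^ n := by
    rw [conj_pow, (Subgroup.mem_center_iff.1 hd) g]; group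
  have h2 : g * d * g⁻¹ = (g * d * g⁻¹ * d⁻¹) * d := by group
  rw [h2, hzd.mul_pow] at h1
  exact mul_right_cancel (h1.trans (one_mul _).symm)

theorem cstab_le_cstab_pow (d : G) (j : ℕ) : cstab d ≤ cstab (d ^ j) := by
  intro g hg
  have hz := mem_cstab.1 hg
  have hzd : Commute (g * d * g⁻¹ * d⁻¹) d := ((Subgroup.mem_center_iff.1 hz) d).symm
  have h2 : g * d * g⁻¹ = (g * d * g⁻¹ * d⁻¹) * d := by group
  have h3 : g * d ^ j * g⁻¹ = (g * d * g⁻¹ * d⁻¹) ^ j * d ^ j := by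
    have h4 : (g * d * g⁻¹) ^ j = ((g * d * g⁻¹ * d⁻¹) * d) ^ j := congrArg (· ^ j) h2
    rw [conj_pow, hzd.mul_pow] at h4
    exact h4
  rw [mem_cstab, h3, mul_inv_cancel_right]
  exact (center G).pow_mem hz j

variable [Finite G] {r : ℕ} {N : Subgroup G} {m : ℕ}

theorem exists_conj_mem_sylow [hr : Fact r.Prime] (R : Sylow r G) {x : G}
    (hxo : ∃ k : ℕ, orderOf x = r ^ k) : ∃ g : G, g * x * g⁻¹ ∈ (R : Subgroup G) := by
  obtain ⟨k, hk⟩ := hxo
  obtain ⟨Q', hQ'⟩ := (Cfsg.Agent.Lib.Helper22.Ito.isPGroup_zpowers hk).exists_le_sylow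
  obtain ⟨g, hg⟩ := MulAction.exists_smul_eq G Q' R
  refine ⟨g, ?_⟩
  have : g * x * g⁻¹ ∈ ((g • Q' : Sylow r G) : Subgroup G) := by
    rw [Sylow.smul_def, Sylow.pointwise_smul_def]
    exact ⟨x, hQ' (Subgroup.mem_zpowers x), rfl⟩
  rwa [hg] at this

omit [Finite G] in
theorem mem_sylow_orderOf [hr : Fact r.Prime] (R : Sylow r G) {x : G} (hx : x ∈ (R : Subgroup G)) :
    ∃ k : ℕ, orderOf x = r ^ k := by
  obtain ⟨k, hk⟩ := (IsPGroup.iff_orderOf.1 R.2) ⟨x, hx⟩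
  exact ⟨k, by rw [← hk]; simp [Subgroup.orderOf_mk]⟩

/-- an element of the second centre of `R` modulo `Z(G)`, of order `r` modulo `Z(G)` -/
theorem exists_u [hr : Fact r.Prime] (R : Sylow r G) (hR : ¬ (R : Subgroup G) ≤ center G) :
    ∃ u ∈ (R : Subgroup G), u ∉ center G ∧ u ^ r ∈ center G ∧ (R : Subgroup G) ≤ cstab u := by
  classical
  have hAC : ¬ (⊤ : Subgroup (R : Subgroup G)) ≤ (center G).subgroupOf (R : Subgroup G) := by
    intro h
    apply hR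
    intro g hg
    have := h (Subgroup.mem_top (⟨g, hg⟩ : (R : Subgroup G)))
    rwa [Subgroup.mem_subgroupOf] at this
  obtain ⟨u₀, -, hu₀c, hu₀comm⟩ := Cfsg.Agent.Lib.Helper1.exists_central_mod_of_lt R.2
    ((center G).subgroupOf (R : Subgroup G)) ⊤ hAC
  rw [Subgroup.mem_subgroupOf] at hu₀c
  have hRu₀ : (R : Subgroup G) ≤ cstab (u₀ : G) := by
    intro g hg
    have h1 := hu₀comm ⟨g, hg⟩
    rw [Subgroup.mem_subgroupOf, commutatorElement_def] at h1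
    rw [mem_cstab]
    simpa using h1
  obtain ⟨e, he⟩ := mem_sylow_orderOf R u₀.2
  have hex : ∃ k : ℕ, (u₀ : G) ^ (r ^ k) ∈ center G :=
    ⟨e, by rw [← he, pow_orderOf_eq_one]; exact (center G).one_mem⟩
  have hk0 : Nat.find hex ≠ 0 := by
    intro h0
    have := Nat.find_spec hex
    rw [h0, pow_zero, pow_one] at this
    exact hu₀c this
  obtain ⟨k', hk'⟩ := Nat.exists_eq_succ_of_ne_zero hk0
  refine ⟨(u₀ : G) ^ (r ^ k'), (R : Subgroup G).pow_mem u₀.2 _, ?_, ?_, ?_⟩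
  · exact Nat.find_min hex (by omega)
  · have := Nat.find_spec hex
    rw [hk', pow_succ, pow_mul] at this
    exact this
  · exact hRu₀.trans (cstab_le_cstab_pow _ _)

theorem Hyp.ta_of_mem (H : Hyp r N m) [hr : Fact r.Prime] {x t : G} (hx : TA r N x)
    (hto : ∃ k : ℕ, orderOf t = r ^ k) (htc : t ∉ center G)
    (htC : t ∈ centralizer ({x} : Set G)) : TA r N t := by
  have htN : t ∈ N := H.relt t hto
  have hCt := H.comp_cent_eq ⟨x, hx, rfl⟩ htN htC htc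
  obtain ⟨-, -, y, hy, hyc, hyo, hxy⟩ := hx
  refine ⟨htc, hto, y, hy, hyc, hyo, ?_⟩
  have : y ∈ centralizer ({t} : Set G) := by
    rw [hCt, mem_cent_iff]; exact hxy.symm.eq
  rw [mem_cent_iff] at this
  exact this.symm

theorem Hyp.ta_of_cstab (H : Hyp r N m) [hr : Fact r.Prime] {x t : G} (hx : TA r N x)
    (hto : ∃ k : ℕ, orderOf t = r ^ k) (htc : t ∉ center G) (h : t ∈ cstab x) : TA r N t := by
  by_cases htC : t ∈ centralizer ({x} : Set G)
  · exact H.ta_of_mem hx hto htc htC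
  · exact H.propagate hx hto htC (cstab_le_normalizer x h)

/-- if `N` has a noncentral `r'`-element then every noncentral element of the Sylow subgroup `R`
is of type `TA`; moreover we get the special element `u`. -/
theorem Hyp.all_TA (H : Hyp r N m) [hr : Fact r.Prime] (R : Sylow r G)
    (hR : ¬ (R : Subgroup G) ≤ center G) {y : G} (hy : y ∈ N) (hyc : y ∉ center G)
    (hyo : (orderOf y).Coprime r) :
    ∃ u ∈ (R : Subgroup G), TA r N u ∧ u ^ r ∈ center G ∧ (R : Subgroup G) ≤ cstab u ∧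
      ∀ t ∈ (R : Subgroup G), t ∉ center G → TA r N t := by
  obtain ⟨x0, hx0R, hx0c⟩ : ∃ x0 ∈ (R : Subgroup G), x0 ∉ center G := by
    by_contra hno
    push Not at hno
    exact hR hno
  have hx0o := mem_sylow_orderOf R hx0R
  obtain ⟨x1, hx1, -⟩ := H.comp_of_rprime hx0c hx0o hy hyc hyo
  obtain ⟨g, hg⟩ := exists_conj_mem_sylow R hx1.2.1
  have hx : TA r N (g * x1 * g⁻¹) := hx1.conj H.normal g
  obtain ⟨u, huR, huc, hur, hRu⟩ := exists_u R hR
  have huo := mem_sylow_orderOf R huR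
  have hu : TA r N u := H.ta_of_cstab hx huo huc (cstab_symm (hRu hg))
  refine ⟨u, huR, hu, hur, hRu, ?_⟩
  intro t htR htc
  exact H.ta_of_cstab hu (mem_sylow_orderOf R htR) htc (hRu htR)

end Main

section Index

variable {G : Type*} [Group G]

theorem mem_cent_of_comm_eq_one {g u : G} (h : g * u * g⁻¹ * u⁻¹ = 1) :
    g ∈ centralizer ({u} : Set G) := by
  rw [mem_cent_iff]
  have : g * u = (g * u * g⁻¹ * u⁻¹) * (u * g) := by group
  rw [this, h, one_mul]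

theorem comm_eq_one_of_mem_cent {g u : G} (h : g ∈ centralizer ({u} : Set G)) :
    g * u * g⁻¹ * u⁻¹ = 1 := by
  rw [mem_cent_iff] at h
  rw [h]; group

theorem conj_eq_of_mem_cent {c v : G} (h : c ∈ centralizer ({v} : Set G)) : c * v * c⁻¹ = v := by
  rw [mem_cent_iff] at h
  rw [h]; group

variable [Finite G] {r : ℕ} {N : Subgroup G} {m : ℕ}

open Classical in
/-- the index of `R ∩ C_G(u)` in `R` is at most `r` -/
theorem Hyp.relIndex_le (H : Hyp r N m) [hr : Fact r.Prime] (R : Sylow r G) {u : G}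
    (hu : TA r N u) (hur : u ^ r ∈ center G) (hRu : (R : Subgroup G) ≤ cstab u) :
    (centralizer ({u} : Set G)).relIndex (R : Subgroup G) ≤ r := by
  have := Fintype.ofFinite G
  by_cases hall : (R : Subgroup G) ≤ centralizer ({u} : Set G)
  · rw [Subgroup.relIndex_eq_one.2 hall]; exact hr.out.one_lt.le
  obtain ⟨g₁, hg₁R, hg₁C⟩ := SetLike.not_le_iff_exists.1 hall
  have hθ1 : g₁ * u * g₁⁻¹ * u⁻¹ ≠ 1 := fun h => hg₁C (mem_cent_of_comm_eq_one h)
  have hθr : ∀ g ∈ (R : Subgroup G), (g * u * g⁻¹ * u⁻¹) ^ r = 1 :=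
    fun g hg => cstab_comm_pow_eq_one (hRu hg) hur
  have hord : orderOf (g₁ * u * g₁⁻¹ * u⁻¹) = r := orderOf_eq_prime (hθr g₁ hg₁R) hθ1
  by_cases hcase : ∀ g ∈ (R : Subgroup G), g * u * g⁻¹ * u⁻¹ ∈ zpowers (g₁ * u * g₁⁻¹ * u⁻¹)
  · let X : Finset G := Finset.univ.filter (fun z => z ∈ zpowers (g₁ * u * g₁⁻¹ * u⁻¹))
    have hX : X.card = r := by
      have h1 : X.card = Nat.card (zpowers (g₁ * u * g₁⁻¹ * u⁻¹)) := by
        rw [Nat.card_eq_fintype_card, Fintype.card_subtype]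
      rw [h1, Nat.card_zpowers, hord]
    refine le_trans ?_ hX.le
    apply relIndex_le_card_of_fibers (R : Subgroup G) (centralizer ({u} : Set G)) X
      (fun g => g * u * g⁻¹ * u⁻¹)
    · intro c hc
      rw [Finset.mem_filter]
      exact ⟨Finset.mem_univ _, hcase c hc⟩
    · intro c₁ _ c₂ _ h
      rw [mem_cent_iff]
      have h' : c₁ * u * c₁⁻¹ = c₂ * u * c₂⁻¹ := mul_right_cancel h
      calc c₂⁻¹ * c₁ * u = c₂⁻¹ * (c₁ * u * c₁⁻¹) * c₁ := by group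
        _ = c₂⁻¹ * (c₂ * u * c₂⁻¹) * c₁ := by rw [h']
        _ = u * (c₂⁻¹ * c₁) := by group
  · exfalso
    push Not at hcase
    obtain ⟨g₂, hg₂R, hg₂z⟩ := hcase
    have hcomp : Comp r N (centralizer ({u} : Set G)) := ⟨u, hu, rfl⟩
    have hg₁s : g₁ ∈ cstab u := hRu hg₁R
    have hg₂s : g₂ ∈ cstab u := hRu hg₂R
    -- elements outside C_u
    have hnotin : ∀ i j : ℕ, ¬ (r ∣ i ∧ r ∣ j) → g₁ ^ i * g₂ ^ j ∉ centralizer ({u} : Set G) := by
      intro i j hij hmem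
      have h1 := comm_eq_one_of_mem_cent hmem
      rw [cstab_comm_mul ((cstab u).pow_mem hg₂s j), cstab_comm_pow hg₂s, cstab_comm_pow hg₁s] at h1
      have h2 : (g₂ * u * g₂⁻¹ * u⁻¹) ^ j = ((g₁ * u * g₁⁻¹ * u⁻¹) ^ i)⁻¹ := eq_inv_of_mul_eq_one_left h1
      by_cases hj : r ∣ j
      · obtain ⟨j', rfl⟩ := hj
        rw [pow_mul, hθr g₂ hg₂R, one_pow, one_mul] at h1
        have := orderOf_dvd_of_pow_eq_one h1
        rw [hord] at this
        exact hij ⟨this, dvd_mul_right r j'⟩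
      · have hcop : j.Coprime (orderOf (g₂ * u * g₂⁻¹ * u⁻¹)) := by
          apply Nat.Coprime.coprime_dvd_right (orderOf_dvd_of_pow_eq_one (hθr g₂ hg₂R))
          exact ((Nat.Prime.coprime_iff_not_dvd hr.out).2 hj).symm
        obtain ⟨k, hk⟩ := exists_pow_eq_self_of_coprime hcop
        apply hg₂z
        rw [← hk, h2]
        exact Subgroup.pow_mem _ (Subgroup.inv_mem _ (Subgroup.pow_mem _ (Subgroup.mem_zpowers _) i)) k
    -- normalizers
    have hnorm : ∀ g ∈ (R : Subgroup G), g ∈ normalizer ((N ⊓ centralizer ({u} : Set G) : Subgroup G) : Set G) := by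
      intro g hg
      apply Subgroup.inf_normalizer_le_normalizer_inf
      have := H.normal
      exact ⟨Subgroup.le_normalizer_of_normal (K := ⊤) (Subgroup.mem_top g),
        cstab_le_normalizer u (hRu hg)⟩
    have hpowr : ∀ g ∈ (R : Subgroup G), g ^ r ∈ centralizer ({u} : Set G) := by
      intro g hg
      apply mem_cent_of_comm_eq_one
      rw [cstab_comm_pow (hRu hg), hθr g hg]
    have hcent : ∀ v ∈ N ⊓ centralizer ({u} : Set G), ∀ c ∈ centralizer ({u} : Set G),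
        c * v * c⁻¹ = v := by
      intro v hv c hc
      apply conj_eq_of_mem_cent
      exact H.ta_cent hu hv.1 hv.2 hc
    have hc12 : (g₂ * g₁)⁻¹ * (g₁ * g₂) ∈ centralizer ({u} : Set G) := by
      have e1 := cstab_comm_mul (g := g₁) hg₂s
      have e2 := cstab_comm_mul (g := g₂) hg₁s
      have hz1 := mem_cstab.1 hg₁s
      have e3 : (g₂ * u * g₂⁻¹ * u⁻¹) * (g₁ * u * g₁⁻¹ * u⁻¹) =
          (g₁ * u * g₁⁻¹ * u⁻¹) * (g₂ * u * g₂⁻¹ * u⁻¹) := (Subgroup.mem_center_iff.1 hz1) _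
      have e4 : (g₁ * g₂) * u * (g₁ * g₂)⁻¹ = (g₂ * g₁) * u * (g₂ * g₁)⁻¹ :=
        mul_right_cancel (e1.trans (e3.trans e2.symm))
      rw [mem_cent_iff]
      calc (g₂ * g₁)⁻¹ * (g₁ * g₂) * u = (g₂ * g₁)⁻¹ * ((g₁ * g₂) * u * (g₁ * g₂)⁻¹) * (g₁ * g₂) := by
            group
        _ = (g₂ * g₁)⁻¹ * ((g₂ * g₁) * u * (g₂ * g₁)⁻¹) * (g₁ * g₂) := by rw [e4]
        _ = u * ((g₂ * g₁)⁻¹ * (g₁ * g₂)) := by group
    have key := pow_mem_of_rank_two' (N ⊓ centralizer ({u} : Set G)) (N ⊓ center G)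
      (fun a ha b hb => H.comp_comm hcomp ha.1 ha.2 hb.2) r hr.out g₁ g₂ (hnorm g₁ hg₁R)
      (hnorm g₂ hg₂R)
      (fun v hv => hcent v hv _ (hpowr g₁ hg₁R))
      (fun v hv => hcent v hv _ (hpowr g₂ hg₂R))
      (by
        intro v hv
        have h3 := hcent v hv _ hc12
        calc g₁ * g₂ * v * (g₁ * g₂)⁻¹
            = (g₂ * g₁) * ((g₂ * g₁)⁻¹ * (g₁ * g₂) * v * ((g₂ * g₁)⁻¹ * (g₁ * g₂))⁻¹) * (g₂ * g₁)⁻¹ := by
              group
          _ = g₂ * g₁ * v * (g₂ * g₁)⁻¹ := by rw [h3])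
      (by
        intro v _ hvK
        have := (Subgroup.mem_center_iff.1 hvK.2) g₁
        rw [this]; group)
      (by
        intro i j hij v hv hfixv
        refine ⟨hv.1, ?_⟩
        by_contra hvc
        have hCv := H.comp_cent_eq hcomp hv.1 hv.2 hvc
        apply hnotin i j hij
        rw [← hCv, mem_cent_iff]
        calc g₁ ^ i * g₂ ^ j * v = (g₁ ^ i * g₂ ^ j * v * (g₁ ^ i * g₂ ^ j)⁻¹) * (g₁ ^ i * g₂ ^ j) := by
              group
          _ = v * (g₁ ^ i * g₂ ^ j) := by rw [hfixv])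
    obtain ⟨huc, huo, y, hy, hyc, hyo, hxy⟩ := hu
    have hyD : y ∈ N ⊓ centralizer ({u} : Set G) := by
      refine Subgroup.mem_inf.2 ⟨hy, ?_⟩
      rw [mem_cent_iff]; exact hxy.symm.eq
    have hyr := (key y hyD).2
    obtain ⟨k, hk⟩ := exists_pow_eq_self_of_coprime (x := y) (n := r) hyo.symm
    apply hyc
    rw [← hk]
    exact (center G).pow_mem hyr k

end Index

end Cfsg.Agent.Lib.Helper21.RelCS
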