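import Mathlib
import Cfsg.Agent.Lib.Helper21.RelCSD

set_option autoImplicit false
set_option linter.unusedSectionVars false

namespace Cfsg.Agent.Lib.Helper21.RelCS

open Subgroup
open Cfsg.Agent.Lib.Helper22.Ito (mem_cent_iff cent_le_cent_pow cent_le_cent_zpow center_le_cent
  index_cent_eq_one_iff lemmaV card_le_of_isPGroup_of_le isPGroup_zpowers)

variable {G : Type*} [Group G] [Finite G] {r : ℕ} {N : Subgroup G} {m : ℕ}

theorem Hyp.all_relt_TA (H : Hyp r N m) [hr : Fact r.Prime] (R : Sylow r G)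
    (hall : ∀ t ∈ (R : Subgroup G), t ∉ center G → TA r N t) :
    ∀ t : G, t ∉ center G → (∃ k : ℕ, orderOf t = r ^ k) → TA r N t := by
  intro t htc hto
  obtain ⟨g, hg⟩ := exists_conj_mem_sylow R hto
  have h1 := hall _ hg (fun h => htc ((conj_mem_center_iff g t).1 h))
  have h2 := h1.conj H.normal g⁻¹
  have e : g⁻¹ * (g * t * g⁻¹) * g⁻¹⁻¹ = t := by group
  rwa [e] at h2

theorem Hyp.card_sylow (H : Hyp r N m) [hr : Fact r.Prime] (R : Sylow r G) (hrm : r ∣ m)
    {u : G} (hu : TA r N u) (hur : u ^ r ∈ center G) (hRu : (R : Subgroup G) ≤ cstab u) :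
    Nat.card (R : Subgroup G) = r * ordProj[r] (Nat.card (centralizer ({u} : Set G))) := by
  have huN : u ∈ N := H.relt u hu.2.1
  have hidx := H.index_eq huN hu.1
  have hmpos : m ≠ 0 := (H.m_pos huN hu.1).ne'
  have hG := Subgroup.card_mul_index (centralizer ({u} : Set G))
  rw [hidx] at hG
  have hR : Nat.card (R : Subgroup G) = ordProj[r] (Nat.card G) := R.card_eq_multiplicity
  have h1 : r * ordProj[r] (Nat.card (centralizer ({u} : Set G))) ∣ Nat.card (R : Subgroup G) := by
    rw [hR, ← hG, Nat.ordProj_mul r Nat.card_pos.ne' hmpos, mul_comm]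
    apply Nat.mul_dvd_mul_left
    have : 1 ≤ m.factorization r :=
      (hr.out.pow_dvd_iff_le_factorization hmpos).1 (by simpa using hrm)
    exact dvd_pow_self r (by omega)
  have h2 := card_inf_mul_relIndex (centralizer ({u} : Set G)) (R : Subgroup G)
  have h3 := H.relIndex_le R hu hur hRu
  have hp : IsPGroup r (centralizer ({u} : Set G) ⊓ (R : Subgroup G) : Subgroup G) :=
    R.2.to_le inf_le_right
  obtain ⟨k, hk, hkle⟩ := card_le_of_isPGroup_of_le hp
    (inf_le_left : centralizer ({u} : Set G) ⊓ (R : Subgroup G) ≤ centralizer ({u} : Set G))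
  have h4 : Nat.card (centralizer ({u} : Set G) ⊓ (R : Subgroup G) : Subgroup G) ≤
      ordProj[r] (Nat.card (centralizer ({u} : Set G))) := by
    rw [hk]; exact Nat.pow_le_pow_right hr.out.pos hkle
  have h5 : Nat.card (R : Subgroup G) ≤ ordProj[r] (Nat.card (centralizer ({u} : Set G))) * r := by
    rw [← h2]; exact Nat.mul_le_mul h4 h3
  have h6 := Nat.le_of_dvd Nat.card_pos h1
  rw [mul_comm] at h5
  exact le_antisymm h5 h6

theorem Hyp.ordProj_center_lt (H : Hyp r N m) [hr : Fact r.Prime] {u : G} (huc : u ∉ center G)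
    (huo : ∃ k : ℕ, orderOf u = r ^ k) :
    ordProj[r] (Nat.card (N ⊓ center G : Subgroup G)) <
      ordProj[r] (Nat.card (centralizer ({u} : Set G))) := by
  rw [H.ordProj_inf]
  obtain ⟨k, hk⟩ := huo
  exact Nat.pow_lt_pow_right hr.out.one_lt (lemmaV r huc hk)

/-- every component has at least `(r+1) ζ` elements of order prime to `r` -/
theorem Hyp.comp_bound (H : Hyp r N m) [hr : Fact r.Prime] {C : Subgroup G} (hC : Comp r N C)
    (hcard : ∀ R' : Sylow r G, Nat.card (R' : Subgroup G) = r * ordProj[r] (Nat.card C)) :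
    (r + 1) * ordCompl[r] (Nat.card (N ⊓ center G : Subgroup G)) ≤
      ordCompl[r] (Nat.card (N ⊓ C : Subgroup G)) := by
  obtain ⟨x, hx, rfl⟩ := id hC
  obtain ⟨hxc, ⟨kx, hxo⟩, -⟩ := id hx
  have hxN : x ∈ N := H.relt x ⟨kx, hxo⟩
  obtain ⟨R', hR'⟩ := (isPGroup_zpowers hxo).exists_le_sylow
  have hxR' : x ∈ (R' : Subgroup G) := hR' (Subgroup.mem_zpowers x)
  -- K = R' ⊓ C is a proper subgroup of R'
  have hp : IsPGroup r ((R' : Subgroup G) ⊓ centralizer ({x} : Set G) : Subgroup G) :=
    R'.2.to_le inf_le_left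
  obtain ⟨k, hk, hkle⟩ := card_le_of_isPGroup_of_le hp
    (inf_le_right : (R' : Subgroup G) ⊓ centralizer ({x} : Set G) ≤ centralizer ({x} : Set G))
  have hKlt : Nat.card ((R' : Subgroup G) ⊓ centralizer ({x} : Set G) : Subgroup G) <
      Nat.card (R' : Subgroup G) := by
    rw [hcard R', hk]
    calc r ^ k ≤ ordProj[r] (Nat.card (centralizer ({x} : Set G))) :=
          Nat.pow_le_pow_right hr.out.pos hkle
      _ < r * ordProj[r] (Nat.card (centralizer ({x} : Set G))) := by
          have hpos : 0 < ordProj[r] (Nat.card (centralizer ({x} : Set G))) := Nat.ordProj_pos _ _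
          have := hr.out.one_lt
          nlinarith
  have hnil : Group.IsNilpotent (R' : Subgroup G) := R'.2.isNilpotent
  have hHlt : ((R' : Subgroup G) ⊓ centralizer ({x} : Set G)).subgroupOf (R' : Subgroup G) < ⊤ := by
    rw [lt_top_iff_ne_top]
    intro htop
    rw [Subgroup.subgroupOf_eq_top] at htop
    have := Subgroup.card_le_of_le htop
    omega
  have hnc := Group.normalizerCondition_of_isNilpotent (G := (R' : Subgroup G)) _ hHlt
  obtain ⟨t, htn, htH⟩ := SetLike.exists_of_lt hnc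
  have htR' : (t : G) ∈ (R' : Subgroup G) := t.2
  have htC : (t : G) ∉ centralizer ({x} : Set G) := by
    intro h
    apply htH
    rw [Subgroup.mem_subgroupOf]
    exact ⟨htR', h⟩
  have hto := mem_sylow_orderOf R' htR'
  -- t normalizes C
  have hconj : (t : G) * x * (t : G)⁻¹ ∈ (R' : Subgroup G) ⊓ centralizer ({x} : Set G) := by
    have hxH : (⟨x, hxR'⟩ : (R' : Subgroup G)) ∈
        ((R' : Subgroup G) ⊓ centralizer ({x} : Set G)).subgroupOf (R' : Subgroup G) := by
      rw [Subgroup.mem_subgroupOf]; exact ⟨hxR', self_mem_cent x⟩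
    have := (Subgroup.mem_normalizer_iff.1 htn ⟨x, hxR'⟩).1 hxH
    rw [Subgroup.mem_subgroupOf] at this
    simpa using this
  have hCconj : centralizer ({(t : G) * x * (t : G)⁻¹} : Set G) = centralizer ({x} : Set G) :=
    H.comp_cent_eq hC (H.normal.conj_mem x hxN t) hconj.2
      (fun h => hxc ((conj_mem_center_iff (t : G) x).1 h))
  have htnorm : (t : G) ∈ normalizer (centralizer ({x} : Set G) : Set G) := by
    rw [Subgroup.mem_normalizer_iff_map_conj_eq]
    have h := cent_conj (t : G) x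
    rw [hCconj] at h
    exact h.symm
  -- semiregular count with S = zpowers t
  have hS : zpowers (t : G) ≤ normalizer (centralizer ({x} : Set G) : Set G) :=
    Subgroup.zpowers_le.2 htnorm
  obtain ⟨kt, hkt⟩ := hto
  have hdvd : (centralizer ({x} : Set G)).relIndex (zpowers (t : G)) ∣ r ^ kt := by
    have := Subgroup.relIndex_dvd_card (centralizer ({x} : Set G)) (zpowers (t : G))
    rwa [Nat.card_zpowers, hkt] at this
  obtain ⟨n, -, hn⟩ := (Nat.dvd_prime_pow hr.out).1 hdvd
  have hn0 : n ≠ 0 := by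
    rintro rfl
    rw [pow_zero, Subgroup.relIndex_eq_one] at hn
    exact htC (hn (Subgroup.mem_zpowers _))
  have hsemi := H.semi hC (zpowers (t : G)) hS n hn
  have hrn : r ≤ r ^ n := by
    calc r = r ^ 1 := (pow_one r).symm
      _ ≤ r ^ n := Nat.pow_le_pow_right hr.out.pos (by omega)
  calc (r + 1) * ordCompl[r] (Nat.card (N ⊓ center G : Subgroup G))
      ≤ (r ^ n + 1) * ordCompl[r] (Nat.card (N ⊓ center G : Subgroup G)) :=
        Nat.mul_le_mul_right _ (by omega)
    _ ≤ _ := hsemi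

section Partition

open Classical in
/-- the set of components -/
noncomputable def comps [Fintype G] (N : Subgroup G) : Finset (Subgroup G) :=
  (Finset.univ.filter (fun w : G => w ∈ N ∧ w ∉ center G)).image
    (fun w => centralizer ({w} : Set G))

open Classical in
theorem mem_comps [Fintype G] {N C : Subgroup G} :
    C ∈ comps N ↔ ∃ w ∈ N, w ∉ center G ∧ centralizer ({w} : Set G) = C := by
  unfold comps
  rw [Finset.mem_image]
  constructor
  · rintro ⟨w, hw, rfl⟩
    rw [Finset.mem_filter] at hw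
    exact ⟨w, hw.2.1, hw.2.2, rfl⟩
  · rintro ⟨w, hwN, hwc, rfl⟩
    exact ⟨w, by rw [Finset.mem_filter]; exact ⟨Finset.mem_univ _, hwN, hwc⟩, rfl⟩

open Classical in
/-- counting the elements of `N` satisfying `p` by components -/
theorem Hyp.card_sdiff_eq_sum [Fintype G] (H : Hyp r N m) [hr : Fact r.Prime]
    (hcomp : ∀ w ∈ N, w ∉ center G → Comp r N (centralizer ({w} : Set G))) (p : G → Prop) :
    (Finset.univ.filter (fun a : G => a ∈ N ∧ p a)).card -
        (Finset.univ.filter (fun a : G => a ∈ N ⊓ center G ∧ p a)).card =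
      ∑ C ∈ comps N, ((Finset.univ.filter (fun a : G => a ∈ N ⊓ C ∧ p a)).card -
        (Finset.univ.filter (fun a : G => a ∈ N ⊓ center G ∧ p a)).card) := by
  set FN := Finset.univ.filter (fun a : G => a ∈ N ∧ p a) with hFN
  set FZ := Finset.univ.filter (fun a : G => a ∈ N ⊓ center G ∧ p a) with hFZ
  have hsub : FZ ⊆ FN := by
    intro a ha
    rw [hFZ, Finset.mem_filter] at ha
    rw [hFN, Finset.mem_filter]
    exact ⟨Finset.mem_univ _, ha.2.1.1, ha.2.2⟩
  rw [← Finset.card_sdiff_of_subset hsub]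
  have hmem : ∀ a, a ∈ FN \ FZ ↔ a ∈ N ∧ p a ∧ a ∉ center G := by
    intro a
    rw [Finset.mem_sdiff, hFN, hFZ, Finset.mem_filter, Finset.mem_filter]
    simp only [Finset.mem_univ, true_and, Subgroup.mem_inf]
    tauto
  have hmaps : ∀ a ∈ FN \ FZ, centralizer ({a} : Set G) ∈ comps N := by
    intro a ha
    rw [hmem] at ha
    exact mem_comps.2 ⟨a, ha.1, ha.2.2, rfl⟩
  rw [Finset.card_eq_sum_card_fiberwise hmaps]
  apply Finset.sum_congr rfl
  intro C hC
  obtain ⟨w0, hw0N, hw0c, rfl⟩ := mem_comps.1 hC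
  have hcC := hcomp w0 hw0N hw0c
  have hsubC : FZ ⊆ Finset.univ.filter (fun a : G => a ∈ N ⊓ centralizer ({w0} : Set G) ∧ p a) := by
    intro a ha
    rw [hFZ, Finset.mem_filter] at ha
    rw [Finset.mem_filter]
    exact ⟨Finset.mem_univ _, ⟨ha.2.1.1, center_le_cent w0 ha.2.1.2⟩, ha.2.2⟩
  rw [← Finset.card_sdiff_of_subset hsubC]
  congr 1
  ext a
  rw [Finset.mem_filter, hmem, Finset.mem_sdiff, Finset.mem_filter, hFZ, Finset.mem_filter]
  simp only [Finset.mem_univ, true_and, Subgroup.mem_inf]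
  constructor
  · rintro ⟨⟨haN, hap, hac⟩, hCa⟩
    refine ⟨⟨⟨haN, ?_⟩, hap⟩, ?_⟩
    · rw [← hCa]; exact self_mem_cent a
    · rintro ⟨⟨-, h⟩, -⟩; exact hac h
  · rintro ⟨⟨⟨haN, haC⟩, hap⟩, hnot⟩
    have hac : a ∉ center G := fun h => hnot ⟨⟨haN, h⟩, hap⟩
    exact ⟨⟨haN, hap, hac⟩, H.comp_cent_eq hcC haN haC hac⟩

open Classical in
theorem card_filter_mem_true [Fintype G] (M : Subgroup G) :
    (Finset.univ.filter (fun a : G => a ∈ M ∧ True)).card = Nat.card M := by
  rw [Nat.card_eq_fintype_card, Fintype.card_subtype]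
  congr 1
  ext a
  simp

end Partition

end Cfsg.Agent.Lib.Helper21.RelCS
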