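import Mathlib
import Cfsg.Agent.Lib.Helper21.RelCSE

set_option autoImplicit false
set_option linter.unusedSectionVars false

namespace Cfsg.Agent.Lib.Helper21.RelCS

open Subgroup
open Cfsg.Agent.Lib.Helper22.Ito (mem_cent_iff cent_le_cent_pow cent_le_cent_zpow center_le_cent
  index_cent_eq_one_iff)

theorem numeric_false (r P z0 ζ n' k cN T_ B ρ : ℕ) (hr : r.Prime)
    (h1 : cN + k * (z0 * ζ) = z0 * ζ + P * B) (h2 : T_ + k * ζ = ζ + B)
    (hB : k * ((r + 1) * ζ) ≤ B) (hcN : cN = r * P * n') (hn' : n' ∣ T_)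
    (hP : P = z0 * ρ) (hρ : ∃ a : ℕ, ρ = r ^ a ∧ a ≠ 0) (hζ : 0 < ζ) (hz0 : 0 < z0)
    (hζr : ζ.Coprime r) (hk0 : k ≠ 0) (hk1 : k = 1 → B.Coprime r) : False := by
  obtain ⟨a, rfl, ha⟩ := hρ
  obtain ⟨k', rfl⟩ : ∃ k', k = k' + 1 := ⟨k - 1, by omega⟩
  have hρ2 : 2 ≤ r ^ a := by
    calc 2 ≤ r := hr.two_le
      _ = r ^ 1 := (pow_one r).symm
      _ ≤ r ^ a := Nat.pow_le_pow_right hr.pos (by omega)
  obtain ⟨ρ', hρ'⟩ : ∃ ρ', r ^ a = ρ' + 1 := ⟨r ^ a - 1, by omega⟩
  have hρ'pos : 0 < ρ' := by omega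
  have hcopρζ : (ρ' + 1).Coprime ζ := by
    rw [← hρ']; exact (Nat.Coprime.pow_right a hζr).symm
  rw [hρ'] at hP
  subst hP
  -- B = T_ + k' ζ
  have hBeq : B = T_ + k' * ζ := by
    have e : (k' + 1) * ζ = k' * ζ + ζ := by ring
    rw [e] at h2
    omega
  -- cN = P T_ + z0 ρ' k' ζ
  have hcN2 : cN = z0 * (ρ' + 1) * T_ + z0 * (ρ' * (k' * ζ)) := by
    have e1 : (k' + 1) * (z0 * ζ) = k' * (z0 * ζ) + z0 * ζ := by ring
    have e2 : z0 * (ρ' + 1) * B = z0 * (ρ' + 1) * T_ + z0 * (ρ' * (k' * ζ)) + k' * (z0 * ζ) := by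
      rw [hBeq]; ring
    rw [e1, e2] at h1
    omega
  -- cancel z0
  have h3 : r * (ρ' + 1) * n' = (ρ' + 1) * T_ + ρ' * (k' * ζ) := by
    apply Nat.eq_of_mul_eq_mul_left hz0
    rw [hcN] at hcN2
    calc z0 * (r * (ρ' + 1) * n') = r * (z0 * (ρ' + 1)) * n' := by ring
      _ = z0 * (ρ' + 1) * T_ + z0 * (ρ' * (k' * ζ)) := hcN2
      _ = z0 * ((ρ' + 1) * T_ + ρ' * (k' * ζ)) := by ring
  by_cases hk' : k' = 0
  · -- k = 1
    subst hk'
    have hcop := hk1 rfl
    simp only [zero_mul, mul_zero, add_zero] at h3 hBeq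
    rw [hBeq] at hcop
    have h4 : r * n' = T_ := by
      apply Nat.eq_of_mul_eq_mul_left (show 0 < ρ' + 1 by omega)
      rw [← h3]; ring
    have hdvd : r ∣ T_ := ⟨n', h4.symm⟩
    have := Nat.eq_one_of_dvd_coprimes hcop hdvd (dvd_refl r)
    exact hr.one_lt.ne' this
  · -- (ρ'+1) ∣ k'
    have hdvd1 : (ρ' + 1) ∣ ρ' * (k' * ζ) := by
      have h4 : (ρ' + 1) ∣ (ρ' + 1) * T_ + ρ' * (k' * ζ) := by
        rw [← h3]; exact ⟨r * n', by ring⟩
      exact (Nat.dvd_add_right (dvd_mul_right _ _)).1 h4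
    have hcop1 : (ρ' + 1).Coprime ρ' := by simp
    have hdvd2 : (ρ' + 1) ∣ k' * ζ := hcop1.dvd_of_dvd_mul_left hdvd1
    have hdvd3 : (ρ' + 1) ∣ k' := hcopρζ.dvd_of_dvd_mul_right hdvd2
    obtain ⟨j, rfl⟩ := hdvd3
    have hjpos : 0 < j := by
      rcases Nat.eq_zero_or_pos j with h | h
      · subst h; simp at hk'
      · exact h
    -- r n' = T_ + ρ' j ζ
    have h5 : r * n' = T_ + ρ' * (j * ζ) := by
      apply Nat.eq_of_mul_eq_mul_left (show 0 < ρ' + 1 by omega)
      calc (ρ' + 1) * (r * n') = r * (ρ' + 1) * n' := by ring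
        _ = (ρ' + 1) * T_ + ρ' * ((ρ' + 1) * j * ζ) := h3
        _ = (ρ' + 1) * (T_ + ρ' * (j * ζ)) := by ring
    have hdvd4 : n' ∣ ρ' * (j * ζ) := by
      have h6 : n' ∣ T_ + ρ' * (j * ζ) := ⟨r, by rw [← h5]; ring⟩
      exact (Nat.dvd_add_right hn').1 h6
    have hle : n' ≤ ρ' * (j * ζ) :=
      Nat.le_of_dvd (Nat.mul_pos hρ'pos (Nat.mul_pos hjpos hζ)) hdvd4
    -- upper bound for cN
    have hup : cN ≤ r * (z0 * (ρ' + 1)) * (ρ' * (j * ζ)) := by
      rw [hcN]; exact Nat.mul_le_mul_left _ hle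
    -- lower bound
    have hlow : ((ρ' + 1) * j + 1) * ζ * (z0 * (ρ' + 1)) * r ≤ cN := by
      have e1 : ((ρ' + 1) * j + 1) * (z0 * ζ) = (ρ' + 1) * j * (z0 * ζ) + z0 * ζ := by ring
      rw [e1] at h1
      have h7 : z0 * (ρ' + 1) * (((ρ' + 1) * j + 1) * ((r + 1) * ζ)) ≤ z0 * (ρ' + 1) * B :=
        Nat.mul_le_mul_left _ hB
      have e2 : z0 * (ρ' + 1) * (((ρ' + 1) * j + 1) * ((r + 1) * ζ)) =
          ((ρ' + 1) * j + 1) * ζ * (z0 * (ρ' + 1)) * r +
            ((ρ' + 1) * j * (z0 * ζ) + (z0 * ζ + ρ' * ((ρ' + 1) * j + 1) * (z0 * ζ))) := by ring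
      rw [e2] at h7
      omega
    have hfin : r * (z0 * (ρ' + 1)) * (ρ' * (j * ζ)) <
        ((ρ' + 1) * j + 1) * ζ * (z0 * (ρ' + 1)) * r := by
      have hpos : 0 < r * (z0 * (ρ' + 1)) * ζ :=
        Nat.mul_pos (Nat.mul_pos hr.pos (Nat.mul_pos hz0 (by omega))) hζ
      have e3 : ((ρ' + 1) * j + 1) * ζ * (z0 * (ρ' + 1)) * r =
          r * (z0 * (ρ' + 1)) * (ρ' * (j * ζ)) + (j + 1) * (r * (z0 * (ρ' + 1)) * ζ) := by ring
      rw [e3]
      have : 0 < (j + 1) * (r * (z0 * (ρ' + 1)) * ζ) := Nat.mul_pos (by omega) hpos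
      omega
    omega


variable {G : Type*} [Group G] [Finite G] {r : ℕ} {N : Subgroup G} {m : ℕ}

theorem card_filter_mem_true' [Fintype G] (M : Subgroup G)
    [DecidablePred fun a : G => a ∈ M ∧ True] :
    (Finset.univ.filter (fun a : G => a ∈ M ∧ True)).card = Nat.card M := by
  classical
  rw [← card_filter_mem_true M]
  apply congrArg Finset.card
  ext a
  simp

theorem rp_eq_card_filter' [Fintype G] (r : ℕ) (M : Subgroup G)
    [DecidablePred fun a : G => a ∈ M ∧ (orderOf a).Coprime r] :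
    (Finset.univ.filter (fun a : G => a ∈ M ∧ (orderOf a).Coprime r)).card = rp r M := by
  classical
  rw [rp_eq_card_filter r M]
  apply congrArg Finset.card
  ext a
  simp

open Classical in
/-- Case B with `r ∣ m` is impossible. -/
theorem Hyp.caseB_false (H : Hyp r N m) [hr : Fact r.Prime] (R : Sylow r G)
    (hR : ¬ (R : Subgroup G) ≤ center G) (hrm : r ∣ m) {y : G} (hy : y ∈ N) (hyc : y ∉ center G)
    (hyo : (orderOf y).Coprime r) : False := by
  have := Fintype.ofFinite G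
  obtain ⟨u, huR, hu, hur, hRu, hall⟩ := H.all_TA R hR hy hyc hyo
  have hallT := H.all_relt_TA R hall
  obtain ⟨huc, huo, -⟩ := id hu
  have huN : u ∈ N := H.relt u huo
  have hcomp : ∀ w ∈ N, w ∉ center G → Comp r N (centralizer ({w} : Set G)) :=
    fun w hw hwc => H.comp_of_noncentral huc huo hallT hw hwc
  have hcardR := H.card_sylow R hrm hu hur hRu
  have hcardR' : ∀ R' : Sylow r G, Nat.card (R' : Subgroup G) =
      r * ordProj[r] (Nat.card (centralizer ({u} : Set G))) := by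
    intro R'
    rw [← hcardR]
    exact (R'.card_eq_multiplicity).trans (R.card_eq_multiplicity).symm
  have hZsplit : ordProj[r] (Nat.card (N ⊓ center G : Subgroup G)) *
      ordCompl[r] (Nat.card (N ⊓ center G : Subgroup G)) = Nat.card (N ⊓ center G : Subgroup G) :=
    Nat.ordProj_mul_ordCompl_eq_self _ _
  have hrpZ : rp r (N ⊓ center G) = ordCompl[r] (Nat.card (N ⊓ center G : Subgroup G)) :=
    rp_of_comm _ (fun a _ b hb => (Subgroup.mem_center_iff.1 hb.2) a)
  -- facts on components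
  have hC : ∀ C ∈ comps N, Comp r N C ∧
      Nat.card (N ⊓ C : Subgroup G) = ordProj[r] (Nat.card (centralizer ({u} : Set G))) *
        ordCompl[r] (Nat.card (N ⊓ C : Subgroup G)) ∧
      (r + 1) * ordCompl[r] (Nat.card (N ⊓ center G : Subgroup G)) ≤
        ordCompl[r] (Nat.card (N ⊓ C : Subgroup G)) ∧
      rp r (N ⊓ C) = ordCompl[r] (Nat.card (N ⊓ C : Subgroup G)) := by
    intro C hCm
    obtain ⟨w, hwN, hwc, rfl⟩ := mem_comps.1 hCm
    have hcw := hcomp w hwN hwc
    have hcard : Nat.card (centralizer ({w} : Set G)) = Nat.card (centralizer ({u} : Set G)) :=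
      H.card_cent_eq hwN huN hwc huc
    refine ⟨hcw, ?_, ?_, ?_⟩
    · have h1 := Nat.ordProj_mul_ordCompl_eq_self
        (Nat.card (N ⊓ centralizer ({w} : Set G) : Subgroup G)) r
      have h2 := H.ordProj_inf (centralizer ({w} : Set G))
      rw [hcard] at h2
      rw [← h2]
      exact h1.symm
    · apply H.comp_bound hcw
      intro R'
      rw [hcard]
      exact hcardR' R'
    · exact rp_of_comm _ (fun a ha b hb => H.comp_comm hcw ha.1 ha.2 hb.2)
  -- the two counting identities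
  have hS1 := H.card_sdiff_eq_sum hcomp (fun _ => True)
  have hS2 := H.card_sdiff_eq_sum hcomp (fun a => (orderOf a).Coprime r)
  beta_reduce at hS1 hS2
  simp only [card_filter_mem_true'] at hS1
  simp only [rp_eq_card_filter'] at hS2
  -- rewrite the sums
  have hsum1 : ∑ C ∈ comps N, (Nat.card (N ⊓ C : Subgroup G) - Nat.card (N ⊓ center G : Subgroup G)) =
      ordProj[r] (Nat.card (centralizer ({u} : Set G))) *
        (∑ C ∈ comps N, ordCompl[r] (Nat.card (N ⊓ C : Subgroup G))) -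
      (comps N).card * (ordProj[r] (Nat.card (N ⊓ center G : Subgroup G)) *
        ordCompl[r] (Nat.card (N ⊓ center G : Subgroup G))) := by
    rw [Finset.sum_tsub_distrib]
    · rw [Finset.sum_const, smul_eq_mul, hZsplit, Finset.mul_sum]
      congr 1
      exact Finset.sum_congr rfl (fun C hCm => (hC C hCm).2.1)
    · intro C hCm
      obtain ⟨w, -, -, rfl⟩ := mem_comps.1 hCm
      exact Subgroup.card_le_of_le (inf_le_inf_left N (center_le_cent w))
  have hsum2 : ∑ C ∈ comps N, (rp r (N ⊓ C) - rp r (N ⊓ center G)) =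
      (∑ C ∈ comps N, ordCompl[r] (Nat.card (N ⊓ C : Subgroup G))) -
      (comps N).card * ordCompl[r] (Nat.card (N ⊓ center G : Subgroup G)) := by
    rw [Finset.sum_tsub_distrib]
    · rw [Finset.sum_const, smul_eq_mul, hrpZ]
      congr 1
      exact Finset.sum_congr rfl (fun C hCm => (hC C hCm).2.2.2)
    · intro C hCm
      rw [hrpZ, (hC C hCm).2.2.2]
      have := (hC C hCm).2.2.1
      nlinarith [Nat.zero_le (ordCompl[r] (Nat.card (N ⊓ center G : Subgroup G)))]
  have hBle : (comps N).card * ((r + 1) * ordCompl[r] (Nat.card (N ⊓ center G : Subgroup G))) ≤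
      ∑ C ∈ comps N, ordCompl[r] (Nat.card (N ⊓ C : Subgroup G)) := by
    rw [← smul_eq_mul, ← Finset.sum_const]
    exact Finset.sum_le_sum (fun C hCm => (hC C hCm).2.2.1)
  -- |N|
  have hNsplit := Nat.ordProj_mul_ordCompl_eq_self (Nat.card N) r
  have hNproj : ordProj[r] (Nat.card N) = r * ordProj[r] (Nat.card (centralizer ({u} : Set G))) := by
    have h1 := H.ordProj_inf (⊤ : Subgroup G)
    rw [inf_top_eq, Subgroup.card_top] at h1
    rw [h1, ← hcardR]
    exact (R.card_eq_multiplicity).symm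
  have hn'dvd : ordCompl[r] (Nat.card N) ∣ rp r N := ordCompl_dvd_rp N
  -- P = z0 * ρ
  have hlt := H.ordProj_center_lt huc huo
  have hfact : (Nat.card (N ⊓ center G : Subgroup G)).factorization r <
      (Nat.card (centralizer ({u} : Set G))).factorization r :=
    (Nat.pow_lt_pow_iff_right hr.out.one_lt).1 hlt
  have hPρ : ordProj[r] (Nat.card (centralizer ({u} : Set G))) =
      ordProj[r] (Nat.card (N ⊓ center G : Subgroup G)) *
        r ^ ((Nat.card (centralizer ({u} : Set G))).factorization r -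
          (Nat.card (N ⊓ center G : Subgroup G)).factorization r) := by
    rw [← pow_add]
    congr 1
    omega
  have hk0 : (comps N).card ≠ 0 := by
    rw [Finset.card_ne_zero]
    exact ⟨_, mem_comps.2 ⟨u, huN, huc, rfl⟩⟩
  have hZleN : Nat.card (N ⊓ center G : Subgroup G) ≤ Nat.card N :=
    Subgroup.card_le_of_le inf_le_left
  have hrpZle : rp r (N ⊓ center G) ≤ rp r N := by
    rw [rp_eq_card_filter, rp_eq_card_filter]
    apply Finset.card_le_card
    intro a ha
    rw [Finset.mem_filter] at ha ⊢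
    exact ⟨ha.1, ha.2.1.1, ha.2.2⟩
  have hterm1 : (comps N).card * (ordProj[r] (Nat.card (N ⊓ center G : Subgroup G)) *
        ordCompl[r] (Nat.card (N ⊓ center G : Subgroup G))) ≤
      ordProj[r] (Nat.card (centralizer ({u} : Set G))) *
        (∑ C ∈ comps N, ordCompl[r] (Nat.card (N ⊓ C : Subgroup G))) := by
    rw [Finset.mul_sum, ← smul_eq_mul, ← Finset.sum_const]
    apply Finset.sum_le_sum
    intro C hCm
    rw [hZsplit, ← (hC C hCm).2.1]
    obtain ⟨w, -, -, rfl⟩ := mem_comps.1 hCm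
    exact Subgroup.card_le_of_le (inf_le_inf_left N (center_le_cent w))
  have hterm2 : (comps N).card * ordCompl[r] (Nat.card (N ⊓ center G : Subgroup G)) ≤
      ∑ C ∈ comps N, ordCompl[r] (Nat.card (N ⊓ C : Subgroup G)) := by
    refine le_trans ?_ hBle
    apply Nat.mul_le_mul_left
    nlinarith [Nat.zero_le (ordCompl[r] (Nat.card (N ⊓ center G : Subgroup G)))]
  rw [hsum1] at hS1
  rw [hsum2, hrpZ] at hS2
  rw [hrpZ] at hrpZle
  refine numeric_false r (ordProj[r] (Nat.card (centralizer ({u} : Set G))))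
    (ordProj[r] (Nat.card (N ⊓ center G : Subgroup G)))
    (ordCompl[r] (Nat.card (N ⊓ center G : Subgroup G))) (ordCompl[r] (Nat.card N))
    (comps N).card (Nat.card N) (rp r N)
    (∑ C ∈ comps N, ordCompl[r] (Nat.card (N ⊓ C : Subgroup G)))
    (r ^ ((Nat.card (centralizer ({u} : Set G))).factorization r -
          (Nat.card (N ⊓ center G : Subgroup G)).factorization r)) hr.out ?_ ?_ hBle ?_ hn'dvd hPρ
    ⟨_, rfl, by omega⟩ (Nat.ordCompl_pos _ Nat.card_pos.ne') (Nat.ordProj_pos _ _)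
    (Nat.coprime_ordCompl hr.out Nat.card_pos.ne').symm hk0 ?_
  · rw [hZsplit] at hS1 hterm1 ⊢
    omega
  · omega
  · rw [← hNproj]; exact hNsplit.symm
  · intro hk1
    obtain ⟨C, hCeq⟩ := Finset.card_eq_one.1 hk1
    rw [hCeq, Finset.sum_singleton]
    exact (Nat.coprime_ordCompl hr.out Nat.card_pos.ne').symm

end Cfsg.Agent.Lib.Helper21.RelCS
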