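import Mathlib
import Cfsg.Agent.Lib.Helper17.ClassGraph1
import Cfsg.Agent.S4127
import Cfsg.Agent.Lib.Helper21.RelCSF

set_option autoImplicit false
set_option linter.unusedSectionVars false

namespace Cfsg.Agent.Lib.Helper21.RelCS

open Subgroup
open Cfsg.Agent.Lib.Helper22.Ito (mem_cent_iff cent_le_cent_pow cent_le_cent_zpow center_le_cent
  index_cent_eq_one_iff)

variable {G : Type*} [Group G] [Finite G] {r : ℕ} {N : Subgroup G} {m : ℕ}

/-- Case A: all `r'`-elements of `N` are central in `G`. -/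
theorem isNilpotent_of_rprime_central [hr : Fact r.Prime] (N : Subgroup G)
    (hA : ∀ y ∈ N, (orderOf y).Coprime r → y ∈ center G) : Group.IsNilpotent N := by
  have hp : IsPGroup r (N ⧸ center N) := by
    intro q
    induction q using QuotientGroup.induction_on with
    | H w =>
      obtain ⟨i, j, hij, ⟨f, hf⟩, hcj⟩ := Cfsg.Agent.Lib.Helper17.exists_p_pprime_decomp r w
      refine ⟨f, ?_⟩
      rw [← QuotientGroup.mk_pow, QuotientGroup.eq_one_iff]
      have hwj : ((w ^ j : N) : G) ∈ center G := by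
        apply hA _ (w ^ j).2
        rw [Subgroup.orderOf_coe]; exact hcj
      have h1 : w ^ (r ^ f) = (w ^ j) ^ (r ^ f) := by
        conv_lhs => rw [hij]
        rw [((Commute.refl w).zpow_zpow i j).mul_pow, ← hf, pow_orderOf_eq_one, one_mul]
      rw [h1]
      apply Subgroup.pow_mem
      rw [Subgroup.mem_center_iff]
      intro g
      apply Subtype.ext
      exact (Subgroup.mem_center_iff.1 hwj) (g : G)
  have : Group.IsNilpotent (N ⧸ center N) := hp.isNilpotent
  exact Subgroup.isNilpotent_of_ker_le_center (QuotientGroup.mk' (center N))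
    (by rw [QuotientGroup.ker_mk'])

theorem isNilpotent_of_comm (N : Subgroup G) (hc : ∀ a ∈ N, ∀ b ∈ N, a * b = b * a) :
    Group.IsNilpotent N := by
  apply Subgroup.isNilpotent_of_ker_le_center (1 : N →* Unit)
  intro x _
  rw [Subgroup.mem_center_iff]
  intro g
  exact Subtype.ext (hc _ g.2 _ x.2)

/-- Case `r ∤ m`: `N` is abelian. -/
theorem Hyp.comm_of_not_dvd (H : Hyp r N m) [hr : Fact r.Prime] (hrm : ¬ r ∣ m)
    {x0 : G} (hx0c : x0 ∉ center G) (hx0o : ∃ k : ℕ, orderOf x0 = r ^ k)
    {y : G} (hy : y ∈ N) (hyc : y ∉ center G) (hyo : (orderOf y).Coprime r) :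
    ∀ a ∈ N, ∀ b ∈ N, a * b = b * a := by
  have := H.normal
  have hx0N : x0 ∈ N := H.relt x0 hx0o
  -- Step 1 : r'-elements of N commute with r-elements
  have hB : ∀ w : N, (orderOf w).Coprime r →
      ¬ r ∣ (Subgroup.centralizer ({w} : Set N)).index := by
    intro w _ hdvd
    have e : Subgroup.centralizer ({w} : Set N) =
        (centralizer ({(w : G)} : Set G)).subgroupOf N := by
      ext x
      rw [Subgroup.mem_subgroupOf, Subgroup.mem_centralizer_singleton_iff,
        Subgroup.mem_centralizer_singleton_iff]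
      constructor
      · intro h; exact congrArg Subtype.val h
      · intro h; exact Subtype.ext h
    rw [e] at hdvd
    have h1 : (centralizer ({(w : G)} : Set G)).relIndex N ∣
        (centralizer ({(w : G)} : Set G)).index :=
      Cfsg.Agent.Lib.Helper17.ClassGraph.relIndex_dvd_index_of_normal' _ N
    have h2 : r ∣ (centralizer ({(w : G)} : Set G)).index := dvd_trans hdvd h1
    rcases H.cs w w.2 with h3 | h3
    · rw [h3] at h2; exact hr.out.one_lt.ne' (Nat.dvd_one.1 h2)
    · rw [h3] at h2; exact hrm h2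
  have hstep1 : ∀ b t : G, b ∈ N → (orderOf b).Coprime r → (∃ k : ℕ, orderOf t = r ^ k) →
      b * t = t * b := by
    intro b t hb hbo hto
    have htN : t ∈ N := H.relt t hto
    have := Cfsg.Agent.S4127.comm_of_pprime_classes (C := N) r hB ⟨b, hb⟩ ⟨t, htN⟩
      (by rw [← Subgroup.orderOf_coe]; exact hbo)
      (by obtain ⟨k, hk⟩ := hto; exact ⟨k, by rw [← Subgroup.orderOf_coe]; exact hk⟩)
    exact congrArg Subtype.val this
  -- Step 2
  have hrr : ∀ t t' : G, (∃ k : ℕ, orderOf t = r ^ k) → (∃ k : ℕ, orderOf t' = r ^ k) →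
      t * t' = t' * t := by
    intro t t' hto hto'
    obtain ⟨k, hk⟩ := hto
    have htN : t ∈ N := H.relt t ⟨k, hk⟩
    have h1 : centralizer ({y} : Set G) ≤ centralizer ({t} : Set G) := by
      apply H.cent_le_of_coprime hy htN hyc (hstep1 y t hy hyo ⟨k, hk⟩)
      rw [hk]; exact Nat.Coprime.pow_right k hyo
    have h2 : t' ∈ centralizer ({y} : Set G) := by
      rw [mem_cent_iff]; exact (hstep1 y t' hy hyo hto').symm
    have := h1 h2
    rw [mem_cent_iff] at this
    exact this.symm
  have hpp : ∀ b b' : G, b ∈ N → b' ∈ N → (orderOf b).Coprime r → (orderOf b').Coprime r →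
      b * b' = b' * b := by
    intro b b' hb hb' hbo hbo'
    obtain ⟨k0, hk0⟩ := hx0o
    have h1 : centralizer ({x0} : Set G) ≤ centralizer ({b} : Set G) := by
      apply H.cent_le_of_coprime hx0N hb hx0c (hstep1 b x0 hb hbo ⟨k0, hk0⟩).symm
      rw [hk0]; exact (Nat.Coprime.pow_right k0 hbo).symm
    have h2 : b' ∈ centralizer ({x0} : Set G) := by
      rw [mem_cent_iff]; exact hstep1 b' x0 hb' hbo' ⟨k0, hk0⟩
    have := h1 h2
    rw [mem_cent_iff] at this
    exact this.symm
  intro a ha b hb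
  obtain ⟨i, j, hij, hif, hcj⟩ := Cfsg.Agent.Lib.Helper17.exists_p_pprime_decomp r a
  obtain ⟨i', j', hij', hif', hcj'⟩ := Cfsg.Agent.Lib.Helper17.exists_p_pprime_decomp r b
  have c1 : Commute (a ^ i) (b ^ i') := hrr _ _ hif hif'
  have c2 : Commute (a ^ i) (b ^ j') := (hstep1 _ _ (N.zpow_mem hb j') hcj' hif).symm
  have c3 : Commute (a ^ j) (b ^ i') := hstep1 _ _ (N.zpow_mem ha j) hcj hif'
  have c4 : Commute (a ^ j) (b ^ j') := hpp _ _ (N.zpow_mem ha j) (N.zpow_mem hb j') hcj hcj'
  have : Commute (a ^ i * a ^ j) (b ^ i' * b ^ j') :=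
    Commute.mul_left (Commute.mul_right c1 c2) (Commute.mul_right c3 c4)
  rw [← hij, ← hij'] at this
  exact this

/-- **Main theorem** (relative version of Itô's theorem on two class sizes). -/
theorem isNilpotent_of_two_class_sizes (r : ℕ) [hr : Fact r.Prime] (R : Sylow r G)
    (hR : ¬ (R : Subgroup G) ≤ center G) (N : Subgroup G) [hN : N.Normal]
    (hRN : (R : Subgroup G) ≤ N) (m : ℕ)
    (h : ∀ x ∈ N, (centralizer ({x} : Set G)).index = 1 ∨ (centralizer ({x} : Set G)).index = m) :
    Group.IsNilpotent N := by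
  have H : Hyp r N m := by
    refine ⟨hN, h, ?_⟩
    intro x hxo
    obtain ⟨g, hg⟩ := exists_conj_mem_sylow R hxo
    have h1 := hN.conj_mem _ (hRN hg) g⁻¹
    have e : g⁻¹ * (g * x * g⁻¹) * g⁻¹⁻¹ = x := by group
    rwa [e] at h1
  by_cases hex : ∃ y ∈ N, y ∉ center G ∧ (orderOf y).Coprime r
  · obtain ⟨y, hy, hyc, hyo⟩ := hex
    by_cases hrm : r ∣ m
    · exact (H.caseB_false R hR hrm hy hyc hyo).elim
    · obtain ⟨x0, hx0R, hx0c⟩ : ∃ x0 ∈ (R : Subgroup G), x0 ∉ center G := by
        by_contra hno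
        push Not at hno
        exact hR hno
      exact isNilpotent_of_comm N
        (H.comm_of_not_dvd hrm hx0c (mem_sylow_orderOf R hx0R) hy hyc hyo)
  · push Not at hex
    apply isNilpotent_of_rprime_central (r := r) N
    intro y hy hyo
    by_contra hyc
    exact hex y hy hyc hyo

end Cfsg.Agent.Lib.Helper21.RelCS
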