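import Mathlib
import Cfsg.Prelude.Def_Transfer
import Cfsg.Agent.Lib.Helper1.SuzukiMaxClass
import Cfsg.Agent.Lib.Helper1.MaxClassDihedral
import Cfsg.Agent.Lib.Helper11.Extremal
import Cfsg.Agent.Lib.Helper12.Residual
import Cfsg.Agent.Lib.Helper2.IndexTwo

/-!
helper21: S3278, part A: under the hypotheses, `S₀` is a Sylow 2-subgroup of `G`.
-/

set_option autoImplicit false
set_option linter.unusedSectionVars false
set_option linter.style.haveILetI false
set_option linter.unusedVariables false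

namespace Cfsg.Agent.Lib.Helper21.S3278

open Subgroup

/-- the hypotheses of S3278 -/
structure Hyp (G : Type*) [Group G] (x : G) (S₀ : Subgroup G) : Prop where
  simple : IsSimpleGroup G
  hx : orderOf x = 2
  hle : S₀ ≤ centralizer ({x} : Set G)
  hK : IsKleinFour ↥S₀
  hodd : ¬ 2 ∣ S₀.relIndex (centralizer ({x} : Set G))
  hn : (S₀.subgroupOf (centralizer ({x} : Set G))).Normal

section partA

variable {G : Type*} [Group G] [Finite G] {x : G} {S₀ : Subgroup G}

theorem Hyp.card_S₀ (H : Hyp G x S₀) : Nat.card S₀ = 4 := H.hK.card_four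

theorem Hyp.isPGroup_S₀ (H : Hyp G x S₀) : IsPGroup 2 S₀ := by
  haveI : Fact (Nat.Prime 2) := ⟨Nat.prime_two⟩
  exact IsPGroup.of_card (n := 2) (by rw [H.card_S₀]; norm_num)

/-- every 2-subgroup of `C_G(x)` lies in `S₀` -/
theorem Hyp.two_le (H : Hyp G x S₀) (T : Subgroup G) (hT : IsPGroup 2 T)
    (hTC : T ≤ centralizer ({x} : Set G)) : T ≤ S₀ := by
  haveI : Fact (Nat.Prime 2) := ⟨Nat.prime_two⟩
  set C := centralizer ({x} : Set G) with hC
  have hP : IsPGroup 2 (S₀.subgroupOf C) := H.isPGroup_S₀.comap_subtype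
  let P₀ : Sylow 2 ↥C := hP.toSylow H.hodd
  haveI hu := Sylow.unique_of_normal P₀ H.hn
  obtain ⟨Q, hQ⟩ := (hT.comap_subtype (K := C)).exists_le_sylow
  have hQP : Q = P₀ := Subsingleton.elim _ _
  intro t ht
  have h1 : (⟨t, hTC ht⟩ : C) ∈ T.subgroupOf C := mem_subgroupOf.mpr ht
  have h2 := hQ h1
  rw [hQP] at h2
  exact mem_subgroupOf.mp h2

theorem Hyp.mem_of_two_elt (H : Hyp G x S₀) {g : G} (hg : g ∈ centralizer ({x} : Set G))
    (k : ℕ) (hk : g ^ (2 ^ k) = 1) : g ∈ S₀ := by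
  haveI : Fact (Nat.Prime 2) := ⟨Nat.prime_two⟩
  have hpg : IsPGroup 2 (zpowers g) := by
    obtain ⟨e', -, he'⟩ := (Nat.dvd_prime_pow Nat.prime_two).mp (orderOf_dvd_of_pow_eq_one hk)
    apply IsPGroup.of_card (n := e')
    rw [Nat.card_zpowers, he']
  exact H.two_le (zpowers g) hpg (zpowers_le.mpr hg) (mem_zpowers g)

theorem Hyp.x_mem (H : Hyp G x S₀) : x ∈ S₀ := by
  apply H.mem_of_two_elt (mem_centralizer_singleton_iff.mpr rfl) 1
  rw [pow_one, ← H.hx, pow_orderOf_eq_one]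

theorem Hyp.four_dvd (H : Hyp G x S₀) : 4 ∣ Nat.card G := by
  rw [← H.card_S₀]; exact Subgroup.card_subgroup_dvd_card S₀

theorem Hyp.normal_eq (H : Hyp G x S₀) (K : Subgroup G) (hK : K.Normal) : K = ⊥ ∨ K = ⊤ := by
  haveI := H.simple
  exact hK.eq_bot_or_eq_top

theorem Hyp.no_index_two (H : Hyp G x S₀) (K : Subgroup G) : K.index ≠ 2 := by
  intro hK
  have hKn : K.Normal := normal_of_index_eq_two hK
  have h4 := H.four_dvd
  rcases H.normal_eq K hKn with h | h
  · rw [h, index_bot] at hK; rw [hK] at h4; omega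
  · rw [h, index_top] at hK; omega

theorem Hyp.pResidual_eq_top (H : Hyp G x S₀) : Cfsg.pResidual 2 G = ⊤ := by
  haveI : Fact (Nat.Prime 2) := ⟨Nat.prime_two⟩
  have hn := Cfsg.Agent.Lib.Helper12.pResidual_normal' 2 G
  rcases H.normal_eq _ hn with h | h
  · exfalso
    obtain ⟨a, ha⟩ := Cfsg.Agent.Lib.Helper12.pResidual_index_eq_pow 2 G
    rw [h, index_bot] at ha
    have h4 := H.four_dvd
    rcases Nat.eq_zero_or_pos a with h0 | h0
    · rw [h0, pow_zero] at ha; rw [ha] at h4; omega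
    · obtain ⟨k, rfl⟩ : ∃ k, a = k + 1 := ⟨a - 1, by omega⟩
      obtain ⟨K, hK⟩ := Cfsg.Agent.Lib.Helper2.exists_index_two_of_card_pow k ha
      exact H.no_index_two K hK
  · exact h

theorem isCoatom_of_index_two {X : Type*} [Group X] [Finite X] (M : Subgroup X)
    (hM : M.index = 2) : IsCoatom M := by
  constructor
  · intro h
    rw [h, index_top] at hM
    omega
  · intro K hK
    have h1 := relIndex_mul_index hK.le
    have h2 : K.index ∣ M.index := Dvd.intro_left _ h1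
    rw [hM] at h2
    rcases (Nat.dvd_prime Nat.prime_two).mp h2 with h3 | h3
    · exact index_eq_one.mp h3
    · exfalso
      rw [h3, hM] at h1
      have h4 : M.relIndex K = 1 := by omega
      rw [relIndex_eq_one] at h4
      exact (not_le_of_gt hK) h4

/-- an involution of a 2-group of maximal class lying in the cyclic maximal subgroup is central -/
theorem central_of_mem_cyclic {X : Type*} [Group X] [Finite X] (c : X)
    (hZ : Nat.card (center X) = 2) (hZC : center X ≤ zpowers c) (y : X) (hy : orderOf y = 2)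
    (hyM : y ∈ zpowers c) : y ∈ center X := by
  have hne : center X ≠ ⊥ := by
    intro h
    rw [h, Subgroup.card_bot] at hZ
    omega
  obtain ⟨⟨z, hz⟩, hz1⟩ := (Subgroup.ne_bot_iff_exists_ne_one).mp hne
  have hz1' : z ≠ 1 := fun h => hz1 (Subtype.ext h)
  have hz2 : z ^ 2 = 1 := by
    have h := pow_card_eq_one' (G := center X) (x := ⟨z, hz⟩)
    rw [hZ] at h
    exact congrArg Subtype.val h
  have hzo : orderOf z = 2 := orderOf_eq_prime hz2 hz1'
  have hzM : z ∈ zpowers c := hZC hz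
  have h1 : orderOf (⟨y, hyM⟩ : zpowers c) = 2 := by rw [Subgroup.orderOf_mk]; exact hy
  have h2 : orderOf (⟨z, hzM⟩ : zpowers c) = 2 := by rw [Subgroup.orderOf_mk]; exact hzo
  have h3 := Cfsg.Agent.Lib.Helper2.invol_unique_of_cyclic h1 h2
  have h4 : y = z := congrArg Subtype.val h3
  rw [h4]; exact hz

/-- a Sylow 2-subgroup containing `S₀` cannot have order at least 8 -/
theorem Hyp.sylow_small (H : Hyp G x S₀) (S : Sylow 2 G) (hS : S₀ ≤ S) (n : ℕ) (hn3 : 3 ≤ n)
    (hn : Nat.card (S : Subgroup G) = 2 ^ n) : False := by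
  haveI : Fact (Nat.Prime 2) := ⟨Nat.prime_two⟩
  have hxS : x ∈ (S : Subgroup G) := hS H.x_mem
  set A : Subgroup ↥(S : Subgroup G) := S₀.subgroupOf S with hA
  have hAcard : Nat.card A = 2 ^ 2 := by
    rw [hA, Nat.card_congr (subgroupOfEquivOfLe hS).toEquiv, H.card_S₀]
    norm_num
  have hpowS : ∀ g : ↥(S : Subgroup G), (g : G) ^ (2 ^ n) = 1 := by
    intro g
    have h : g ^ (2 ^ n) = 1 := by rw [← hn]; exact pow_card_eq_one'
    exact_mod_cast congrArg Subtype.val h
  have hAcent : centralizer (A : Set ↥(S : Subgroup G)) ≤ A := by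
    intro g hg
    rw [hA, mem_subgroupOf]
    apply H.mem_of_two_elt (g := (g : G)) ?_ n (hpowS g)
    rw [mem_centralizer_singleton_iff]
    have h := mem_centralizer_iff.mp hg ⟨x, hxS⟩ (mem_subgroupOf.mpr H.x_mem)
    exact (congrArg Subtype.val h).symm
  have hclass := Cfsg.Agent.Lib.Helper1.nilpotencyClass_of_selfCentralizing (p := 2) n
    ↥(S : Subgroup G) hn (Or.inl ⟨A, hAcard, hAcent⟩)
  obtain ⟨c, t, hCi, -, -, hZ, hZC⟩ :=
    Cfsg.Agent.Lib.Helper1.maximal_class_data n hn3 ↥(S : Subgroup G) hn hclass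
  -- a conjugate of `x` lies in the cyclic maximal subgroup
  have hex : ∃ g : G, ∃ h : g * x * g⁻¹ ∈ (S : Subgroup G),
      (⟨g * x * g⁻¹, h⟩ : ↥(S : Subgroup G)) ∈ zpowers c := by
    by_cases hxM : (⟨x, hxS⟩ : ↥(S : Subgroup G)) ∈ zpowers c
    · refine ⟨1, by simpa using hxS, ?_⟩
      have : (⟨1 * x * 1⁻¹, by simpa using hxS⟩ : ↥(S : Subgroup G)) = ⟨x, hxS⟩ := by
        apply Subtype.ext; simp
      rw [this]; exact hxM
    · obtain ⟨g, hg, -, -⟩ := Cfsg.Agent.Lib.Helper11.exists_extremal_conj_coatom S (zpowers c)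
        (isCoatom_of_index_two _ hCi) H.pResidual_eq_top x H.hx hxS hxM
      exact ⟨g, hg⟩
  obtain ⟨g, hgS, hgM⟩ := hex
  have hyo : orderOf (⟨g * x * g⁻¹, hgS⟩ : ↥(S : Subgroup G)) = 2 := by
    rw [Subgroup.orderOf_mk, ← (SemiconjBy.conj_mk g x).orderOf_eq g]; exact H.hx
  have hcen := central_of_mem_cyclic c hZ hZC _ hyo hgM
  -- the conjugate `g⁻¹ S g` centralizes `x`
  set T : Subgroup G := (S : Subgroup G).map (MulAut.conj g⁻¹).toMonoidHom with hT
  have hTp : IsPGroup 2 T := S.2.map _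
  have hTcard : Nat.card T = 2 ^ n := by
    rw [hT, Subgroup.card_map_of_injective (MulAut.conj g⁻¹).injective, hn]
  have hTC : T ≤ centralizer ({x} : Set G) := by
    rintro _ ⟨s, hs, rfl⟩
    rw [mem_centralizer_singleton_iff]
    have h := mem_center_iff.mp hcen ⟨s, hs⟩
    have h' : s * (g * x * g⁻¹) = g * x * g⁻¹ * s := congrArg Subtype.val h
    simp only [MulEquiv.coe_toMonoidHom, MulAut.conj_apply, inv_inv]
    calc g⁻¹ * s * g * x = g⁻¹ * (s * (g * x * g⁻¹)) * g := by group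
      _ = g⁻¹ * (g * x * g⁻¹ * s) * g := by rw [h']
      _ = x * (g⁻¹ * s * g) := by group
  have hle := Subgroup.card_le_of_le (H.two_le T hTp hTC)
  rw [hTcard, H.card_S₀] at hle
  have : 2 ^ 3 ≤ 2 ^ n := Nat.pow_le_pow_right (by norm_num) hn3
  omega

/-- `S₀` is a Sylow 2-subgroup of `G` -/
theorem Hyp.exists_sylow (H : Hyp G x S₀) : ∃ S : Sylow 2 G, (S : Subgroup G) = S₀ := by
  haveI : Fact (Nat.Prime 2) := ⟨Nat.prime_two⟩
  obtain ⟨S, hS⟩ := H.isPGroup_S₀.exists_le_sylow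
  refine ⟨S, ?_⟩
  obtain ⟨n, hn⟩ := IsPGroup.iff_card.mp S.2
  have h4 : 4 ∣ 2 ^ n := by
    rw [← hn, ← H.card_S₀]; exact Subgroup.card_dvd_of_le hS
  by_cases hn3 : 3 ≤ n
  · exact (H.sylow_small S hS n hn3 hn).elim
  · have hn2 : n = 2 := by
      have : n < 3 := by omega
      interval_cases n <;> omega
    symm
    apply Subgroup.eq_of_le_of_card_ge hS
    rw [hn, hn2, H.card_S₀]
    norm_num

end partA

end Cfsg.Agent.Lib.Helper21.S3278
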