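import Mathlib
import Cfsg.Agent.Lib.Helper21.S3278A
import Cfsg.Agent.Lib.Helper21.S4018E
import Cfsg.Agent.Lib.Lead.KleinOrder3
import Cfsg.Agent.Lib.Lead.KleinBlock1

/-!
helper21: S3278, part B: one class of involutions, `C_G(x) = C_G(S₀)`, and the count
`|G : C_G(x)| = 3 * n₂`.
-/

set_option autoImplicit false
set_option linter.unusedSectionVars false
set_option linter.style.haveILetI false
set_option linter.unusedVariables false

namespace Cfsg.Agent.Lib.Helper21.S3278

open Subgroup Cfsg.Agent.CharLib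

section partB

universe u

variable {G : Type u} [Group G] [Finite G] {x : G} {S₀ : Subgroup G}

/-- the numerical set-up for the Klein four order formula -/
theorem Hyp.num (H : Hyp G x S₀) : ∃ g₀ : ℕ, Odd g₀ ∧ Nat.card G = 4 * g₀ ∧
    ¬ ∃ N : Subgroup G, N.Normal ∧ Nat.card N = g₀ := by
  haveI : Fact (Nat.Prime 2) := ⟨Nat.prime_two⟩
  obtain ⟨S, hS⟩ := H.exists_sylow
  have hcard : Nat.card (S : Subgroup G) = 4 := by rw [hS]; exact H.card_S₀
  have hmul := Subgroup.card_mul_index (S : Subgroup G)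
  rw [hcard] at hmul
  refine ⟨(S : Subgroup G).index, ?_, hmul.symm, ?_⟩
  · rw [← Nat.not_even_iff_odd, even_iff_two_dvd]; exact S.not_dvd_index
  · rintro ⟨N, hN, hNc⟩
    rcases H.normal_eq N hN with h | h
    · rw [h, Subgroup.card_bot] at hNc
      rw [← hNc] at hmul
      obtain ⟨K, hK⟩ := Cfsg.Agent.Lib.Helper2.exists_index_two_of_card_pow 1
        (by rw [← hmul]; norm_num)
      exact H.no_index_two K hK
    · rw [h, Subgroup.card_top] at hNc
      have : 0 < Nat.card G := Nat.card_pos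
      omega

theorem Hyp.x_ne_one (H : Hyp G x S₀) : x ≠ 1 := by
  intro h
  have := H.hx
  rw [h, orderOf_one] at this
  omega

/-- `C_G(x) = C_G(S₀)` -/
theorem Hyp.cent_eq (H : Hyp G x S₀) (S : Sylow 2 G) (hS : (S : Subgroup G) = S₀) :
    centralizer ({x} : Set G) = centralizer ((S : Subgroup G) : Set G) := by
  haveI : Fact (Nat.Prime 2) := ⟨Nat.prime_two⟩
  have hKS : IsKleinFour (S : Subgroup G) := by rw [hS]; exact H.hK
  have hxS : x ∈ S := by
    show x ∈ (S : Subgroup G)
    rw [hS]; exact H.x_mem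
  apply le_antisymm
  · intro n hn
    have hnx : n * x = x * n := mem_centralizer_singleton_iff.mp hn
    have hnN : n ∈ normalizer ((S : Subgroup G) : Set G) := by
      rw [hS]
      apply S4018.mem_normalizer_of_conj_mem
      intro s hs
      have := H.hn.conj_mem ⟨s, H.hle hs⟩ (mem_subgroupOf.mpr hs) ⟨n, hn⟩
      exact mem_subgroupOf.mp this
    have h1 := sq_mem_centralizer_klein S hKS x hxS H.x_ne_one n hnN hnx
    exact mem_centralizer_sylow_of_pow_mem S (Cfsg.Agent.Lib.Helper2.klein_comm S hKS) n hnN 1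
      (by rw [pow_one]; exact h1)
  · exact centralizer_le (Set.singleton_subset_iff.mpr hxS)

theorem mem_sylow_smul {p : ℕ} [Fact p.Prime] (g : G) (P : Sylow p G) (y : G) :
    y ∈ g • P ↔ g⁻¹ * y * g ∈ P := by
  have h : y ∈ g • P ↔ y ∈ ((g • P : Sylow p G) : Subgroup G) := Iff.rfl
  rw [h, Sylow.coe_subgroup_smul, Subgroup.mem_pointwise_smul_iff_inv_smul_mem,
    MulAut.smul_def, ← map_inv, MulAut.conj_apply, inv_inv]
  rfl

/-- `S₀` is the only Sylow 2-subgroup containing `x` -/
theorem Hyp.sylow_unique (H : Hyp G x S₀) (S S' : Sylow 2 G) (hS : (S : Subgroup G) = S₀)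
    (hK' : IsKleinFour (S' : Subgroup G)) (hx' : x ∈ S') : S' = S := by
  haveI : Fact (Nat.Prime 2) := ⟨Nat.prime_two⟩
  have hle : (S' : Subgroup G) ≤ centralizer {x} := by
    intro s hs
    rw [mem_centralizer_singleton_iff]
    exact Cfsg.Agent.Lib.Helper2.klein_comm S' hK' s hs x hx'
  have h2 := H.two_le _ S'.2 hle
  apply Sylow.ext
  rw [hS]
  exact Subgroup.eq_of_le_of_card_ge h2 (by rw [hK'.card_four, H.card_S₀])

/-- every involution lies in a unique Sylow 2-subgroup -/
theorem Hyp.sylow_unique' (H : Hyp G x S₀)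
    (hone : ∀ a b : G, orderOf a = 2 → orderOf b = 2 → IsConj a b)
    (hK : ∀ S' : Sylow 2 G, IsKleinFour (S' : Subgroup G))
    (u : G) (hu : orderOf u = 2) (S' S'' : Sylow 2 G) (h' : u ∈ S') (h'' : u ∈ S'') :
    S' = S'' := by
  haveI : Fact (Nat.Prime 2) := ⟨Nat.prime_two⟩
  obtain ⟨S, hS⟩ := H.exists_sylow
  obtain ⟨g, hg⟩ := isConj_iff.mp (hone x u H.hx hu)
  have key : ∀ T : Sylow 2 G, u ∈ T → T = g • S := by
    intro T hT
    have h1 : x ∈ g⁻¹ • T := by
      rw [mem_sylow_smul, inv_inv, hg]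
      exact hT
    have h2 := H.sylow_unique S (g⁻¹ • T) hS (hK _) h1
    rw [← h2, smul_inv_smul]
  rw [key S' h', key S'' h'']

/-- a Klein four Sylow 2-subgroup contains exactly three involutions -/
theorem card_invol_klein (S' : Sylow 2 G) (hK : IsKleinFour (S' : Subgroup G)) :
    Nat.card {u : G // orderOf u = 2 ∧ u ∈ S'} = 3 := by
  haveI : Fact (Nat.Prime 2) := ⟨Nat.prime_two⟩
  have e : {u : G // orderOf u = 2 ∧ u ∈ S'} ≃ ↥(({1} : Set ↥(S' : Subgroup G))ᶜ) :=
    { toFun := fun u => ⟨⟨u.1, u.2.2⟩, by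
        intro h
        have h1 : u.1 = 1 := congrArg Subtype.val h
        have h2 := u.2.1
        rw [h1, orderOf_one] at h2
        omega⟩
      invFun := fun s => ⟨s.1.1, Cfsg.Agent.Lib.Helper2.klein_orderOf S' hK s.1.2
        (fun h => s.2 (Subtype.ext h)), s.1.2⟩
      left_inv := fun u => rfl
      right_inv := fun s => rfl }
  rw [Nat.card_congr e, Nat.card_coe_set_eq, Set.ncard_compl, Set.ncard_singleton, hK.card_four]

/-- the number of involutions is three times the number of Sylow 2-subgroups -/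
theorem Hyp.card_invol (H : Hyp G x S₀)
    (hone : ∀ a b : G, orderOf a = 2 → orderOf b = 2 → IsConj a b)
    (hK : ∀ S' : Sylow 2 G, IsKleinFour (S' : Subgroup G)) :
    Nat.card {u : G // orderOf u = 2} = 3 * Nat.card (Sylow 2 G) := by
  classical
  haveI : Fact (Nat.Prime 2) := ⟨Nat.prime_two⟩
  letI : Fintype (Sylow 2 G) := Fintype.ofFinite _
  have hex : ∀ u : {u : G // orderOf u = 2}, ∃ S' : Sylow 2 G, (u : G) ∈ S' := by
    intro u
    have hp : IsPGroup 2 (zpowers (u : G)) :=
      IsPGroup.of_card (n := 1) (by rw [Nat.card_zpowers, u.2, pow_one])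
    obtain ⟨Q, hQ⟩ := hp.exists_le_sylow
    exact ⟨Q, hQ (mem_zpowers _)⟩
  choose F hF using hex
  have hFiff : ∀ (u : {u : G // orderOf u = 2}) (S' : Sylow 2 G), F u = S' ↔ (u : G) ∈ S' :=
    fun u S' => ⟨fun h => h ▸ hF u, fun h => H.sylow_unique' hone hK u u.2 _ _ (hF u) h⟩
  rw [← Nat.card_congr (Equiv.sigmaFiberEquiv F), Nat.card_sigma]
  have hfib : ∀ S' : Sylow 2 G, Nat.card {u : {u : G // orderOf u = 2} // F u = S'} = 3 := by
    intro S'
    rw [← card_invol_klein S' (hK S')]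
    apply Nat.card_congr
    exact
      { toFun := fun u => ⟨u.1.1, u.1.2, (hFiff _ _).mp u.2⟩
        invFun := fun u => ⟨⟨u.1, u.2.1⟩, (hFiff _ _).mpr u.2.2⟩
        left_inv := fun u => rfl
        right_inv := fun u => rfl }
  simp only [hfib]
  rw [Finset.sum_const, Finset.card_univ, smul_eq_mul, Nat.card_eq_fintype_card, mul_comm]

/-- `|G : C_G(x)| = 3 * n₂` -/
theorem Hyp.index_cent (H : Hyp G x S₀)
    (hone : ∀ a b : G, orderOf a = 2 → orderOf b = 2 → IsConj a b)
    (hK : ∀ S' : Sylow 2 G, IsKleinFour (S' : Subgroup G)) :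
    (centralizer ({x} : Set G)).index = 3 * Nat.card (Sylow 2 G) := by
  rw [← H.card_invol hone hK, S4018.card_invol_eq_index hone H.hx]

end partB

end Cfsg.Agent.Lib.Helper21.S3278
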