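import Mathlib
import Cfsg.Agent.Lib.Helper21.S3278B
import Cfsg.Agent.Lib.Lead.KleinBlock3
import Cfsg.Agent.Lib.Helper6.Knoerr
import Cfsg.Agent.Lib.Helper24.IrrFacts
import Cfsg.Agent.S0494

/-!
helper21: S3278, part C: Brauer's order formula gives `n₂ ≤ 5`, hence `|G| = 60` and `G ≃ A₅`.
-/

set_option autoImplicit false
set_option linter.unusedSectionVars false
set_option linter.style.haveILetI false
set_option linter.unusedVariables false

namespace Cfsg.Agent.Lib.Helper21.S3278

open Cfsg Subgroup Cfsg.Agent.CharLib Cfsg.Agent.Lib.Helper24 Cfsg.Agent.Lib.Helper6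

section partC

universe u

variable {G : Type u} [Group G] [Finite G] {x : G} {S₀ : Subgroup G}

theorem arith_pos {n A B : ℚ} (hA : 1 ≤ A) (hB : 1 ≤ B)
    (key : 3 * n * ((A + 1) * (B + 1) * (A + B)) = 8 * (A * B * (1 + A + B))) : 3 * n < 8 := by
  by_contra h
  push Not at h
  have hD : 0 < (A + 1) * (B + 1) * (A + B) := by positivity
  have hND : A * B * (1 + A + B) < (A + 1) * (B + 1) * (A + B) := by nlinarith
  nlinarith [mul_le_mul_of_nonneg_right h hD.le]

theorem arith_neg {n B C : ℚ} (hB : 3 ≤ B) (hC : 3 ≤ C)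
    (key : 3 * n * ((B + C) * (B - 1) * (C - 1)) = 8 * ((B + C - 1) * B * C)) : 3 * n < 18 := by
  by_contra h
  push Not at h
  have hB1 : 0 < B - 1 := by linarith
  have hC1 : 0 < C - 1 := by linarith
  have hBC : 0 < B + C := by linarith
  have hD : 0 < (B + C) * (B - 1) * (C - 1) := by positivity
  have h1 : 4 * (B * C) ≤ 9 * ((B - 1) * (C - 1)) := by nlinarith [mul_nonneg (sub_nonneg.mpr hB) (sub_nonneg.mpr hC)]
  have h2 : 4 * ((B + C - 1) * B * C) < 9 * ((B + C) * (B - 1) * (C - 1)) := by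
    have h3 : (B + C - 1) * (B * C) < (B + C) * (B * C) := by
      have : 0 < B * C := by positivity
      nlinarith
    have h4 : (B + C) * (4 * (B * C)) ≤ (B + C) * (9 * ((B - 1) * (C - 1))) :=
      mul_le_mul_of_nonneg_left h1 hBC.le
    nlinarith
  nlinarith [mul_le_mul_of_nonneg_right h hD.le]

/-- `G` embeds into the symmetric group on its Sylow 2-subgroups -/
theorem Hyp.card_dvd_factorial (H : Hyp G x S₀) :
    Nat.card G ∣ (Nat.card (Sylow 2 G)).factorial := by
  haveI : Fact (Nat.Prime 2) := ⟨Nat.prime_two⟩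
  obtain ⟨S, hS⟩ := H.exists_sylow
  obtain ⟨g₀, hg₀odd, hG, hnc⟩ := H.num
  let φ : G →* Equiv.Perm (Sylow 2 G) := MulAction.toPermHom G (Sylow 2 G)
  have hker : φ.ker = ⊥ := by
    rcases H.normal_eq φ.ker inferInstance with h | h
    · exact h
    · exfalso
      have hSn : (S : Subgroup G).Normal := by
        rw [← Subgroup.normalizer_eq_top_iff, eq_top_iff]
        intro g _
        have hg : g ∈ φ.ker := by rw [h]; trivial
        have h1 : φ g = 1 := MonoidHom.mem_ker.mp hg
        have h2 : g • S = S := by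
          have h3 := congrArg (fun σ => σ S) h1
          simpa [φ, MulAction.toPermHom_apply, MulAction.toPerm_apply] using h3
        exact Sylow.smul_eq_iff_mem_normalizer.mp h2
      have hc4 : Nat.card (S : Subgroup G) = 4 := by rw [hS]; exact H.card_S₀
      rcases H.normal_eq _ hSn with h' | h'
      · rw [h', Subgroup.card_bot] at hc4; omega
      · rw [h', Subgroup.card_top, hG] at hc4
        apply hnc
        refine ⟨⊥, inferInstance, ?_⟩
        rw [Subgroup.card_bot]; omega
  have hinj : Function.Injective φ := (MonoidHom.ker_eq_bot_iff φ).mp hker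
  have h := Subgroup.card_dvd_of_injective φ hinj
  rwa [Nat.card_perm] at h

theorem Hyp.card_cent (H : Hyp G x S₀) : ∃ k : ℕ, ¬ 2 ∣ k ∧
    Nat.card (centralizer ({x} : Set G)) = 4 * k := by
  refine ⟨S₀.relIndex (centralizer ({x} : Set G)), H.hodd, ?_⟩
  have h := Subgroup.card_mul_index (S₀.subgroupOf (centralizer ({x} : Set G)))
  rw [Nat.card_congr (subgroupOfEquivOfLe H.hle).toEquiv, H.card_S₀] at h
  exact h.symm

/-- the order of `G` is 60 -/
theorem Hyp.card_eq_sixty (H : Hyp G x S₀) : Nat.card G = 60 := by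
  haveI : Fact (Nat.Prime 2) := ⟨Nat.prime_two⟩
  obtain ⟨g₀, hg₀odd, hG, hnc⟩ := H.num
  obtain ⟨S, hS⟩ := H.exists_sylow
  have hK : ∀ S' : Sylow 2 G, IsKleinFour (S' : Subgroup G) :=
    fun S' => ko_isKleinFour g₀ hg₀odd hG hnc S'
  have hone : ∀ a b : G, orderOf a = 2 → orderOf b = 2 → IsConj a b :=
    fun a b ha hb => ko_invol_conj g₀ hg₀odd hG hnc S a b ha hb
  have hxS : x ∈ S := by
    show x ∈ (S : Subgroup G)
    rw [hS]; exact H.x_mem
  obtain ⟨M, hM⟩ := exists_isPModular 2
  obtain ⟨a, b, c, ε, hε, ha1, hb1, hc1, hab, hac, hbc, hmem, haz, hbz, hcz, h4a, h4b, h4c, hy⟩ :=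
    klein_principal_block_aux hM S (hK S) hone x hxS H.x_ne_one
  have htriv : ∀ χ : IrrCharacter G, χ = Cfsg.Agent.CharLib.trivIrr G ↔
      (χ : G → ℂ) = (fun _ => 1) := by
    intro χ
    constructor
    · intro h; rw [h]; rfl
    · intro h; exact Subtype.ext h
  have hB : principalBlock M G =
      {χ : IrrCharacter G | (χ : G → ℂ) = (fun _ => 1) ∨ χ = a ∨ χ = b ∨ χ = c} := by
    ext χ
    rw [hmem χ, htriv χ]
    rfl
  have hdist : (a : G → ℂ) ≠ (fun _ => 1) ∧ (b : G → ℂ) ≠ (fun _ => 1) ∧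
      (c : G → ℂ) ≠ (fun _ => 1) ∧ a ≠ b ∧ a ≠ c ∧ b ≠ c :=
    ⟨fun h => ha1 ((htriv a).mpr h), fun h => hb1 ((htriv b).mpr h),
      fun h => hc1 ((htriv c).mpr h), hab, hac, hbc⟩
  have hval : (a : G → ℂ) x = ((1 : ℤ) : ℂ) ∧ (b : G → ℂ) x = ((ε : ℤ) : ℂ) ∧
      (c : G → ℂ) x = ((-1 : ℤ) : ℂ) := by
    refine ⟨?_, hbz, ?_⟩
    · rw [haz]; norm_num
    · rw [hcz]; norm_num
  have hform := klein_order_formula M hM g₀ hg₀odd hG hnc S x hxS H.hx a b c 1 ε (-1) hB hdist
    ⟨Or.inl rfl, hε, Or.inr rfl⟩ hval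
  rw [← H.cent_eq S hS] at hform
  -- the index of the centralizer
  have hidx := H.index_cent hone hK
  have hmul := Subgroup.card_mul_index (centralizer ({x} : Set G))
  rw [hidx] at hmul
  obtain ⟨k, hkodd, hck⟩ := H.card_cent
  have hdvd := H.card_dvd_factorial
  set n₂ := Nat.card (Sylow 2 G) with hn₂
  set c₀ := Nat.card (centralizer ({x} : Set G)) with hc₀
  have hc₀pos : 0 < c₀ := Nat.card_pos
  have hc₀Q : (0 : ℚ) < (c₀ : ℚ) := by exact_mod_cast hc₀pos
  have hGQ : (Nat.card G : ℚ) = (c₀ : ℚ) * (3 * (n₂ : ℚ)) := by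
    rw [← hmul]; push_cast; ring
  rw [hGQ] at hform
  -- the degree relation
  have hrel := hy 1 (by rw [orderOf_one]; exact odd_one)
  rw [irr_apply_one, irr_apply_one, irr_apply_one] at hrel
  have hrelZ : (1 : ℤ) + (charDegree (a : G → ℂ) : ℤ) + ε * (charDegree (b : G → ℂ) : ℤ) -
      (charDegree (c : G → ℂ) : ℤ) = 0 := by exact_mod_cast hrel
  have hrelQ : (1 : ℚ) + (charDegree (a : G → ℂ) : ℚ) + (ε : ℚ) * (charDegree (b : G → ℂ) : ℚ) -
      (charDegree (c : G → ℂ) : ℚ) = 0 := by exact_mod_cast hrelZ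
  have hApos := irr_charDegree_pos a
  have hBpos := irr_charDegree_pos b
  have hCpos := irr_charDegree_pos c
  -- `n₂ ≤ 5`
  have hn5 : n₂ ≤ 5 := by
    set A : ℚ := (charDegree (a : G → ℂ) : ℚ) with hAdef
    set B : ℚ := (charDegree (b : G → ℂ) : ℚ) with hBdef
    set C : ℚ := (charDegree (c : G → ℂ) : ℚ) with hCdef
    have hA1 : (1 : ℚ) ≤ A := by rw [hAdef]; exact_mod_cast hApos
    have hB1 : (1 : ℚ) ≤ B := by rw [hBdef]; exact_mod_cast hBpos
    have hC1 : (1 : ℚ) ≤ C := by rw [hCdef]; exact_mod_cast hCpos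
    push_cast at hform
    rcases hε with he | he
    · rw [he] at hform hrelQ
      push_cast at hform hrelQ
      have hCeq : C = 1 + A + B := by linarith
      have hD : (A + 1) * (B + 1) * (C + -1) ≠ 0 := by
        have h1 : 0 < C + -1 := by linarith
        have h2 : 0 < A + 1 := by linarith
        have h3 : 0 < B + 1 := by linarith
        positivity
      have key : 3 * (n₂ : ℚ) * ((A + 1) * (B + 1) * (A + B)) = 8 * (A * B * (1 + A + B)) := by
        have e := hform
        have e' : 8 * (A * B * C / ((A + 1) * (B + 1) * (C + -1))) * (c₀ : ℚ) ^ 3 / (c₀ : ℚ) ^ 2 =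
            (c₀ : ℚ) * (8 * (A * B * C)) / ((A + 1) * (B + 1) * (C + -1)) := by
          field_simp
        rw [e', eq_div_iff hD] at e
        have h5 : (c₀ : ℚ) * (3 * (n₂ : ℚ) * ((A + 1) * (B + 1) * (C + -1))) =
            (c₀ : ℚ) * (8 * (A * B * C)) := by rw [← e]; ring
        have h6 := mul_left_cancel₀ hc₀Q.ne' h5
        rw [hCeq] at h6
        have : (1 + A + B + -1 : ℚ) = A + B := by ring
        rw [this] at h6
        exact h6
      have hlt := arith_pos hA1 hB1 key
      have : (n₂ : ℚ) < 3 := by linarith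
      have : n₂ < 3 := by exact_mod_cast this
      omega
    · rw [he] at hform hrelQ h4b
      push_cast at hform hrelQ
      have hAeq : A = B + C - 1 := by linarith
      -- `B, C ≥ 3` from the congruences mod 4
      have hB3 : (3 : ℚ) ≤ B := by
        have : 3 ≤ charDegree (b : G → ℂ) := by omega
        rw [hBdef]; exact_mod_cast this
      have hC3 : (3 : ℚ) ≤ C := by
        have : 3 ≤ charDegree (c : G → ℂ) := by omega
        rw [hCdef]; exact_mod_cast this
      have hD : (A + 1) * (B + -1) * (C + -1) ≠ 0 := by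
        have h1 : 0 < C + -1 := by linarith
        have h2 : 0 < A + 1 := by linarith
        have h3 : 0 < B + -1 := by linarith
        positivity
      have key : 3 * (n₂ : ℚ) * ((B + C) * (B - 1) * (C - 1)) = 8 * ((B + C - 1) * B * C) := by
        have e := hform
        have e' : 8 * (A * B * C / ((A + 1) * (B + -1) * (C + -1))) * (c₀ : ℚ) ^ 3 / (c₀ : ℚ) ^ 2 =
            (c₀ : ℚ) * (8 * (A * B * C)) / ((A + 1) * (B + -1) * (C + -1)) := by
          field_simp
        rw [e', eq_div_iff hD] at e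
        have h5 : (c₀ : ℚ) * (3 * (n₂ : ℚ) * ((A + 1) * (B + -1) * (C + -1))) =
            (c₀ : ℚ) * (8 * (A * B * C)) := by rw [← e]; ring
        have h6 := mul_left_cancel₀ hc₀Q.ne' h5
        rw [hAeq] at h6
        have e1 : (B + C - 1 + 1 : ℚ) = B + C := by ring
        have e2 : (B + -1 : ℚ) = B - 1 := by ring
        have e3 : (C + -1 : ℚ) = C - 1 := by ring
        rw [e1, e2, e3] at h6
        exact h6
      have hlt := arith_neg hB3 hC3 key
      have : (n₂ : ℚ) < 6 := by linarith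
      have : n₂ < 6 := by exact_mod_cast this
      omega
  -- conclusion
  rw [hck] at hmul
  have hk1 : 1 ≤ k := by
    rcases Nat.eq_zero_or_pos k with h | h
    · exfalso; apply hkodd; rw [h]; exact dvd_zero 2
    · exact h
  have hkmod : k % 2 = 1 := by omega
  rw [← hmul] at hdvd ⊢
  interval_cases n₂
  · simp at hdvd
  · have := Nat.le_of_dvd (by norm_num) hdvd; simp at this; omega
  · have := Nat.le_of_dvd (by norm_num) hdvd; simp at this; omega
  · have := Nat.le_of_dvd (by norm_num) hdvd; simp [Nat.factorial] at this; omega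
  · have := Nat.le_of_dvd (by norm_num) hdvd; simp [Nat.factorial] at this; omega
  · have := Nat.le_of_dvd (by norm_num) hdvd; simp [Nat.factorial] at this; omega

/-- **S3278** -/
theorem main {G : Type u} [Group G] [Finite G] [IsSimpleGroup G] (x : G) (hx : orderOf x = 2)
    (S₀ : Subgroup G) (hle : S₀ ≤ Subgroup.centralizer ({x} : Set G)) (hK : IsKleinFour ↥S₀)
    (hodd : ¬ 2 ∣ S₀.relIndex (Subgroup.centralizer ({x} : Set G)))
    (hn : (S₀.subgroupOf (Subgroup.centralizer ({x} : Set G))).Normal) :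
    Nonempty (G ≃* ↥(alternatingGroup (Fin 5))) := by
  have H : Hyp G x S₀ := ⟨inferInstance, hx, hle, hK, hodd, hn⟩
  exact Cfsg.Agent.S0494.result H.card_eq_sixty

end partC

end Cfsg.Agent.Lib.Helper21.S3278
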