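/-
helper21: the Frobenius configuration `N ⋊ ⟨x⟩` for S4081: primitive root from transitivity and conversely.
-/
import Mathlib
import Cfsg.Agent.Lib.Helper21.S4081A
import Cfsg.Agent.Lib.Helper21.S4081B

set_option autoImplicit false
set_option linter.style.haveILetI false
set_option linter.unusedSimpArgs false
set_option linter.unusedSectionVars false

namespace Cfsg.Agent.Lib.Helper21.S4081

open scoped IsMulCommutative

section Cfg

variable {G : Type*} [Group G] [Finite G] (N : Subgroup G) [N.Normal] [IsMulCommutative N]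
variable {p q : ℕ} [hp : Fact p.Prime] [hq : Fact q.Prime]

theorem cj_pow_q (x : G) (hx : orderOf x = q) : cjEnd N x ^ q = 1 := by
  rw [cjEnd_pow, ← hx, pow_orderOf_eq_one, map_one]

theorem cj_fpf (x : G) (hfpf : ∀ a ∈ N, x * a * x⁻¹ = a → a = 1) (v : Additive N)
    (hv : cjEnd N x v = v) : v = 0 := by
  have h1 : x * ((Additive.toMul v : N) : G) * x⁻¹ = ((Additive.toMul v : N) : G) := by
    rw [← cjEnd_apply, hv]
  have h2 := hfpf _ (Additive.toMul v).2 h1
  apply Additive.toMul.injective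
  exact Subtype.ext h2

theorem nsmul_eq_zero_of_exp (hexp : ∀ a ∈ N, a ^ p = 1) (v : Additive N) : p • v = 0 := by
  apply Additive.toMul.injective
  apply Subtype.ext
  show ((Additive.toMul v : N) : G) ^ p = 1
  exact hexp _ (Additive.toMul v).2

theorem fpf_pow (x : G) (hx : orderOf x = q) (hfpf : ∀ a ∈ N, x * a * x⁻¹ = a → a = 1)
    (i : ℕ) (hi : ¬ q ∣ i) : ∀ a ∈ N, x ^ i * a * (x ^ i)⁻¹ = a → a = 1 := by
  intro a ha h
  have hcop : Nat.Coprime i (orderOf x) := by
    rw [hx]; exact ((Nat.Prime.coprime_iff_not_dvd hq.out).mpr hi).symm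
  obtain ⟨m, hm⟩ := exists_pow_eq_self_of_coprime hcop
  apply hfpf a ha
  have hcomm : Commute (x ^ i) a := by
    show x ^ i * a = a * x ^ i
    calc x ^ i * a = x ^ i * a * (x ^ i)⁻¹ * x ^ i := by group
      _ = a * x ^ i := by rw [h]
  have h2 : Commute x a := by
    rw [← hm]; exact hcomm.pow_left m
  calc x * a * x⁻¹ = a * x * x⁻¹ := by rw [h2.eq]
    _ = a := by group

theorem orderOf_eq_of_mem (hexp : ∀ a ∈ N, a ^ p = 1) (a : G) (ha : a ∈ N) (ha1 : a ≠ 1) :
    orderOf a = p := orderOf_eq_prime (hexp a ha) ha1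

theorem not_dvd_of_not_mem (x : G) (hx : orderOf x = q) (u : G) (hu : u ∈ N) (i : ℕ)
    (h : u * x ^ i ∉ N) : ¬ q ∣ i := by
  intro hd
  apply h
  have : x ^ i = 1 := by rw [← hx] at hd; exact orderOf_dvd_iff_pow_eq_one.mp hd
  rw [this, mul_one]; exact hu

theorem primitive_root_of_transitive (hpq : p ≠ q) (x : G) (hx : orderOf x = q)
    (hc : N.IsComplement' (Subgroup.zpowers x)) (hN : ∀ g, g ∈ N ↔ g ^ p = 1) (hNnt : N ≠ ⊥)
    (hfpf : ∀ a ∈ N, x * a * x⁻¹ = a → a = 1)
    (hTr : ∀ g h : G, orderOf g = orderOf h → ∃ φ : MulAut G, φ g = h) :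
    orderOf (p : ZMod q) = q - 1 := by
  have hexp : ∀ a ∈ N, a ^ p = 1 := fun a ha => (hN a).mp ha
  haveI : Nontrivial (Additive N) := by
    obtain ⟨a, ha1⟩ := (Subgroup.ne_bot_iff_exists_ne_one.mp hNnt)
    exact ⟨⟨Additive.ofMul a, 0, fun h => ha1 (Additive.ofMul.injective h)⟩⟩
  haveI : Finite (Additive N) := inferInstanceAs (Finite N)
  have hψ : ∀ (ψ : MulAut G) (g : G), ψ g ∈ N ↔ g ∈ N := by
    intro ψ g
    rw [hN, hN, ← map_pow]
    constructor
    · intro h; exact ψ.injective (by rw [h, map_one])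
    · intro h; rw [h, map_one]
  have hxN : x ∉ N := by
    intro h
    have h1 : orderOf x ∣ p := orderOf_dvd_of_pow_eq_one (hexp x h)
    rw [hx] at h1
    exact hpq ((Nat.prime_dvd_prime_iff_eq hq.out hp.out).mp h1).symm
  apply orderOf_eq_of_trans' (p := p) (q := q) (V := Additive N) hpq (nsmul_eq_zero_of_exp N hexp)
    (cjEnd N x) (cj_pow_q N x hx) (cj_fpf N x hfpf)
  · intro v w hv hw
    have ha1 : ((Additive.toMul v : N) : G) ≠ 1 := by
      intro h; apply hv; apply Additive.toMul.injective; exact Subtype.ext h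
    have hb1 : ((Additive.toMul w : N) : G) ≠ 1 := by
      intro h; apply hw; apply Additive.toMul.injective; exact Subtype.ext h
    have hoa := orderOf_eq_of_mem N hexp _ (Additive.toMul v).2 ha1
    have hob := orderOf_eq_of_mem N hexp _ (Additive.toMul w).2 hb1
    obtain ⟨φ, hφ⟩ := hTr _ _ (hoa.trans hob.symm)
    obtain ⟨u, hu, i, hi⟩ := exists_decomp N x hc (φ x)
    have hφxN : φ x ∉ N := fun h => hxN ((hψ φ x).mp h)
    have hqi : ¬ q ∣ i := not_dvd_of_not_mem N x hx u hu i (hi ▸ hφxN)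
    obtain ⟨g, hg, hgc⟩ := exists_conj_eq N (x ^ i) (fpf_pow N x hx hfpf i hqi) u hu
    refine ⟨resAut N (MulAut.conj g * φ) (hψ _), ?_, i, ?_⟩
    · apply Additive.toMul.injective
      apply Subtype.ext
      rw [resAut_apply]
      show g * φ ((Additive.toMul v : N) : G) * g⁻¹ = _
      rw [hφ]
      have := setLike_mul_comm (s := N) hg (Additive.toMul w).2
      rw [this, mul_assoc, mul_inv_cancel, mul_one]
    · intro u'
      rw [resAut_cjEnd, cjEnd_pow]
      have : (MulAut.conj g * φ) x = x ^ i := by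
        show g * φ x * g⁻¹ = x ^ i
        rw [hi]; exact hgc
      rw [this]
  · intro k hk0 hkq
    have hok : orderOf (x ^ k) = q := by
      rw [orderOf_pow' x (Nat.pos_iff_ne_zero.mp hk0), hx]
      have : Nat.gcd q k = 1 := by
        rw [← Nat.coprime_iff_gcd_eq_one]
        exact (Nat.Prime.coprime_iff_not_dvd hq.out).mpr (Nat.not_dvd_of_pos_of_lt hk0 hkq)
      rw [this, Nat.div_one]
    obtain ⟨φ, hφ⟩ := hTr x (x ^ k) (hx.trans hok.symm)
    refine ⟨resAut N φ (hψ _), ?_⟩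
    intro u'
    rw [resAut_cjEnd, cjEnd_pow, hφ]

omit hp in
theorem exists_pow_eq_of_primitive
    (hord : orderOf (p : ZMod q) = q - 1) (i : ℕ) (hi : ¬ q ∣ i) :
    ∃ j : ℕ, (p : ZMod q) ^ j = (i : ZMod q) := by
  have hp0 : (p : ZMod q) ≠ 0 := by
    intro h
    rw [h, orderOf_eq_zero_iff.mpr] at hord
    · have := hq.out.two_le; omega
    · intro hfin
      obtain ⟨n, hn, hn1⟩ := hfin.exists_pow_eq_one
      rw [zero_pow (Nat.pos_iff_ne_zero.mp hn)] at hn1
      exact zero_ne_one hn1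
  have hi0 : (i : ZMod q) ≠ 0 := by
    intro h; exact hi ((ZMod.natCast_eq_zero_iff _ _).mp h)
  let up : (ZMod q)ˣ := Units.mk0 _ hp0
  let ui : (ZMod q)ˣ := Units.mk0 _ hi0
  have hup : orderOf up = q - 1 := by
    rw [← orderOf_units]; exact hord
  have htop : Subgroup.zpowers up = ⊤ := by
    apply Subgroup.eq_top_of_card_eq
    rw [Nat.card_zpowers, hup, Nat.card_eq_fintype_card, ZMod.card_units]
  have hmem : ui ∈ Subgroup.zpowers up := by rw [htop]; trivial
  obtain ⟨j, hj⟩ := mem_powers_iff_mem_zpowers.mpr hmem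
  refine ⟨j, ?_⟩
  have := congrArg Units.val hj
  simpa [up, ui] using this

theorem orbits_of_primitive_root (hpq : p ≠ q) (x : G) (hx : orderOf x = q)
    (hc : N.IsComplement' (Subgroup.zpowers x)) (hexp : ∀ a ∈ N, a ^ p = 1)
    (hfpf : ∀ a ∈ N, x * a * x⁻¹ = a → a = 1)
    (hord : orderOf (p : ZMod q) = q - 1) :
    (∀ a b : G, a ∈ N → b ∈ N → a ≠ 1 → b ≠ 1 → ∃ φ : MulAut G, φ a = b) ∧
    (∀ g : G, g ∉ N → ∃ φ : MulAut G, φ x = g) := by
  haveI : Finite (Additive N) := inferInstanceAs (Finite N)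
  obtain ⟨h1, θp, hθp⟩ := exists_equivs (p := p) (q := q) hpq hord (V := Additive N)
    (nsmul_eq_zero_of_exp N hexp) (cjEnd N x) (cj_pow_q N x hx) (cj_fpf N x hfpf)
  constructor
  · intro a b ha hb ha1 hb1
    obtain ⟨θ, hθ, hθc⟩ := h1 (Additive.ofMul ⟨a, ha⟩) (Additive.ofMul ⟨b, hb⟩)
      (by
        intro h
        apply ha1
        have := congrArg (fun v => ((Additive.toMul v : N) : G)) h
        exact this)
      (by
        intro h
        apply hb1
        have := congrArg (fun v => ((Additive.toMul v : N) : G)) h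
        exact this)
    obtain ⟨ψ, _, hψ⟩ := exists_aut_of_compat N x hc θ 1 (Nat.coprime_one_right _)
      (by intro u; rw [pow_one]; exact hθc u)
    refine ⟨ψ, ?_⟩
    have := hψ (Additive.ofMul ⟨a, ha⟩)
    rw [hθ] at this
    exact this
  · intro g hg
    obtain ⟨u, hu, i, hi⟩ := exists_decomp N x hc g
    have hqi : ¬ q ∣ i := not_dvd_of_not_mem N x hx u hu i (hi ▸ hg)
    have hcop : (orderOf x).Coprime p := by
      rw [hx]; exact (Nat.coprime_primes hq.out hp.out).mpr hpq.symm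
    obtain ⟨ψp, hψp, _⟩ := exists_aut_of_compat N x hc θp p hcop hθp
    obtain ⟨j, hj⟩ := exists_pow_eq_of_primitive (p := p) (q := q) hord i hqi
    have hpow : ∀ j : ℕ, (ψp ^ j) x = x ^ (p ^ j) := by
      intro j
      induction j with
      | zero => simp
      | succ j ih =>
        rw [pow_succ', MulAut.mul_apply, ih, map_pow, hψp, ← pow_mul, ← pow_succ']
    have hxi : x ^ (p ^ j) = x ^ i := by
      rw [pow_eq_pow_iff_modEq, hx]
      apply (ZMod.natCast_eq_natCast_iff _ _ _).mp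
      push_cast
      exact hj
    obtain ⟨h, hh, hhc⟩ := exists_conj_eq N (x ^ i) (fpf_pow N x hx hfpf i hqi) u hu
    refine ⟨MulAut.conj h⁻¹ * ψp ^ j, ?_⟩
    show h⁻¹ * (ψp ^ j) x * h⁻¹⁻¹ = g
    rw [hpow, hxi, hi]
    have h2 : h⁻¹ * x ^ i * h = u * x ^ i := by
      calc h⁻¹ * x ^ i * h = h⁻¹ * (h * (u * x ^ i) * h⁻¹) * h := by rw [hhc]
        _ = u * x ^ i := by group
    rw [inv_inv, h2]

end Cfg

end Cfsg.Agent.Lib.Helper21.S4081
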