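/-
helper21: S4081, orbit counting lemmas and the backward direction.
-/
import Mathlib
import Cfsg.Agent.Lib.Helper21.S4081C

set_option autoImplicit false
set_option linter.style.haveILetI false
set_option linter.unusedSimpArgs false
set_option linter.unusedSectionVars false

namespace Cfsg.Agent.Lib.Helper21.S4081

open scoped IsMulCommutative

section Count

theorem card_quotient_eq_three {α : Type*} (r : Setoid α) [Finite (Quotient r)] (a b c : α)
    (hab : ¬ r a b) (hac : ¬ r a c) (hbc : ¬ r b c)
    (hall : ∀ g, r g a ∨ r g b ∨ r g c) : Nat.card (Quotient r) = 3 := by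
  classical
  haveI : Fintype (Quotient r) := Fintype.ofFinite _
  rw [Nat.card_eq_fintype_card, ← Finset.card_univ, Finset.card_eq_three]
  refine ⟨⟦a⟧, ⟦b⟧, ⟦c⟧, fun h => hab (Quotient.exact h), fun h => hac (Quotient.exact h),
    fun h => hbc (Quotient.exact h), ?_⟩
  ext z
  simp only [Finset.mem_univ, Finset.mem_insert, Finset.mem_singleton, true_iff]
  induction z using Quotient.inductionOn with
  | h g =>
    rcases hall g with h | h | h
    · exact Or.inl (Quotient.sound h)
    · exact Or.inr (Or.inl (Quotient.sound h))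
    · exact Or.inr (Or.inr (Quotient.sound h))

theorem forall_rel_of_card_eq_three {α : Type*} (r : Setoid α)
    (h3 : Nat.card (Quotient r) = 3) (a b c : α)
    (hab : ¬ r a b) (hac : ¬ r a c) (hbc : ¬ r b c) (g : α) : r g a ∨ r g b ∨ r g c := by
  classical
  haveI : Finite (Quotient r) := Nat.finite_of_card_ne_zero (by rw [h3]; norm_num)
  haveI : Fintype (Quotient r) := Fintype.ofFinite _
  have hcard : ({⟦a⟧, ⟦b⟧, ⟦c⟧} : Finset (Quotient r)).card = 3 := by
    rw [Finset.card_eq_three]
    exact ⟨⟦a⟧, ⟦b⟧, ⟦c⟧, fun h => hab (Quotient.exact h), fun h => hac (Quotient.exact h),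
      fun h => hbc (Quotient.exact h), rfl⟩
  have huniv := Finset.eq_univ_of_card _ (by rw [hcard, ← Nat.card_eq_fintype_card, h3])
  have hg : (⟦g⟧ : Quotient r) ∈ ({⟦a⟧, ⟦b⟧, ⟦c⟧} : Finset (Quotient r)) := by
    rw [huniv]; exact Finset.mem_univ _
  simp only [Finset.mem_insert, Finset.mem_singleton] at hg
  rcases hg with h | h | h
  · exact Or.inl (Quotient.exact h)
  · exact Or.inr (Or.inl (Quotient.exact h))
  · exact Or.inr (Or.inr (Quotient.exact h))

end Count

section Orbit

variable {G : Type*} [Group G]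

theorem orbitRel_iff (a b : G) :
    (MulAction.orbitRel (MulAut G) G) a b ↔ ∃ φ : MulAut G, φ b = a := by
  rw [MulAction.orbitRel_apply, MulAction.mem_orbit_iff]
  rfl

theorem orderOf_eq_of_orbitRel (a b : G) (h : (MulAction.orbitRel (MulAut G) G) a b) :
    orderOf a = orderOf b := by
  obtain ⟨φ, rfl⟩ := (orbitRel_iff a b).mp h
  exact MulEquiv.orderOf_eq φ b

end Orbit

section Backward

variable {G : Type*} [Group G] [Finite G]

theorem backward (p q n : ℕ) [hp : Fact p.Prime] [hq : Fact q.Prime] (hpq : p ≠ q) (hn : 1 ≤ n)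
    (hcard : Nat.card G = p ^ n * q)
    (hS : ∀ P : Sylow p G, (P : Subgroup G).Normal ∧
      (IsMulCommutative (P : Subgroup G) ∧ ∀ a ∈ (P : Subgroup G), a ^ p = 1))
    (hord : orderOf (p : ZMod q) = q - 1)
    (hfpf : ∀ x y : G, orderOf x = q → orderOf y = p → x * y * x⁻¹ ≠ y) :
    Nat.card (MulAction.orbitRel.Quotient (MulAut G) G) = 3 := by
  obtain ⟨P⟩ : Nonempty (Sylow p G) := inferInstance
  obtain ⟨hnorm, hcomm, hexp⟩ := hS P
  haveI := hnorm
  haveI := hcomm
  have hcardP : Nat.card (P : Subgroup G) = p ^ n := by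
    rw [P.card_eq_multiplicity, hcard, Nat.factorization_mul (pow_ne_zero _ hp.out.ne_zero)
      hq.out.ne_zero, Nat.Prime.factorization_pow hp.out, Nat.Prime.factorization hq.out]
    simp [Finsupp.single_apply, hpq.symm]
  have hqdvd : q ∣ Nat.card G := by rw [hcard]; exact dvd_mul_left _ _
  obtain ⟨x, hx⟩ := exists_prime_orderOf_dvd_card' q hqdvd
  have hcop : Nat.Coprime (p ^ n) q :=
    Nat.Coprime.pow_left n ((Nat.coprime_primes hp.out hq.out).mpr hpq)
  have hc : (P : Subgroup G).IsComplement' (Subgroup.zpowers x) := by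
    apply Subgroup.isComplement'_of_coprime
    · rw [hcardP, Nat.card_zpowers, hx, hcard]
    · rw [hcardP, Nat.card_zpowers, hx]; exact hcop
  have hfpf' : ∀ a ∈ (P : Subgroup G), x * a * x⁻¹ = a → a = 1 := by
    intro a ha h
    by_contra ha1
    exact hfpf x a hx (orderOf_eq_of_mem (P : Subgroup G) hexp a ha ha1) h
  obtain ⟨hA, hB⟩ := orbits_of_primitive_root (P : Subgroup G) hpq x hx hc hexp hfpf' hord
  -- a nontrivial element of P
  have hpdvd : p ∣ Nat.card G := by
    rw [hcard]; exact Dvd.dvd.mul_right (dvd_pow_self p (by omega)) q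
  obtain ⟨y, hy⟩ := exists_prime_orderOf_dvd_card' p hpdvd
  have hyP : y ∈ (P : Subgroup G) := by
    have h1 : IsPGroup p (Subgroup.zpowers y) := by
      apply IsPGroup.of_card (n := 1)
      rw [Nat.card_zpowers, hy, pow_one]
    obtain ⟨Q, hQ⟩ := h1.exists_le_sylow
    have hQP : Q = P := by
      haveI := Sylow.unique_of_normal P hnorm
      exact Subsingleton.elim Q P
    rw [← hQP]; exact hQ (Subgroup.mem_zpowers y)
  have hy1 : y ≠ 1 := by
    intro h; rw [h, orderOf_one] at hy; exact hp.out.one_lt.ne hy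
  have hx1 : x ≠ 1 := by
    intro h; rw [h, orderOf_one] at hx; exact hq.out.one_lt.ne hx
  have hxP : x ∉ (P : Subgroup G) := by
    intro h
    have h1 : orderOf x ∣ p := orderOf_dvd_of_pow_eq_one (hexp x h)
    rw [hx] at h1
    exact hpq ((Nat.prime_dvd_prime_iff_eq hq.out hp.out).mp h1).symm
  apply card_quotient_eq_three (MulAction.orbitRel (MulAut G) G) 1 y x
  · intro h
    have := orderOf_eq_of_orbitRel _ _ h
    rw [orderOf_one, hy] at this; exact hp.out.one_lt.ne this
  · intro h
    have := orderOf_eq_of_orbitRel _ _ h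
    rw [orderOf_one, hx] at this; exact hq.out.one_lt.ne this
  · intro h
    have := orderOf_eq_of_orbitRel _ _ h
    rw [hx, hy] at this; exact hpq this
  · intro g
    by_cases hg1 : g = 1
    · left; rw [hg1]
    · by_cases hgP : g ∈ (P : Subgroup G)
      · right; left
        rw [orbitRel_iff]
        exact hA y g hyP hgP hy1 hg1
      · right; right
        rw [orbitRel_iff]
        exact hB g hgP

end Backward

end Cfsg.Agent.Lib.Helper21.S4081
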