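/-
helper21: S4081, the forward direction (three automorphism orbits imply the Frobenius structure).
-/
import Mathlib
import Cfsg.Agent.Lib.Lead.CharBurnside
import Cfsg.Agent.Lib.Helper21.S4081D

set_option autoImplicit false
set_option linter.style.haveILetI false
set_option linter.unusedSimpArgs false
set_option linter.unusedSectionVars false

namespace Cfsg.Agent.Lib.Helper21.S4081

open scoped IsMulCommutative
open scoped commutatorElement

section Forward

variable {G : Type*} [Group G] [Finite G]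
variable {p q : ℕ} [hp : Fact p.Prime] [hq : Fact q.Prime]

/-- if all element orders are `1`, `p` or `q`, the group order is `p^a q^b` -/
theorem card_eq_of_orders (hpq : p ≠ q)
    (hO : ∀ g : G, orderOf g = 1 ∨ orderOf g = p ∨ orderOf g = q) :
    Nat.card G = p ^ (Nat.card G).factorization p * q ^ (Nat.card G).factorization q := by
  have hne : Nat.card G ≠ 0 := Nat.card_pos.ne'
  apply Nat.eq_of_factorization_eq hne
    (mul_ne_zero (pow_ne_zero _ hp.out.ne_zero) (pow_ne_zero _ hq.out.ne_zero))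
  intro r
  rw [Nat.factorization_mul (pow_ne_zero _ hp.out.ne_zero) (pow_ne_zero _ hq.out.ne_zero),
    Nat.Prime.factorization_pow hp.out, Nat.Prime.factorization_pow hq.out]
  simp only [Finsupp.coe_add, Pi.add_apply, Finsupp.single_apply]
  by_cases hrp : p = r
  · subst hrp; simp [hpq.symm]
  · by_cases hrq : q = r
    · subst hrq; simp [hpq]
    · simp only [hrp, hrq, if_false, add_zero]
      by_cases hr : r.Prime
      · apply Nat.factorization_eq_zero_of_not_dvd
        intro hd
        haveI : Fact r.Prime := ⟨hr⟩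
        obtain ⟨g, hg⟩ := exists_prime_orderOf_dvd_card' r hd
        rcases hO g with h | h | h
        · rw [hg] at h; exact hr.one_lt.ne' h
        · rw [hg] at h; exact hrp h.symm
        · rw [hg] at h; exact hrq h.symm
      · exact Nat.factorization_eq_zero_of_not_prime _ hr

/-- no commuting elements of orders `q` and `p` -/
theorem fpf_of_orders (hpq : p ≠ q)
    (hO : ∀ g : G, orderOf g = 1 ∨ orderOf g = p ∨ orderOf g = q)
    (x y : G) (hx : orderOf x = q) (hy : orderOf y = p) : x * y * x⁻¹ ≠ y := by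
  intro h
  have hcomm : Commute x y := by
    show x * y = y * x
    calc x * y = x * y * x⁻¹ * x := by group
      _ = y * x := by rw [h]
  have hcop : (orderOf x).Coprime (orderOf y) := by
    rw [hx, hy]; exact (Nat.coprime_primes hq.out hp.out).mpr hpq.symm
  have h1 := hcomm.orderOf_mul_eq_mul_orderOf_of_coprime hcop
  rw [hx, hy] at h1
  have hp2 := hp.out.two_le
  have hq2 := hq.out.two_le
  rcases hO (x * y) with h2 | h2 | h2
  · rw [h1] at h2; nlinarith
  · rw [h1] at h2; nlinarith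
  · rw [h1] at h2; nlinarith

/-- the structure of the characteristic subgroup containing an element of order `p` -/
theorem key_struct (hpq : p ≠ q)
    (hO : ∀ g : G, orderOf g = 1 ∨ orderOf g = p ∨ orderOf g = q)
    (hTr : ∀ g h : G, orderOf g = orderOf h → ∃ φ : MulAut G, φ g = h)
    (N : Subgroup G) [hNc : N.Characteristic] (hNtop : N ≠ ⊤) (y : G) (hyN : y ∈ N)
    (hy : orderOf y = p) :
    (∀ g, g ∈ N ↔ g ^ p = 1) ∧ (∀ P : Sylow p G, (P : Subgroup G) = N) ∧
      (∀ a ∈ N, ∀ b ∈ N, a * b = b * a) := by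
  have hchar : ∀ (φ : MulAut G) (g : G), φ g ∈ N ↔ g ∈ N := by
    intro φ g
    have := SetLike.ext_iff.mp (hNc.fixed φ) g
    rw [Subgroup.mem_comap] at this
    exact this
  obtain ⟨z, hz⟩ : ∃ z, z ∉ N := by
    by_contra h
    push Not at h
    exact hNtop ((Subgroup.eq_top_iff' N).mpr h)
  have hz1 : z ≠ 1 := fun h => hz (h ▸ N.one_mem)
  have hzq : orderOf z = q := by
    rcases hO z with h | h | h
    · exact absurd (orderOf_eq_one_iff.mp h) hz1
    · obtain ⟨φ, hφ⟩ := hTr y z (hy.trans h.symm)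
      exact absurd (hφ ▸ (hchar φ y).mpr hyN) hz
    · exact h
  have hN : ∀ g, g ∈ N ↔ g ^ p = 1 := by
    intro g
    constructor
    · intro hg
      rcases hO g with h | h | h
      · rw [orderOf_eq_one_iff.mp h, one_pow]
      · rw [← h, pow_orderOf_eq_one]
      · obtain ⟨φ, hφ⟩ := hTr g z (h.trans hzq.symm)
        exact absurd (hφ ▸ (hchar φ g).mpr hg) hz
    · intro hg
      have hd : orderOf g ∣ p := orderOf_dvd_of_pow_eq_one hg
      rcases (Nat.dvd_prime hp.out).mp hd with h | h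
      · rw [orderOf_eq_one_iff.mp h]; exact N.one_mem
      · obtain ⟨φ, hφ⟩ := hTr y g (hy.trans h.symm)
        exact hφ ▸ (hchar φ y).mpr hyN
  have hNp : IsPGroup p N := by
    intro g
    refine ⟨1, ?_⟩
    apply Subtype.ext
    rw [pow_one]
    exact (hN g).mp g.2
  have hSyl : ∀ P : Sylow p G, (P : Subgroup G) = N := by
    intro P
    have hle : (P : Subgroup G) ≤ N := by
      intro g hg
      rw [hN]
      obtain ⟨k, hk⟩ := P.isPGroup' ⟨g, hg⟩
      have hk' : g ^ p ^ k = 1 := congrArg Subtype.val hk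
      have hd : orderOf g ∣ p ^ k := orderOf_dvd_of_pow_eq_one hk'
      rcases hO g with h | h | h
      · rw [orderOf_eq_one_iff.mp h, one_pow]
      · rw [← h, pow_orderOf_eq_one]
      · rw [h] at hd
        have := (Nat.prime_dvd_prime_iff_eq hq.out hp.out).mp (hq.out.dvd_of_dvd_pow hd)
        exact absurd this.symm hpq
    exact (P.is_maximal' hNp hle).symm
  refine ⟨hN, hSyl, ?_⟩
  -- commutativity
  haveI : Nontrivial N := by
    refine ⟨⟨⟨y, hyN⟩, 1, fun h => ?_⟩⟩
    have : y = 1 := congrArg Subtype.val h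
    rw [this, orderOf_one] at hy
    exact hp.out.one_lt.ne hy
  haveI := IsPGroup.center_nontrivial hNp
  obtain ⟨c, hc⟩ := exists_ne (1 : Subgroup.center N)
  have hcG1 : ((c : N) : G) ≠ 1 := by
    intro h
    apply hc
    apply Subtype.ext
    apply Subtype.ext
    exact h
  have hcp : orderOf ((c : N) : G) = p := orderOf_eq_prime ((hN _).mp (c : N).2) hcG1
  intro a ha b hb
  by_cases ha1 : a = 1
  · rw [ha1, one_mul, mul_one]
  · have hap : orderOf a = p := orderOf_eq_prime ((hN a).mp ha) ha1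
    obtain ⟨φ, hφ⟩ := hTr ((c : N) : G) a (hcp.trans hap.symm)
    have hb' : φ.symm b ∈ N := by
      rw [← hchar φ, MulEquiv.apply_symm_apply]; exact hb
    have h1 := Subgroup.mem_center_iff.mp c.2 ⟨φ.symm b, hb'⟩
    have h2 : φ.symm b * ((c : N) : G) = ((c : N) : G) * φ.symm b := congrArg Subtype.val h1
    have h3 := congrArg φ h2
    rw [map_mul, map_mul, MulEquiv.apply_symm_apply, hφ] at h3
    exact h3.symm

theorem orderOf_eq_of_mem_sylow (hpq : p ≠ q)
    (hO : ∀ g : G, orderOf g = 1 ∨ orderOf g = p ∨ orderOf g = q)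
    (Q : Sylow q G) (g : G) (hg : g ∈ (Q : Subgroup G)) (hg1 : g ≠ 1) : orderOf g = q := by
  obtain ⟨k, hk⟩ := Q.isPGroup' ⟨g, hg⟩
  have hk' : g ^ q ^ k = 1 := congrArg Subtype.val hk
  have hd : orderOf g ∣ q ^ k := orderOf_dvd_of_pow_eq_one hk'
  rcases hO g with h | h | h
  · exact absurd (orderOf_eq_one_iff.mp h) hg1
  · rw [h] at hd
    have := (Nat.prime_dvd_prime_iff_eq hp.out hq.out).mp (hp.out.dvd_of_dvd_pow hd)
    exact absurd this hpq
  · exact h

theorem geom_cj_eq_zero (hpq : p ≠ q)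
    (hO : ∀ g : G, orderOf g = 1 ∨ orderOf g = p ∨ orderOf g = q)
    (N : Subgroup G) [N.Normal] [IsMulCommutative N] (hexp : ∀ a ∈ N, a ^ p = 1)
    (z : G) (hzq : z ^ q = 1) (hz1 : z ≠ 1) :
    ∑ i ∈ Finset.range q, (cjEnd N z) ^ i = 0 := by
  have hoz : orderOf z = q := orderOf_eq_prime hzq hz1
  apply geom_sum_eq_zero_of_fpf (cjEnd N z) q (by rw [cjEnd_pow, hzq, map_one])
  apply cj_fpf N z
  intro a ha h
  by_contra ha1
  exact fpf_of_orders hpq hO z a hoz (orderOf_eq_of_mem N hexp a ha ha1) h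

theorem factorization_q_eq_one (hpq : p ≠ q) (hqd : q ∣ Nat.card G)
    (hO : ∀ g : G, orderOf g = 1 ∨ orderOf g = p ∨ orderOf g = q)
    (N : Subgroup G) [N.Normal] [IsMulCommutative N] (hexp : ∀ a ∈ N, a ^ p = 1)
    (hNnt : N ≠ ⊥) : (Nat.card G).factorization q = 1 := by
  have hne : Nat.card G ≠ 0 := Nat.card_pos.ne'
  have hb1 : 1 ≤ (Nat.card G).factorization q :=
    (hq.out.dvd_iff_one_le_factorization hne).mp hqd
  by_contra hb
  have hb2 : 2 ≤ (Nat.card G).factorization q := by omega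
  obtain ⟨Q⟩ : Nonempty (Sylow q G) := inferInstance
  have hcardQ : Nat.card (Q : Subgroup G) = q ^ (Nat.card G).factorization q :=
    Q.card_eq_multiplicity
  have hq2 := hq.out.two_le
  have hcardQ2 : q < Nat.card (Q : Subgroup G) := by
    rw [hcardQ]
    calc q < q ^ 2 := by nlinarith
      _ ≤ q ^ (Nat.card G).factorization q := Nat.pow_le_pow_right (by omega) hb2
  haveI : Nontrivial (Q : Subgroup G) := by
    rw [← Finite.one_lt_card_iff_nontrivial]; omega
  haveI := IsPGroup.center_nontrivial Q.isPGroup'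
  obtain ⟨a, ha⟩ := exists_ne (1 : Subgroup.center (Q : Subgroup G))
  have haG1 : (((a : (Q : Subgroup G)) : G)) ≠ 1 := by
    intro h
    apply ha
    apply Subtype.ext
    apply Subtype.ext
    exact h
  have haq := orderOf_eq_of_mem_sylow hpq hO Q _ (a : (Q : Subgroup G)).2 haG1
  -- c ∈ Q ∖ zpowers a
  obtain ⟨c, hcQ, hca⟩ : ∃ c, c ∈ (Q : Subgroup G) ∧
      c ∉ Subgroup.zpowers ((a : (Q : Subgroup G)) : G) := by
    by_contra h
    push Not at h
    have hle : (Q : Subgroup G) ≤ Subgroup.zpowers ((a : (Q : Subgroup G)) : G) := h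
    have := Subgroup.card_le_of_le hle
    rw [Nat.card_zpowers, haq] at this
    omega
  have hc1 : c ≠ 1 := fun h => hca (h ▸ Subgroup.one_mem _)
  have hcq := orderOf_eq_of_mem_sylow hpq hO Q c hcQ hc1
  have hcomm : Commute (((a : (Q : Subgroup G)) : G)) c := by
    have h1 := Subgroup.mem_center_iff.mp a.2 ⟨c, hcQ⟩
    exact (congrArg Subtype.val h1).symm
  set a' : G := ((a : (Q : Subgroup G)) : G) with ha'
  have haq' : a' ^ q = 1 := by rw [← haq]; exact pow_orderOf_eq_one a'
  have hcq' : c ^ q = 1 := by rw [← hcq]; exact pow_orderOf_eq_one c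
  -- the ring computation
  have hzero := natCast_eq_zero_of_geom (cjEnd N a') (cjEnd N c)
    (by
      show cjEnd N a' * cjEnd N c = cjEnd N c * cjEnd N a'
      rw [← map_mul, ← map_mul, hcomm.eq]) q hq.out.pos
    (by
      intro k hk
      rw [← map_pow, ← map_mul]
      apply geom_cj_eq_zero hpq hO N hexp
      · rw [(hcomm.pow_right k).mul_pow, haq', one_mul, ← pow_mul, mul_comm, pow_mul, hcq',
          one_pow]
      · intro h
        by_cases hk0 : k = 0
        · rw [hk0, pow_zero, mul_one] at h; exact haG1 h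
        · apply hca
          have hcop : Nat.Coprime k (orderOf c) := by
            rw [hcq]
            exact ((Nat.Prime.coprime_iff_not_dvd hq.out).mpr
              (Nat.not_dvd_of_pos_of_lt (Nat.pos_of_ne_zero hk0) hk)).symm
          obtain ⟨m, hm⟩ := exists_pow_eq_self_of_coprime hcop
          have hck : c ^ k = a'⁻¹ := eq_inv_of_mul_eq_one_right h
          rw [← hm, hck]
          exact Subgroup.pow_mem _ (Subgroup.inv_mem _ (Subgroup.mem_zpowers a')) m)
    (by
      intro i hi0 hiq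
      rw [← map_pow]
      apply geom_cj_eq_zero hpq hO N hexp
      · rw [← pow_mul, mul_comm, pow_mul, hcq', one_pow]
      · intro h
        have hd : orderOf c ∣ i := orderOf_dvd_of_pow_eq_one h
        rw [hcq] at hd
        exact Nat.not_dvd_of_pos_of_lt hi0 hiq hd)
  -- evaluate at a nontrivial element
  obtain ⟨⟨y, hyN⟩, hy1⟩ := Subgroup.ne_bot_iff_exists_ne_one.mp hNnt
  have hy1' : y ≠ 1 := fun h => hy1 (Subtype.ext h)
  have h1 := congrArg (fun f : AddMonoid.End (Additive N) => f (Additive.ofMul ⟨y, hyN⟩)) hzero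
  simp only [AddMonoid.End.natCast_apply, AddMonoidHom.zero_apply] at h1
  have h2 : y ^ q = 1 := by
    have := congrArg (fun v => ((Additive.toMul v : N) : G)) h1
    exact this
  have h3 : y ^ p = 1 := hexp y hyN
  have h4 : orderOf y ∣ Nat.gcd p q :=
    Nat.dvd_gcd (orderOf_dvd_of_pow_eq_one h3) (orderOf_dvd_of_pow_eq_one h2)
  rw [(Nat.coprime_primes hp.out hq.out).mpr hpq, Nat.dvd_one, orderOf_eq_one_iff] at h4
  exact hy1' h4

theorem key (hpq : p ≠ q) (hqd : q ∣ Nat.card G)
    (hO : ∀ g : G, orderOf g = 1 ∨ orderOf g = p ∨ orderOf g = q)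
    (hTr : ∀ g h : G, orderOf g = orderOf h → ∃ φ : MulAut G, φ g = h)
    (N : Subgroup G) [hNc : N.Characteristic] (hNtop : N ≠ ⊤) (y : G) (hyN : y ∈ N)
    (hy : orderOf y = p) :
    ∃ n : ℕ, 1 ≤ n ∧ Nat.card G = p ^ n * q ∧
      (∀ P : Sylow p G, (P : Subgroup G).Normal ∧
        (IsMulCommutative (P : Subgroup G) ∧ ∀ a ∈ (P : Subgroup G), a ^ p = 1)) ∧
      orderOf (p : ZMod q) = q - 1 ∧
      ∀ x y : G, orderOf x = q → orderOf y = p → x * y * x⁻¹ ≠ y := by
  obtain ⟨hN, hSyl, hcomm⟩ := key_struct hpq hO hTr N hNtop y hyN hy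
  haveI : N.Normal := inferInstance
  haveI : IsMulCommutative N := IsMulCommutative.of_setLike_mul_comm hcomm
  have hexp : ∀ a ∈ N, a ^ p = 1 := fun a ha => (hN a).mp ha
  have hne : Nat.card G ≠ 0 := Nat.card_pos.ne'
  have hy1 : y ≠ 1 := by
    intro h; rw [h, orderOf_one] at hy; exact hp.out.one_lt.ne hy
  have hNnt : N ≠ ⊥ := by
    intro h; rw [h, Subgroup.mem_bot] at hyN; exact hy1 hyN
  have hb := factorization_q_eq_one hpq hqd hO N hexp hNnt
  have hcard := card_eq_of_orders hpq hO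
  rw [hb, pow_one] at hcard
  have hn : 1 ≤ (Nat.card G).factorization p :=
    (hp.out.dvd_iff_one_le_factorization hne).mp (hy ▸ orderOf_dvd_natCard y)
  refine ⟨(Nat.card G).factorization p, hn, hcard, ?_, ?_, fpf_of_orders hpq hO⟩
  · intro P
    have hPN := hSyl P
    subst hPN
    exact ⟨inferInstance, inferInstance, hexp⟩
  · obtain ⟨x, hx⟩ := exists_prime_orderOf_dvd_card' q hqd
    have hcardN : Nat.card N = p ^ (Nat.card G).factorization p := by
      obtain ⟨P⟩ : Nonempty (Sylow p G) := inferInstance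
      rw [← hSyl P]; exact P.card_eq_multiplicity
    have hcop : Nat.Coprime (p ^ (Nat.card G).factorization p) q :=
      Nat.Coprime.pow_left _ ((Nat.coprime_primes hp.out hq.out).mpr hpq)
    have hc : N.IsComplement' (Subgroup.zpowers x) := by
      apply Subgroup.isComplement'_of_coprime
      · rw [hcardN, Nat.card_zpowers, hx]; exact hcard.symm
      · rw [hcardN, Nat.card_zpowers, hx]; exact hcop
    have hfpf' : ∀ a ∈ N, x * a * x⁻¹ = a → a = 1 := by
      intro a ha h
      by_contra ha1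
      exact fpf_of_orders hpq hO x a hx (orderOf_eq_of_mem N hexp a ha ha1) h
    exact primitive_root_of_transitive N hpq x hx hc hN hNnt hfpf' hTr

omit hp hq in
theorem forward (hnpp : ¬ IsPrimePow (Nat.card G)) (hnt : Nat.card G ≠ 1)
    (h3 : Nat.card (MulAction.orbitRel.Quotient (MulAut G) G) = 3) :
    ∃ (p q n : ℕ) (_ : Fact p.Prime) (_ : Fact q.Prime), p ≠ q ∧ 1 ≤ n ∧
      Nat.card G = p ^ n * q ∧
      (∀ P : Sylow p G, (P : Subgroup G).Normal ∧
        (IsMulCommutative (P : Subgroup G) ∧ ∀ a ∈ (P : Subgroup G), a ^ p = 1)) ∧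
      orderOf (p : ZMod q) = q - 1 ∧
      ∀ x y : G, orderOf x = q → orderOf y = p → x * y * x⁻¹ ≠ y := by
  have hne : Nat.card G ≠ 0 := Nat.card_pos.ne'
  obtain ⟨r₁, hr₁, hd₁⟩ := Nat.exists_prime_and_dvd hnt
  have hex : ∃ r₂, r₂.Prime ∧ r₂ ∣ Nat.card G ∧ r₂ ≠ r₁ := by
    by_contra h
    push Not at h
    apply hnpp
    rw [isPrimePow_iff_unique_prime_dvd]
    exact ⟨r₁, ⟨hr₁, hd₁⟩, fun r hr => h r hr.1 hr.2⟩
  obtain ⟨r₂, hr₂, hd₂, hne12⟩ := hex
  haveI : Fact r₁.Prime := ⟨hr₁⟩
  haveI : Fact r₂.Prime := ⟨hr₂⟩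
  obtain ⟨a₁, ha₁⟩ := exists_prime_orderOf_dvd_card' r₁ hd₁
  obtain ⟨a₂, ha₂⟩ := exists_prime_orderOf_dvd_card' r₂ hd₂
  have hall := forall_rel_of_card_eq_three (MulAction.orbitRel (MulAut G) G) h3 1 a₁ a₂
    (by
      intro h
      have := orderOf_eq_of_orbitRel _ _ h
      rw [orderOf_one, ha₁] at this; exact hr₁.one_lt.ne this)
    (by
      intro h
      have := orderOf_eq_of_orbitRel _ _ h
      rw [orderOf_one, ha₂] at this; exact hr₂.one_lt.ne this)
    (by
      intro h
      have := orderOf_eq_of_orbitRel _ _ h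
      rw [ha₁, ha₂] at this; exact hne12 this.symm)
  have hO : ∀ g : G, orderOf g = 1 ∨ orderOf g = r₁ ∨ orderOf g = r₂ := by
    intro g
    rcases hall g with h | h | h
    · left; rw [orderOf_eq_of_orbitRel _ _ h, orderOf_one]
    · right; left; rw [orderOf_eq_of_orbitRel _ _ h, ha₁]
    · right; right; rw [orderOf_eq_of_orbitRel _ _ h, ha₂]
  have h1r1 : (1 : ℕ) ≠ r₁ := hr₁.one_lt.ne
  have h1r2 : (1 : ℕ) ≠ r₂ := hr₂.one_lt.ne
  have hTr : ∀ g h : G, orderOf g = orderOf h → ∃ φ : MulAut G, φ g = h := by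
    intro g h hgh
    rw [← orbitRel_iff]
    rcases hall g with hg | hg | hg <;> rcases hall h with hh | hh | hh
    · exact (MulAction.orbitRel (MulAut G) G).trans' hh ((MulAction.orbitRel (MulAut G) G).symm' hg)
    · have e1 := orderOf_eq_of_orbitRel _ _ hg
      have e2 := orderOf_eq_of_orbitRel _ _ hh
      rw [orderOf_one] at e1; rw [ha₁] at e2
      omega
    · have e1 := orderOf_eq_of_orbitRel _ _ hg
      have e2 := orderOf_eq_of_orbitRel _ _ hh
      rw [orderOf_one] at e1; rw [ha₂] at e2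
      omega
    · have e1 := orderOf_eq_of_orbitRel _ _ hg
      have e2 := orderOf_eq_of_orbitRel _ _ hh
      rw [ha₁] at e1; rw [orderOf_one] at e2
      omega
    · exact (MulAction.orbitRel (MulAut G) G).trans' hh ((MulAction.orbitRel (MulAut G) G).symm' hg)
    · have e1 := orderOf_eq_of_orbitRel _ _ hg
      have e2 := orderOf_eq_of_orbitRel _ _ hh
      rw [ha₁] at e1; rw [ha₂] at e2
      omega
    · have e1 := orderOf_eq_of_orbitRel _ _ hg
      have e2 := orderOf_eq_of_orbitRel _ _ hh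
      rw [ha₂] at e1; rw [orderOf_one] at e2
      omega
    · have e1 := orderOf_eq_of_orbitRel _ _ hg
      have e2 := orderOf_eq_of_orbitRel _ _ hh
      rw [ha₂] at e1; rw [ha₁] at e2
      omega
    · exact (MulAction.orbitRel (MulAut G) G).trans' hh ((MulAction.orbitRel (MulAut G) G).symm' hg)
  have hcard := card_eq_of_orders (p := r₁) (q := r₂) hne12.symm hO
  haveI : Group.IsSolvable G :=
    Cfsg.Agent.CharLib.isSolvable_of_card_pq r₁ r₂ _ _ hr₁ hr₂ hcard
  haveI : Nontrivial G := (Finite.one_lt_card_iff_nontrivial).mp (by omega)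
  have hlt := Group.IsSolvable.commutator_lt_top_of_nontrivial G
  have hcne : commutator G ≠ ⊥ := by
    intro hbot
    have hcomm : Commute a₁ a₂ := by
      rw [← commutatorElement_eq_one_iff_commute]
      have : (⁅a₁, a₂⁆ : G) ∈ commutator G :=
        Subgroup.commutator_mem_commutator (Subgroup.mem_top _) (Subgroup.mem_top _)
      rw [hbot] at this; exact this
    have hcop : (orderOf a₁).Coprime (orderOf a₂) := by
      rw [ha₁, ha₂]; exact (Nat.coprime_primes hr₁ hr₂).mpr hne12.symm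
    have h1 := hcomm.orderOf_mul_eq_mul_orderOf_of_coprime hcop
    rw [ha₁, ha₂] at h1
    have hp2 := hr₁.two_le
    have hq2 := hr₂.two_le
    rcases hO (a₁ * a₂) with h2 | h2 | h2
    · rw [h1] at h2; nlinarith
    · rw [h1] at h2; nlinarith
    · rw [h1] at h2; nlinarith
  obtain ⟨⟨y, hyN⟩, hy1⟩ := Subgroup.ne_bot_iff_exists_ne_one.mp hcne
  have hy1' : y ≠ 1 := fun h => hy1 (Subtype.ext h)
  rcases hO y with h | h | h
  · exact absurd (orderOf_eq_one_iff.mp h) hy1'
  · obtain ⟨n, hn, hc, hS, hord, hf⟩ := key (p := r₁) (q := r₂) hne12.symm hd₂ hO hTr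
      (commutator G) hlt.ne y hyN h
    exact ⟨r₁, r₂, n, ⟨hr₁⟩, ⟨hr₂⟩, hne12.symm, hn, hc, hS, hord, hf⟩
  · obtain ⟨n, hn, hc, hS, hord, hf⟩ := key (p := r₂) (q := r₁) hne12 hd₁
      (fun g => by rcases hO g with h | h | h <;> tauto) hTr
      (commutator G) hlt.ne y hyN h
    exact ⟨r₂, r₁, n, ⟨hr₂⟩, ⟨hr₁⟩, hne12, hn, hc, hS, hord, hf⟩

end Forward

end Cfsg.Agent.Lib.Helper21.S4081
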