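import Mathlib
import Cfsg.Agent.Lib.Helper16.SLMinDefs

/-!
# S2332, stage 1: the abstract three-row argument (rank-2 exclusion for every `q`)

Three commuting additive "row maps" `r1 r2 r3 : (J → F) → H` and four families of row operations
`e21 e12 e13 e32 : F → H` (`e_ik t = 1 + t E_ik`).  This file has the invariance of the
joint multiplicities under one row operation (`finrank_rowop`).
-/

set_option autoImplicit false

namespace Cfsg.Agent.Lib.Helper21.SLMin

open Matrix Module Cfsg.Agent.Lib.Helper16.SLMin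

section abs

variable {F : Type*} [Field F] [Fintype F] {H : Type*} [Group H] {M : Type*} [AddCommGroup M]
  [Module ℂ M] (ρ : Representation ℂ H M)

/-- `ρ g` as a linear equivalence -/
noncomputable def rhoEquiv (g : H) : M ≃ₗ[ℂ] M :=
  LinearEquiv.ofLinearMap (ρ g) (ρ g⁻¹)
    (by rw [← Module.End.mul_eq_comp, ← map_mul, mul_inv_cancel, map_one]; rfl)
    (by rw [← Module.End.mul_eq_comp, ← map_mul, inv_mul_cancel, map_one]; rfl)

theorem rhoEquiv_apply (g : H) (m : M) : rhoEquiv ρ g m = ρ g m := rfl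

theorem rho_inv_rho (g : H) (m : M) : ρ g⁻¹ (ρ g m) = m := by
  rw [← Module.End.mul_apply, ← map_mul, inv_mul_cancel, map_one]; rfl

theorem rho_rho_inv (g : H) (m : M) : ρ g (ρ g⁻¹ m) = m := by
  rw [← Module.End.mul_apply, ← map_mul, mul_inv_cancel, map_one]; rfl

/-- if `ρ g` maps `X` into `X'` and `ρ g⁻¹` maps `X'` into `X`, the two have the same dimension -/
theorem finrank_eq_of_maps (g : H) (X X' : Submodule ℂ M) (h1 : ∀ m ∈ X, ρ g m ∈ X')
    (h2 : ∀ m ∈ X', ρ g⁻¹ m ∈ X) : finrank ℂ ↥X = finrank ℂ ↥X' := by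
  have hmap : X.map (rhoEquiv ρ g : M →ₗ[ℂ] M) = X' := by
    apply le_antisymm
    · rintro _ ⟨m, hm, rfl⟩
      exact h1 m hm
    · intro m hm
      exact ⟨ρ g⁻¹ m, h2 m hm, rho_rho_inv ρ g m⟩
  rw [← hmap]
  exact (LinearEquiv.finrank_map_eq (rhoEquiv ρ g) X).symm

variable {I : Type*} [Fintype I]

/-- moving `g` through a weight vector of a map that commutes with `g` -/
theorem rho_mem_wt_of_comm (a : (I → F) → H) (g : H) (hga : ∀ r, g * a r = a r * g)
    {ca : I → F} {m : M} (hm : m ∈ wt ρ a ca) : ρ g m ∈ wt ρ a ca := by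
  intro r
  have h1 : ρ (a r) (ρ g m) = ρ g (ρ (a r) m) := by
    rw [← Module.End.mul_apply, ← map_mul, ← hga r, map_mul, Module.End.mul_apply]
  rw [h1, hm r, map_smul]

/-- the effect of a row operation on the weight of the row it changes -/
theorem rho_mem_wt_of_rowop (a b : (I → F) → H) (_ha : ∀ r s, a (r + s) = a r * a s)
    (g : H) (t : F)
    (hgb : ∀ r, b r * g = g * (b r * a (-(t • r))))
    {ca cb : I → F} {m : M} (hma : m ∈ wt ρ a ca) (hmb : m ∈ wt ρ b cb) :
    ρ g m ∈ wt ρ b (cb - t • ca) := by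
  intro r
  have h1 : ρ (b r) (ρ g m) = ρ g (ρ (b r) (ρ (a (-(t • r))) m)) := by
    rw [← Module.End.mul_apply, ← map_mul, hgb r, map_mul, map_mul, Module.End.mul_apply,
      Module.End.mul_apply]
  rw [h1, hma, map_smul, hmb, smul_smul, map_smul]
  congr 1
  rw [mul_comm, ← AddChar.map_add_eq_mul]
  congr 1
  simp only [sub_dotProduct, smul_dotProduct, dotProduct_neg, dotProduct_smul, smul_eq_mul]
  ring

end abs

section three

variable {F : Type*} [Field F] [Fintype F] [DecidableEq F] {H : Type*} [Group H] {M : Type*}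
  [AddCommGroup M] [Module ℂ M] [FiniteDimensional ℂ M] (ρ : Representation ℂ H M)
  {J : Type*} [Fintype J] [DecidableEq J]

omit [Fintype F] [DecidableEq F] [Fintype J] [DecidableEq J] in
theorem map_zero_of_add (a : (J → F) → H) (ha : ∀ r s, a (r + s) = a r * a s) : a 0 = 1 := by
  have h := ha 0 0
  rw [add_zero] at h
  exact (mul_eq_left.mp h.symm)

omit [Fintype F] [DecidableEq F] [Fintype J] [DecidableEq J] in
theorem map_neg_of_add (a : (J → F) → H) (ha : ∀ r s, a (r + s) = a r * a s) (r : J → F) :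
    a (-r) = (a r)⁻¹ := by
  have h := ha (-r) r
  rw [neg_add_cancel, map_zero_of_add a ha] at h
  exact eq_inv_of_mul_eq_one_left h.symm

omit [FiniteDimensional ℂ M] [DecidableEq F] [DecidableEq J] in
/-- one row operation `g = 1 + t E_ik`: `g` commutes with the rows `a = r_i`, `c = r_l` and
`g⁻¹ * b r * g = b r * a (-(t • r))` for `b = r_k` -/
theorem finrank_rowop (a b c : (J → F) → H) (ha : ∀ r s, a (r + s) = a r * a s) (g : H) (t : F)
    (hga : ∀ r, g * a r = a r * g) (hgc : ∀ r, g * c r = c r * g)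
    (hgb : ∀ r, b r * g = g * (b r * a (-(t • r))))
    (ca cb cc : J → F) :
    finrank ℂ ↥(wt ρ a ca ⊓ wt ρ b cb ⊓ wt ρ c cc) =
      finrank ℂ ↥(wt ρ a ca ⊓ wt ρ b (cb - t • ca) ⊓ wt ρ c cc) := by
  have hga' : ∀ r, g⁻¹ * a r = a r * g⁻¹ := by
    intro r
    rw [inv_mul_eq_iff_eq_mul, ← mul_assoc, hga r, mul_assoc, mul_inv_cancel, mul_one]
  have hgc' : ∀ r, g⁻¹ * c r = c r * g⁻¹ := by
    intro r
    rw [inv_mul_eq_iff_eq_mul, ← mul_assoc, hgc r, mul_assoc, mul_inv_cancel, mul_one]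
  have hgb' : ∀ r, b r * g⁻¹ = g⁻¹ * (b r * a (-((-t) • r))) := by
    intro r
    have h := hgb r
    have h2 : a (-(t • r)) * a (t • r) = 1 := by
      rw [← ha, neg_add_cancel, map_zero_of_add a ha]
    have h3 : b r * g * a (t • r) = g * b r := by
      rw [h, mul_assoc, mul_assoc, h2, mul_one]
    rw [neg_smul, neg_neg, eq_inv_mul_iff_mul_eq, ← mul_assoc, ← h3, mul_assoc (b r), hga,
      ← mul_assoc, mul_assoc, mul_inv_cancel, mul_one]
  apply finrank_eq_of_maps ρ g
  · rintro m ⟨⟨hma, hmb⟩, hmc⟩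
    exact ⟨⟨rho_mem_wt_of_comm ρ a g hga hma, rho_mem_wt_of_rowop ρ a b ha g t hgb hma hmb⟩,
      rho_mem_wt_of_comm ρ c g hgc hmc⟩
  · rintro m ⟨⟨hma, hmb⟩, hmc⟩
    refine ⟨⟨rho_mem_wt_of_comm ρ a g⁻¹ hga' hma, ?_⟩, rho_mem_wt_of_comm ρ c g⁻¹ hgc' hmc⟩
    have := rho_mem_wt_of_rowop ρ a b ha g⁻¹ (-t) hgb' hma hmb
    have h4 : cb - t • ca - -t • ca = cb := by
      rw [neg_smul, sub_neg_eq_add, sub_add_cancel]
    rwa [h4] at this

end three

end Cfsg.Agent.Lib.Helper21.SLMin
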