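import Mathlib
import Cfsg.Agent.Lib.Helper16.SLMinDefs

/-!
# S2332, stage 1: elementary row matrices `E k c = 1 + e_k cᵀ` and their relations

`E k c` (`c k = 0`) has row `k` equal to `e_k + c` and is the identity elsewhere.  All the root maps
`rad`, `emb ∘ rad`, ... and all elementary row operations `1 + t E_ik` are of this form.
-/

set_option autoImplicit false

namespace Cfsg.Agent.Lib.Helper21.SLMin

open Matrix Module Cfsg.Agent.Lib.Helper16.SLMin

section E

variable {F : Type*} [Field F] {n : Type*} [Fintype n] [DecidableEq n]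

/-- the matrix with row `k` equal to `c` and zero elsewhere -/
def Rm (k : n) (c : n → F) : Matrix n n F := vecMulVec (Pi.single k (1 : F)) c

omit [Fintype n] in
theorem Rm_apply (k : n) (c : n → F) (a b : n) : Rm k c a b = if a = k then c b else 0 := by
  unfold Rm
  rw [vecMulVec_apply, Pi.single_apply]
  split_ifs <;> simp

theorem Rm_mul_Rm (k k' : n) (c c' : n → F) : Rm k c * Rm k' c' = c k' • Rm k c' := by
  unfold Rm
  rw [vecMulVec_mul_vecMulVec, dotProduct_single, mul_one, vecMulVec_smul]

omit [Fintype n] in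
theorem Rm_add (k : n) (c c' : n → F) : Rm k (c + c') = Rm k c + Rm k c' := by
  unfold Rm
  rw [vecMulVec_add]

omit [Fintype n] in
theorem Rm_smul (k : n) (s : F) (c : n → F) : Rm k (s • c) = s • Rm k c := by
  unfold Rm
  rw [vecMulVec_smul]

omit [Fintype n] in
theorem Rm_neg (k : n) (c : n → F) : Rm k (-c) = -Rm k c := by
  have h := Rm_smul k (-1 : F) c
  rwa [neg_one_smul, neg_one_smul] at h

/-- `1 + e_k cᵀ` as an element of `SL` -/
def E (k : n) (c : n → F) (hc : c k = 0) : SpecialLinearGroup n F :=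
  ⟨1 + Rm k c, by
    unfold Rm
    rw [vecMulVec_eq Unit, det_one_add_replicateCol_mul_replicateRow, dotProduct_single, hc,
      zero_mul, add_zero]⟩

theorem E_coe (k : n) (c : n → F) (hc : c k = 0) :
    (E k c hc : Matrix n n F) = 1 + Rm k c := rfl

theorem E_congr (k : n) {c c' : n → F} (h : c = c') (hc : c k = 0) :
    E k c hc = E k c' (h ▸ hc) := by
  subst h
  rfl

theorem E_mul_E_coe (k k' : n) (c c' : n → F) (hc : c k = 0) (hc' : c' k' = 0) :
    (E k c hc * E k' c' hc').1 = 1 + Rm k c + Rm k' c' + c k' • Rm k c' := by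
  show (1 + Rm k c) * (1 + Rm k' c') = _
  simp only [add_mul, mul_add, one_mul, mul_one, Matrix.one_mul, Matrix.mul_one, Rm_mul_Rm]
  abel

/-- two row matrices whose rows do not see each other commute -/
theorem E_comm (k k' : n) (c c' : n → F) (hc : c k = 0) (hc' : c' k' = 0) (h1 : c k' = 0)
    (h2 : c' k = 0) : E k c hc * E k' c' hc' = E k' c' hc' * E k c hc := by
  apply Subtype.ext
  rw [E_mul_E_coe, E_mul_E_coe, h1, h2, zero_smul, zero_smul]
  abel

theorem E_add (k : n) (c c' : n → F) (hc : c k = 0) (hc' : c' k = 0)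
    (hcc : (c + c') k = 0) :
    E k (c + c') hcc = E k c hc * E k c' hc' := by
  apply Subtype.ext
  rw [E_mul_E_coe, hc, zero_smul, add_zero]
  show 1 + Rm k (c + c') = _
  rw [Rm_add, add_assoc]

/-- the shear relation: `g = 1 + s E_ik` moves row `k` into row `i` -/
theorem E_shear (i k : n) (hik : i ≠ k) (r : n → F) (hri : r i = 0) (hrk : r k = 0) (s : F)
    (h1 : (s • Pi.single k (1 : F) : n → F) i = 0) (h2 : ((-s) • r) i = 0) :
    E k r hrk * E i (s • Pi.single k (1 : F)) h1 =
      E i (s • Pi.single k (1 : F)) h1 * (E k r hrk * E i ((-s) • r) h2) := by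
  apply Subtype.ext
  rw [E_mul_E_coe, hri, zero_smul, add_zero]
  show _ = (1 + Rm i (s • Pi.single k (1 : F))) * (E k r hrk * E i ((-s) • r) h2).1
  rw [E_mul_E_coe, hri, zero_smul, add_zero]
  simp only [add_mul, mul_add, one_mul, mul_one, Matrix.one_mul, Matrix.mul_one, Rm_mul_Rm]
  have h3 : (s • Pi.single k (1 : F) : n → F) k = s := by
    rw [Pi.smul_apply, Pi.single_eq_same, smul_eq_mul, mul_one]
  have h4 : Rm i ((-s) • r) = -(s • Rm i r) := by rw [Rm_smul, neg_smul]
  rw [h3, h1, zero_smul, add_zero, h4]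
  abel

end E

end Cfsg.Agent.Lib.Helper21.SLMin
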