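import Mathlib
import Cfsg.Prelude.Def_Transfer
import Cfsg.Agent.Lib.Helper21.SchDefs

/-! # S4395 leaf C1: the fibre product frame -/

set_option autoImplicit false
universe u v
open Cfsg
open Cfsg.Agent.Lib.Helper21.Sch

namespace Cfsg.Agent.Lib.Helper21.SchC1

section
variable {p : ℕ} [Fact p.Prime] {K : Type*} [Field K] {ω : K}
variable {G₀ : Type*} [Group G₀] {X : Type*} [Group X]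

/-- the fibre product `P₀ ×_K P` -/
def fibre (𝔣₀ : Frame p ω G₀) (𝔣 : Frame p ω X) : Subgroup (G₀ × X) where
  carrier := {d | ∃ (h₀ : d.1 ∈ 𝔣₀.P) (h : d.2 ∈ 𝔣.P), 𝔣₀.π ⟨d.1, h₀⟩ = 𝔣.π ⟨d.2, h⟩}
  one_mem' := by
    refine ⟨𝔣₀.P.one_mem, 𝔣.P.one_mem, ?_⟩
    have e1 : (⟨(1 : G₀ × X).1, 𝔣₀.P.one_mem⟩ : ↥𝔣₀.P) = 1 := rfl
    have e2 : (⟨(1 : G₀ × X).2, 𝔣.P.one_mem⟩ : ↥𝔣.P) = 1 := rfl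
    rw [e1, e2, map_one, map_one]
  mul_mem' := by
    rintro d d' ⟨h₀, h, he⟩ ⟨h₀', h', he'⟩
    refine ⟨𝔣₀.P.mul_mem h₀ h₀', 𝔣.P.mul_mem h h', ?_⟩
    have e1 : (⟨(d * d').1, 𝔣₀.P.mul_mem h₀ h₀'⟩ : ↥𝔣₀.P) = ⟨d.1, h₀⟩ * ⟨d'.1, h₀'⟩ := rfl
    have e2 : (⟨(d * d').2, 𝔣.P.mul_mem h h'⟩ : ↥𝔣.P) = ⟨d.2, h⟩ * ⟨d'.2, h'⟩ := rfl
    rw [e1, e2, map_mul, map_mul, he, he']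
  inv_mem' := by
    rintro d ⟨h₀, h, he⟩
    refine ⟨𝔣₀.P.inv_mem h₀, 𝔣.P.inv_mem h, ?_⟩
    have e1 : (⟨(d⁻¹).1, 𝔣₀.P.inv_mem h₀⟩ : ↥𝔣₀.P) = (⟨d.1, h₀⟩ : ↥𝔣₀.P)⁻¹ := rfl
    have e2 : (⟨(d⁻¹).2, 𝔣.P.inv_mem h⟩ : ↥𝔣.P) = (⟨d.2, h⟩ : ↥𝔣.P)⁻¹ := rfl
    rw [e1, e2, map_inv, map_inv, he]

theorem mem_fibre (𝔣₀ : Frame p ω G₀) (𝔣 : Frame p ω X) (d : G₀ × X) :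
    d ∈ fibre 𝔣₀ 𝔣 ↔ ∃ (h₀ : d.1 ∈ 𝔣₀.P) (h : d.2 ∈ 𝔣.P), 𝔣₀.π ⟨d.1, h₀⟩ = 𝔣.π ⟨d.2, h⟩ := Iff.rfl

/-- first projection of the fibre product -/
def fibreFst (𝔣₀ : Frame p ω G₀) (𝔣 : Frame p ω X) : ↥(fibre 𝔣₀ 𝔣) →* ↥𝔣₀.P :=
  MonoidHom.codRestrict ((MonoidHom.fst G₀ X).comp (fibre 𝔣₀ 𝔣).subtype) 𝔣₀.P
    (fun d => by obtain ⟨h₀, _, _⟩ := d.2; exact h₀)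

theorem fibreFst_coe (𝔣₀ : Frame p ω G₀) (𝔣 : Frame p ω X) (d : ↥(fibre 𝔣₀ 𝔣)) :
    ((fibreFst 𝔣₀ 𝔣 d : ↥𝔣₀.P) : G₀) = (d : G₀ × X).1 := rfl

theorem exists_fibre_frame
    (𝔣₀ : Frame p ω G₀) (𝔣 : Frame p ω X) :
    ∃ 𝔡 : Frame p ω (G₀ × X), 𝔡.y = (𝔣₀.y, 𝔣.y) ∧
      (∀ d : G₀ × X, d ∈ 𝔡.P ↔ ∃ (h₀ : d.1 ∈ 𝔣₀.P) (h : d.2 ∈ 𝔣.P), 𝔣₀.π ⟨d.1, h₀⟩ = 𝔣.π ⟨d.2, h⟩) ∧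
      (∀ (d : G₀ × X) (hd : d ∈ 𝔡.P) (h₀ : d.1 ∈ 𝔣₀.P), 𝔡.π ⟨d, hd⟩ = 𝔣₀.π ⟨d.1, h₀⟩) := by
  have hnorm : ∀ x ∈ fibre 𝔣₀ 𝔣, (𝔣₀.y, 𝔣.y) * x * (𝔣₀.y, 𝔣.y)⁻¹ ∈ fibre 𝔣₀ 𝔣 := by
    rintro d ⟨h₀, h, he⟩
    refine ⟨𝔣₀.y_norm d.1 h₀, 𝔣.y_norm d.2 h, ?_⟩
    apply Multiplicative.toAdd.injective
    have e1 := 𝔣₀.π_conj d.1 h₀
    have e2 := 𝔣.π_conj d.2 h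
    change Multiplicative.toAdd (𝔣₀.π ⟨𝔣₀.y * d.1 * 𝔣₀.y⁻¹, _⟩) =
      Multiplicative.toAdd (𝔣.π ⟨𝔣.y * d.2 * 𝔣.y⁻¹, _⟩)
    rw [e1, e2, he]
  refine ⟨{ P := fibre 𝔣₀ 𝔣
            y := (𝔣₀.y, 𝔣.y)
            π := 𝔣₀.π.comp (fibreFst 𝔣₀ 𝔣)
            y_norm := hnorm
            π_conj := ?_
            π_surj := ?_
            ker_central := ?_
            ker_exp := ?_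
            ker_fixed := ?_ }, rfl, fun d => Iff.rfl, fun d hd h₀ => rfl⟩
  · intro d hd
    obtain ⟨h₀, h, he⟩ := hd
    exact 𝔣₀.π_conj d.1 h₀
  · intro u
    obtain ⟨⟨x₀, hx₀⟩, h0⟩ := 𝔣₀.π_surj u
    obtain ⟨⟨x, hx⟩, h1⟩ := 𝔣.π_surj u
    exact ⟨⟨(x₀, x), hx₀, hx, h0.trans h1.symm⟩, h0⟩
  · intro z hz x
    obtain ⟨⟨z₀, z₁⟩, hz₀, hz₁, hze⟩ := z
    obtain ⟨⟨x₀, x₁⟩, hx₀, hx₁, hxe⟩ := x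
    have hz0 : 𝔣₀.π ⟨z₀, hz₀⟩ = 1 := hz
    have hz1 : 𝔣.π ⟨z₁, hz₁⟩ = 1 := by
      have : 𝔣₀.π ⟨z₀, hz₀⟩ = 𝔣.π ⟨z₁, hz₁⟩ := hze
      rw [← this]; exact hz0
    have c0 := congrArg Subtype.val (𝔣₀.ker_central ⟨z₀, hz₀⟩ hz0 ⟨x₀, hx₀⟩)
    have c1 := congrArg Subtype.val (𝔣.ker_central ⟨z₁, hz₁⟩ hz1 ⟨x₁, hx₁⟩)
    apply Subtype.ext
    exact Prod.ext c0 c1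
  · intro z hz
    obtain ⟨⟨z₀, z₁⟩, hz₀, hz₁, hze⟩ := z
    have hz0 : 𝔣₀.π ⟨z₀, hz₀⟩ = 1 := hz
    have hz1 : 𝔣.π ⟨z₁, hz₁⟩ = 1 := by
      have : 𝔣₀.π ⟨z₀, hz₀⟩ = 𝔣.π ⟨z₁, hz₁⟩ := hze
      rw [← this]; exact hz0
    have c0 := congrArg Subtype.val (𝔣₀.ker_exp ⟨z₀, hz₀⟩ hz0)
    have c1 := congrArg Subtype.val (𝔣.ker_exp ⟨z₁, hz₁⟩ hz1)
    apply Subtype.ext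
    exact Prod.ext c0 c1
  · intro z hz
    obtain ⟨⟨z₀, z₁⟩, hz₀, hz₁, hze⟩ := z
    have hz0 : 𝔣₀.π ⟨z₀, hz₀⟩ = 1 := hz
    have hz1 : 𝔣.π ⟨z₁, hz₁⟩ = 1 := by
      have : 𝔣₀.π ⟨z₀, hz₀⟩ = 𝔣.π ⟨z₁, hz₁⟩ := hze
      rw [← this]; exact hz0
    have c0 := 𝔣₀.ker_fixed ⟨z₀, hz₀⟩ hz0
    have c1 := 𝔣.ker_fixed ⟨z₁, hz₁⟩ hz1
    exact Prod.ext c0 c1

end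

end Cfsg.Agent.Lib.Helper21.SchC1
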