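import Mathlib
import Cfsg.Prelude.Def_Transfer
import Cfsg.Agent.Lib.Helper21.SchDefs

/-! # S4395 leaf C3A: the graph lemma -/

set_option autoImplicit false
universe u v
open Cfsg
open Cfsg.Agent.Lib.Helper21.Sch

namespace Cfsg.Agent.Lib.Helper21.SchC3A

theorem exists_hom_of_graph {G₀ : Type*} [Group G₀] {X : Type*} [Group X] (D : Subgroup (G₀ × X))
    (h1 : ∀ g : G₀, ∃ x : X, (g, x) ∈ D) (h2 : ∀ x : X, ∃ g : G₀, (g, x) ∈ D)
    (h3 : ∀ g : G₀, ∀ x x' : X, (g, x) ∈ D → (g, x') ∈ D → x = x') :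
    ∃ φ : G₀ →* X, Function.Surjective φ ∧ ∀ g : G₀, (g, φ g) ∈ D := by
  choose f hf using h1
  have hmul : ∀ g g' : G₀, f (g * g') = f g * f g' := by
    intro g g'
    have h := D.mul_mem (hf g) (hf g')
    exact h3 (g * g') _ _ (hf (g * g')) h
  refine ⟨MonoidHom.mk' f hmul, ?_, fun g => hf g⟩
  intro x
  obtain ⟨g, hg⟩ := h2 x
  exact ⟨g, h3 g _ _ (hf g) hg⟩

end Cfsg.Agent.Lib.Helper21.SchC3A
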