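import Mathlib
import Cfsg.Prelude.Def_Transfer
import Cfsg.Agent.Lib.Helper21.SchDefs

/-! # S4395 leaf SEMI: the semidirect product `P₀ ⋊ C_{q^r}` carries a frame -/

set_option autoImplicit false
universe u v
open Cfsg
open Cfsg.Agent.Lib.Helper21.Sch

namespace Cfsg.Agent.Lib.Helper21.SchSEMI

section
variable {P₀ : Type u} [Group P₀]

/-- the action of `C_N` through an automorphism `α` with `α^N = 1` -/
def actHom (α : P₀ ≃* P₀) (N : ℕ) [NeZero N] (hα : α ^ N = 1) : Multiplicative (ZMod N) →* MulAut P₀ :=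
  MonoidHom.mk' (fun c => α ^ (Multiplicative.toAdd c).val) (by
    intro c c'
    rw [← pow_add, toAdd_mul, ZMod.val_add]
    exact (pow_eq_pow_mod _ hα).symm)

theorem actHom_one (α : P₀ ≃* P₀) (N : ℕ) [NeZero N] (hN : 1 < N) (hα : α ^ N = 1) :
    actHom α N hα (Multiplicative.ofAdd 1) = α := by
  have : Fact (1 < N) := ⟨hN⟩
  change α ^ ((1 : ZMod N)).val = α
  rw [ZMod.val_one, pow_one]

end

theorem exists_frame_of_aut {p : ℕ} [Fact p.Prime] {K : Type*} [Field K] {ω : K}
    {P₀ : Type u} [Group P₀] [Finite P₀] (α : P₀ ≃* P₀) (π₀ : P₀ →* Multiplicative K) (q r : ℕ) [Fact q.Prime]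
    (hr : 1 ≤ r) (hαq : ∀ x : P₀, (α ^ q) x = x)
    (hπα : ∀ x : P₀, Multiplicative.toAdd (π₀ (α x)) = ω * Multiplicative.toAdd (π₀ x))
    (hsurj : Function.Surjective π₀)
    (hcentral : ∀ z : P₀, π₀ z = 1 → ∀ x : P₀, z * x = x * z)
    (hexp : ∀ z : P₀, π₀ z = 1 → z ^ p = 1)
    (hfix : ∀ z : P₀, π₀ z = 1 → α z = z)
    (hcomm : ∀ x : P₀, x ∈ Subgroup.closure {c : P₀ | ∃ x' : P₀, c = x'⁻¹ * α x'}) :
    ∃ (G₀ : Type u) (_ : Group G₀) (_ : Finite G₀) (𝔣₀ : Frame p ω G₀),
      𝔣₀.IsGen ∧ 𝔣₀.IsComm ∧ orderOf 𝔣₀.y = q ^ r ∧ Nat.card 𝔣₀.P = Nat.card P₀ := by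
  have hqp : q.Prime := Fact.out
  have hN1 : 1 < q ^ r := Nat.one_lt_pow (by omega) hqp.one_lt
  have : NeZero (q ^ r) := ⟨by positivity⟩
  have hαq' : α ^ q = 1 := by
    ext x; exact hαq x
  have hαN : α ^ (q ^ r) = 1 := by
    obtain ⟨r', rfl⟩ : ∃ r', r = r' + 1 := ⟨r - 1, by omega⟩
    rw [pow_succ', pow_mul, hαq', one_pow]
  set φ := actHom α (q ^ r) hαN with hφ
  have hφ1 : φ (Multiplicative.ofAdd 1) = α := actHom_one α (q ^ r) hN1 hαN
  let G₀ : Type u := P₀ ⋊[φ] Multiplicative (ZMod (q ^ r))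
  let inl : P₀ →* G₀ := SemidirectProduct.inl
  let inr : Multiplicative (ZMod (q ^ r)) →* G₀ := SemidirectProduct.inr
  have hinl_inj : Function.Injective inl := SemidirectProduct.inl_injective
  let e : P₀ ≃* ↥inl.range := MonoidHom.ofInjective hinl_inj
  have he : ∀ n : P₀, ((e n : ↥inl.range) : G₀) = inl n := fun n => rfl
  let y : G₀ := inr (Multiplicative.ofAdd 1)
  have hconj : ∀ n : P₀, y * inl n * y⁻¹ = inl (α n) := by
    intro n
    have h := SemidirectProduct.inl_aut (φ := φ) (Multiplicative.ofAdd (1 : ZMod (q ^ r))) n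
    rw [hφ1] at h
    rw [h, map_inv]
  have hfin : Finite G₀ := Finite.of_equiv _ (SemidirectProduct.equivProd (φ := φ)).symm
  have hynorm : ∀ x ∈ inl.range, y * x * y⁻¹ ∈ inl.range := by
    intro x hx
    obtain ⟨n, rfl⟩ := MonoidHom.mem_range.mp hx
    exact MonoidHom.mem_range.mpr ⟨α n, (hconj n).symm⟩
  have hmem : ∀ n : P₀, inl n ∈ inl.range := fun n => MonoidHom.mem_range.mpr ⟨n, rfl⟩
  have hsymm : ∀ (n : P₀) (z : ↥inl.range), (z : G₀) = inl n → e.symm z = n := by
    intro n z hz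
    apply e.injective
    rw [MulEquiv.apply_symm_apply]
    exact Subtype.ext (hz.trans (he n).symm)
  let 𝔣₀ : Frame p ω G₀ :=
    { P := inl.range
      y := y
      π := π₀.comp e.symm.toMonoidHom
      y_norm := hynorm
      π_conj := by
        intro x hx
        obtain ⟨n, rfl⟩ := MonoidHom.mem_range.mp hx
        have h1 : e.symm ⟨y * inl n * y⁻¹, hynorm (inl n) hx⟩ = α n := hsymm (α n) _ (hconj n)
        have h2 : e.symm ⟨inl n, hx⟩ = n := hsymm n _ rfl
        change Multiplicative.toAdd (π₀ (e.symm ⟨y * inl n * y⁻¹, hynorm (inl n) hx⟩)) =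
          ω * Multiplicative.toAdd (π₀ (e.symm ⟨inl n, hx⟩))
        rw [h1, h2]
        exact hπα n
      π_surj := by
        intro u
        obtain ⟨n, hn⟩ := hsurj u
        refine ⟨e n, ?_⟩
        change π₀ (e.symm (e n)) = u
        rw [MulEquiv.symm_apply_apply]; exact hn
      ker_central := by
        intro z hz x
        have hz' : π₀ (e.symm z) = 1 := hz
        have h := hcentral (e.symm z) hz' (e.symm x)
        have h2 := congrArg e h
        rw [map_mul, map_mul, MulEquiv.apply_symm_apply, MulEquiv.apply_symm_apply] at h2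
        exact h2
      ker_exp := by
        intro z hz
        have hz' : π₀ (e.symm z) = 1 := hz
        have h := hexp (e.symm z) hz'
        have h2 := congrArg e h
        rw [map_pow, MulEquiv.apply_symm_apply, map_one] at h2
        exact h2
      ker_fixed := by
        intro z hz
        obtain ⟨n, hn⟩ := MonoidHom.mem_range.mp z.2
        have h2 : e.symm z = n := hsymm n z hn.symm
        have hz' : π₀ (e.symm z) = 1 := hz
        rw [h2] at hz'
        rw [← hn, hconj, hfix n hz'] }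
  refine ⟨G₀, inferInstance, hfin, 𝔣₀, ?_, ?_, ?_, ?_⟩
  · -- IsGen
    unfold Frame.IsGen
    rw [eq_top_iff]
    intro g _
    have hg : g = inl g.left * inr g.right := (SemidirectProduct.inl_left_mul_inr_right g).symm
    rw [hg]
    refine Subgroup.mul_mem _ (Subgroup.subset_closure (Or.inl (hmem g.left))) ?_
    have hy : y ∈ Subgroup.closure ((inl.range : Set G₀) ∪ {y}) := Subgroup.subset_closure (Or.inr rfl)
    have hpow : inr g.right = y ^ (Multiplicative.toAdd g.right).val := by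
      change inr g.right = (inr (Multiplicative.ofAdd 1)) ^ (Multiplicative.toAdd g.right).val
      rw [← map_pow]
      congr 1
      apply Multiplicative.toAdd.injective
      rw [toAdd_pow, toAdd_ofAdd, nsmul_eq_mul, mul_one, ZMod.natCast_zmod_val]
    rw [hpow]
    exact Subgroup.pow_mem _ hy _
  · -- IsComm
    unfold Frame.IsComm
    intro x hx
    obtain ⟨n, rfl⟩ := MonoidHom.mem_range.mp hx
    have hn := hcomm n
    have hmap : inl n ∈ (Subgroup.closure {c : P₀ | ∃ x' : P₀, c = x'⁻¹ * α x'}).map inl :=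
      Subgroup.mem_map_of_mem inl hn
    rw [MonoidHom.map_closure] at hmap
    refine Subgroup.closure_mono ?_ hmap
    rintro c ⟨c', ⟨x', rfl⟩, rfl⟩
    refine ⟨inl x', hmem x', ?_⟩
    change inl (x'⁻¹ * α x') = (inl x')⁻¹ * (y * inl x' * y⁻¹)
    rw [hconj, map_mul, map_inv]
  · -- order of `y`
    change orderOf (inr (Multiplicative.ofAdd (1 : ZMod (q ^ r)))) = q ^ r
    rw [orderOf_injective inr SemidirectProduct.inr_injective, orderOf_ofAdd_eq_addOrderOf,
      ZMod.addOrderOf_one]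
  · exact (Nat.card_congr e.toEquiv).symm

end Cfsg.Agent.Lib.Helper21.SchSEMI
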