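import Mathlib
import Cfsg.Prelude.Def_Transfer
import Cfsg.Agent.Lib.Helper21.SchDefs
import Cfsg.Agent.Lib.Helper16.SchD2AP
import Cfsg.Agent.Lib.Helper16.SchD2BI
import Cfsg.Agent.Lib.Helper16.SchD2BII
import Cfsg.Agent.Lib.Helper16.SchD2C
import Cfsg.Agent.Lib.Helper17.SchCARD
import Cfsg.Agent.Lib.Helper17.SchMIN1
import Cfsg.Agent.Lib.Helper17.SchMIN2B
import Cfsg.Agent.Lib.Helper17.SchMIN2D
import Cfsg.Agent.Lib.Helper17.SchYQ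
import Cfsg.Agent.Lib.Helper20.SchIDX
import Cfsg.Agent.Lib.Helper21.SchC1
import Cfsg.Agent.Lib.Helper21.SchC3A
import Cfsg.Agent.Lib.Helper21.SchSEMI
import Cfsg.Agent.Lib.Helper22.SchB1
import Cfsg.Agent.Lib.Helper22.SchB3
import Cfsg.Agent.Lib.Helper22.SchB4
import Cfsg.Agent.Lib.Helper22.SchB5
import Cfsg.Agent.Lib.Helper22.SchCENT
import Cfsg.Agent.Lib.Helper22.SchNORM
import Cfsg.Agent.Lib.Helper22.SchPOW
import Cfsg.Agent.Lib.Helper23.SchB2A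
import Cfsg.Agent.Lib.Helper23.SchB2B
import Cfsg.Agent.Lib.Helper23.SchB2C
import Cfsg.Agent.Lib.Helper23.SchB2D
import Cfsg.Agent.Lib.Helper29.SchD1
import Cfsg.Agent.Lib.Helper29.SchD2A
import Cfsg.Agent.Lib.Helper29.SchMIN2A
import Cfsg.Agent.Lib.Helper29.SchMIN2C
import Cfsg.Agent.Lib.Helper5.SchFIELD
import Cfsg.Agent.Lib.Helper5.SchGEN
import Cfsg.Agent.Lib.Helper5.SchGEOM
import Cfsg.Agent.Lib.Helper5.SchIRR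
import Cfsg.Agent.Lib.Helper5.SchSPAN
import Cfsg.Agent.Lib.Helper7.SchC2
import Cfsg.Agent.Lib.Helper7.SchC3
import Cfsg.Agent.Lib.Helper7.SchC3B
import Cfsg.Agent.Lib.Helper9.SchEHEIS
import Cfsg.Agent.Lib.Helper9.SchESIG
import Cfsg.Agent.Lib.Helper9.SchETR

/-!
# S4395 (universal minimal non-`p`-nilpotent group of order `p^a₀ q^r`): FROZEN LEAF STATEMENTS (planner helper21)

THE SPINE IS WRITTEN AND COMPILES against these statements (helper21's box: `SchMain1/2/3` + `S4395.lean`), so the 39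
leaves below are exactly what is missing.  Defs ON MAIN: `Cfsg/Agent/Lib/Helper21/SchDefs.lean` (`Frame`, `Frame.Phi`,
`Frame.IsComm`, `Frame.IsGen`, `Frame.IsTight`, `Frame.restrict`, `bb`).

HOW TO TAKE A LEAF.  Post `TAKE S4395-<TAG>` (lowest message id holds it, twins welcome on the big ones).  Prove it in
`Cfsg/Agent/Lib/HelperN/Sch<TAG>.lean`, namespace `Cfsg.Agent.Lib.HelperN.Sch<TAG>`, EXACT name + binders, under this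
file's header (imports Mathlib + `Cfsg.Prelude.Def_Transfer` + `Cfsg.Agent.Lib.Helper21.SchDefs`, `universe u v`, the two
`open` lines; extra imports of landed libs / landed leaves are fine).  Every leaf is independent of the others: whatever
it needs from another leaf is a hypothesis of its statement (or so small that you reprove it).  rfl-check your copy against
this file (`example : @copy = @mine := rfl`), scan, land, announce `DONE S4395-<TAG>` with module + call.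

THE MATH.  `a = ord_q(p)`, `K` a field with `p^a` elements, `ω ∈ K` of order `q`, so `K = 𝔽_p[ω]`.
A Schmidt group `X` of order `p^t q^r` is `P ⋊ ⟨y⟩`, `Z = Φ(P) ≤ Z(X)` elementary abelian, `P/Z ≅ K` with a generator
`y` of the Sylow `q`-subgroup acting as `ω` (a *frame* `𝔣`: `𝔣.P`, `𝔣.y`, `𝔣.π : P → (K,+)` onto, `π (y x y⁻¹) = ω π x`,
`ker π` central in `P`, of exponent `p`, fixed by `y`).  For a frame with `P = [P,y]` (`IsComm`): all commutators and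
`p`-th powers of `P` lie in `Γ = {[x₀,x] : x ∈ P}` (`π x₀ = 1`), `g : K → Γ, π x ↦ [x₀,x]` is additive and kills
`ω^m + ω^{-m}`, and `k' = ⟨ω^m+ω^{-m}⟩` is a subfield with `K = k' + k'ω`; so `|Φ| ≤ |K : k'| ≤ p^{bb a}` and
`ker π = Φ` (norm argument; `IsTight`), `|P| ≤ p^{a + bb a}`.  `G₀` = the Sylow-`p` of `SU₃` type group
`{(u,s) : s + σ s = σ(u) u}` (`a` even, `σ u = u^{p^{a/2}}`, `σ ω = ω⁻¹`) resp. `(K,+)` (`a` odd), extended by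
`C_{q^r}` acting via `ω`.  Universality: inside `G₀ × X` take a minimal `(y₀,y)`-invariant subgroup `P*` of the
fibre product `P₀ ×_K P` mapping onto `K`; it is `[P*,(y₀,y)]`, so `|P*| ≤ p^{a+bb a} = |P₀|`, both projections of
`P*⟨(y₀,y)⟩` are onto, the first one is then bijective: `φ = pr₂ ∘ pr₁⁻¹`.

Commutator convention in the statements: `x * x' * x⁻¹ * x'⁻¹`.  `Multiplicative K` carries the additive group of `K`.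
-/

set_option autoImplicit false
universe u v
open Cfsg
open Cfsg.Agent.Lib.Helper21.Sch

namespace Cfsg.Agent.Lib.Helper21.SchLeaves

/-! ## A. the field -/

/-- **TAG FIELD** the field and `ω` (take `ULift (GaloisField p a)`, `a = orderOf (p : ZMod q) > 0`; `q ∣ p^a - 1 = |Kˣ|`,
Cauchy in `Kˣ`). -/
theorem exists_field (p q : ℕ) [Fact p.Prime] [Fact q.Prime] (hpq : p ≠ q) :
    ∃ (K : Type u) (_ : Field K) (_ : Finite K) (_ : CharP K p) (ω : K),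
      Nat.card K = p ^ orderOf (p : ZMod q) ∧ orderOf ω = q :=
  Cfsg.Agent.Lib.Helper5.SchFIELD.exists_field p q hpq

/-- **TAG GEN** a finite field `L` of characteristic `p` that is generated (as an additive group closed under `t •`) by an
element `t` of order `q` has `p ^ ord_q(p)` elements.  `|L| = p^d`; `q ∣ p^d - 1` gives `a ∣ d`; `{x | x^(p^a) = x}` is an
additive subgroup with at most `p^a` elements (roots of a polynomial) containing `1` and closed under `t •`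
(`t^(p^a) = t` as `q ∣ p^a - 1`), so it is `L` and `d ≤ a`. -/
theorem card_eq_of_span {L : Type*} [Field L] [Finite L] (p q : ℕ) [Fact p.Prime] [Fact q.Prime] [CharP L p]
    (hpq : p ≠ q) (t : L) (ht : orderOf t = q)
    (hspan : ∀ S : AddSubgroup L, (1 : L) ∈ S → (∀ v ∈ S, t * v ∈ S) → S = ⊤) :
    Nat.card L = p ^ orderOf (p : ZMod q) :=
  Cfsg.Agent.Lib.Helper5.SchGEN.card_eq_of_span p q hpq t ht hspan

/-- **TAG SPAN** `K = 𝔽_p[ω]`: `S` contains the subring `R` generated by `ω`, a finite domain, so a field with `p^d` elements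
containing an element of order `q`, so `(p : ZMod q)^d = 1`, `a ∣ d`, `|R| ≥ p^a = |K|`. -/
theorem addSubgroup_eq_top {K : Type*} [Field K] [Finite K] (p q : ℕ) [Fact p.Prime] [Fact q.Prime] [CharP K p]
    (hpq : p ≠ q) (hK : Nat.card K = p ^ orderOf (p : ZMod q)) (ω : K) (hω : orderOf ω = q)
    (S : AddSubgroup K) (h1 : (1 : K) ∈ S) (hS : ∀ v ∈ S, ω * v ∈ S) : S = ⊤ :=
  Cfsg.Agent.Lib.Helper5.SchSPAN.addSubgroup_eq_top p q hpq hK ω hω S h1 hS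

/-- **TAG IRR** irreducibility (from (SPAN) applied to `{x | v * x ∈ S}` for a nonzero `v ∈ S`). -/
theorem addSubgroup_eq_bot_or_top {K : Type*} [Field K]
    (ω : K) (hspan : ∀ S : AddSubgroup K, (1 : K) ∈ S → (∀ v ∈ S, ω * v ∈ S) → S = ⊤)
    (S : AddSubgroup K) (hS : ∀ v ∈ S, ω * v ∈ S) : S = ⊥ ∨ S = ⊤ :=
  Cfsg.Agent.Lib.Helper5.SchIRR.addSubgroup_eq_bot_or_top ω hspan S hS

/-- **TAG IDX** `k' = AddSubgroup.closure {ω^m + ω⁻¹^m}` is closed under multiplication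
(`(ω^m+ω^-m)(ω^n+ω^-n) = (ω^(m+n)+ω^-(m+n)) + (ω^(m-n)+ω^-(m-n))`), contains a nonzero element (`ω + ω⁻¹`, or `2` when
`q = 2`) hence `1` (`x^(|K|-1) = 1`), so it is a subfield; `k' + k' ω` contains `1` and is closed under `ω •`
(`ω^2 = (ω+ω⁻¹) ω - 1`), so it is `K` by `hspan`; `|K| ≤ |k'|^2` and `|K| = |k'|^d`: `d ≤ 2`, `a` odd forces `d = 1`,
`a` even gives `|K : k'| ≤ p^(a/2)`. -/
theorem index_le {K : Type*} [Field K] [Finite K] (p q : ℕ) [Fact p.Prime] [Fact q.Prime] [CharP K p]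
    (hpq : p ≠ q) (a : ℕ) (hK : Nat.card K = p ^ a) (ω : K) (hω : orderOf ω = q)
    (hspan : ∀ S : AddSubgroup K, (1 : K) ∈ S → (∀ v ∈ S, ω * v ∈ S) → S = ⊤)
    (N : AddSubgroup K) (hN : ∀ m : ℕ, ω ^ m + ω⁻¹ ^ m ∈ N) : N.index ≤ p ^ bb a :=
  Cfsg.Agent.Lib.Helper20.SchIDX.index_le p q hpq a hK ω hω hspan N hN

/-- **TAG GEOM** -/
theorem geom_sum_omega {K : Type*} [Field K] (q : ℕ) [Fact q.Prime] (ω : K) (hω : orderOf ω = q) :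
    ∑ i ∈ Finset.range q, ω ^ i = 0 :=
  Cfsg.Agent.Lib.Helper5.SchGEOM.geom_sum_omega q ω hω

/-! ## B. frames: the upper bound -/

section B
variable {p : ℕ} [Fact p.Prime] {K : Type*} [Field K] {ω : K} {X : Type*} [Group X]

/-- **TAG B1** commutators and `p`-th powers die in `(K,+)`. -/
theorem Phi_le_ker [CharP K p] (𝔣 : Frame p ω X) :
    ∀ c ∈ 𝔣.Phi, ∃ hc : c ∈ 𝔣.P, 𝔣.π ⟨c, hc⟩ = 1 :=
  Cfsg.Agent.Lib.Helper22.SchB1.Phi_le_ker 𝔣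

/-- **TAG B2A** every commutator of `P` is a commutator with `x₀`.  `β(πx, πx') := [x,x']` is well defined (kernel
central), bi-additive, `β(ωv, ωw) = β(v,w)` (`ker_fixed`), so `{v | ∀ w, β(v,w) ∈ β(1,K)}` is an additive subgroup
containing `1`, closed under `ω •` (`β(ωv,w) = β(v, ω⁻¹w)`): it is `⊤` by `hspan`. -/
theorem comm_mem_range [CharP K p] (𝔣 : Frame p ω X) (hω0 : ω ≠ 0)
    (hspan : ∀ S : AddSubgroup K, (1 : K) ∈ S → (∀ v ∈ S, ω * v ∈ S) → S = ⊤)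
    (x₀ : X) (hx₀ : x₀ ∈ 𝔣.P) (h1 : Multiplicative.toAdd (𝔣.π ⟨x₀, hx₀⟩) = 1) :
    ∀ x ∈ 𝔣.P, ∀ x' ∈ 𝔣.P, ∃ x'' ∈ 𝔣.P, x * x' * x⁻¹ * x'⁻¹ = x₀ * x'' * x₀⁻¹ * x''⁻¹ :=
  Cfsg.Agent.Lib.Helper23.SchB2A.comm_mem_range 𝔣 hω0 hspan x₀ hx₀ h1

/-- **TAG B2B** every `p`-th power of `P` is a commutator with `x₀`.  `Γ = {[x₀,x'']}` is a subgroup of the central kernel
(`hmul`, `hinv`); `Q(πx) := x^p` is well defined, `Q(v+w) ∈ Q(v) Q(w) Γ` (class 2 and `hcomm`), `Q(ωv) = Q(v)`; so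
`{v | Q v ∈ Γ}` is an additive subgroup closed under `ω •`; it contains `1`:
`1 = Q(0) = Q(∑_{i<q} ω^i) ∈ Q(1)^q Γ`, `Q(1)^p = 1`, `gcd(p,q) = 1`. -/
theorem pow_mem_range [CharP K p] (𝔣 : Frame p ω X) (q : ℕ) (hpq : p.Coprime q) (hω0 : ω ≠ 0)
    (hspan : ∀ S : AddSubgroup K, (1 : K) ∈ S → (∀ v ∈ S, ω * v ∈ S) → S = ⊤)
    (hgeom : ∑ i ∈ Finset.range q, ω ^ i = 0)
    (x₀ : X) (hx₀ : x₀ ∈ 𝔣.P) (h1 : Multiplicative.toAdd (𝔣.π ⟨x₀, hx₀⟩) = 1)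
    (hcomm : ∀ x ∈ 𝔣.P, ∀ x' ∈ 𝔣.P, ∃ x'' ∈ 𝔣.P, x * x' * x⁻¹ * x'⁻¹ = x₀ * x'' * x₀⁻¹ * x''⁻¹)
    (hmul : ∀ c c' : X, (∃ x'' ∈ 𝔣.P, c = x₀ * x'' * x₀⁻¹ * x''⁻¹) → (∃ x'' ∈ 𝔣.P, c' = x₀ * x'' * x₀⁻¹ * x''⁻¹) →
      ∃ x'' ∈ 𝔣.P, c * c' = x₀ * x'' * x₀⁻¹ * x''⁻¹)
    (hinv : ∀ c : X, (∃ x'' ∈ 𝔣.P, c = x₀ * x'' * x₀⁻¹ * x''⁻¹) → ∃ x'' ∈ 𝔣.P, c⁻¹ = x₀ * x'' * x₀⁻¹ * x''⁻¹) :
    ∀ x ∈ 𝔣.P, ∃ x'' ∈ 𝔣.P, x ^ p = x₀ * x'' * x₀⁻¹ * x''⁻¹ :=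
  Cfsg.Agent.Lib.Helper23.SchB2B.pow_mem_range 𝔣 q hpq hω0 hspan hgeom x₀ hx₀ h1 hcomm hmul hinv

/-- **TAG B2C** `g : K → Γ`, `g(πx) = [x₀,x]` is a well defined surjective additive map whose kernel contains
`ω^m + ω⁻¹^m` (`[x₀, y^m x₀ y^-m] [x₀, y^-m x₀ y^m] = 1` since `[x₀, y^-m x₀ y^m] = y^-m [y^m x₀ y^-m, x₀] y^m` and
commutators are `y`-fixed), so `|Γ| = |K : ker g| ≤ p^b`.  (`K` is finite, being an image of `P`.) -/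
theorem card_range_le [Finite X] [CharP K p] (𝔣 : Frame p ω X) (hω0 : ω ≠ 0) (b : ℕ)
    (hidx : ∀ N : AddSubgroup K, (∀ m : ℕ, ω ^ m + ω⁻¹ ^ m ∈ N) → N.index ≤ p ^ b)
    (x₀ : X) (hx₀ : x₀ ∈ 𝔣.P) (h1 : Multiplicative.toAdd (𝔣.π ⟨x₀, hx₀⟩) = 1) :
    Nat.card {c : X // ∃ x'' ∈ 𝔣.P, c = x₀ * x'' * x₀⁻¹ * x''⁻¹} ≤ p ^ b :=
  Cfsg.Agent.Lib.Helper23.SchB2C.card_range_le 𝔣 hω0 b hidx x₀ hx₀ h1

/-- **TAG B2D** `Γ` is closed under products and inverses (`x'' ↦ [x₀,x'']` is a hom into the central kernel). -/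
theorem range_mul_mem [CharP K p] (𝔣 : Frame p ω X) (x₀ : X) (hx₀ : x₀ ∈ 𝔣.P) :
    (∀ c c' : X, (∃ x'' ∈ 𝔣.P, c = x₀ * x'' * x₀⁻¹ * x''⁻¹) → (∃ x'' ∈ 𝔣.P, c' = x₀ * x'' * x₀⁻¹ * x''⁻¹) →
      ∃ x'' ∈ 𝔣.P, c * c' = x₀ * x'' * x₀⁻¹ * x''⁻¹) ∧
    (∀ c : X, (∃ x'' ∈ 𝔣.P, c = x₀ * x'' * x₀⁻¹ * x''⁻¹) → ∃ x'' ∈ 𝔣.P, c⁻¹ = x₀ * x'' * x₀⁻¹ * x''⁻¹) :=
  Cfsg.Agent.Lib.Helper23.SchB2D.range_mul_mem 𝔣 x₀ hx₀

/-- **TAG B3** `ker π ≤ Φ`: modulo `Φ` (normal in `P`, `y`-invariant, `P/Φ` abelian) the norm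
`ν x = ∏_{i<n} y^i x y^-i` is multiplicative with `ν (y x y⁻¹) ≡ ν x`, so `ν` kills the generators `x'⁻¹ (y x' y⁻¹)`,
hence `P`; for `z ∈ ker π` (`y`-fixed) `ν z = z^n`, and `z^p = 1`. -/
theorem isTight_of_isComm [Finite X] [CharP K p] (𝔣 : Frame p ω X) (n : ℕ) (hn : 𝔣.y ^ n = 1)
    (hnp : n.Coprime p) (hc : 𝔣.IsComm) : 𝔣.IsTight :=
  Cfsg.Agent.Lib.Helper22.SchB3.isTight_of_isComm 𝔣 n hn hnp hc

/-- **TAG B4** first isomorphism theorem: `|P| = |K| |ker π| ≤ |K| |Φ|`. -/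
theorem card_P_le [Finite X] [Finite K] (𝔣 : Frame p ω X) (a b : ℕ) (hK : Nat.card K = p ^ a)
    (ht : 𝔣.IsTight) (hPhi : Nat.card 𝔣.Phi ≤ p ^ b) : Nat.card 𝔣.P ≤ p ^ (a + b) :=
  Cfsg.Agent.Lib.Helper22.SchB4.card_P_le 𝔣 a b hK ht hPhi

/-- **TAG B5** a subgroup of `P` mapping onto `K` is `P` (for tight frames): `P = P₁ ker π`, commutators and `p`-th powers
of `P` are those of `P₁` (kernel central of exponent `p`), so `ker π ≤ Φ ≤ P₁`. -/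
theorem eq_of_surj_of_isTight (𝔣 : Frame p ω X) (ht : 𝔣.IsTight) (P₁ : Subgroup X) (h₁ : P₁ ≤ 𝔣.P)
    (hs : ∀ u : K, ∃ x, ∃ hx : x ∈ 𝔣.P, x ∈ P₁ ∧ Multiplicative.toAdd (𝔣.π ⟨x, hx⟩) = u) :
    P₁ = 𝔣.P :=
  Cfsg.Agent.Lib.Helper22.SchB5.eq_of_surj_of_isTight 𝔣 ht P₁ h₁ hs

/-- **TAG NORM** `y P y⁻¹ ⊆ P` is an equality (finite), so `P` is normalized by `⟨P, y⟩ = X`. -/
theorem normal_of_frame [Finite X] (𝔣 : Frame p ω X) (hgen : 𝔣.IsGen) : 𝔣.P.Normal :=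
  Cfsg.Agent.Lib.Helper22.SchNORM.normal_of_frame 𝔣 hgen

/-- **TAG CENT** elements of `ker π` are central in `X = ⟨P, y⟩`. -/
theorem ker_le_center (𝔣 : Frame p ω X) (hgen : 𝔣.IsGen) :
    ∀ z : ↥𝔣.P, 𝔣.π z = 1 → (z : X) ∈ Subgroup.center X :=
  Cfsg.Agent.Lib.Helper22.SchCENT.ker_le_center 𝔣 hgen

/-- **TAG CARD** `P ⊴ X = P⟨y⟩`, `P ∩ ⟨y⟩ = 1` (coprime orders). -/
theorem card_eq_of_frame [Finite X] (𝔣 : Frame p ω X) (q r : ℕ) [Fact q.Prime] (hpq : p ≠ q)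
    (hgen : 𝔣.IsGen) (hP : IsPGroup p 𝔣.P) (hy : orderOf 𝔣.y = q ^ r) :
    Nat.card X = Nat.card 𝔣.P * q ^ r :=
  Cfsg.Agent.Lib.Helper17.SchCARD.card_eq_of_frame 𝔣 q r hpq hgen hP hy

/-- **TAG YQ** `y^q` centralizes `P`: `π (y^q x y^-q) = ω^q π x = π x`, so `y^q x y^-q = x ζ(x)` with `ζ(x) ∈ ker π` fixed by
`y`; `y^(q k) x y^-(q k) = x ζ(x)^k`; `k = n` gives `ζ(x)^n = 1`, and `ζ(x)^p = 1`. -/
theorem pow_q_centralizes (𝔣 : Frame p ω X) (q n : ℕ) (hωq : ω ^ q = 1) (hn : 𝔣.y ^ n = 1) (hnp : n.Coprime p) :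
    ∀ x ∈ 𝔣.P, 𝔣.y ^ q * x * (𝔣.y ^ q)⁻¹ = x :=
  Cfsg.Agent.Lib.Helper17.SchYQ.pow_q_centralizes 𝔣 q n hωq hn hnp

/-- **TAG MIN1** no normal `p`-complement: `P` is the Sylow `p`-subgroup (normal, index `q^r` by (CARD)), a normal complement `N`
has order `q^r`, so it contains the `q`-element `y` (`X/N` is a `p`-group); `x⁻¹ (y x y⁻¹) ∈ P ∩ N = 1` for `x ∈ P`,
so `ω π x = π x`; take `π x = 1`. -/
theorem not_hasNormalPComplement_of_frame [Finite X] (𝔣 : Frame p ω X) (q r : ℕ) [Fact q.Prime]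
    (hpq : p ≠ q) (hω1 : ω ≠ 1) (hgen : 𝔣.IsGen) (hP : IsPGroup p 𝔣.P) (hy : orderOf 𝔣.y = q ^ r) :
    ¬ Cfsg.HasNormalPComplement p X :=
  Cfsg.Agent.Lib.Helper17.SchMIN1.not_hasNormalPComplement_of_frame 𝔣 q r hpq hω1 hgen hP hy

/-- **TAG MIN2A** a subgroup `H` with `H P = X` is `X` or abelian.  `y = h x₁` (`h ∈ H`, `x₁ ∈ P`), so `π (H ⊓ P)` is closed
under `ω •` (`π (h x h⁻¹) = ω π (x₁⁻¹ x x₁) = ω π x`): it is `⊥` or `⊤` (`hirr`).  `⊤`: `H ⊓ P = P` by (B5), `H = X`.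
`⊥`: `H ⊓ P ≤ ker π ≤ Z(X)` (CENT) and `H / (H ⊓ P) ≅ X / P` is cyclic (generated by the image of `y`), so `H` is
abelian. -/
theorem comm_of_sup_eq_top [Finite X] (𝔣 : Frame p ω X)
    (hirr : ∀ S : AddSubgroup K, (∀ v ∈ S, ω * v ∈ S) → S = ⊥ ∨ S = ⊤)
    (hgen : 𝔣.IsGen) (ht : 𝔣.IsTight) (H : Subgroup X) (hH : H ≠ ⊤) (hHP : H ⊔ 𝔣.P = ⊤) :
    ∀ h ∈ H, ∀ h' ∈ H, h * h' = h' * h :=
  Cfsg.Agent.Lib.Helper29.SchMIN2A.comm_of_sup_eq_top 𝔣 hirr hgen ht H hH hHP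

/-- **TAG MIN2B** a subgroup `H` with `H P ≠ X` lies in `M = P ⟨y^q⟩`: `X / P` is cyclic of order `q^r` generated by the image
of `y` (CARD), its proper subgroups lie in the subgroup generated by the image of `y^q`. -/
theorem le_of_sup_ne_top [Finite X] (𝔣 : Frame p ω X) (q r : ℕ) [Fact q.Prime] (hpq : p ≠ q)
    (hgen : 𝔣.IsGen) (hP : IsPGroup p 𝔣.P) (hy : orderOf 𝔣.y = q ^ r)
    (H : Subgroup X) (hHP : H ⊔ 𝔣.P ≠ ⊤) :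
    H ≤ 𝔣.P ⊔ Subgroup.zpowers (𝔣.y ^ q) :=
  Cfsg.Agent.Lib.Helper17.SchMIN2B.le_of_sup_ne_top 𝔣 q r hpq hgen hP hy H hHP

/-- **TAG MIN2C** a group `M = P C` with `P` a normal `p`-subgroup and `C` a cyclic `p'`-subgroup centralizing `P` has a normal
`p`-complement, and so has every subgroup of it (`Cfsg.Agent.Lib.Helper12.PNilpotent.hasNormalPComplement_subgroup`,
`Cfsg.Agent.Lib.Helper16.GagL.hasNormalPComplement_of_comm` and `Helper29.MinNonPNilpotent.frobCond_of_isNilpotent`,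
`frobCond_iff` may help: `M` is nilpotent, or: `C ⊓ M`-part is a normal complement of the Sylow `p`-subgroup `P`). -/
theorem hasNormalPComplement_of_central_product {X : Type u} [Group X] [Finite X] (p : ℕ) [Fact p.Prime]
    (P : Subgroup X) (c : X) (hP : IsPGroup p P)
    (hc : (orderOf c).Coprime p) (hcP : ∀ x ∈ P, c * x * c⁻¹ = x)
    (H : Subgroup X) (hH : H ≤ P ⊔ Subgroup.zpowers c) : Cfsg.HasNormalPComplement p ↥H :=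
  Cfsg.Agent.Lib.Helper29.SchMIN2C.hasNormalPComplement_of_central_product p P c hP hc hcP H hH

/-- **TAG MIN2D** an abelian group has a normal `p`-complement (`Cfsg.Agent.Lib.Helper16.GagL.hasNormalPComplement_of_comm`). -/
theorem hasNormalPComplement_of_commute {X : Type u} [Group X] [Finite X] (p : ℕ) [Fact p.Prime]
    (H : Subgroup X) (hH : ∀ h ∈ H, ∀ h' ∈ H, h * h' = h' * h) : Cfsg.HasNormalPComplement p ↥H :=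
  Cfsg.Agent.Lib.Helper17.SchMIN2D.hasNormalPComplement_of_commute p H hH

/-- **TAG POW** change of generator: same `P`, same `π`, `y' = y^j'`. -/
theorem exists_frame_pow (j j' : ℕ) (𝔣 : Frame p (ω ^ j) X) (h : (ω ^ j) ^ j' = ω) :
    ∃ 𝔣' : Frame p ω X, 𝔣'.P = 𝔣.P ∧ 𝔣'.y = 𝔣.y ^ j' ∧ (𝔣.IsTight → 𝔣'.IsTight) :=
  Cfsg.Agent.Lib.Helper22.SchPOW.exists_frame_pow j j' 𝔣 h

end B

/-! ## C. the graph argument -/

section C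
variable {p : ℕ} [Fact p.Prime] {K : Type*} [Field K] {ω : K}

/-- **TAG C1** the fibre product frame on `G₀ × X`: `P_D = {(x₀,x) ∈ P₀ × P | π₀ x₀ = π x}`, `y_D = (y₀,y)`,
`π_D = π₀ ∘ fst`. -/
theorem exists_fibre_frame {G₀ : Type*} [Group G₀] {X : Type*} [Group X]
    (𝔣₀ : Frame p ω G₀) (𝔣 : Frame p ω X) :
    ∃ 𝔡 : Frame p ω (G₀ × X), 𝔡.y = (𝔣₀.y, 𝔣.y) ∧
      (∀ d : G₀ × X, d ∈ 𝔡.P ↔ ∃ (h₀ : d.1 ∈ 𝔣₀.P) (h : d.2 ∈ 𝔣.P), 𝔣₀.π ⟨d.1, h₀⟩ = 𝔣.π ⟨d.2, h⟩) ∧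
      (∀ (d : G₀ × X) (hd : d ∈ 𝔡.P) (h₀ : d.1 ∈ 𝔣₀.P), 𝔡.π ⟨d, hd⟩ = 𝔣₀.π ⟨d.1, h₀⟩) :=
  Cfsg.Agent.Lib.Helper21.SchC1.exists_fibre_frame 𝔣₀ 𝔣

/-- **TAG C2** a minimal `y`-invariant subgroup `P₁` of `P` mapping onto `K` satisfies `P₁ = [P₁, y]`:
`[P₁,y] = closure {x⁻¹ (y x y⁻¹) | x ∈ P₁} ≤ P₁` is `y`-invariant
(`y (x⁻¹ (y x y⁻¹)) y⁻¹ = x'⁻¹ (y x' y⁻¹)`, `x' = y x y⁻¹`) and maps onto `K`
(`π (x⁻¹ (y x y⁻¹)) = (ω - 1) π x`, `ω ≠ 1`). -/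
theorem exists_isComm_restrict {X : Type*} [Group X] [Finite X] (𝔣 : Frame p ω X) (hω1 : ω ≠ 1) :
    ∃ (P₁ : Subgroup X) (h₁ : P₁ ≤ 𝔣.P) (hy : ∀ x ∈ P₁, 𝔣.y * x * 𝔣.y⁻¹ ∈ P₁)
      (hs : ∀ u : K, ∃ x : ↥P₁, Multiplicative.toAdd (𝔣.π (Subgroup.inclusion h₁ x)) = u),
      (𝔣.restrict P₁ h₁ hy hs).IsComm :=
  Cfsg.Agent.Lib.Helper7.SchC2.exists_isComm_restrict 𝔣 hω1

/-- **TAG C3A** the graph lemma. -/
theorem exists_hom_of_graph {G₀ : Type*} [Group G₀] {X : Type*} [Group X] (D : Subgroup (G₀ × X))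
    (h1 : ∀ g : G₀, ∃ x : X, (g, x) ∈ D) (h2 : ∀ x : X, ∃ g : G₀, (g, x) ∈ D)
    (h3 : ∀ g : G₀, ∀ x x' : X, (g, x) ∈ D → (g, x') ∈ D → x = x') :
    ∃ φ : G₀ →* X, Function.Surjective φ ∧ ∀ g : G₀, (g, φ g) ∈ D :=
  Cfsg.Agent.Lib.Helper21.SchC3A.exists_hom_of_graph D h1 h2 h3

/-- **TAG C3B** `D = ⟨P*, (y₀,y)⟩ = P* ⟨(y₀,y)⟩` has at most `|P*| q^r` elements (`y_D` normalizes `P*`, `y_D^(q^r) = 1`). -/
theorem card_closure_le {Y : Type*} [Group Y] [Finite Y] (𝔡 : Frame p ω Y) (n : ℕ) (hn : 0 < n)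
    (hy : 𝔡.y ^ n = 1) :
    Nat.card (Subgroup.closure ((𝔡.P : Set Y) ∪ {𝔡.y})) ≤ Nat.card 𝔡.P * n ∧
    ∀ d ∈ Subgroup.closure ((𝔡.P : Set Y) ∪ {𝔡.y}), ∃ x ∈ 𝔡.P, ∃ m : ℕ, d = x * 𝔡.y ^ m :=
  Cfsg.Agent.Lib.Helper7.SchC3B.card_closure_le 𝔡 n hn hy

/-- **TAG C3** `𝔡` a frame inside the fibre product with `|𝔡.P| ≤ |P₀|`.  `fst 𝔡.P = P₀`, `snd 𝔡.P = P` by (B5) = `heq₀`, `heq`.
`D = ⟨𝔡.P, y_D⟩` has `|D| ≤ |𝔡.P| q^r ≤ |G₀|` (`hD`, (CARD) = `hcard₀`) and `fst : D → G₀` is onto (`hgen₀`), so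
bijective; `snd : D → X` is onto (`hgen`); graph lemma `hgraph`.
Kernel: `(g,1) = (d₀ y₀^m, d y^m)` (`hD`), `y^m = d⁻¹ ∈ P` has `p`-power order and `q`-power order, so `y^m = 1 = d`,
`q^r ∣ m`, `g = d₀` with `π₀ d₀ = π 1 = 1`: central in `G₀` by `hcent₀`. -/
theorem exists_hom_of_subframe {G₀ : Type*} [Group G₀] [Finite G₀] {X : Type*} [Group X] [Finite X]
    (q r : ℕ) [Fact q.Prime] (hpq : p ≠ q)
    (𝔣₀ : Frame p ω G₀) (𝔣 : Frame p ω X) (𝔡 : Frame p ω (G₀ × X))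
    (hgen₀ : 𝔣₀.IsGen) (hgen : 𝔣.IsGen)
    (hP : IsPGroup p 𝔣.P)
    (hy₀ : orderOf 𝔣₀.y = q ^ r) (hy : orderOf 𝔣.y = q ^ r)
    (hcard₀ : Nat.card G₀ = Nat.card 𝔣₀.P * q ^ r)
    (hcent₀ : ∀ z : ↥𝔣₀.P, 𝔣₀.π z = 1 → (z : G₀) ∈ Subgroup.center G₀)
    (heq₀ : ∀ P₁ : Subgroup G₀, P₁ ≤ 𝔣₀.P →
      (∀ u : K, ∃ x, ∃ hx : x ∈ 𝔣₀.P, x ∈ P₁ ∧ Multiplicative.toAdd (𝔣₀.π ⟨x, hx⟩) = u) → P₁ = 𝔣₀.P)
    (heq : ∀ P₁ : Subgroup X, P₁ ≤ 𝔣.P →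
      (∀ u : K, ∃ x, ∃ hx : x ∈ 𝔣.P, x ∈ P₁ ∧ Multiplicative.toAdd (𝔣.π ⟨x, hx⟩) = u) → P₁ = 𝔣.P)
    (hD : Nat.card (Subgroup.closure ((𝔡.P : Set (G₀ × X)) ∪ {𝔡.y})) ≤ Nat.card 𝔡.P * q ^ r ∧
      ∀ d ∈ Subgroup.closure ((𝔡.P : Set (G₀ × X)) ∪ {𝔡.y}), ∃ x ∈ 𝔡.P, ∃ m : ℕ, d = x * 𝔡.y ^ m)
    (hgraph : ∀ D : Subgroup (G₀ × X), (∀ g : G₀, ∃ x : X, (g, x) ∈ D) → (∀ x : X, ∃ g : G₀, (g, x) ∈ D) →
      (∀ g : G₀, ∀ x x' : X, (g, x) ∈ D → (g, x') ∈ D → x = x') →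
      ∃ φ : G₀ →* X, Function.Surjective φ ∧ ∀ g : G₀, (g, φ g) ∈ D)
    (hdy : 𝔡.y = (𝔣₀.y, 𝔣.y))
    (hdP : ∀ d : G₀ × X, ∀ hd : d ∈ 𝔡.P, ∃ (h₀ : d.1 ∈ 𝔣₀.P) (h : d.2 ∈ 𝔣.P),
      𝔣₀.π ⟨d.1, h₀⟩ = 𝔣.π ⟨d.2, h⟩ ∧ 𝔡.π ⟨d, hd⟩ = 𝔣₀.π ⟨d.1, h₀⟩)
    (hle : Nat.card 𝔡.P ≤ Nat.card 𝔣₀.P) :
    ∃ φ : G₀ →* X, Function.Surjective φ ∧ φ.ker ≤ Subgroup.center G₀ :=
  Cfsg.Agent.Lib.Helper7.SchC3.exists_hom_of_subframe q r hpq 𝔣₀ 𝔣 𝔡 hgen₀ hgen hP hy₀ hy hcard₀ hcent₀ heq₀ heq hD hgraph hdy hdP hle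

end C

/-! ## D. the structure of a minimal non-`p`-nilpotent group of order `p^t q^r` -/

/-- **TAG D1** `import Cfsg.Agent.Lib.Helper29.MinNonPNilpotent`: `frobCond_iff` and
`exists_normal_pgroup_sup_zpowers_of_minimal` give `P ⊴ X` a `p`-group and `y` of order prime to `p` with `X = P ⟨y⟩`,
`y ∉ C(P)`.  `|X| = |P| · orderOf y` (`P ⊓ ⟨y⟩ = 1`), so `orderOf y = q^r`.  For a `y`-invariant `U < P` the subgroup
`U ⟨y⟩` is proper, so it satisfies `FrobCond`: `y` centralizes `U`.  Likewise `P ⟨y^q⟩` is proper (`r ≥ 1` as `X` is not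
a `p`-group) and `y^q` centralizes `P`. -/
theorem exists_data {X : Type*} [Group X] [Finite X] (p q r t : ℕ) [Fact p.Prime] [Fact q.Prime] (hpq : p ≠ q)
    (h1 : ¬ Cfsg.HasNormalPComplement p X)
    (h2 : ∀ H : Subgroup X, H ≠ ⊤ → Cfsg.HasNormalPComplement p ↥H)
    (hcard : Nat.card X = p ^ t * q ^ r) :
    ∃ (P : Subgroup X) (y : X), P.Normal ∧ IsPGroup p P ∧ orderOf y = q ^ r ∧
      Subgroup.closure ((P : Set X) ∪ {y}) = ⊤ ∧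
      (∀ U : Subgroup X, U < P → (∀ u ∈ U, y * u * y⁻¹ ∈ U) → ∀ u ∈ U, y * u * y⁻¹ = u) ∧
      (∃ x ∈ P, y * x * y⁻¹ ≠ x) ∧ (∀ x ∈ P, y ^ q * x * (y ^ q)⁻¹ = x) :=
  Cfsg.Agent.Lib.Helper29.SchD1.exists_data p q r t hpq h1 h2 hcard

/-- **TAG D2A** `Z = (frattini ↥P).map P.subtype`; `import Cfsg.Agent.S3736` and use `Cfsg.Agent.S3736.result` with
`B = A = Subgroup.zpowers y`: `⁅P, A⁆ = P`, `P` elementary abelian or special (`Cfsg.IsSpecial`: `Φ(P) = Z(P) = P'`; then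
`Φ(P)` has exponent `p` as `[x,x']^p = [x^p,x'] = 1`), no invariant subgroup strictly between `Φ(P)` and `P`.
`Z < P` is invariant, so `y` centralizes it (`hmin`).  `P/Φ(P)` is elementary abelian. -/
theorem exists_center_data {X : Type*} [Group X] [Finite X] (p : ℕ) [Fact p.Prime] (n : ℕ) (hnp : n.Coprime p)
    (P : Subgroup X) (y : X) (hPn : P.Normal) (hP : IsPGroup p P) (hyn : y ^ n = 1)
    (hmin : ∀ U : Subgroup X, U < P → (∀ u ∈ U, y * u * y⁻¹ ∈ U) → ∀ u ∈ U, y * u * y⁻¹ = u)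
    (hnt : ∃ x ∈ P, y * x * y⁻¹ ≠ x) :
    ∃ Z : Subgroup X, Z < P ∧ (∀ z ∈ Z, ∀ x ∈ P, z * x = x * z) ∧ (∀ z ∈ Z, z ^ p = 1) ∧
      (∀ z ∈ Z, y * z * y⁻¹ = z) ∧ (∀ x ∈ P, ∀ x' ∈ P, x * x' * x⁻¹ * x'⁻¹ ∈ Z) ∧ (∀ x ∈ P, x ^ p ∈ Z) ∧
      (∀ U : Subgroup X, Z ≤ U → U ≤ P → (∀ u ∈ U, y * u * y⁻¹ ∈ U) → U = Z ∨ U = P) ∧
      ⁅P, Subgroup.zpowers y⁆ = P :=
  Cfsg.Agent.Lib.Helper29.SchD2A.exists_center_data p n hnp P y hPn hP hyn hmin hnt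

/-- **TAG D2AP** `[P, ⟨y⟩] = P` in the form needed for `Frame.IsComm`.  `C = closure {x'⁻¹ (y x' y⁻¹)}` is `y`-invariant and
normalized by `P`; `⁅x, y^(k+1)⁆ = x y^(k+1) x⁻¹ y^-(k+1) = (x y x⁻¹ y⁻¹) · y (x y^k x⁻¹ y^-k) y⁻¹`. -/
theorem mem_closure_of_commutator_eq {X : Type*} [Group X] [Finite X] (P : Subgroup X) (y : X)
    (hy : ∀ x ∈ P, y * x * y⁻¹ ∈ P) (hc : ⁅P, Subgroup.zpowers y⁆ = P) :
    ∀ x ∈ P, x ∈ Subgroup.closure {c : X | ∃ x' ∈ P, c = x'⁻¹ * (y * x' * y⁻¹)} :=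
  Cfsg.Agent.Lib.Helper16.SchD2AP.mem_closure_of_commutator_eq P y hy hc

/-- **TAG D2BI** a finite elementary abelian `p`-group `V` with an automorphism `T` leaving no proper nontrivial subgroup
invariant is the additive group of a finite field `L` on which `T` is the multiplication by some `t` generating `L`.
E.g. `L` = the subring of `AddMonoid.End (Additive V)` generated by `T` (commutative; each nonzero `e ∈ L` has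
`T`-invariant kernel, so it is injective: `L` is a finite domain, a field; `e ↦ e v₀` is an additive bijection
`L → V`); or `isSimpleModule_iff_quot_maximal` over `(ZMod p)[X]` (`Module.AEval'`). -/
theorem exists_field_of_module (p q : ℕ) [Fact p.Prime] {V : Type u} [CommGroup V] [Finite V]
    (hVp : ∀ v : V, v ^ p = 1) (T : V ≃* V)
    (hTq : ∀ v : V, (T ^ q) v = v) (hT1 : ∃ v : V, T v ≠ v)
    (hirr : ∀ S : Subgroup V, (∀ v ∈ S, T v ∈ S) → S = ⊥ ∨ S = ⊤) :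
    ∃ (L : Type u) (_ : Field L) (_ : Finite L) (_ : CharP L p) (t : L) (θ : V ≃* Multiplicative L),
      t ^ q = 1 ∧ t ≠ 1 ∧ (∀ v : V, Multiplicative.toAdd (θ (T v)) = t * Multiplicative.toAdd (θ v)) ∧
      (∀ S : AddSubgroup L, (1 : L) ∈ S → (∀ v ∈ S, t * v ∈ S) → S = ⊤) :=
  Cfsg.Agent.Lib.Helper16.SchD2BI.exists_field_of_module p q hVp T hTq hT1 hirr

/-- **TAG D2BII** finite fields of the same order are isomorphic (`FiniteField.ringEquivOfCardEq`), and the elements of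
order `q` of `K` are the `ω^j`, `0 < j < q` (`IsPrimitiveRoot.eq_pow_of_pow_eq_one`). -/
theorem exists_ringEquiv_pow {K : Type*} [Field K] [Finite K] {L : Type*} [Field L] [Finite L]
    (q : ℕ) [Fact q.Prime] (hcard : Nat.card L = Nat.card K) (ω : K) (hω : orderOf ω = q)
    (t : L) (ht : orderOf t = q) :
    ∃ j : ℕ, 0 < j ∧ j < q ∧ ∃ ψ : L ≃+* K, ψ t = ω ^ j :=
  Cfsg.Agent.Lib.Helper16.SchD2BII.exists_ringEquiv_pow q hcard ω hω t ht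

/-- **TAG D2C** assemble the frame for `ω^j`: `V = ↥P ⧸ Z.subgroupOf P` (commutative: `hcomm`; exponent `p`: `hpow`),
`T` = conjugation by `y`, `T^q = 1` (`hyq`), `T ≠ 1` (else `y x y⁻¹ = x z(x)`, `z(x) ∈ Z` fixed by `y`,
`x = y^q x y^-q = x z(x)^q`, `z(x)^q = 1 = z(x)^p`), irreducible (`hirr`); `π = θ ∘ mk`. -/
theorem exists_frame_of_center_data {K : Type v} [Field K] [Finite K] (p q : ℕ) [Fact p.Prime] [Fact q.Prime]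
    [CharP K p] (hpq : p ≠ q) (ω : K) {X : Type u} [Group X] [Finite X]
    (hmod : ∀ {V : Type u} [CommGroup V] [Finite V] (_ : ∀ v : V, v ^ p = 1) (T : V ≃* V)
      (_ : ∀ v : V, (T ^ q) v = v) (_ : ∃ v : V, T v ≠ v)
      (_ : ∀ S : Subgroup V, (∀ v ∈ S, T v ∈ S) → S = ⊥ ∨ S = ⊤),
      ∃ j : ℕ, 0 < j ∧ j < q ∧ ∃ θ : V ≃* Multiplicative K,
        ∀ v : V, Multiplicative.toAdd (θ (T v)) = ω ^ j * Multiplicative.toAdd (θ v))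
    (P : Subgroup X) (y : X) (hPn : P.Normal) (hyq : ∀ x ∈ P, y ^ q * x * (y ^ q)⁻¹ = x)
    (Z : Subgroup X) (hZP : Z < P) (hZc : ∀ z ∈ Z, ∀ x ∈ P, z * x = x * z) (hZp : ∀ z ∈ Z, z ^ p = 1)
    (hZy : ∀ z ∈ Z, y * z * y⁻¹ = z) (hcomm : ∀ x ∈ P, ∀ x' ∈ P, x * x' * x⁻¹ * x'⁻¹ ∈ Z)
    (hpow : ∀ x ∈ P, x ^ p ∈ Z)
    (hirr : ∀ U : Subgroup X, Z ≤ U → U ≤ P → (∀ u ∈ U, y * u * y⁻¹ ∈ U) → U = Z ∨ U = P)
    (hnt : ∃ x ∈ P, y * x * y⁻¹ ≠ x) :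
    ∃ j : ℕ, 0 < j ∧ j < q ∧ ∃ 𝔣 : Frame p (ω ^ j) X, 𝔣.P = P ∧ 𝔣.y = y :=
  Cfsg.Agent.Lib.Helper16.SchD2C.exists_frame_of_center_data p q hpq ω hmod P y hPn hyq Z hZP hZc hZp hZy hcomm hpow hirr hnt

/-! ## E. the universal groups -/

/-- **TAG SEMI** `G₀ = P₀ ⋊[φ] Multiplicative (ZMod (q^r))`, `φ (ofAdd n) = α ^ n.val` (well defined: `α^(q^r) = 1` as `r ≥ 1`);
`𝔣₀.P = range inl` (`= ker rightHom`), `𝔣₀.y = inr (ofAdd 1)`, `𝔣₀.π (inl x) = π₀ x`. -/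
theorem exists_frame_of_aut {p : ℕ} [Fact p.Prime] {K : Type*} [Field K] {ω : K}
    {P₀ : Type u} [Group P₀] [Finite P₀] (α : P₀ ≃* P₀) (π₀ : P₀ →* Multiplicative K) (q r : ℕ) [Fact q.Prime]
    (hr : 1 ≤ r) (hαq : ∀ x : P₀, (α ^ q) x = x)
    (hπα : ∀ x : P₀, Multiplicative.toAdd (π₀ (α x)) = ω * Multiplicative.toAdd (π₀ x))
    (hsurj : Function.Surjective π₀)
    (hcentral : ∀ z : P₀, π₀ z = 1 → ∀ x : P₀, z * x = x * z)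
    (hexp : ∀ z : P₀, π₀ z = 1 → z ^ p = 1)
    (hfix : ∀ z : P₀, π₀ z = 1 → α z = z)
    (hcomm : ∀ x : P₀, x ∈ Subgroup.closure {c : P₀ | ∃ x' : P₀, c = x'⁻¹ * α x'}) :
    ∃ (G₀ : Type u) (_ : Group G₀) (_ : Finite G₀) (𝔣₀ : Frame p ω G₀),
      𝔣₀.IsGen ∧ 𝔣₀.IsComm ∧ orderOf 𝔣₀.y = q ^ r ∧ Nat.card 𝔣₀.P = Nat.card P₀ :=
  Cfsg.Agent.Lib.Helper21.SchSEMI.exists_frame_of_aut α π₀ q r hr hαq hπα hsurj hcentral hexp hfix hcomm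

/-- **TAG ESIG** `a` even (so `a ≥ 2`, `q` odd): `σ = Frobenius^(a/2)` (`x ↦ x^(p^(a/2))`), `σ ω = ω⁻¹`
(`p^(a/2) ≡ -1 mod q`: its square is `1`, it is not `1`), `σ ∘ σ = id` (`x^(p^a) = x`), the fixed points are roots of
`X^(p^(a/2)) - X`; `ε = ω / (ω + ω⁻¹)` (`ω + ω⁻¹ ≠ 0`, else `ω^4 = 1`, `q ∣ 4`). -/
theorem exists_sigma {K : Type*} [Field K] [Finite K] (p q : ℕ) [Fact p.Prime] [Fact q.Prime] [CharP K p]
    (hpq : p ≠ q) (a : ℕ) (ha : a = orderOf (p : ZMod q)) (heven : a % 2 ≠ 1)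
    (hK : Nat.card K = p ^ a) (ω : K) (hω : orderOf ω = q) :
    ∃ (σ : K ≃+* K) (ε : K), (∀ x : K, σ (σ x) = x) ∧ σ ω = ω⁻¹ ∧ ε + σ ε = 1 ∧
      Nat.card {x : K // σ x = x} ≤ p ^ (a / 2) :=
  Cfsg.Agent.Lib.Helper9.SchESIG.exists_sigma p q hpq a ha heven hK ω hω

/-- **TAG ETR** counting: `im (1 + σ) = Fix σ` (`c = (1+σ)(ε c)` for fixed `c`), so `|ker (1+σ)| = |K| / |Fix σ| ≥ p^(a/2)`;
`im (1 - σ) ≤ ker (1 + σ)` and `|im (1 - σ)| = |K| / |ker (1 - σ)| = |K| / |Fix σ|`: equality. -/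
theorem trace_facts {K : Type*} [Field K] [Finite K] (p a : ℕ) [Fact p.Prime] (hK : Nat.card K = p ^ a)
    (σ : K ≃+* K) (ε : K) (hσ : ∀ x : K, σ (σ x) = x) (hε : ε + σ ε = 1)
    (hfix : Nat.card {x : K // σ x = x} ≤ p ^ (a / 2)) :
    (∀ c : K, c + σ c = 0 → ∃ w : K, c = w - σ w) ∧ p ^ (a / 2) ≤ Nat.card {c : K // c + σ c = 0} :=
  Cfsg.Agent.Lib.Helper9.SchETR.trace_facts p a hK σ ε hσ hε hfix

/-- **TAG EHEIS** `H = K × K` with `(u,s)(v,t) = (u+v, s+t+σ(u) v)` (a group; `(u,s)⁻¹ = (-u, -s+σ(u) u)`),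
`P₀ = {(u,s) | s + σ s = σ u * u}` (a subgroup), `α (u,s) = (ω u, s)`, `π₀ (u,s) = u`; onto: `s = ε σ(u) u`.
`ker π₀ = {(0,c) | c + σ c = 0}` is central, of exponent `p`, fixed by `α`.  `hcomm`: `x⁻¹ α(x) = ((ω-1)u, (1-ω)σ(u)u)`,
so `C = closure {x⁻¹ α x}` maps onto `K`; `[(u,s),(v,t)] = (0, σ(u)v - σ(v)u)` depends only on `u, v`, so `C` contains
all `(0, σ(u) - u)`, that is (`htr`) all of `ker π₀`; hence `C = P₀`. -/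
theorem exists_heis {K : Type u} [Field K] [Finite K] (p q : ℕ) [Fact p.Prime] [CharP K p]
    (ω : K) (hω1 : ω ≠ 1) (hωq : ω ^ q = 1) (hq0 : q ≠ 0)
    (σ : K ≃+* K) (ε : K) (hσ : ∀ x : K, σ (σ x) = x) (hσω : σ ω = ω⁻¹) (hε : ε + σ ε = 1)
    (htr : ∀ c : K, c + σ c = 0 → ∃ w : K, c = w - σ w) :
    ∃ (P₀ : Type u) (_ : Group P₀) (_ : Finite P₀) (α : P₀ ≃* P₀) (π₀ : P₀ →* Multiplicative K),
      (∀ x : P₀, (α ^ q) x = x) ∧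
      (∀ x : P₀, Multiplicative.toAdd (π₀ (α x)) = ω * Multiplicative.toAdd (π₀ x)) ∧
      Function.Surjective π₀ ∧
      (∀ z : P₀, π₀ z = 1 → ∀ x : P₀, z * x = x * z) ∧
      (∀ z : P₀, π₀ z = 1 → z ^ p = 1) ∧
      (∀ z : P₀, π₀ z = 1 → α z = z) ∧
      (∀ x : P₀, x ∈ Subgroup.closure {c : P₀ | ∃ x' : P₀, c = x'⁻¹ * α x'}) ∧
      Nat.card P₀ = Nat.card K * Nat.card {c : K // c + σ c = 0} :=
  Cfsg.Agent.Lib.Helper9.SchEHEIS.exists_heis p q ω hω1 hωq hq0 σ ε hσ hσω hε htr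

end Cfsg.Agent.Lib.Helper21.SchLeaves
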