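import Mathlib
import Cfsg.Prelude.Def_Transfer
import Cfsg.Agent.Lib.Helper21.SchDefs
import Cfsg.Agent.Lib.Helper21.SchLeaves

set_option autoImplicit false
universe u v
open Cfsg
open Cfsg.Agent.Lib.Helper21.Sch
open Cfsg.Agent.Lib.Helper21.SchLeaves

namespace Cfsg.Agent.Lib.Helper21.SchMain

section UB
variable {p : ℕ} [Fact p.Prime] {K : Type*} [Field K] {ω : K} {X : Type*} [Group X]

/-- `Φ ⊆ Γ`, hence `|Φ| ≤ p^b`. -/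
theorem card_Phi_le [Finite X] [CharP K p] (𝔣 : Frame p ω X) (q : ℕ) (hpq : p.Coprime q) (hω0 : ω ≠ 0)
    (hspan : ∀ S : AddSubgroup K, (1 : K) ∈ S → (∀ v ∈ S, ω * v ∈ S) → S = ⊤)
    (hgeom : ∑ i ∈ Finset.range q, ω ^ i = 0) (b : ℕ)
    (hidx : ∀ N : AddSubgroup K, (∀ m : ℕ, ω ^ m + ω⁻¹ ^ m ∈ N) → N.index ≤ p ^ b) :
    Nat.card 𝔣.Phi ≤ p ^ b := by
  obtain ⟨⟨x₀, hx₀⟩, h1'⟩ := 𝔣.π_surj (Multiplicative.ofAdd (1 : K))
  have h1 : Multiplicative.toAdd (𝔣.π ⟨x₀, hx₀⟩) = 1 := by rw [h1']; rfl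
  have hcomm := comm_mem_range 𝔣 hω0 hspan x₀ hx₀ h1
  obtain ⟨hmul, hinv⟩ := range_mul_mem 𝔣 x₀ hx₀
  have hpow := pow_mem_range 𝔣 q hpq hω0 hspan hgeom x₀ hx₀ h1 hcomm hmul hinv
  have hcard := card_range_le 𝔣 hω0 b hidx x₀ hx₀ h1
  have hsub : ∀ c ∈ 𝔣.Phi, ∃ x'' ∈ 𝔣.P, c = x₀ * x'' * x₀⁻¹ * x''⁻¹ := by
    intro c hc
    unfold Frame.Phi at hc
    induction hc using Subgroup.closure_induction with
    | mem c hc =>
      rcases hc with ⟨x, hx, x', hx', rfl⟩ | ⟨x, hx, rfl⟩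
      · exact hcomm x hx x' hx'
      · exact hpow x hx
    | one => exact ⟨1, 𝔣.P.one_mem, by simp⟩
    | mul c c' _ _ hc hc' => exact hmul c c' hc hc'
    | inv c _ hc => exact hinv c hc
  refine le_trans ?_ hcard
  exact Nat.card_le_card_of_injective (fun c : 𝔣.Phi => (⟨c.1, hsub c.1 c.2⟩ :
    {c : X // ∃ x'' ∈ 𝔣.P, c = x₀ * x'' * x₀⁻¹ * x''⁻¹})) (fun c c' h => Subtype.ext (by
      simpa using congrArg Subtype.val h))

/-- the upper bound for frames with `P = [P,y]` -/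
theorem ub [Finite X] [Finite K] [CharP K p] (𝔣 : Frame p ω X) (q : ℕ) (hpq : p.Coprime q) (hω0 : ω ≠ 0)
    (hspan : ∀ S : AddSubgroup K, (1 : K) ∈ S → (∀ v ∈ S, ω * v ∈ S) → S = ⊤)
    (hgeom : ∑ i ∈ Finset.range q, ω ^ i = 0) (a b : ℕ) (hK : Nat.card K = p ^ a)
    (hidx : ∀ N : AddSubgroup K, (∀ m : ℕ, ω ^ m + ω⁻¹ ^ m ∈ N) → N.index ≤ p ^ b)
    (n : ℕ) (hn : 𝔣.y ^ n = 1) (hnp : n.Coprime p) (hc : 𝔣.IsComm) :
    𝔣.IsTight ∧ Nat.card 𝔣.P ≤ p ^ (a + b) := by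
  have ht := isTight_of_isComm 𝔣 n hn hnp hc
  exact ⟨ht, card_P_le 𝔣 a b hK ht (card_Phi_le 𝔣 q hpq hω0 hspan hgeom b hidx)⟩

/-- (MIN) a group with a tight generating frame is minimal non-`p`-nilpotent. -/
theorem minimal_of_frame {X : Type u} [Group X] [Finite X] [CharP K p] (𝔣 : Frame p ω X) (q r : ℕ) [Fact q.Prime]
    (hpq : p ≠ q) (hω1 : ω ≠ 1) (hωq : ω ^ q = 1)
    (hirr : ∀ S : AddSubgroup K, (∀ v ∈ S, ω * v ∈ S) → S = ⊥ ∨ S = ⊤)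
    (hgen : 𝔣.IsGen) (ht : 𝔣.IsTight) (hP : IsPGroup p 𝔣.P) (hy : orderOf 𝔣.y = q ^ r) :
    ¬ Cfsg.HasNormalPComplement p X ∧
      ∀ H : Subgroup X, H ≠ ⊤ → Cfsg.HasNormalPComplement p ↥H := by
  have hpp : p.Prime := Fact.out
  have hqp : q.Prime := Fact.out
  have hcop : (q ^ r).Coprime p := Nat.Coprime.pow_left r ((Nat.coprime_primes hqp hpp).mpr (Ne.symm hpq))
  refine ⟨not_hasNormalPComplement_of_frame 𝔣 q r hpq hω1 hgen hP hy, ?_⟩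
  intro H hH
  by_cases hHP : H ⊔ 𝔣.P = ⊤
  · exact hasNormalPComplement_of_commute p H (comm_of_sup_eq_top 𝔣 hirr hgen ht H hH hHP)
  · have hle := le_of_sup_ne_top 𝔣 q r hpq hgen hP hy H hHP
    have hyn : 𝔣.y ^ (q ^ r) = 1 := by rw [← hy]; exact pow_orderOf_eq_one _
    have hcent := pow_q_centralizes 𝔣 q (q ^ r) hωq hyn hcop
    refine hasNormalPComplement_of_central_product p 𝔣.P (𝔣.y ^ q) hP ?_ hcent H hle
    have hdvd : orderOf (𝔣.y ^ q) ∣ q ^ r := by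
      rw [← hy]; exact orderOf_pow_dvd q
    exact Nat.Coprime.coprime_dvd_left hdvd hcop

end UB

end Cfsg.Agent.Lib.Helper21.SchMain
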