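import Mathlib
import Cfsg.Prelude.Def_Transfer
import Cfsg.Agent.Lib.Helper21.SchDefs
import Cfsg.Agent.Lib.Helper21.SchLeaves

set_option autoImplicit false
universe u v
open Cfsg
open Cfsg.Agent.Lib.Helper21.Sch
open Cfsg.Agent.Lib.Helper21.SchLeaves

namespace Cfsg.Agent.Lib.Helper21.SchMain

/-- (D2b) the module `V` is `K` with `T` acting as some `ω^j`. -/
theorem exists_module_iso {K : Type*} [Field K] [Finite K] (p q : ℕ) [Fact p.Prime] [Fact q.Prime] [CharP K p]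
    (hpq : p ≠ q) (hK : Nat.card K = p ^ orderOf (p : ZMod q)) (ω : K) (hω : orderOf ω = q)
    {V : Type u} [CommGroup V] [Finite V] (hVp : ∀ v : V, v ^ p = 1) (T : V ≃* V)
    (hTq : ∀ v : V, (T ^ q) v = v) (hT1 : ∃ v : V, T v ≠ v)
    (hirr : ∀ S : Subgroup V, (∀ v ∈ S, T v ∈ S) → S = ⊥ ∨ S = ⊤) :
    ∃ j : ℕ, 0 < j ∧ j < q ∧ ∃ θ : V ≃* Multiplicative K,
      ∀ v : V, Multiplicative.toAdd (θ (T v)) = ω ^ j * Multiplicative.toAdd (θ v) := by
  have hqp : q.Prime := Fact.out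
  obtain ⟨L, _, _, _, t, θ, htq, ht1, hθ, hspan⟩ := exists_field_of_module p q hVp T hTq hT1 hirr
  have hto : orderOf t = q := orderOf_eq_prime htq ht1
  have hL : Nat.card L = p ^ orderOf (p : ZMod q) := card_eq_of_span p q hpq t hto hspan
  obtain ⟨j, hj0, hjq, ψ, hψ⟩ := exists_ringEquiv_pow q (hL.trans hK.symm) ω hω t hto
  refine ⟨j, hj0, hjq, θ.trans (AddEquiv.toMultiplicative ψ.toAddEquiv), ?_⟩
  intro v
  have h1 : Multiplicative.toAdd ((θ.trans (AddEquiv.toMultiplicative ψ.toAddEquiv)) (T v)) =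
      ψ (Multiplicative.toAdd (θ (T v))) := rfl
  have h2 : Multiplicative.toAdd ((θ.trans (AddEquiv.toMultiplicative ψ.toAddEquiv)) v) =
      ψ (Multiplicative.toAdd (θ v)) := rfl
  rw [h1, h2, hθ, map_mul, hψ]

/-- the frame of a minimal non-`p`-nilpotent group of order `p^t q^r` -/
theorem exists_frame_of_minimal {K : Type v} [Field K] [Finite K] (p q r : ℕ) [Fact p.Prime] [Fact q.Prime]
    [CharP K p] (hpq : p ≠ q) (hK : Nat.card K = p ^ orderOf (p : ZMod q)) (ω : K) (hω : orderOf ω = q)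
    {X : Type u} [Group X] [Finite X]
    (h1 : ¬ Cfsg.HasNormalPComplement p X)
    (h2 : ∀ H : Subgroup X, H ≠ ⊤ → Cfsg.HasNormalPComplement p ↥H)
    (t : ℕ) (hcard : Nat.card X = p ^ t * q ^ r) :
    ∃ 𝔣 : Frame p ω X, 𝔣.IsGen ∧ 𝔣.IsTight ∧ IsPGroup p 𝔣.P ∧ orderOf 𝔣.y = q ^ r := by
  have hpp : p.Prime := Fact.out
  have hqp : q.Prime := Fact.out
  have hcop : (q ^ r).Coprime p := Nat.Coprime.pow_left r ((Nat.coprime_primes hqp hpp).mpr (Ne.symm hpq))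
  obtain ⟨P, y, hPn, hP, hy, hgen, hmin, hnt, hyq⟩ := exists_data p q r t hpq h1 h2 hcard
  have hyn : y ^ (q ^ r) = 1 := by rw [← hy]; exact pow_orderOf_eq_one _
  obtain ⟨Z, hZP, hZc, hZp, hZy, hcomm, hpow, hirr, hcommP⟩ :=
    exists_center_data p (q ^ r) hcop P y hPn hP hyn hmin hnt
  have hyP : ∀ x ∈ P, y * x * y⁻¹ ∈ P := fun x hx => hPn.conj_mem x hx y
  have hcl := mem_closure_of_commutator_eq P y hyP hcommP
  obtain ⟨j, hj0, hjq, 𝔣, h𝔣P, h𝔣y⟩ := exists_frame_of_center_data p q hpq ω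
    (fun {V} _ _ hVp T hTq hT1 hirrV => exists_module_iso p q hpq hK ω hω hVp T hTq hT1 hirrV)
    P y hPn hyq Z hZP hZc hZp hZy hcomm hpow hirr hnt
  -- `𝔣` is tight
  have hc : 𝔣.IsComm := by
    unfold Frame.IsComm
    rw [h𝔣P, h𝔣y]
    exact hcl
  have ht : 𝔣.IsTight := isTight_of_isComm 𝔣 (q ^ r) (by rw [h𝔣y]; exact hyn) hcop hc
  -- change of generator
  have hjc : Nat.Coprime j q := by
    rw [Nat.coprime_comm, Nat.Prime.coprime_iff_not_dvd hqp]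
    intro hd
    exact absurd (Nat.le_of_dvd hj0 hd) (not_le.mpr hjq)
  obtain ⟨j', -, hj'⟩ := Nat.exists_mul_mod_eq_one_of_coprime hjc hqp.one_lt
  have hωj : (ω ^ j) ^ j' = ω := by
    rw [← pow_mul, ← pow_mod_orderOf, hω, hj', pow_one]
  obtain ⟨𝔣', h𝔣'P, h𝔣'y, h𝔣't⟩ := exists_frame_pow j j' 𝔣 hωj
  have hj'c : Nat.Coprime j' (q ^ r) := by
    apply Nat.Coprime.pow_right
    rw [Nat.coprime_comm, Nat.Prime.coprime_iff_not_dvd hqp]
    intro hd
    have : j * j' % q = 0 := Nat.mod_eq_zero_of_dvd (Dvd.dvd.mul_left hd j)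
    omega
  have hy' : orderOf 𝔣'.y = q ^ r := by
    rw [h𝔣'y, h𝔣y, Nat.Coprime.orderOf_pow (by rw [hy]; exact hj'c.symm), hy]
  refine ⟨𝔣', ?_, h𝔣't ht, ?_, hy'⟩
  · unfold Frame.IsGen
    rw [h𝔣'P, h𝔣'y, h𝔣P, h𝔣y]
    rw [eq_top_iff, ← hgen, Subgroup.closure_le]
    rintro x (hx | hx)
    · exact Subgroup.subset_closure (Or.inl hx)
    · rw [Set.mem_singleton_iff] at hx
      rw [hx]
      have hmem : y ^ j' ∈ Subgroup.closure ((P : Set X) ∪ {y ^ j'}) :=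
        Subgroup.subset_closure (Or.inr rfl)
      obtain ⟨m, hm⟩ := exists_pow_eq_self_of_coprime (x := y) (n := j') (by rw [hy]; exact hj'c)
      have := Subgroup.pow_mem _ hmem m
      rw [hm] at this
      exact this
  · rw [h𝔣'P, h𝔣P]; exact hP

end Cfsg.Agent.Lib.Helper21.SchMain
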