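import Mathlib
import Cfsg.Prelude.Def_Transfer
import Cfsg.Agent.Lib.Helper21.SchDefs
import Cfsg.Agent.Lib.Helper21.SchLeaves

set_option autoImplicit false
universe u v
open Cfsg
open Cfsg.Agent.Lib.Helper21.Sch
open Cfsg.Agent.Lib.Helper21.SchLeaves

namespace Cfsg.Agent.Lib.Helper21.SchMain

/-- (C) the graph argument. -/
theorem exists_hom_of_frames {p : ℕ} [Fact p.Prime] {K : Type*} [Field K] [CharP K p] {ω : K}
    {G₀ : Type*} [Group G₀] [Finite G₀] {X : Type*} [Group X] [Finite X]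
    (q r c : ℕ) [Fact q.Prime] (hpq : p ≠ q) (hω1 : ω ≠ 1)
    (𝔣₀ : Frame p ω G₀) (𝔣 : Frame p ω X)
    (hgen₀ : 𝔣₀.IsGen) (hgen : 𝔣.IsGen) (ht₀ : 𝔣₀.IsTight) (ht : 𝔣.IsTight)
    (hP₀ : IsPGroup p 𝔣₀.P) (hP : IsPGroup p 𝔣.P)
    (hy₀ : orderOf 𝔣₀.y = q ^ r) (hy : orderOf 𝔣.y = q ^ r)
    (hcard₀ : Nat.card 𝔣₀.P = p ^ c)
    (hub : ∀ 𝔡 : Frame p ω (G₀ × X), 𝔡.IsComm → 𝔡.y ^ (q ^ r) = 1 → Nat.card 𝔡.P ≤ p ^ c) :
    ∃ φ : G₀ →* X, Function.Surjective φ ∧ φ.ker ≤ Subgroup.center G₀ := by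
  have hqp : q.Prime := Fact.out
  obtain ⟨𝔡, hdy, hdP, hdπ⟩ := exists_fibre_frame 𝔣₀ 𝔣
  obtain ⟨P₁, h₁, hyP₁, hs, hc⟩ := exists_isComm_restrict 𝔡 hω1
  set 𝔡' := 𝔡.restrict P₁ h₁ hyP₁ hs with h𝔡'
  have hy' : 𝔡'.y = (𝔣₀.y, 𝔣.y) := hdy
  have hyn : 𝔡'.y ^ (q ^ r) = 1 := by
    rw [hy', Prod.pow_mk, ← hy₀, pow_orderOf_eq_one, hy₀, ← hy, pow_orderOf_eq_one]; rfl
  have hle : Nat.card 𝔡'.P ≤ Nat.card 𝔣₀.P := by rw [hcard₀]; exact hub 𝔡' hc hyn
  refine exists_hom_of_subframe q r hpq 𝔣₀ 𝔣 𝔡' hgen₀ hgen hP hy₀ hy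
    (card_eq_of_frame 𝔣₀ q r hpq hgen₀ hP₀ hy₀) (ker_le_center 𝔣₀ hgen₀)
    (fun P₁ h hs => eq_of_surj_of_isTight 𝔣₀ ht₀ P₁ h hs)
    (fun P₁ h hs => eq_of_surj_of_isTight 𝔣 ht P₁ h hs)
    (card_closure_le 𝔡' (q ^ r) (pow_pos hqp.pos r) hyn)
    (fun D h1 h2 h3 => exists_hom_of_graph D h1 h2 h3) hy' ?_ hle
  intro d hd
  have hd' : d ∈ 𝔡.P := h₁ hd
  obtain ⟨h₀, h, he⟩ := (hdP d).mp hd'
  exact ⟨h₀, h, he, hdπ d hd' h₀⟩

/-- (E-odd) -/
theorem exists_G0_odd {K : Type u} [Field K] [Finite K] (p q r : ℕ) [Fact p.Prime] [Fact q.Prime] [CharP K p]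
    (hr : 1 ≤ r) (ω : K) (hω : orderOf ω = q) :
    ∃ (G₀ : Type u) (_ : Group G₀) (_ : Finite G₀) (𝔣₀ : Frame p ω G₀),
      𝔣₀.IsGen ∧ 𝔣₀.IsComm ∧ orderOf 𝔣₀.y = q ^ r ∧ Nat.card 𝔣₀.P = Nat.card K := by
  have hqp : q.Prime := Fact.out
  have hω0 : ω ≠ 0 := by
    rintro rfl
    rw [orderOf_zero] at hω
    · exact hqp.ne_zero hω.symm
  have hω1 : ω ≠ 1 := by
    rintro rfl
    rw [orderOf_one] at hω
    exact hqp.one_lt.ne hω
  have hωq : ω ^ q = 1 := by rw [← hω]; exact pow_orderOf_eq_one _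
  let αa : K ≃+ K :=
    { toFun := fun x => ω * x
      invFun := fun x => ω⁻¹ * x
      left_inv := fun x => by simp [hω0]
      right_inv := fun x => by simp [hω0]
      map_add' := mul_add ω }
  let α : Multiplicative K ≃* Multiplicative K := AddEquiv.toMultiplicative αa
  have hα : ∀ x : Multiplicative K, Multiplicative.toAdd (α x) = ω * Multiplicative.toAdd x := fun x => rfl
  have hαpow : ∀ (n : ℕ) (x : Multiplicative K), Multiplicative.toAdd ((α ^ n) x) = ω ^ n * Multiplicative.toAdd x := by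
    intro n
    induction n with
    | zero => intro x; simp
    | succ n ih =>
      intro x
      rw [pow_succ', MulAut.mul_apply, hα, ih, pow_succ', mul_assoc]
  obtain ⟨G₀, i1, i2, 𝔣₀, h1, h2, h3, h4⟩ := exists_frame_of_aut (p := p) (ω := ω) α (MonoidHom.id (Multiplicative K)) q r hr
    (fun x => by
      apply Multiplicative.toAdd.injective
      rw [hαpow, hωq, one_mul])
    (fun x => hα x) Function.surjective_id
    (fun z hz x => by
      have : z = 1 := hz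
      rw [this, one_mul, mul_one])
    (fun z hz => by
      have : z = 1 := hz
      rw [this, one_pow])
    (fun z hz => by
      have : z = 1 := hz
      rw [this, map_one])
    (fun x => by
      apply Subgroup.subset_closure
      refine ⟨Multiplicative.ofAdd ((ω - 1)⁻¹ * Multiplicative.toAdd x), ?_⟩
      apply Multiplicative.toAdd.injective
      have hne : ω - 1 ≠ 0 := sub_ne_zero.mpr hω1
      rw [toAdd_mul, toAdd_inv, hα, toAdd_ofAdd]
      field_simp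
      ring)
  refine ⟨G₀, i1, i2, 𝔣₀, h1, h2, h3, ?_⟩
  rw [h4]; rfl

/-- (E-even) -/
theorem exists_G0_even {K : Type u} [Field K] [Finite K] (p q r : ℕ) [Fact p.Prime] [Fact q.Prime] [CharP K p]
    (hpq : p ≠ q) (hr : 1 ≤ r) (a : ℕ) (ha : a = orderOf (p : ZMod q)) (heven : a % 2 ≠ 1)
    (hK : Nat.card K = p ^ a) (ω : K) (hω : orderOf ω = q) :
    ∃ (G₀ : Type u) (_ : Group G₀) (_ : Finite G₀) (𝔣₀ : Frame p ω G₀),
      𝔣₀.IsGen ∧ 𝔣₀.IsComm ∧ orderOf 𝔣₀.y = q ^ r ∧ p ^ (a + a / 2) ≤ Nat.card 𝔣₀.P ∧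
      ∃ k : ℕ, Nat.card 𝔣₀.P = p ^ k := by
  have hqp : q.Prime := Fact.out
  have hpp : p.Prime := Fact.out
  have hω1 : ω ≠ 1 := by
    rintro rfl
    rw [orderOf_one] at hω
    exact hqp.one_lt.ne hω
  have hωq : ω ^ q = 1 := by rw [← hω]; exact pow_orderOf_eq_one _
  obtain ⟨σ, ε, hσ, hσω, hε, hfix⟩ := exists_sigma p q hpq a ha heven hK ω hω
  obtain ⟨htr, hker⟩ := trace_facts p a hK σ ε hσ hε hfix
  obtain ⟨P₀, i1, i2, α, π₀, e1, e2, e3, e4, e5, e6, e7, e8⟩ :=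
    exists_heis p q ω hω1 hωq hqp.ne_zero σ ε hσ hσω hε htr
  obtain ⟨G₀, j1, j2, 𝔣₀, h1, h2, h3, h4⟩ := exists_frame_of_aut (p := p) (ω := ω) α π₀ q r hr e1 e2 e3 e4 e5 e6 e7
  refine ⟨G₀, j1, j2, 𝔣₀, h1, h2, h3, ?_, ?_⟩
  · rw [h4, e8, hK, pow_add]
    exact Nat.mul_le_mul_left _ hker
  · rw [h4, e8, hK]
    -- the second factor divides `|K| = p^a`
    have hdvd : Nat.card {c : K // c + σ c = 0} ∣ p ^ a := by
      let S : AddSubgroup K :=
        { carrier := {c | c + σ c = 0}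
          zero_mem' := by simp
          add_mem' := by
            intro x y hx hy
            simp only [Set.mem_ofPred_eq] at *
            rw [map_add]
            calc x + y + (σ x + σ y) = (x + σ x) + (y + σ y) := by ring
              _ = 0 := by rw [hx, hy, add_zero]
          neg_mem' := by
            intro x hx
            simp only [Set.mem_ofPred_eq] at *
            rw [map_neg, ← neg_add, hx, neg_zero] }
      have : Nat.card S ∣ Nat.card K := AddSubgroup.card_addSubgroup_dvd_card S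
      rw [hK] at this
      exact this
    obtain ⟨m, -, hm⟩ := (Nat.dvd_prime_pow hpp).mp hdvd
    exact ⟨a + m, by rw [hm, pow_add]⟩

end Cfsg.Agent.Lib.Helper21.SchMain
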