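import Mathlib
import Cfsg.Prelude.Def_Transfer
import Cfsg.Prelude.Def_SolvableStructure
import Cfsg.Prelude.Def_Local
import Cfsg.Prelude.Def_CaseTheorems
import Cfsg.Agent.Lib.Helper21.SchDefs
import Cfsg.Agent.Lib.Helper21.SchPDefs

/-!
# S4394, leaf N4: `Z(P) = ker π` for nonabelian `P`
-/

set_option autoImplicit false
universe u v
open Cfsg
open Cfsg.Agent.Lib.Helper21.Sch
open Cfsg.Agent.Lib.Helper21.SchP

namespace Cfsg.Agent.Lib.Helper21.SchPN4

section frames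
variable {p : ℕ} [Fact p.Prime] {K : Type*} [Field K] {ω : K} {X : Type*} [Group X]

omit [Fact p.Prime] in
/-- conjugation by `y` is onto `P` -/
theorem exists_conj_eq [Finite X] (𝔣 : Frame p ω X) (x : ↥𝔣.P) :
    ∃ x' : ↥𝔣.P, 𝔣.y * (x' : X) * 𝔣.y⁻¹ = (x : X) := by
  let c : ↥𝔣.P → ↥𝔣.P := fun x' => ⟨𝔣.y * (x' : X) * 𝔣.y⁻¹, 𝔣.y_norm x' x'.2⟩
  have hinj : Function.Injective c := by
    intro a b hab
    have h := congrArg Subtype.val hab
    simp only [c] at h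
    apply Subtype.ext
    exact mul_left_cancel (mul_right_cancel h)
  obtain ⟨x', hx'⟩ := Finite.surjective_of_injective hinj x
  exact ⟨x', congrArg Subtype.val hx'⟩

omit [Fact p.Prime] in
/-- **TAG N4** -/
theorem center_iff_ker [Finite X] (𝔣 : Frame p ω X)
    (hirr : ∀ S : AddSubgroup K, (∀ v ∈ S, ω * v ∈ S) → S = ⊥ ∨ S = ⊤)
    (hnab : ∃ x x' : ↥𝔣.P, x * x' ≠ x' * x) :
    ∀ z : ↥𝔣.P, z ∈ Subgroup.center ↥𝔣.P ↔ 𝔣.π z = 1 := by
  -- the image of the center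
  let T : AddSubgroup K :=
    { carrier := {v | ∃ z ∈ Subgroup.center ↥𝔣.P, Multiplicative.toAdd (𝔣.π z) = v}
      zero_mem' := ⟨1, one_mem _, by simp⟩
      add_mem' := by
        rintro _ _ ⟨z, hz, rfl⟩ ⟨z', hz', rfl⟩
        exact ⟨z * z', mul_mem hz hz', by simp⟩
      neg_mem' := by
        rintro _ ⟨z, hz, rfl⟩
        exact ⟨z⁻¹, inv_mem hz, by simp⟩ }
  have hT : ∀ v ∈ T, ω * v ∈ T := by
    rintro _ ⟨z, hz, rfl⟩
    refine ⟨⟨𝔣.y * (z : X) * 𝔣.y⁻¹, 𝔣.y_norm z z.2⟩, ?_, ?_⟩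
    · rw [Subgroup.mem_center_iff]
      intro x
      obtain ⟨x', hx'⟩ := exists_conj_eq 𝔣 x
      rw [Subgroup.mem_center_iff] at hz
      have h := congrArg Subtype.val (hz x')
      apply Subtype.ext
      simp only [Subgroup.coe_mul] at h ⊢
      rw [← hx']
      calc 𝔣.y * ↑x' * 𝔣.y⁻¹ * (𝔣.y * ↑z * 𝔣.y⁻¹) = 𝔣.y * (↑x' * ↑z) * 𝔣.y⁻¹ := by group
        _ = 𝔣.y * (↑z * ↑x') * 𝔣.y⁻¹ := by rw [h]
        _ = 𝔣.y * ↑z * 𝔣.y⁻¹ * (𝔣.y * ↑x' * 𝔣.y⁻¹) := by group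
    · exact 𝔣.π_conj z z.2
  intro z
  constructor
  · intro hz
    rcases hirr T hT with hbot | htop
    · have hmem : Multiplicative.toAdd (𝔣.π z) ∈ T := ⟨z, hz, rfl⟩
      rw [hbot, AddSubgroup.mem_bot] at hmem
      exact Multiplicative.toAdd.injective hmem
    · exfalso
      obtain ⟨x, x', hxx⟩ := hnab
      apply hxx
      have hmem : Multiplicative.toAdd (𝔣.π x) ∈ T := by rw [htop]; exact AddSubgroup.mem_top _
      obtain ⟨c, hc, hcx⟩ := hmem
      have hπ : 𝔣.π (x * c⁻¹) = 1 := by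
        rw [map_mul, map_inv]
        have : 𝔣.π c = 𝔣.π x := Multiplicative.toAdd.injective hcx
        rw [this, mul_inv_cancel]
      have h1 := 𝔣.ker_central (x * c⁻¹) hπ x'
      rw [Subgroup.mem_center_iff] at hc
      have h2 := hc x'
      calc x * x' = (x * c⁻¹) * (c * x') := by group
        _ = (x * c⁻¹) * (x' * c) := by rw [h2]
        _ = ((x * c⁻¹) * x') * c := by group
        _ = (x' * (x * c⁻¹)) * c := by rw [h1]
        _ = x' * x := by group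
  · intro hz
    rw [Subgroup.mem_center_iff]
    intro x
    exact (𝔣.ker_central z hz x).symm

end frames

end Cfsg.Agent.Lib.Helper21.SchPN4
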