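import Mathlib
import Cfsg.Prelude.Def_Transfer
import Cfsg.Prelude.Def_SolvableStructure
import Cfsg.Prelude.Def_Local
import Cfsg.Prelude.Def_CaseTheorems
import Cfsg.Agent.Lib.Helper21.SchDefs
import Cfsg.Agent.Lib.Helper21.SchPDefs

/-!
# S4394, leaf N6: `|K| = 4`: the elements outside the centre have order `4`
-/

set_option autoImplicit false
universe u v
open Cfsg
open Cfsg.Agent.Lib.Helper21.Sch
open Cfsg.Agent.Lib.Helper21.SchP

namespace Cfsg.Agent.Lib.Helper21.SchPN6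

/-- the four elements of `K` -/
theorem eq_zero_or_pow {K : Type*} [Field K] [Finite K] {ω : K} (hK : Nat.card K = 4) (hω1 : ω ≠ 1)
    (hω3 : ω ^ 3 = 1) (v : K) : v = 0 ∨ v = 1 ∨ v = ω ∨ v = ω ^ 2 := by
  have : Fintype K := Fintype.ofFinite K
  have hcard : Fintype.card K = 4 := by rw [← Nat.card_eq_fintype_card]; exact hK
  have hv4 : v ^ 4 = v := by rw [← hcard]; exact FiniteField.pow_card v
  have hω2 : ω ^ 2 + ω + 1 = 0 := by
    have h : (ω - 1) * (ω ^ 2 + ω + 1) = ω ^ 3 - 1 := by ring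
    rw [hω3, sub_self] at h
    exact (mul_eq_zero.mp h).resolve_left (sub_ne_zero.mpr hω1)
  have h0 : v * (v ^ 3 - 1) = 0 := by
    have : v * (v ^ 3 - 1) = v ^ 4 - v := by ring
    rw [this, hv4, sub_self]
  rcases mul_eq_zero.mp h0 with h | h
  · exact Or.inl h
  · right
    have hfac : (v - 1) * (v - ω) * (v - ω ^ 2) = v ^ 3 - 1 := by
      linear_combination (-(v - 1) * v) * hω2 + (v - 1) * hω3
    rw [h] at hfac
    rcases mul_eq_zero.mp hfac with h' | h'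
    · rcases mul_eq_zero.mp h' with h'' | h''
      · exact Or.inl (sub_eq_zero.mp h'')
      · exact Or.inr (Or.inl (sub_eq_zero.mp h''))
    · exact Or.inr (Or.inr (sub_eq_zero.mp h'))

/-- **TAG N6** -/
theorem sq_ne_one_of_card_four {K : Type*} [Field K] [Finite K] [CharP K 2] {ω : K} {X : Type*} [Group X] [Finite X]
    (𝔣 : Frame 2 ω X) (hK : Nat.card K = 4) (hω1 : ω ≠ 1) (hω3 : ω ^ 3 = 1)
    (x₀ : X) (hx₀ : x₀ ∈ 𝔣.P) (h1 : Multiplicative.toAdd (𝔣.π ⟨x₀, hx₀⟩) = 1)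
    (hΓ : ∀ z : ↥𝔣.P, 𝔣.π z = 1 → ∃ x'' ∈ 𝔣.P, (z : X) = x₀ * x'' * x₀⁻¹ * x''⁻¹)
    (hnab : ∃ x x' : ↥𝔣.P, x * x' ≠ x' * x) :
    ∀ x : ↥𝔣.P, 𝔣.π x ≠ 1 → x ^ 2 ≠ 1 := by
  have hω2 : ω ^ 2 + ω + 1 = 0 := by
    have h : (ω - 1) * (ω ^ 2 + ω + 1) = ω ^ 3 - 1 := by ring
    rw [hω3, sub_self] at h
    exact (mul_eq_zero.mp h).resolve_left (sub_ne_zero.mpr hω1)
  have hω2' : ω ^ 2 = 1 + ω := by
    have h2 : (1 + ω) + (1 + ω) = 0 := CharTwo.add_self_eq_zero (1 + ω)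
    linear_combination hω2 - h2
  have h1ω : (1 : K) + ω ≠ 0 := by
    intro h
    apply hω1
    have h11 : (1 : K) + 1 = 0 := CharTwo.add_self_eq_zero (1 : K)
    linear_combination h - h11
  have h4 := eq_zero_or_pow hK hω1 hω3
  -- conjugation
  let cy : ↥𝔣.P → ↥𝔣.P := fun x => ⟨𝔣.y * (x : X) * 𝔣.y⁻¹, 𝔣.y_norm x x.2⟩
  have hcy : ∀ x : ↥𝔣.P, Multiplicative.toAdd (𝔣.π (cy x)) = ω * Multiplicative.toAdd (𝔣.π x) :=
    fun x => 𝔣.π_conj x x.2
  have hsqker : ∀ x : ↥𝔣.P, 𝔣.π (x ^ 2) = 1 := by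
    intro x
    apply Multiplicative.toAdd.injective
    rw [map_pow, toAdd_pow, toAdd_one, nsmul_eq_mul]
    have : ((2 : ℕ) : K) = 0 := CharP.cast_eq_zero K 2
    rw [this, zero_mul]
  have hcysq : ∀ x : ↥𝔣.P, (cy x) ^ 2 = x ^ 2 := by
    intro x
    apply Subtype.ext
    have h := 𝔣.ker_fixed (x ^ 2) (hsqker x)
    simp only [cy, Subgroup.coe_pow] at h ⊢
    rw [conj_pow]
    exact h
  have hmulz : ∀ x z : ↥𝔣.P, 𝔣.π z = 1 → (x * z) ^ 2 = x ^ 2 := by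
    intro x z hz
    have h1 := 𝔣.ker_central z hz x
    have h2 : z ^ 2 = 1 := 𝔣.ker_exp z hz
    calc (x * z) ^ 2 = x * (z * x) * z := by rw [pow_two]; group
      _ = x * (x * z) * z := by rw [h1]
      _ = x ^ 2 * z ^ 2 := by rw [pow_two, pow_two]; group
      _ = x ^ 2 := by rw [h2, mul_one]
  have hsqeq : ∀ x x' : ↥𝔣.P, 𝔣.π x = 𝔣.π x' → x' ^ 2 = x ^ 2 := by
    intro x x' h
    have hz : 𝔣.π (x⁻¹ * x') = 1 := by rw [map_mul, map_inv, h, inv_mul_cancel]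
    have := hmulz x (x⁻¹ * x') hz
    rwa [mul_inv_cancel_left] at this
  set X₀ : ↥𝔣.P := ⟨x₀, hx₀⟩ with hX₀
  have hπ1 : Multiplicative.toAdd (𝔣.π (cy X₀)) = ω := by rw [hcy, h1, mul_one]
  have hπ2 : Multiplicative.toAdd (𝔣.π (cy (cy X₀))) = ω ^ 2 := by rw [hcy, hπ1, pow_two]
  have hπ3 : Multiplicative.toAdd (𝔣.π (X₀ * cy X₀)) = ω ^ 2 := by
    rw [map_mul, toAdd_mul, h1, hπ1, hω2']
  -- all squares agree
  have hsq : ∀ x : ↥𝔣.P, 𝔣.π x ≠ 1 → x ^ 2 = X₀ ^ 2 := by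
    intro x hx
    rcases h4 (Multiplicative.toAdd (𝔣.π x)) with h | h | h | h
    · exact absurd (Multiplicative.toAdd.injective (by rw [h, toAdd_one])) hx
    · exact hsqeq X₀ x (Multiplicative.toAdd.injective (by rw [h, h1]))
    · rw [hsqeq (cy X₀) x (Multiplicative.toAdd.injective (by rw [h, hπ1])), hcysq]
    · rw [hsqeq (cy (cy X₀)) x (Multiplicative.toAdd.injective (by rw [h, hπ2])), hcysq, hcysq]
  intro x hx hx2
  have hc : X₀ ^ 2 = 1 := by rw [← hsq x hx]; exact hx2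
  have hX₀ne : 𝔣.π X₀ ≠ 1 := by
    intro h
    have := congrArg Multiplicative.toAdd h
    rw [h1, toAdd_one] at this
    exact one_ne_zero this
  have hc1 : (cy X₀) ^ 2 = 1 := by rw [hcysq]; exact hc
  have hc2 : (X₀ * cy X₀) ^ 2 = 1 := by
    rw [hsq (X₀ * cy X₀) ?_]
    · exact hc
    · intro h
      have := congrArg Multiplicative.toAdd h
      rw [hπ3, toAdd_one, hω2'] at this
      exact h1ω this
  have e0 : X₀⁻¹ = X₀ := inv_eq_of_mul_eq_one_right (by rw [← pow_two]; exact hc)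
  have e1 : (cy X₀)⁻¹ = cy X₀ := inv_eq_of_mul_eq_one_right (by rw [← pow_two]; exact hc1)
  have e2 : (X₀ * cy X₀)⁻¹ = X₀ * cy X₀ := inv_eq_of_mul_eq_one_right (by rw [← pow_two]; exact hc2)
  have hcomm01 : X₀ * cy X₀ = cy X₀ * X₀ := by
    rw [← e2, mul_inv_rev, e0, e1]
  -- `X₀` is central
  have hL : ∀ x x' : ↥𝔣.P, 𝔣.π x = 𝔣.π x' → X₀ * x' = x' * X₀ → X₀ * x = x * X₀ := by
    intro x x' h hx'
    have hz : 𝔣.π (x'⁻¹ * x) = 1 := by rw [map_mul, map_inv, h, inv_mul_cancel]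
    have hzc := 𝔣.ker_central (x'⁻¹ * x) hz X₀
    calc X₀ * x = (X₀ * x') * (x'⁻¹ * x) := by group
      _ = x' * (X₀ * (x'⁻¹ * x)) := by rw [hx']; group
      _ = x' * ((x'⁻¹ * x) * X₀) := by rw [hzc]
      _ = x * X₀ := by group
  have hcen : ∀ x : ↥𝔣.P, X₀ * x = x * X₀ := by
    intro x
    rcases h4 (Multiplicative.toAdd (𝔣.π x)) with h | h | h | h
    · exact hL x 1 (Multiplicative.toAdd.injective (by rw [h, map_one, toAdd_one])) (by rw [mul_one, one_mul])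
    · exact hL x X₀ (Multiplicative.toAdd.injective (by rw [h, h1])) rfl
    · exact hL x (cy X₀) (Multiplicative.toAdd.injective (by rw [h, hπ1])) hcomm01
    · refine hL x (X₀ * cy X₀) (Multiplicative.toAdd.injective (by rw [h, hπ3])) ?_
      rw [← mul_assoc, mul_assoc X₀ (cy X₀) X₀, ← hcomm01, mul_assoc]
  -- the kernel is trivial
  have hker : ∀ z : ↥𝔣.P, 𝔣.π z = 1 → z = 1 := by
    intro z hz
    obtain ⟨x'', hx'', hzx⟩ := hΓ z hz
    have h := congrArg Subtype.val (hcen ⟨x'', hx''⟩)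
    simp only [Subgroup.coe_mul, hX₀] at h
    apply Subtype.ext
    rw [hzx, h]
    simp
  obtain ⟨a, b, hab⟩ := hnab
  apply hab
  have hπc : 𝔣.π (a * b * a⁻¹ * b⁻¹) = 1 := by
    rw [map_mul, map_mul, map_mul, map_inv, map_inv]
    rw [mul_comm (𝔣.π a) (𝔣.π b), mul_assoc (𝔣.π b), mul_inv_cancel, mul_one, mul_inv_cancel]
  have h2 := hker _ hπc
  calc a * b = (a * b * a⁻¹ * b⁻¹) * (b * a) := by group
    _ = b * a := by rw [h2, one_mul]

end Cfsg.Agent.Lib.Helper21.SchPN6
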