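import Mathlib
import Cfsg.Prelude.Def_Transfer
import Cfsg.Prelude.Def_SolvableStructure
import Cfsg.Prelude.Def_Local
import Cfsg.Prelude.Def_CaseTheorems
import Cfsg.Agent.Lib.Helper21.SchDefs
import Cfsg.Agent.Lib.Helper21.SchPDefs
import Cfsg.Agent.Lib.Helper12.SchPG0
import Cfsg.Agent.Lib.Helper12.SchPG1P
import Cfsg.Agent.Lib.Helper12.SchPG2A
import Cfsg.Agent.Lib.Helper12.SchPN7
import Cfsg.Agent.Lib.Helper20.SchPG2
import Cfsg.Agent.Lib.Helper21.SchPN2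
import Cfsg.Agent.Lib.Helper21.SchPN4
import Cfsg.Agent.Lib.Helper21.SchPN6
import Cfsg.Agent.Lib.Helper4.SchPG4
import Cfsg.Agent.Lib.Helper4.SchPN1
import Cfsg.Agent.Lib.Helper7.SchPN5
import Cfsg.Agent.Lib.Helper9.SchPG1
import Cfsg.Agent.Lib.Helper9.SchPG3
import Cfsg.Agent.Lib.Helper9.SchPN8

/-!
# S4394 (`p`-solvable groups whose Sylow `p`-subgroup is the normal Sylow `p`-subgroup of a Schmidt group have
`p`-length `≤ 1`): FROZEN LEAF STATEMENTS (planner helper21)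

THE SPINE IS WRITTEN AND COMPILES against these statements (helper21's box: `SchPMain` + `S4394.lean`, on top of the
landed S4395 library `Lib/Helper21/SchMain1/2/3`), so the 14 leaves below are exactly what is missing.
Defs ON MAIN: `Cfsg/Agent/Lib/Helper21/SchDefs.lean` (`Frame`, ...) and `Cfsg/Agent/Lib/Helper21/SchPDefs.lean`
(`BigType`, `Q8Type`, `ClassTwo`, `SchType`).

HOW TO TAKE A LEAF.  Post `TAKE S4394-<TAG>` (lowest message id holds it, twins welcome on N5, G2).  Prove it in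
`Cfsg/Agent/Lib/HelperN/SchP<TAG>.lean`, namespace `Cfsg.Agent.Lib.HelperN.SchP<TAG>`, EXACT name + binders, under this
file's header (the 7 imports, `universe u v`, the three `open` lines; extra imports of landed libs are fine, e.g. the
S4395 leaves `Cfsg.Agent.Lib.Helper22.SchNORM/SchCENT/SchB5`, `Helper17.SchCARD`, `Helper23.SchCalc`).
rfl-check your copy against this file, scan, land, announce `DONE S4394-<TAG>` with module + call.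

THE MATH.  `X = P ⋊ ⟨y⟩` Schmidt group, frame `𝔣` over `K = 𝔽_p[ω]` (S4395): `π : P → (K,+)` onto, `Z = ker π` central
of exponent `p`, `y`-fixed, `Z = {[x₀,x]}` (`π x₀ = 1`), `|Z| ≤ p^{bb a}`, `|K| = p^a`.  If `P` is nonabelian then
`Z = Z(P)`, `a` is even, and for `a ≥ 4`: every `R ≤ S₁ ≤ P` with `|P : S₁| = p`, `C_P(R) ≤ R` has `[R,S₁] = Z`
(N5: otherwise `[R,S₁] ≤ T < Z`, `|Z : T| = p`; the `T`-radical `{x | [x,P] ≤ T}` is `Z` by irreducibility; so the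
`T`-perp of the hyperplane `S₁` has order `≤ p |Z|`, `|R| ≤ p |Z|`, and `|C_P(R)| ≥ |K| > p |Z|`).
In a `p`-solvable `H` with `O_{p'}(H) = 1`, `R = O_p(H)`, Sylow `S`: `Z(S) ≤ C_H(R) ≤ R`; `S/R` is elementary abelian; for
`x ∈ S \ R` some `B ≤ S/R` of index `p` has `C_{O_{p'}(H/R)}(B) ⊄ C(x̄)` (helper8 `Hyperplane`); a lift `d` of such an
element normalizes `R`, `S₁ = ` preimage of `B`, hence `[R,S₁] = Z(S)`; `e = (d x d⁻¹) x⁻¹` centralizes `Z(S)` and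
`R/Z(S)`; its `p'`-part centralizes `R` (G2A), so it is `1`, `e` is a `p`-element, `[d̄,x̄] ∈ O_{p'}(H/R)` is a `p`-element:
`[d̄,x̄] = 1`, contradiction.  `a = 2`: `p = 2` gives `Q₈` (N6, G3), `p = 3` is impossible (N7), `p ≥ 5` by landed S0625 (G4).
-/

set_option autoImplicit false
universe u v
open Cfsg
open Cfsg.Agent.Lib.Helper21.Sch
open Cfsg.Agent.Lib.Helper21.SchP

namespace Cfsg.Agent.Lib.Helper21.SchPLeaves

/-! ## Part I: the structure of `P` -/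

/-- **TAG N1** `import Cfsg.Agent.Lib.Helper4.Schmidt6` (`schmidt_structure'`: a minimal non-nilpotent group has a
cyclic non-normal Sylow `p'`-subgroup `P'` and a normal Sylow `q'`-subgroup `Q'` with `P' ⊔ Q' = ⊤`); our `p` is `q'`
(`p ∣ |X|` as `P ≠ ⊥`; the Sylow `p'`-subgroups are not normal).  Nilpotent groups have normal `p`-complements
(`Cfsg.Agent.Lib.Helper29.frobCond_of_isNilpotent` + `frobCond_iff` in `Helper29.MinNonPNilpotent`); `X` has none: a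
normal complement `N` of the normal `P` gives `X = P × N` with `N` proper, so nilpotent, so `X` nilpotent. -/
theorem exists_order_data {X : Type u} [Group X] [Finite X] (p : ℕ) [Fact p.Prime]
    (hX : Cfsg.IsMinimalNonNilpotent X) (P : Sylow p X) (hPn : (P : Subgroup X).Normal)
    (hP1 : (P : Subgroup X) ≠ ⊥) :
    ∃ q r t : ℕ, q.Prime ∧ p ≠ q ∧ Nat.card X = p ^ t * q ^ r ∧ ¬ Cfsg.HasNormalPComplement p X ∧
      ∀ H : Subgroup X, H ≠ ⊤ → Cfsg.HasNormalPComplement p ↥H :=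
  Cfsg.Agent.Lib.Helper4.SchPN1.exists_order_data p hX P hPn hP1

section frames
variable {p : ℕ} [Fact p.Prime] {K : Type*} [Field K] {ω : K} {X : Type*} [Group X]

/-- **TAG N2** `𝔣.P` is a normal `p`-subgroup (`Cfsg.Agent.Lib.Helper22.SchNORM.normal_of_frame`) of index `q^r`
(`Cfsg.Agent.Lib.Helper17.SchCARD.card_eq_of_frame`), so it is the Sylow `p`-subgroup. -/
theorem frame_P_eq_sylow [Finite X] (𝔣 : Frame p ω X) (q r : ℕ) [Fact q.Prime] (hpq : p ≠ q)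
    (hgen : 𝔣.IsGen) (hP : IsPGroup p 𝔣.P) (hy : orderOf 𝔣.y = q ^ r) (P : Sylow p X) :
    𝔣.P = (P : Subgroup X) :=
  Cfsg.Agent.Lib.Helper21.SchPN2.frame_P_eq_sylow 𝔣 q r hpq hgen hP hy P

/-- **TAG N4** `Z(P) = ker π` for nonabelian `P`: `{π z | z ∈ Z(P)}` is an additive subgroup of `K` closed under `ω •`
(`y Z(P) y⁻¹ = Z(P)`; conjugation by `y` is onto `P`, `X` finite), so it is `⊥` or `⊤`; `⊤` makes `P = Z(P) ker π`
abelian. -/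
theorem center_iff_ker [Finite X] (𝔣 : Frame p ω X)
    (hirr : ∀ S : AddSubgroup K, (∀ v ∈ S, ω * v ∈ S) → S = ⊥ ∨ S = ⊤)
    (hnab : ∃ x x' : ↥𝔣.P, x * x' ≠ x' * x) :
    ∀ z : ↥𝔣.P, z ∈ Subgroup.center ↥𝔣.P ↔ 𝔣.π z = 1 :=
  Cfsg.Agent.Lib.Helper21.SchPN4.center_iff_ker 𝔣 hirr hnab

/-- **TAG N5** see the header.  `P̃ = ↥𝔣.P` is a `p`-group of class `2` (`ker π = Z` central, elementary abelian),
`S₁` of index `p` is normal with `P̃/S₁` of order `p`, so `𝔣.Phi ≤ S₁` and `Z ≤ S₁` (`ht`).  `C = closure {[r,s]} ≤ Z`; if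
`C ≠ Z` pick `C ≤ T ≤ Z` with `|Z : T| = p`.  `rad = {x | ∀ x', [x,x'] ∈ T}` is a `y`-invariant subgroup containing `Z`
and not `x₀` (`hΓ`), so `π rad = ⊥` (`hirr`), `rad = Z`.  `w ∉ S₁`.  For `u, u' ∈ S₁^⊥ = {x | ∀ s ∈ S₁, [x,s] ∈ T}`
outside `Z`: `[u,w] ∉ T`, `[u',w] ∈ [u,w]^i T`, so `u' u^-i ∈ rad = Z`: `|S₁^⊥| ≤ p |Z|`.  `R ≤ S₁^⊥`.  `R ≤ Z` gives
`C_P̃(R) = P̃ ≤ Z`, abelian; otherwise `R ≤ ⟨u⟩ Z`, `C_P̃(R) = C_P̃(u)` is the kernel of `x' ↦ [u,x'] : P̃ → Z`, of order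
`≥ |P̃| / |Z| = |K| > p |Z| ≥ |R|`. -/
theorem comm_closure_eq_ker [Finite X] [Finite K] [CharP K p] (𝔣 : Frame p ω X)
    (hirr : ∀ S : AddSubgroup K, (∀ v ∈ S, ω * v ∈ S) → S = ⊥ ∨ S = ⊤)
    (ht : 𝔣.IsTight) (x₀ : X) (hx₀ : x₀ ∈ 𝔣.P)
    (hΓ : ∀ z : ↥𝔣.P, 𝔣.π z = 1 → ∃ x'' ∈ 𝔣.P, (z : X) = x₀ * x'' * x₀⁻¹ * x''⁻¹)
    (hnab : ∃ x x' : ↥𝔣.P, x * x' ≠ x' * x)
    (hcard : p * Nat.card 𝔣.π.ker < Nat.card K) :
    ∀ R S₁ : Subgroup ↥𝔣.P, R ≤ S₁ → S₁.index = p → Subgroup.centralizer (R : Set ↥𝔣.P) ≤ R →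
      Subgroup.closure {c : ↥𝔣.P | ∃ r ∈ R, ∃ s ∈ S₁, c = r * s * r⁻¹ * s⁻¹} = 𝔣.π.ker :=
  Cfsg.Agent.Lib.Helper7.SchPN5.comm_closure_eq_ker 𝔣 hirr ht x₀ hx₀ hΓ hnab hcard

end frames

/-- **TAG N6** `p = 2`, `|K| = 4`, `K = {0, 1, ω, 1 + ω}`, `1 + ω = ω²`.  `x² ∈ ker π` is `y`-fixed, and `(x z)² = x²` for
`z ∈ ker π`, so `x² = x₀² =: c` whenever `π x ≠ 0` (`x ∈ (y^i x₀ y^-i) ker π`).  With `x₁ = y x₀ y⁻¹`:
`c = (x₀ x₁)² = x₀² x₁² [x₁,x₀] = c² [x₁,x₀]`.  If `c = 1` then `x₀` commutes with `x₁`, so with all of `P` (`π x₀, π x₁` span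
`K`), so `ker π = 1` (`hΓ`) and `P` is abelian. -/
theorem sq_ne_one_of_card_four {K : Type*} [Field K] [Finite K] [CharP K 2] {ω : K} {X : Type*} [Group X] [Finite X]
    (𝔣 : Frame 2 ω X) (hK : Nat.card K = 4) (hω1 : ω ≠ 1) (hω3 : ω ^ 3 = 1)
    (x₀ : X) (hx₀ : x₀ ∈ 𝔣.P) (h1 : Multiplicative.toAdd (𝔣.π ⟨x₀, hx₀⟩) = 1)
    (hΓ : ∀ z : ↥𝔣.P, 𝔣.π z = 1 → ∃ x'' ∈ 𝔣.P, (z : X) = x₀ * x'' * x₀⁻¹ * x''⁻¹)
    (hnab : ∃ x x' : ↥𝔣.P, x * x' ≠ x' * x) :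
    ∀ x : ↥𝔣.P, 𝔣.π x ≠ 1 → x ^ 2 ≠ 1 :=
  Cfsg.Agent.Lib.Helper21.SchPN6.sq_ne_one_of_card_four 𝔣 hK hω1 hω3 x₀ hx₀ h1 hΓ hnab

/-- **TAG N7** `ord_q(3) = 2` gives `q ∣ 8`, `q = 2`, but `ord_2(3) = 1`. -/
theorem orderOf_three_ne_two (q : ℕ) [Fact q.Prime] (hq : 3 ≠ q) : orderOf ((3 : ℕ) : ZMod q) ≠ 2 :=
  Cfsg.Agent.Lib.Helper12.SchPN7.orderOf_three_ne_two q hq

/-- **TAG N8** transport along an isomorphism (`Subgroup.map e.toMonoidHom`, `Subgroup.comap`, centers, centralizers,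
index, closures). -/
theorem schType_of_mulEquiv {S : Type*} [Group S] {S' : Type*} [Group S'] (p : ℕ) (e : S ≃* S')
    (h : SchType p S) : SchType p S' :=
  Cfsg.Agent.Lib.Helper9.SchPN8.schType_of_mulEquiv p e h

/-! ## Part II: `p`-solvable groups -/

/-- **TAG G0** `S ≤ C_H(O_p(H)) ≤ O_p(H)` (`Cfsg.Agent.Lib.Helper12.centralizer_pCore_le_pCore` in
`Helper12.HallHigman`; `O_p(H) ≤ S`: `Cfsg.Agent.Lib.Helper24.normal_pgroup_le_sylow`). -/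
theorem le_pCore_of_comm {H : Type*} [Group H] [Finite H] (p : ℕ) [Fact p.Prime] (hsol : Cfsg.IsPSolvable p H)
    (hO : Cfsg.pPrimeCore p H = ⊥) (S : Sylow p H) (hc : ∀ x y : ↥(S : Subgroup H), x * y = y * x) :
    (S : Subgroup H) ≤ Cfsg.pCore p H :=
  Cfsg.Agent.Lib.Helper12.SchPG0.le_pCore_of_comm p hsol hO S hc

/-- **TAG G2A** `e r e⁻¹ = z r` with `z ∈ Z` fixed by `e`, so `e^k r e^-k = z^k r`; `k = orderOf e` gives `z^k = 1`, and `z`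
is a `p`-element. -/
theorem commute_of_stabilize_chain {H : Type*} [Group H] (p : ℕ) [Fact p.Prime] (R Z : Subgroup H)
    (hR : IsPGroup p R) (hZR : Z ≤ R) (e : H) (he : (orderOf e).Coprime p)
    (heZ : ∀ z ∈ Z, e * z = z * e) (heR : ∀ r ∈ R, e * r * e⁻¹ * r⁻¹ ∈ Z) :
    ∀ r ∈ R, e * r = r * e :=
  Cfsg.Agent.Lib.Helper12.SchPG2A.commute_of_stabilize_chain p R Z hR hZR e he heZ heR

/-- **TAG G2** see the header.  Libraries: `Cfsg.Agent.Lib.Helper12.centralizer_pCore_le_pCore` (`Helper12.HallHigman`),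
`Cfsg.Agent.Lib.Helper8.DualHH.centralizer_pPrimeCore_le`, `Cfsg.Agent.Lib.Helper8.exists_hyperplane_centralizer_not_le`
(`Helper8.Hyperplane`), `Cfsg.Agent.Lib.Helper24.isPSolvable_of_surjective`, `pcore_quot_eq_bot` as used in
`Cfsg/Agent/Lib/Helper20/ExpPLenE.lean` (`core_step` there has the same set-up). -/
theorem le_pCore_of_bigType {H : Type*} [Group H] [Finite H] (p : ℕ) [Fact p.Prime] (hsol : Cfsg.IsPSolvable p H)
    (hO : Cfsg.pPrimeCore p H = ⊥) (S : Sylow p H) (hS : BigType p ↥(S : Subgroup H))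
    (hstab : ∀ (R Z : Subgroup H), IsPGroup p R → Z ≤ R → ∀ e : H, (orderOf e).Coprime p →
      (∀ z ∈ Z, e * z = z * e) → (∀ r ∈ R, e * r * e⁻¹ * r⁻¹ ∈ Z) → ∀ r ∈ R, e * r = r * e) :
    (S : Subgroup H) ≤ Cfsg.pCore p H :=
  Cfsg.Agent.Lib.Helper20.SchPG2.le_pCore_of_bigType p hsol hO S hS hstab

/-- **TAG G3** `R = O_2(H) ≤ S`, `Z(S) ≤ C_H(R) ≤ R`, `|Z(S)| = 2`.  `|R| ≤ 2`: `R` is central, `H = C_H(R) ≤ R`.
`|R| = 4`: some `x ∈ R` is not in `Z(S)`, has order `4`, `R = ⟨x⟩`, `g x g⁻¹ ∈ {x, x⁻¹}`, `|H : C_H(x)| ≤ 2`, `C_H(x) = C_H(R) ≤ R`,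
`|H| ≤ 8`, `H = S`. -/
theorem le_pCore_of_q8Type {H : Type*} [Group H] [Finite H] (hsol : Cfsg.IsPSolvable 2 H)
    (hO : Cfsg.pPrimeCore 2 H = ⊥) (S : Sylow 2 H) (hS : Q8Type ↥(S : Subgroup H)) :
    (S : Subgroup H) ≤ Cfsg.pCore 2 H :=
  Cfsg.Agent.Lib.Helper9.SchPG3.le_pCore_of_q8Type hsol hO S hS

/-- **TAG G4** `import Cfsg.Agent.S0625`: `Cfsg.Agent.S0625.result hp hsol : IsActionPStable p H`, second clause
(`IsPStableOnSection p (pCore p H) (Φ(O_p(H)))`): `x ∈ S` has `[[R,x],x] ≤ [[S,S],S] = 1`, so `x ∈ D ⊴ H` with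
`|D : C_H(R/Φ(R))|` a power of `p`; `C_H(R/Φ(R))` is a `p`-group (a `p'`-element centralizing `R/Φ(R)` centralizes `R`,
`C_H(R) ≤ R`), so `D ≤ O_p(H)`. -/
theorem le_pCore_of_classTwo {H : Type*} [Group H] [Finite H] (p : ℕ) [Fact p.Prime] (hp : 5 ≤ p)
    (hsol : Cfsg.IsPSolvable p H) (hO : Cfsg.pPrimeCore p H = ⊥) (S : Sylow p H)
    (hS : ClassTwo ↥(S : Subgroup H)) :
    (S : Subgroup H) ≤ Cfsg.pCore p H :=
  Cfsg.Agent.Lib.Helper4.SchPG4.le_pCore_of_classTwo p hp hsol hO S hS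

/-- **TAG G1** as at the end of `Cfsg.Agent.Lib.Helper22.GY.gaschutz_yen` (`Helper22/GaschutzYen.lean`):
`Helper1.PLen.pLengthLE_of_extension`, `pLengthLE_one_of_isPGroup`, `pLengthLE_zero_of_coprime`. -/
theorem pLengthLE_one_of_sylow_le_pCore {G : Type*} [Group G] [Finite G] (p : ℕ) [Fact p.Prime]
    (hG : Cfsg.IsPSolvable p G) (S : Sylow p (G ⧸ Cfsg.pPrimeCore p G))
    (hS : (S : Subgroup (G ⧸ Cfsg.pPrimeCore p G)) ≤ Cfsg.pCore p (G ⧸ Cfsg.pPrimeCore p G)) :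
    Cfsg.PLengthLE p 1 G :=
  Cfsg.Agent.Lib.Helper9.SchPG1.pLengthLE_one_of_sylow_le_pCore p hG S hS

/-- **TAG G1P** the image of `Q` in `G / O_{p'}(G)` is a Sylow `p`-subgroup isomorphic to `Q` (`Q ⊓ O_{p'}(G) = ⊥`). -/
theorem exists_sylow_quotient_equiv {G : Type*} [Group G] [Finite G] (p : ℕ) [Fact p.Prime] (Q : Sylow p G) :
    ∃ S : Sylow p (G ⧸ Cfsg.pPrimeCore p G),
      Nonempty (↥(Q : Subgroup G) ≃* ↥(S : Subgroup (G ⧸ Cfsg.pPrimeCore p G))) :=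
  Cfsg.Agent.Lib.Helper12.SchPG1P.exists_sylow_quotient_equiv p Q

end Cfsg.Agent.Lib.Helper21.SchPLeaves
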