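import Mathlib
import Cfsg.Prelude.Def_Transfer
import Cfsg.Prelude.Def_SolvableStructure
import Cfsg.Prelude.Def_Local
import Cfsg.Prelude.Def_CaseTheorems
import Cfsg.Agent.Lib.Helper21.SchDefs
import Cfsg.Agent.Lib.Helper21.SchPDefs
import Cfsg.Agent.Lib.Helper21.SchLeaves
import Cfsg.Agent.Lib.Helper21.SchMain1
import Cfsg.Agent.Lib.Helper21.SchMain2
import Cfsg.Agent.Lib.Helper21.SchPLeaves
import Cfsg.Agent.Lib.Helper24.PSolvable

/-!
# S4394: the spine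
-/

set_option autoImplicit false
universe u v
open Cfsg
open Cfsg.Agent.Lib.Helper21.Sch
open Cfsg.Agent.Lib.Helper21.SchP
open Cfsg.Agent.Lib.Helper21.SchLeaves
open Cfsg.Agent.Lib.Helper21.SchPLeaves

namespace Cfsg.Agent.Lib.Helper21.SchPMain

section frames
variable {p : ℕ} [Fact p.Prime] {K : Type*} [Field K] {ω : K} {X : Type*} [Group X]

/-- (N3) for tight frames `ker π = {[x₀,x]}`. -/
theorem ker_mem_range [Finite X] [CharP K p] (𝔣 : Frame p ω X) (q : ℕ) (hpq : p.Coprime q) (hω0 : ω ≠ 0)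
    (hspan : ∀ S : AddSubgroup K, (1 : K) ∈ S → (∀ v ∈ S, ω * v ∈ S) → S = ⊤)
    (hgeom : ∑ i ∈ Finset.range q, ω ^ i = 0) (ht : 𝔣.IsTight)
    (x₀ : X) (hx₀ : x₀ ∈ 𝔣.P) (h1 : Multiplicative.toAdd (𝔣.π ⟨x₀, hx₀⟩) = 1) :
    ∀ z : ↥𝔣.P, 𝔣.π z = 1 → ∃ x'' ∈ 𝔣.P, (z : X) = x₀ * x'' * x₀⁻¹ * x''⁻¹ := by
  have hcomm := comm_mem_range 𝔣 hω0 hspan x₀ hx₀ h1
  obtain ⟨hmul, hinv⟩ := range_mul_mem 𝔣 x₀ hx₀
  have hpow := pow_mem_range 𝔣 q hpq hω0 hspan hgeom x₀ hx₀ h1 hcomm hmul hinv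
  have hsub : ∀ c ∈ 𝔣.Phi, ∃ x'' ∈ 𝔣.P, c = x₀ * x'' * x₀⁻¹ * x''⁻¹ := by
    intro c hc
    unfold Frame.Phi at hc
    induction hc using Subgroup.closure_induction with
    | mem c hc =>
      rcases hc with ⟨x, hx, x', hx', rfl⟩ | ⟨x, hx, rfl⟩
      · exact hcomm x hx x' hx'
      · exact hpow x hx
    | one => exact ⟨1, 𝔣.P.one_mem, by simp⟩
    | mul c c' _ _ hc hc' => exact hmul c c' hc hc'
    | inv c _ hc => exact hinv c hc
  intro z hz
  exact hsub _ (ht z hz)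

/-- `|ker π| ≤ p^b` -/
theorem card_ker_le [Finite X] [CharP K p] (𝔣 : Frame p ω X) (hω0 : ω ≠ 0) (b : ℕ)
    (hidx : ∀ N : AddSubgroup K, (∀ m : ℕ, ω ^ m + ω⁻¹ ^ m ∈ N) → N.index ≤ p ^ b)
    (x₀ : X) (hx₀ : x₀ ∈ 𝔣.P) (h1 : Multiplicative.toAdd (𝔣.π ⟨x₀, hx₀⟩) = 1)
    (hΓ : ∀ z : ↥𝔣.P, 𝔣.π z = 1 → ∃ x'' ∈ 𝔣.P, (z : X) = x₀ * x'' * x₀⁻¹ * x''⁻¹) :
    Nat.card 𝔣.π.ker ≤ p ^ b := by
  have hcard := card_range_le 𝔣 hω0 b hidx x₀ hx₀ h1
  refine le_trans ?_ hcard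
  exact Nat.card_le_card_of_injective (fun z : 𝔣.π.ker => (⟨((z : ↥𝔣.P) : X), hΓ z.1 z.2⟩ :
    {c : X // ∃ x'' ∈ 𝔣.P, c = x₀ * x'' * x₀⁻¹ * x''⁻¹})) (fun z z' h => by
      apply Subtype.ext
      apply Subtype.ext
      simpa using congrArg Subtype.val h)

/-- `|P| = |K| |ker π|` -/
theorem card_P_eq [Finite X] (𝔣 : Frame p ω X) :
    Nat.card ↥𝔣.P = Nat.card K * Nat.card 𝔣.π.ker := by
  have e : ↥𝔣.P ⧸ 𝔣.π.ker ≃* Multiplicative K := QuotientGroup.quotientKerEquivOfSurjective 𝔣.π 𝔣.π_surj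
  rw [Subgroup.card_eq_card_quotient_mul_card_subgroup 𝔣.π.ker, Nat.card_congr e.toEquiv]
  rfl

/-- the structure of `P` -/
theorem schType_of_frame {X : Type u} [Group X] [Finite X] [Finite K] [CharP K p] (𝔣 : Frame p ω X) (q : ℕ) [Fact q.Prime]
    (hpq : p ≠ q) (a : ℕ) (ha : a = orderOf ((p : ℕ) : ZMod q)) (hK : Nat.card K = p ^ a) (hω : orderOf ω = q)
    (ht : 𝔣.IsTight) : SchType p ↥𝔣.P := by
  have hpp : p.Prime := Fact.out
  have hqp : q.Prime := Fact.out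
  have hcop' : p.Coprime q := (Nat.coprime_primes hpp hqp).mpr hpq
  have hω0 : ω ≠ 0 := by
    rintro rfl
    rw [orderOf_zero] at hω
    · exact hqp.ne_zero hω.symm
  have hω1 : ω ≠ 1 := by
    rintro rfl
    rw [orderOf_one] at hω
    exact hqp.one_lt.ne hω
  have hspan : ∀ S : AddSubgroup K, (1 : K) ∈ S → (∀ v ∈ S, ω * v ∈ S) → S = ⊤ :=
    fun S h1 hS => addSubgroup_eq_top p q hpq (by rw [← ha]; exact hK) ω hω S h1 hS
  have hirr := addSubgroup_eq_bot_or_top ω hspan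
  have hgeom := geom_sum_omega q ω hω
  have hidx : ∀ N : AddSubgroup K, (∀ m : ℕ, ω ^ m + ω⁻¹ ^ m ∈ N) → N.index ≤ p ^ bb a :=
    fun N hN => index_le p q hpq a hK ω hω hspan N hN
  obtain ⟨⟨x₀, hx₀⟩, h1'⟩ := 𝔣.π_surj (Multiplicative.ofAdd (1 : K))
  have h1 : Multiplicative.toAdd (𝔣.π ⟨x₀, hx₀⟩) = 1 := by rw [h1']; rfl
  have hΓ := ker_mem_range 𝔣 q hcop' hω0 hspan hgeom ht x₀ hx₀ h1
  have hker := card_ker_le 𝔣 hω0 (bb a) hidx x₀ hx₀ h1 hΓ
  by_cases hab : ∀ x x' : ↥𝔣.P, x * x' = x' * x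
  · exact Or.inl hab
  push Not at hab
  have hnab : ∃ x x' : ↥𝔣.P, x * x' ≠ x' * x := hab
  have hcen := center_iff_ker 𝔣 hirr hnab
  have hcen' : Subgroup.center ↥𝔣.P = 𝔣.π.ker := by
    ext z; rw [hcen z, MonoidHom.mem_ker]
  -- commutators die in `K`
  have hcomm1 : ∀ x y : ↥𝔣.P, 𝔣.π (x * y * x⁻¹ * y⁻¹) = 1 := by
    intro x y
    rw [map_mul, map_mul, map_mul, map_inv, map_inv]
    rw [mul_comm (𝔣.π x) (𝔣.π y), mul_assoc (𝔣.π y), mul_inv_cancel, mul_one, mul_inv_cancel]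
  have hclass : ClassTwo ↥𝔣.P := fun x y => (hcen _).mpr (hcomm1 x y)
  -- the kernel is not trivial
  have hker1 : 1 < Nat.card 𝔣.π.ker := by
    by_contra hle
    have hle' : Nat.card 𝔣.π.ker ≤ 1 := not_lt.mp hle
    have hsub : Subsingleton 𝔣.π.ker := (Finite.card_le_one_iff_subsingleton).mp hle'
    obtain ⟨x, x', hxx⟩ := hnab
    apply hxx
    have hmem : x * x' * x⁻¹ * x'⁻¹ ∈ 𝔣.π.ker := hcomm1 x x'
    have h1m : (1 : ↥𝔣.P) ∈ 𝔣.π.ker := Subgroup.one_mem _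
    have := congrArg Subtype.val (hsub.elim ⟨_, hmem⟩ ⟨_, h1m⟩)
    have h2 : x * x' * x⁻¹ * x'⁻¹ = 1 := this
    calc x * x' = (x * x' * x⁻¹ * x'⁻¹) * (x' * x) := by group
      _ = x' * x := by rw [h2, one_mul]
  -- `a` is even
  have heven : a % 2 ≠ 1 := by
    intro hodd
    have : bb a = 0 := by unfold bb; rw [if_pos hodd]
    rw [this, pow_zero] at hker
    omega
  have hbb : bb a = a / 2 := by unfold bb; rw [if_neg heven]
  have hapos : 0 < a := by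
    rw [ha]
    apply orderOf_pos_iff.mpr
    have hunit : IsUnit ((p : ℕ) : ZMod q) := by
      rw [ZMod.isUnit_iff_coprime]; exact hcop'
    exact hunit.isOfFinOrder
  rw [hbb] at hker
  by_cases hp5 : 5 ≤ p
  · exact Or.inr (Or.inr (Or.inr ⟨hp5, hclass⟩))
  by_cases ha4 : 4 ≤ a
  · -- the big case
    refine Or.inr (Or.inl ⟨hclass, ?_, ?_⟩)
    · intro x
      rw [hcen, map_pow]
      apply Multiplicative.toAdd.injective
      rw [toAdd_pow, toAdd_one, nsmul_eq_mul, CharP.cast_eq_zero, zero_mul]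
    · have hcard : p * Nat.card 𝔣.π.ker < Nat.card K := by
        rw [hK]
        calc p * Nat.card 𝔣.π.ker ≤ p * p ^ (a / 2) := Nat.mul_le_mul_left _ hker
          _ = p ^ (a / 2 + 1) := by rw [pow_succ, mul_comm]
          _ < p ^ a := Nat.pow_lt_pow_right hpp.one_lt (by omega)
      have h5 := comm_closure_eq_ker 𝔣 hirr ht x₀ hx₀ hΓ hnab hcard
      intro R S₁ hRS hidx' hcR
      rw [hcen']
      exact h5 R S₁ hRS hidx' hcR
  · -- `a = 2`
    have ha2 : a = 2 := by omega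
    have hp23 : p = 2 ∨ p = 3 := by
      have h2 := hpp.two_le
      have : p ≠ 4 := by
        rintro rfl
        norm_num at hpp
      omega
    rcases hp23 with rfl | rfl
    · -- `p = 2`: quaternion
      refine Or.inr (Or.inr (Or.inl ⟨rfl, ?_, hnab, ?_⟩))
      · rw [card_P_eq 𝔣, hK, ha2]
        rw [ha2] at hker
        have h22 : (2 : ℕ) ^ (2 / 2) = 2 := by norm_num
        rw [h22] at hker
        have : Nat.card 𝔣.π.ker = 2 := by omega
        rw [this]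
        norm_num
      · intro x hx
        have hq3 : q = 3 := by
          have h2 : (((2 : ℕ) : ZMod q)) ^ 2 = 1 := by
            have h := pow_orderOf_eq_one (((2 : ℕ) : ZMod q))
            rw [← ha, ha2] at h
            exact h
          have h3 : ((3 : ℕ) : ZMod q) = 0 := by
            have : (((2 : ℕ) : ZMod q)) ^ 2 = ((4 : ℕ) : ZMod q) := by push_cast; norm_num
            rw [this] at h2
            have h4 : ((4 : ℕ) : ZMod q) = ((3 : ℕ) : ZMod q) + 1 := by push_cast; norm_num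
            rw [h4] at h2
            exact add_eq_right.mp h2
          have hdvd : q ∣ 3 := (ZMod.natCast_eq_zero_iff 3 q).mp h3
          exact (Nat.prime_dvd_prime_iff_eq hqp Nat.prime_three).mp hdvd
        have hω3 : ω ^ 3 = 1 := by rw [← hq3, ← hω]; exact pow_orderOf_eq_one _
        have hK4 : Nat.card K = 4 := by rw [hK, ha2]; norm_num
        have h6 := sq_ne_one_of_card_four 𝔣 hK4 hω1 hω3 x₀ hx₀ h1 hΓ hnab
        exact h6 x (fun h => hx ((hcen x).mpr h))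
    · -- `p = 3` is impossible
      exfalso
      exact orderOf_three_ne_two q hpq (by rw [← ha]; exact ha2)

end frames

/-- S4394 -/
theorem main {G X : Type*} [Group G] [Finite G] [Group X] [Finite X] (p : ℕ) [Fact p.Prime]
    (hX : Cfsg.IsMinimalNonNilpotent X) (P : Sylow p X) (hPn : (P : Subgroup X).Normal) (hP1 : (P : Subgroup X) ≠ ⊥)
    (hG : Cfsg.IsPSolvable p G) (Q : Sylow p G) (hQ : Nonempty (↥(Q : Subgroup G) ≃* ↥(P : Subgroup X))) :
    Cfsg.PLengthLE p 1 G := by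
  have hpp : p.Prime := Fact.out
  obtain ⟨q, r, t, hqp, hpq, hcard, hnc, hsub⟩ := exists_order_data p hX P hPn hP1
  have : Fact q.Prime := ⟨hqp⟩
  obtain ⟨K, _, _, _, ω, hK, hω⟩ := exists_field.{0} p q hpq
  obtain ⟨𝔣, hgen, htight, hPp, hy⟩ := Cfsg.Agent.Lib.Helper21.SchMain.exists_frame_of_minimal p q r hpq hK ω hω
    hnc hsub t hcard
  have hPeq : 𝔣.P = (P : Subgroup X) := frame_P_eq_sylow 𝔣 q r hpq hgen hPp hy P
  have h1 : SchType p ↥𝔣.P := schType_of_frame 𝔣 q hpq _ rfl hK hω htight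
  have h2 : SchType p ↥(P : Subgroup X) := schType_of_mulEquiv p (MulEquiv.subgroupCongr hPeq) h1
  obtain ⟨e⟩ := hQ
  have h3 : SchType p ↥(Q : Subgroup G) := schType_of_mulEquiv p e.symm h2
  obtain ⟨S, ⟨e'⟩⟩ := exists_sylow_quotient_equiv p Q
  have h4 : SchType p ↥(S : Subgroup (G ⧸ Cfsg.pPrimeCore p G)) := schType_of_mulEquiv p e' h3
  have hsolH : Cfsg.IsPSolvable p (G ⧸ Cfsg.pPrimeCore p G) :=
    Cfsg.Agent.Lib.Helper24.isPSolvable_of_surjective p (QuotientGroup.mk' (Cfsg.pPrimeCore p G))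
      (QuotientGroup.mk'_surjective _) hG
  have hOH : Cfsg.pPrimeCore p (G ⧸ Cfsg.pPrimeCore p G) = ⊥ :=
    Cfsg.Agent.Lib.Helper24.pPrimeCore_quotient_eq_bot' p
  apply pLengthLE_one_of_sylow_le_pCore p hG S
  rcases h4 with hc | hbig | ⟨rfl, hq8⟩ | ⟨hp5, hc2⟩
  · exact le_pCore_of_comm p hsolH hOH S hc
  · exact le_pCore_of_bigType p hsolH hOH S hbig
      (fun R Z hR hZR e he heZ heR => commute_of_stabilize_chain p R Z hR hZR e he heZ heR)
  · exact le_pCore_of_q8Type hsolH hOH S hq8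
  · exact le_pCore_of_classTwo p hp5 hsolH hOH S hc2

end Cfsg.Agent.Lib.Helper21.SchPMain
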