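import Mathlib
import Cfsg.Prelude.Def_Transfer
import Cfsg.Prelude.Def_SolvableStructure
import Cfsg.Prelude.Def_Local
import Cfsg.Prelude.Def_CaseTheorems
import Cfsg.Agent.Lib.Helper21.SchDefs
import Cfsg.Agent.Lib.Helper21.SchPDefs
import Cfsg.Agent.Lib.Helper22.SchNORM
import Cfsg.Agent.Lib.Helper17.SchCARD

/-!
# S4394, leaf N2: the subgroup `P` of a generating frame is the Sylow `p`-subgroup
-/

set_option autoImplicit false
universe u v
open Cfsg
open Cfsg.Agent.Lib.Helper21.Sch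
open Cfsg.Agent.Lib.Helper21.SchP

namespace Cfsg.Agent.Lib.Helper21.SchPN2

section frames
variable {p : ℕ} [Fact p.Prime] {K : Type*} [Field K] {ω : K} {X : Type*} [Group X]

/-- **TAG N2** -/
theorem frame_P_eq_sylow [Finite X] (𝔣 : Frame p ω X) (q r : ℕ) [Fact q.Prime] (hpq : p ≠ q)
    (hgen : 𝔣.IsGen) (hP : IsPGroup p 𝔣.P) (hy : orderOf 𝔣.y = q ^ r) (P : Sylow p X) :
    𝔣.P = (P : Subgroup X) := by
  have hn : 𝔣.P.Normal := Cfsg.Agent.Lib.Helper22.SchNORM.normal_of_frame 𝔣 hgen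
  have hc := Cfsg.Agent.Lib.Helper17.SchCARD.card_eq_of_frame 𝔣 q r hpq hgen hP hy
  have hidx : 𝔣.P.index = q ^ r := by
    have h := 𝔣.P.card_mul_index
    rw [hc] at h
    exact Nat.eq_of_mul_eq_mul_left Nat.card_pos h
  have hnd : ¬ p ∣ 𝔣.P.index := by
    rw [hidx]
    intro h
    have h' := (Nat.prime_dvd_prime_iff_eq (Fact.out : p.Prime) (Fact.out : q.Prime)).mp
      ((Fact.out : p.Prime).dvd_of_dvd_pow h)
    exact hpq h'
  have hn' : ((hP.toSylow hnd : Sylow p X) : Subgroup X).Normal := by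
    rw [IsPGroup.toSylow_coe]; exact hn
  obtain ⟨x, h1⟩ := MulAction.exists_smul_eq X (hP.toSylow hnd) P
  rw [Sylow.smul_eq_of_normal] at h1
  rw [← h1, IsPGroup.toSylow_coe]

end frames

end Cfsg.Agent.Lib.Helper21.SchPN2
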