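import Mathlib
import Cfsg.Agent.Lib.Lead.FrobThm2
/-! Wielandt's generalisation of Frobenius' theorem, part A: extension of the irreducible characters
of `N / K` to `G`, where `K ⊴ N ≤ G` and `N ∩ N^g ≤ K` for all `g ∉ N`. -/
set_option autoImplicit false
open Representation
open scoped ComplexConjugate
namespace Cfsg.Agent.Lib.Helper21.WF
open Cfsg Cfsg.Agent.CharLib
universe u
variable {G : Type u} [Group G] [Fintype G]

/-- induction of a class function vanishing on `K`, evaluated on `N`. -/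
theorem indFun_apply_of_wielandt (N : Subgroup G) (K : Subgroup N)
    (hW : ∀ g : G, g ∉ N → ∀ y : N, g * (y : G) * g⁻¹ ∈ N → y ∈ K)
    (α : N → ℂ) (hα : IsClassFunction N α) (hαK : ∀ y : N, y ∈ K → α y = 0) (n : N) :
    indFun N α n = α n := by
  classical
  have hterm : ∀ x : G, extendByZero N α (x⁻¹ * (n : G) * x) = if x ∈ N then α n else 0 := by
    intro x
    split_ifs with hx
    · have e : x⁻¹ * (n : G) * x = (((⟨x, hx⟩ : N)⁻¹ * n * ((⟨x, hx⟩ : N)⁻¹)⁻¹ : N) : G) := by
        simp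
      rw [e, extendByZero_apply_coe, hα]
    · by_cases hmem : x⁻¹ * (n : G) * x ∈ N
      · have h1 := extendByZero_apply_coe N α ⟨_, hmem⟩
        rw [h1]
        apply hαK
        apply hW x hx
        have : x * (x⁻¹ * (n : G) * x) * x⁻¹ = (n : G) := by group
        show x * (x⁻¹ * (n : G) * x) * x⁻¹ ∈ N
        rw [this]
        exact n.2
      · exact extendByZero_apply_of_not_mem N α hmem
  unfold indFun
  simp only [hterm]
  rw [Finset.sum_ite, Finset.sum_const_zero, add_zero, Finset.sum_const, nsmul_eq_mul]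
  have hc : ((Finset.univ.filter (fun x : G => x ∈ N)).card : ℂ) = (Nat.card N : ℂ) := by
    rw [Nat.card_eq_fintype_card, Fintype.card_subtype]
  rw [hc, ← mul_assoc, inv_mul_cancel₀, one_mul]
  exact Nat.cast_ne_zero.mpr Nat.card_pos.ne'

/-- induction of a class function vanishing on `K`, evaluated off the conjugates of `N \ K`. -/
theorem indFun_apply_of_forall_mem (N : Subgroup G) (K : Subgroup N)
    (α : N → ℂ) (hαK : ∀ y : N, y ∈ K → α y = 0) (g : G)
    (hg : ∀ x : G, ∀ hx : x⁻¹ * g * x ∈ N, (⟨_, hx⟩ : N) ∈ K) : indFun N α g = 0 := by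
  unfold indFun
  rw [Finset.sum_eq_zero, mul_zero]
  intro x _
  by_cases hmem : x⁻¹ * g * x ∈ N
  · have h1 := extendByZero_apply_coe N α ⟨_, hmem⟩
    rw [h1]
    exact hαK _ (hg x hmem)
  · exact extendByZero_apply_of_not_mem N α hmem

/-- Wielandt: every irreducible character of `N` with `K` in its kernel extends to an irreducible
character of `G` which is constant (`= ψ 1`) off the conjugates of `N \ K`. -/
theorem wielandt_extension (N : Subgroup G) (K : Subgroup N)
    (hW : ∀ g : G, g ∉ N → ∀ y : N, g * (y : G) * g⁻¹ ∈ N → y ∈ K)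
    (ψ : N → ℂ) (hψ : IsIrrCharacter N ψ) (hψK : ∀ y : N, y ∈ K → ψ y = ψ 1) :
    ∃ χ : G → ℂ, IsIrrCharacter G χ ∧ (∀ n : N, χ n = ψ n) ∧
      (∀ g : G, (∀ x : G, ∀ hx : x⁻¹ * g * x ∈ N, (⟨_, hx⟩ : N) ∈ K) → χ g = ψ 1) := by
  classical
  let _ : Fintype N := Fintype.ofFinite N
  by_cases htriv : ψ = 1
  · refine ⟨1, isIrrCharacter_one, fun h => ?_, fun g _ => ?_⟩
    · rw [htriv]; rfl
    · rw [htriv]; rfl
  obtain ⟨d, hdpos, hd⟩ := IsIrrCharacter.apply_one_pos hψ
  have hψc : IsCharacter N ψ := IsIrrCharacter.isCharacter hψ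
  set α : N → ℂ := ψ - (d : ℂ) • (1 : N → ℂ) with hα
  have hαK : ∀ y : N, y ∈ K → α y = 0 := by
    intro y hy
    simp [hα, hψK y hy, hd]
  have hαcl : IsClassFunction N α := by
    intro g k
    simp only [hα, Pi.sub_apply, Pi.smul_apply, Pi.one_apply]
    rw [IsCharacter.isClassFunction hψc g k]
  set θ : G → ℂ := indFun N α + (d : ℂ) • (1 : G → ℂ) with hθ
  have hindα : indFun N α = indFun N ψ - (d : ℂ) • indFun N (1 : N → ℂ) := by
    rw [hα, ← Cfsg.Agent.Lib.Helper2.indFunLin_apply, map_sub, map_smul]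
    rfl
  have hθgen : IsGeneralizedCharacter G θ := by
    refine ⟨indFun N ψ + d • (1 : G → ℂ), d • indFun N (1 : N → ℂ), ?_, ?_, ?_⟩
    · exact IsCharacter.add (IsCharacter.indFun N hψc) (IsCharacter.nsmul isCharacter_one d)
    · exact IsCharacter.nsmul (IsCharacter.indFun N isCharacter_one) d
    · rw [hθ, hindα, ← Nat.cast_smul_eq_nsmul ℂ d (1 : G → ℂ),
        ← Nat.cast_smul_eq_nsmul ℂ d (indFun N (1 : N → ℂ))]
      abel
  have hθH : ∀ h : N, θ h = ψ h := by
    intro h
    simp only [hθ, Pi.add_apply, Pi.smul_apply, Pi.one_apply, smul_eq_mul, mul_one]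
    rw [indFun_apply_of_wielandt N K hW α hαcl hαK h]
    simp [hα]
  have hθoff : ∀ g : G, (∀ x : G, ∀ hx : x⁻¹ * g * x ∈ N, (⟨_, hx⟩ : N) ∈ K) → θ g = ψ 1 := by
    intro g hg
    simp only [hθ, Pi.add_apply, Pi.smul_apply, Pi.one_apply, smul_eq_mul, mul_one]
    rw [indFun_apply_of_forall_mem N K α hαK g hg, zero_add, hd]
  have hθcl : IsClassFunction G θ := Cfsg.Agent.Lib.Helper10.genChar_isClassFunction hθgen
  have hψ1 : classInner ψ (1 : N → ℂ) = 0 := by
    rw [classInner_irr hψ isIrrCharacter_one, if_neg htriv]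
  have h11 : classInner (1 : N → ℂ) (1 : N → ℂ) = 1 := by
    rw [classInner_irr isIrrCharacter_one isIrrCharacter_one, if_pos rfl]
  have hψψ : classInner ψ ψ = 1 := by
    rw [classInner_irr hψ hψ, if_pos rfl]
  have hα1' : classInner α (1 : N → ℂ) = -(d : ℂ) := by
    rw [hα, classInner_sub_left, classInner_smul_left, hψ1, h11]; ring
  have hαψ : classInner α ψ = 1 := by
    rw [hα, classInner_sub_left, classInner_smul_left, hψψ]
    have : classInner (1 : N → ℂ) ψ = 0 := by
      rw [classInner_irr isIrrCharacter_one hψ, if_neg (fun h => htriv h.symm)]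
    rw [this]; ring
  have hθres : (fun h : N => θ h) = ψ := funext hθH
  have h1res : (fun h : N => (1 : G → ℂ) h) = (1 : N → ℂ) := rfl
  have hθ1 : classInner θ (1 : G → ℂ) = 0 := by
    rw [hθ, classInner_add_left, classInner_smul_left,
      frobenius_reciprocity N α (IsCharacter.isClassFunction isCharacter_one), h1res, hα1']
    have : classInner (1 : G → ℂ) (1 : G → ℂ) = 1 := by
      rw [classInner_irr isIrrCharacter_one isIrrCharacter_one, if_pos rfl]
    rw [this]; ring
  have hnorm : classInner θ θ = 1 := by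
    have h1θ : classInner (1 : G → ℂ) θ = 0 := by
      rw [← classInner_conj_symm, hθ1, map_zero]
    conv_lhs => rw [hθ]
    rw [classInner_add_left, classInner_smul_left, frobenius_reciprocity N α hθcl, hθres, hαψ, h1θ]
    ring
  obtain ⟨ε, hε, hirr⟩ := Cfsg.Agent.Lib.Helper10.genChar_norm_one hθgen hnorm
  have hθone : θ 1 = d := by
    have := hθH 1
    rw [Subgroup.coe_one] at this
    rw [this, hd]
  rcases hε with rfl | rfl
  · rw [one_smul] at hirr
    exact ⟨θ, hirr, hθH, hθoff⟩
  · exfalso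
    obtain ⟨k, hkpos, hk⟩ := IsIrrCharacter.apply_one_pos hirr
    simp only [Pi.smul_apply, smul_eq_mul, hθone] at hk
    have : ((k : ℂ)) + (d : ℂ) = 0 := by rw [← hk]; ring
    have h2 : (k + d : ℕ) = 0 := by exact_mod_cast this
    omega

end Cfsg.Agent.Lib.Helper21.WF
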