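import Mathlib
import Cfsg.Agent.Lib.Helper21.WielandtFrobA
import Cfsg.Agent.Lib.Helper24.Deflation
import Cfsg.Agent.Lib.Helper24.IrrFacts
/-! Wielandt's generalisation of Frobenius' theorem, part B: the normal subgroup `G₀` with
`G₀ ∩ N = K` and `G₀ N = G`. -/
set_option autoImplicit false
open Representation
open scoped ComplexConjugate
namespace Cfsg.Agent.Lib.Helper21.WF
open Cfsg Cfsg.Agent.CharLib
universe u

/-- Wielandt's theorem: if `K ⊴ N ≤ G` and `N ∩ N^g ≤ K` for all `g ∉ N`, then there is a normal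
subgroup `G₀` of `G` with `G₀ ∩ N = K` and `|G₀| |N| = |G| |K|` (i.e. `G₀ N = G`); moreover `G₀`
is the complement of the union of the conjugates of `N \ K`. -/
theorem wielandt_normal_subgroup {G : Type u} [Group G] [Finite G] (N : Subgroup G)
    (K : Subgroup N) [hKn : K.Normal]
    (hW : ∀ g : G, g ∉ N → ∀ y : N, g * (y : G) * g⁻¹ ∈ N → y ∈ K) :
    ∃ G₀ : Subgroup G, G₀.Normal ∧ (∀ n : N, (n : G) ∈ G₀ ↔ n ∈ K) ∧
      Nat.card G₀ * Nat.card N = Nat.card G * Nat.card K ∧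
      (∀ g : G, g ∈ G₀ ↔ ∀ x : G, ∀ hx : x⁻¹ * g * x ∈ N, (⟨_, hx⟩ : N) ∈ K) := by
  classical
  let _ := Fintype.ofFinite G
  let _ : Fintype (N ⧸ K) := Fintype.ofFinite (N ⧸ K)
  let _ := fintypeIrr (N ⧸ K)
  have hext : ∀ ψ : IrrCharacter (N ⧸ K), ∃ (n : ℕ) (ρ : Representation ℂ G (Fin n → ℂ)),
      (∀ h : N, ρ.character h = (ψ : N ⧸ K → ℂ) (QuotientGroup.mk h)) ∧
      (∀ g : G, (∀ x : G, ∀ hx : x⁻¹ * g * x ∈ N, (⟨_, hx⟩ : N) ∈ K) →
        ρ.character g = (ψ : N ⧸ K → ℂ) 1) := by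
    intro ψ
    obtain ⟨m, σ, hσirr, hσ⟩ := ψ.2
    have hinf : IsIrrCharacter N (fun y : N => (ψ : N ⧸ K → ℂ) (QuotientGroup.mk y)) := by
      refine ⟨m, MonoidHom.comp σ (QuotientGroup.mk' K), ?_, ?_⟩
      · exact (Cfsg.Agent.Lib.Helper24.isIrreducible_comp_iff (QuotientGroup.mk' K)
          (QuotientGroup.mk'_surjective K) σ).mpr hσirr
      · funext y
        rw [← hσ]
        rfl
    have hK1 : ∀ y : N, y ∈ K → (fun y : N => (ψ : N ⧸ K → ℂ) (QuotientGroup.mk y)) y =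
        (fun y : N => (ψ : N ⧸ K → ℂ) (QuotientGroup.mk y)) 1 := by
      intro y hy
      show (ψ : N ⧸ K → ℂ) (QuotientGroup.mk y) = (ψ : N ⧸ K → ℂ) (QuotientGroup.mk 1)
      rw [(QuotientGroup.eq_one_iff y).mpr hy, QuotientGroup.mk_one]
    obtain ⟨χ, hirr, h1, h2⟩ := wielandt_extension N K hW _ hinf hK1
    obtain ⟨n, ρ, _, hρ⟩ := hirr
    refine ⟨n, ρ, fun h => by rw [hρ]; exact h1 h, fun g hg => ?_⟩
    rw [hρ, h2 g hg]
    show (ψ : N ⧸ K → ℂ) (QuotientGroup.mk 1) = _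
    rw [QuotientGroup.mk_one]
  choose n ρ hρH hρoff using hext
  have hρ1 : ∀ ψ : IrrCharacter (N ⧸ K), (ρ ψ).character 1 = (ψ : N ⧸ K → ℂ) 1 := by
    intro ψ
    have := hρH ψ 1
    rwa [Subgroup.coe_one, QuotientGroup.mk_one] at this
  set G₀ : Subgroup G := ⨅ ψ : IrrCharacter (N ⧸ K), MonoidHom.ker (ρ ψ) with hG₀
  have hNn : G₀.Normal := Subgroup.normal_iInf_normal (fun ψ => MonoidHom.normal_ker _)
  have hmem : ∀ g : G, g ∈ G₀ ↔
      ∀ ψ : IrrCharacter (N ⧸ K), (ρ ψ).character g = (ψ : N ⧸ K → ℂ) 1 := by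
    intro g
    rw [hG₀, Subgroup.mem_iInf]
    constructor
    · intro h ψ
      have := h ψ
      rw [MonoidHom.mem_ker] at this
      rw [← hρ1 ψ]
      simp only [Representation.character, this, map_one]
    · intro h ψ
      rw [MonoidHom.mem_ker]
      apply Cfsg.Agent.Lib.Helper24.rep_eq_one_of_char_eq_finrank
      rw [h ψ, ← hρ1 ψ, Representation.char_one]
  have hb : ∀ y : N, (y : G) ∈ G₀ ↔ y ∈ K := by
    intro y
    constructor
    · intro hy
      have h1 : ∀ ψ : IrrCharacter (N ⧸ K),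
          (ψ : N ⧸ K → ℂ) (QuotientGroup.mk y) = (ψ : N ⧸ K → ℂ) 1 := by
        intro ψ
        rw [← hρH ψ y]
        exact (hmem _).mp hy ψ
      have h2 := Cfsg.Agent.Lib.Helper24.sum_irr_degree_mul (G := N ⧸ K) (QuotientGroup.mk y)
      have h3 := Cfsg.Agent.Lib.Helper24.sum_irr_degree_mul (G := N ⧸ K) (1 : N ⧸ K)
      simp only [h1] at h2
      rw [h3, if_pos rfl] at h2
      by_contra hyK
      have hne : (QuotientGroup.mk y : N ⧸ K) ≠ 1 := fun h => hyK ((QuotientGroup.eq_one_iff y).mp h)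
      rw [if_neg hne] at h2
      have : (Fintype.card (N ⧸ K) : ℂ) ≠ 0 := Nat.cast_ne_zero.mpr Fintype.card_ne_zero
      exact this h2
    · intro hy
      rw [hmem]
      intro ψ
      rw [hρH ψ y, (QuotientGroup.eq_one_iff y).mpr hy]
  have hd : ∀ g : G, g ∈ G₀ ↔ ∀ x : G, ∀ hx : x⁻¹ * g * x ∈ N, (⟨_, hx⟩ : N) ∈ K := by
    intro g
    constructor
    · intro hg x hx
      rw [← hb]
      have := hNn.conj_mem g hg x⁻¹
      simpa using this
    · intro hg
      rw [hmem]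
      intro ψ
      exact hρoff ψ g hg
  refine ⟨G₀, hNn, hb, ?_, hd⟩
  -- counting
  let F : (G ⧸ N) × ↥((K : Set N)ᶜ) → G := fun p => p.1.out * ((p.2 : N) : G) * (p.1.out)⁻¹
  have hsub : ((G₀ : Set G))ᶜ ⊆ Set.range F := by
    intro g hg
    have hg' : g ∉ G₀ := hg
    rw [hd] at hg'
    push Not at hg'
    obtain ⟨x, hx, hxK⟩ := hg'
    obtain ⟨n₀, hn₀⟩ := QuotientGroup.mk_out_eq_mul N x
    have hyK : n₀⁻¹ * (⟨_, hx⟩ : N) * n₀ ∉ K := by
      intro hy
      apply hxK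
      have := hKn.conj_mem _ hy n₀
      simpa [mul_assoc] using this
    refine ⟨((x : G ⧸ N), ⟨n₀⁻¹ * (⟨_, hx⟩ : N) * n₀, hyK⟩), ?_⟩
    show (x : G ⧸ N).out * ((n₀⁻¹ * (⟨_, hx⟩ : N) * n₀ : N) : G) * ((x : G ⧸ N).out)⁻¹ = g
    rw [hn₀]
    simp only [Subgroup.coe_mul, Subgroup.coe_inv]
    group
  have hc1 : ((G₀ : Set G))ᶜ.ncard ≤ N.index * (Nat.card N - Nat.card K) := by
    calc ((G₀ : Set G))ᶜ.ncard ≤ (Set.range F).ncard := Set.ncard_le_ncard hsub (Set.toFinite _)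
      _ = Nat.card (Set.range F) := (Nat.card_coe_set_eq _).symm
      _ ≤ Nat.card ((G ⧸ N) × ↥((K : Set N)ᶜ)) := Finite.card_range_le F
      _ = N.index * (Nat.card N - Nat.card K) := by
        rw [Nat.card_prod, Nat.card_coe_set_eq]
        have := Set.ncard_add_ncard_compl (K : Set N)
        have h2 : (K : Set N).ncard = Nat.card K := (Nat.card_coe_set_eq _).symm
        have h3 : ((K : Set N))ᶜ.ncard = Nat.card N - Nat.card K := by omega
        rw [h3]
        rfl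
  have hc2 : (G₀ : Set G).ncard + ((G₀ : Set G))ᶜ.ncard = Nat.card G :=
    Set.ncard_add_ncard_compl (G₀ : Set G)
  have hc3 : (G₀ : Set G).ncard = Nat.card G₀ := (Nat.card_coe_set_eq _).symm
  -- index arithmetic
  have hsubof : G₀.subgroupOf N = K := by
    ext y
    rw [Subgroup.mem_subgroupOf]
    exact hb y
  have e1 : G₀.relIndex N = K.index := by
    rw [Subgroup.relIndex, hsubof]
  have e2 : G₀.relIndex (N ⊔ G₀) = G₀.relIndex N := Subgroup.relIndex_sup_right N G₀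
  have e3 : G₀.relIndex (N ⊔ G₀) * (N ⊔ G₀).index = G₀.index :=
    Subgroup.relIndex_mul_index le_sup_right
  have e4 : K.index * Nat.card K = Nat.card N := K.index_mul_card
  have e5 : G₀.index * Nat.card G₀ = Nat.card G := G₀.index_mul_card
  have e6 : N.index * Nat.card N = Nat.card G := N.index_mul_card
  have hjpos : 0 < (N ⊔ G₀).index := Nat.pos_of_ne_zero Subgroup.index_ne_zero_of_finite
  have htpos : 0 < K.index := Nat.pos_of_ne_zero Subgroup.index_ne_zero_of_finite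
  have hKle : Nat.card K ≤ Nat.card N := by
    rw [← e4]; exact Nat.le_mul_of_pos_left _ htpos
  rw [e2, e1] at e3
  set a := Nat.card G₀
  set nn := Nat.card N
  set k := Nat.card K
  set gg := Nat.card G
  set i := N.index
  set j := (N ⊔ G₀).index
  set t := K.index
  -- t * j * a = gg = i * nn = i * t * k
  have h7 : t * (j * a) = t * (i * k) := by
    calc t * (j * a) = (t * j) * a := by ring
      _ = gg := by rw [e3, e5]
      _ = i * (t * k) := by rw [e4, e6]
      _ = t * (i * k) := by ring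
  have h8 : j * a = i * k := Nat.eq_of_mul_eq_mul_left htpos h7
  have h9 : i * k ≤ a := by
    have h10 : gg - a ≤ i * (nn - k) := by
      have : ((G₀ : Set G))ᶜ.ncard = gg - a := by omega
      rw [← this]; exact hc1
    have h11 : i * (nn - k) = gg - i * k := by
      rw [Nat.mul_sub, e6]
    have h12 : i * k ≤ gg := by
      rw [← e6]; exact Nat.mul_le_mul_left _ hKle
    have h13 : a ≤ gg := by omega
    omega
  have hj1 : j = 1 := by
    by_contra hj
    have hj2 : 2 ≤ j := by omega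
    have hapos : 0 < a := Nat.card_pos
    nlinarith
  rw [hj1, one_mul] at h8
  calc a * nn = i * k * nn := by rw [h8]
    _ = (i * nn) * k := by ring
    _ = gg * k := by rw [e6]

end Cfsg.Agent.Lib.Helper21.WF
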