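import Mathlib
import Cfsg.Prelude.Def_OddOrderLocal
import Cfsg.Agent.Lib.Helper21.WielandtFrobB
import Cfsg.Agent.Lib.Helper21.TwoFrobD
/-! TI subgroups `H` that are Hall subgroups of their normalizer: normal complements (S4115). Part A. -/
set_option autoImplicit false
open scoped Pointwise
namespace Cfsg.Agent.Lib.Helper21.TIHall
open Cfsg Subgroup
universe u
variable {G : Type u} [Group G] [Finite G]

/-- an element of `N_G(H)` whose order divides `|H|` lies in `H`, when `(|H|, |N_G(H):H|) = 1`. -/
theorem mem_of_mem_normalizer (H : Subgroup G)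
    (hHall : (Nat.card H).Coprime (H.subgroupOf (normalizer (H : Set G))).index)
    (x : G) (hx : x ∈ normalizer (H : Set G)) (hord : orderOf x ∣ Nat.card H) : x ∈ H := by
  have hn : (H.subgroupOf (normalizer (H : Set G))).Normal := Subgroup.normal_in_normalizer
  have h1 := Cfsg.Agent.Lib.Helper21.TwoFrob.mem_of_coprime_orderOf
    (H.subgroupOf (normalizer (H : Set G))) (⟨x, hx⟩ : normalizer (H : Set G)) (by
      rw [Subgroup.orderOf_mk, ← Subgroup.index_eq_card]
      exact Nat.Coprime.coprime_dvd_left hord hHall)
  exact h1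

/-- Wielandt's condition for `N = N_G(H)` and a normal complement `K` of `H` in `N`. -/
theorem wielandt_cond (H : Subgroup G) (hTI : IsTISubset (H : Set G))
    (hHall : (Nat.card H).Coprime (H.subgroupOf (normalizer (H : Set G))).index)
    (K : Subgroup (normalizer (H : Set G))) [hKn : K.Normal]
    (hK : K.IsComplement' (H.subgroupOf (normalizer (H : Set G)))) :
    ∀ g : G, g ∉ normalizer (H : Set G) → ∀ y : normalizer (H : Set G),
      g * (y : G) * g⁻¹ ∈ normalizer (H : Set G) → y ∈ K := by
  intro g hg y hy
  have hn : (H.subgroupOf (normalizer (H : Set G))).Normal := Subgroup.normal_in_normalizer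
  set m := (H.subgroupOf (normalizer (H : Set G))).index with hm
  have h1 : y ^ m ∈ H.subgroupOf (normalizer (H : Set G)) := Subgroup.pow_index_mem _ y
  have h2 : (⟨_, hy⟩ : normalizer (H : Set G)) ^ m ∈ H.subgroupOf (normalizer (H : Set G)) :=
    Subgroup.pow_index_mem _ _
  rw [Subgroup.mem_subgroupOf] at h1 h2
  have h3 : g * ((y : G) ^ m) * g⁻¹ ∈ H := by
    have : g * ((y : G) ^ m) * g⁻¹ = (g * (y : G) * g⁻¹) ^ m := by
      rw [conj_pow]
    rw [this]
    simpa using h2
  have h4 : (y : G) ^ m = 1 := hTI g hg _ (by simpa using h1) h3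
  -- |K| = m and index of K is |H|
  have hcard := hK.card_mul_card
  have hidx : K.index * Nat.card K = Nat.card (normalizer (H : Set G)) := K.index_mul_card
  have hHcard : Nat.card (H.subgroupOf (normalizer (H : Set G))) = Nat.card H := by
    exact Nat.card_congr (Subgroup.subgroupOfEquivOfLe Subgroup.le_normalizer).toEquiv
  have hKidx : K.index = Nat.card H := by
    have hpos : 0 < Nat.card K := Nat.card_pos
    rw [← hHcard]
    apply Nat.eq_of_mul_eq_mul_left hpos
    rw [hcard, mul_comm, hidx]
  apply Cfsg.Agent.Lib.Helper21.TwoFrob.mem_of_coprime_orderOf K y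
  rw [← Subgroup.index_eq_card, hKidx]
  have h5 : orderOf y ∣ m := by
    apply orderOf_dvd_of_pow_eq_one
    apply Subtype.ext
    simpa using h4
  exact Nat.Coprime.coprime_dvd_left h5 hHall.symm

/-- (⇒) of S4115: a normal complement in `N_G(H)` gives a normal complement in `G`. -/
theorem exists_normal_complement (H : Subgroup G) (hTI : IsTISubset (H : Set G))
    (hHall : (Nat.card H).Coprime (H.subgroupOf (normalizer (H : Set G))).index)
    (K : Subgroup (normalizer (H : Set G))) [hKn : K.Normal]
    (hK : K.IsComplement' (H.subgroupOf (normalizer (H : Set G)))) :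
    ∃ G₀ : Subgroup G, G₀.Normal ∧ G₀.IsComplement' H := by
  obtain ⟨G₀, hG₀n, hb, hc, -⟩ := Cfsg.Agent.Lib.Helper21.WF.wielandt_normal_subgroup
    (normalizer (H : Set G)) K (wielandt_cond H hTI hHall K hK)
  refine ⟨G₀, hG₀n, ?_⟩
  have hcard := hK.card_mul_card
  have hHcard : Nat.card (H.subgroupOf (normalizer (H : Set G))) = Nat.card H := by
    exact Nat.card_congr (Subgroup.subgroupOfEquivOfLe Subgroup.le_normalizer).toEquiv
  rw [hHcard] at hcard
  apply Subgroup.isComplement'_of_card_mul_and_disjoint
  · have hpos : 0 < Nat.card K := Nat.card_pos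
    apply Nat.eq_of_mul_eq_mul_right hpos
    calc Nat.card G₀ * Nat.card H * Nat.card K
        = Nat.card G₀ * (Nat.card K * Nat.card H) := by ring
      _ = Nat.card G * Nat.card K := by rw [hcard, hc]
  · rw [Subgroup.disjoint_def]
    intro x hx0 hxH
    have hxN : x ∈ normalizer (H : Set G) := Subgroup.le_normalizer hxH
    have hxK : (⟨x, hxN⟩ : normalizer (H : Set G)) ∈ K := (hb ⟨x, hxN⟩).mp hx0
    have hxH' : (⟨x, hxN⟩ : normalizer (H : Set G)) ∈ H.subgroupOf (normalizer (H : Set G)) := by
      rw [Subgroup.mem_subgroupOf]; exact hxH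
    have := hK.disjoint
    rw [Subgroup.disjoint_def] at this
    have h1 := this hxK hxH'
    exact congrArg Subtype.val h1

/-- (⇐) of S4115: a normal complement in `G` restricts to a normal complement in any subgroup
containing `H`. -/
theorem subgroupOf_isComplement' (H L : Subgroup G) (hHL : H ≤ L) (G₀ : Subgroup G)
    (hc : G₀.IsComplement' H) : (G₀.subgroupOf L).IsComplement' (H.subgroupOf L) := by
  apply Subgroup.isComplement'_of_disjoint_and_mul_eq_univ
  · rw [Subgroup.disjoint_def]
    intro x hx0 hxH
    rw [Subgroup.mem_subgroupOf] at hx0 hxH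
    have := hc.disjoint
    rw [Subgroup.disjoint_def] at this
    exact Subtype.ext (this hx0 hxH)
  · rw [Set.eq_univ_iff_forall]
    intro x
    have hmul := hc.mul_eq
    have hx : (x : G) ∈ (G₀ : Set G) * (H : Set G) := by rw [hmul]; trivial
    obtain ⟨a, ha, b, hb, hab⟩ := hx
    have hbL : b ∈ L := hHL hb
    have haL : a ∈ L := by
      have : a = (x : G) * b⁻¹ := by rw [← hab]; group
      rw [this]
      exact L.mul_mem x.2 (L.inv_mem hbL)
    refine ⟨⟨a, haL⟩, ?_, ⟨b, hbL⟩, ?_, ?_⟩
    · show (⟨a, haL⟩ : L) ∈ G₀.subgroupOf L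
      rw [Subgroup.mem_subgroupOf]; exact ha
    · show (⟨b, hbL⟩ : L) ∈ H.subgroupOf L
      rw [Subgroup.mem_subgroupOf]; exact hb
    · apply Subtype.ext
      exact hab

/-- `H` is a Hall subgroup of `G`. -/
theorem hall_of_ti (H : Subgroup G) (hTI : IsTISubset (H : Set G))
    (hHall : (Nat.card H).Coprime (H.subgroupOf (normalizer (H : Set G))).index) :
    (Nat.card H).Coprime H.index := by
  have hidx : (H.subgroupOf (normalizer (H : Set G))).index * (normalizer (H : Set G)).index
      = H.index := Subgroup.relIndex_mul_index Subgroup.le_normalizer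
  rw [← hidx]
  apply Nat.Coprime.mul_right hHall
  apply Nat.coprime_of_dvd
  intro r hr hr1 hr2
  haveI : Fact r.Prime := ⟨hr⟩
  obtain ⟨x, hx⟩ := exists_prime_orderOf_dvd_card' (G := H) r hr1
  have hx1 : x ≠ 1 := by
    intro h
    rw [h, orderOf_one] at hx
    exact hr.one_lt.ne hx
  have hZ : IsPGroup r (zpowers (x : G)) := by
    apply IsPGroup.of_card (n := 1)
    rw [Nat.card_zpowers, Subgroup.orderOf_coe, hx, pow_one]
  have hfix := hZ.card_modEq_card_fixedPoints (G ⧸ normalizer (H : Set G))
  have hfp : MulAction.fixedPoints (zpowers (x : G)) (G ⧸ normalizer (H : Set G))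
      = {((1 : G) : G ⧸ normalizer (H : Set G))} := by
    ext q
    rw [MulAction.mem_fixedPoints, Set.mem_singleton_iff]
    constructor
    · intro hq
      induction q using QuotientGroup.induction_on with
      | H g =>
        have h1 := hq ⟨(x : G), Subgroup.mem_zpowers _⟩
        have h2 : (((x : G) * g : G) : G ⧸ normalizer (H : Set G)) = (g : G ⧸ normalizer (H : Set G)) := h1
        rw [QuotientGroup.eq] at h2
        have h3 : g⁻¹ * (x : G)⁻¹ * g ∈ normalizer (H : Set G) := by
          have : ((x : G) * g)⁻¹ * g = g⁻¹ * (x : G)⁻¹ * g := by group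
          rwa [this] at h2
        have h4 : g⁻¹ * (x : G)⁻¹ * g ∈ H := by
          apply mem_of_mem_normalizer H hHall _ h3
          have : orderOf (g⁻¹ * (x : G)⁻¹ * g) = orderOf (x : G) := by
            have h5 : g⁻¹ * (x : G)⁻¹ * g = (MulAut.conj g⁻¹).toMonoidHom ((x : G)⁻¹) := by
              simp [MulAut.conj_apply]
            rw [h5, orderOf_injective _ (MulAut.conj g⁻¹).injective, orderOf_inv]
          rw [this, Subgroup.orderOf_coe]
          exact orderOf_dvd_natCard x
        have hgN : g⁻¹ ∈ normalizer (H : Set G) := by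
          by_contra hg
          have := hTI g⁻¹ hg ((x : G)⁻¹) (H.inv_mem x.2) (by rwa [inv_inv])
          apply hx1
          apply Subtype.ext
          simpa using this
        have hgN' : g ∈ normalizer (H : Set G) := by
          have := (normalizer (H : Set G)).inv_mem hgN
          rwa [inv_inv] at this
        rw [eq_comm, QuotientGroup.eq]
        simpa using hgN'
    · rintro rfl
      intro z
      obtain ⟨z, hz⟩ := z
      show ((z * 1 : G) : G ⧸ normalizer (H : Set G)) = ((1 : G) : G ⧸ normalizer (H : Set G))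
      rw [QuotientGroup.eq]
      have hzH : z ∈ H := by
        have : zpowers (x : G) ≤ H := by
          rw [Subgroup.zpowers_le]; exact x.2
        exact this hz
      have := Subgroup.le_normalizer hzH
      have h2 := (normalizer (H : Set G)).inv_mem this
      simpa using h2
  rw [hfp] at hfix
  have hone : Nat.card ({((1 : G) : G ⧸ normalizer (H : Set G))} : Set (G ⧸ normalizer (H : Set G))) = 1 := by
    simp
  rw [hone, ← Subgroup.index_eq_card] at hfix
  have := (Nat.modEq_zero_iff_dvd.mpr hr2).symm.trans hfix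
  have h0 : r ∣ 1 := by
    have := (Nat.modEq_iff_dvd' (by omega)).mp this
    simpa using this
  exact hr.one_lt.ne' (Nat.dvd_one.mp h0)

end Cfsg.Agent.Lib.Helper21.TIHall
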