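import Mathlib
import Cfsg.Prelude.Def_OddOrderLocal
import Cfsg.Agent.Lib.Helper21.TIHallA
import Cfsg.Agent.S4116
/-! TI subgroups `H` that are Hall subgroups of their normalizer (S4115). Part B: an `H`-invariant
`p`-subgroup of the normal complement not contained in `N_G(H)`. -/
set_option autoImplicit false
open scoped Pointwise
namespace Cfsg.Agent.Lib.Helper21.TIHall
open Cfsg Subgroup
universe u
variable {G : Type u} [Group G] [Finite G]

theorem exists_invariant_pgroup (H : Subgroup G) (hTI : IsTISubset (H : Set G))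
    (hHallG : (Nat.card H).Coprime H.index) (hnn : ¬ H.Normal)
    (G₀ : Subgroup G) [hG₀n : G₀.Normal] (hc : G₀.IsComplement' H) :
    ∃ (p : ℕ) (P₁ : Subgroup G), p.Prime ∧ IsPGroup p P₁ ∧ P₁ ≤ G₀ ∧
      H ≤ normalizer (P₁ : Set G) ∧ ¬ P₁ ≤ normalizer (H : Set G) := by
  classical
  -- K₀' = N ∩ G₀ inside G₀ is proper
  have hK₀top : (normalizer (H : Set G)).subgroupOf G₀ ≠ ⊤ := by
    intro htop
    rw [Subgroup.subgroupOf_eq_top] at htop
    apply hnn
    rw [← Subgroup.normalizer_eq_top_iff, eq_top_iff, ← hc.sup_eq_top]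
    exact sup_le htop Subgroup.le_normalizer
  have hidx1 : ((normalizer (H : Set G)).subgroupOf G₀).index ≠ 1 := by
    rw [Ne, Subgroup.index_eq_one]; exact hK₀top
  set p := ((normalizer (H : Set G)).subgroupOf G₀).index.minFac with hp
  have hpp : p.Prime := Nat.minFac_prime hidx1
  have hpdvd : p ∣ ((normalizer (H : Set G)).subgroupOf G₀).index := Nat.minFac_dvd _
  haveI : Fact p.Prime := ⟨hpp⟩
  obtain ⟨P⟩ : Nonempty (Sylow p G₀) := inferInstance
  set P₀ : Subgroup G := (P : Subgroup G₀).map G₀.subtype with hP₀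
  have hfr : normalizer (P₀ : Set G) ⊔ G₀ = ⊤ := Sylow.normalizer_sup_eq_top P
  set L : Subgroup G := normalizer (P₀ : Set G) with hL
  -- D = G₀ ∩ L inside L
  have hDn : (G₀.subgroupOf L).Normal := inferInstance
  have hcardG₀ : Nat.card G₀ = H.index := by
    have h1 := hc.card_mul_card
    have h2 := H.index_mul_card
    have hpos : 0 < Nat.card H := Nat.card_pos
    apply Nat.eq_of_mul_eq_mul_right hpos
    rw [h1, h2]
  have hDidx : (G₀.subgroupOf L).index = Nat.card H := by
    have h1 : (G₀.subgroupOf L).index = G₀.relIndex L := rfl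
    rw [h1, ← Subgroup.relIndex_sup_right L G₀, hfr, Subgroup.relIndex_top_right]
    have h2 := hc.card_mul_card
    have h3 := G₀.index_mul_card
    have hpos : 0 < Nat.card G₀ := Nat.card_pos
    apply Nat.eq_of_mul_eq_mul_right hpos
    rw [h3, mul_comm, h2]
  have hDcard : Nat.card (G₀.subgroupOf L) ∣ Nat.card G₀ := by
    have : Nat.card (G₀.subgroupOf L) = Nat.card (G₀ ⊓ L : Subgroup G) := by
      rw [← Subgroup.inf_subgroupOf_right]
      exact Nat.card_congr (Subgroup.subgroupOfEquivOfLe inf_le_right).toEquiv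
    rw [this]
    exact Subgroup.card_dvd_of_le inf_le_left
  have hcop : (Nat.card (G₀.subgroupOf L)).Coprime (G₀.subgroupOf L).index := by
    rw [hDidx]
    apply Nat.Coprime.coprime_dvd_left hDcard
    rw [hcardG₀]
    exact hHallG.symm
  obtain ⟨H₁', hH₁'⟩ := Subgroup.exists_right_complement'_of_coprime hcop
  have hH₁'card : Nat.card H₁' = Nat.card H := by
    have h1 := hH₁'.card_mul_card
    have h2 := (G₀.subgroupOf L).index_mul_card
    have hpos : 0 < Nat.card (G₀.subgroupOf L) := Nat.card_pos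
    apply Nat.eq_of_mul_eq_mul_left hpos
    rw [h1, ← h2, hDidx, mul_comm]
  set H₁ : Subgroup G := H₁'.map L.subtype with hH₁
  have hH₁card : Nat.card H₁ = Nat.card H := by
    rw [hH₁, Subgroup.card_map_of_injective L.subtype_injective, hH₁'card]
  have hH₁L : H₁ ≤ L := Subgroup.map_subtype_le H₁'
  obtain ⟨g, hg⟩ := Cfsg.Agent.S4116.result H hHallG hTI H₁ (by
    intro q hq hqd
    rwa [hH₁card] at hqd)
  have hconjcard : Nat.card (H.map (MulAut.conj g).toMonoidHom) = Nat.card H :=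
    Subgroup.card_map_of_injective (MulAut.conj g).injective
  have hH₁eq : H₁ = H.map (MulAut.conj g).toMonoidHom :=
    Subgroup.eq_of_le_of_card_ge hg (by rw [hconjcard, hH₁card])
  have hconjL : ∀ h ∈ H, g * h * g⁻¹ ∈ L := by
    intro h hh
    apply hH₁L
    rw [hH₁eq]
    exact ⟨h, hh, by simp [MulAut.conj_apply]⟩
  -- P₁ = g⁻¹ P₀ g
  set P₁ : Subgroup G := P₀.map (MulAut.conj g⁻¹).toMonoidHom with hP₁
  have hmemP₁ : ∀ x : G, x ∈ P₁ ↔ g * x * g⁻¹ ∈ P₀ := by
    intro x
    rw [hP₁, Subgroup.mem_map]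
    constructor
    · rintro ⟨y, hy, rfl⟩
      have : g * ((MulAut.conj g⁻¹).toMonoidHom y) * g⁻¹ = y := by
        simp [MulAut.conj_apply]; group
      rwa [this]
    · intro hx
      refine ⟨_, hx, ?_⟩
      simp [MulAut.conj_apply]; group
  have hP₀G₀ : P₀ ≤ G₀ := Subgroup.map_subtype_le _
  have hP₁G₀ : P₁ ≤ G₀ := by
    intro x hx
    rw [hmemP₁] at hx
    have h1 := hP₀G₀ hx
    have h2 := hG₀n.conj_mem _ h1 g⁻¹
    have : g⁻¹ * (g * x * g⁻¹) * g⁻¹⁻¹ = x := by group
    rwa [this] at h2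
  have hP₀p : IsPGroup p P₀ := P.2.map G₀.subtype
  have hP₁p : IsPGroup p P₁ := hP₀p.map _
  have hP₁card : Nat.card P₁ = Nat.card (P : Subgroup G₀) := by
    rw [hP₁, Subgroup.card_map_of_injective (MulAut.conj g⁻¹).injective, hP₀,
      Subgroup.card_map_of_injective G₀.subtype_injective]
  refine ⟨p, P₁, hpp, hP₁p, hP₁G₀, ?_, ?_⟩
  · intro h hh
    rw [Subgroup.mem_normalizer_iff]
    intro x
    rw [hmemP₁, hmemP₁]
    have h1 := hconjL h hh
    rw [hL, Subgroup.mem_normalizer_iff] at h1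
    rw [h1 (g * x * g⁻¹)]
    have : g * h * g⁻¹ * (g * x * g⁻¹) * (g * h * g⁻¹)⁻¹ = g * (h * x * h⁻¹) * g⁻¹ := by group
    rw [this]
  · intro hle
    -- P₁ ≤ N ∩ G₀ : compare cardinalities
    set K₀ : Subgroup G₀ := (normalizer (H : Set G)).subgroupOf G₀ with hK₀
    have hle' : P₁.subgroupOf G₀ ≤ K₀ := by
      intro x hx
      rw [Subgroup.mem_subgroupOf] at hx
      rw [hK₀, Subgroup.mem_subgroupOf]
      exact hle hx
    have h1 : Nat.card (P₁.subgroupOf G₀) = Nat.card (P : Subgroup G₀) := by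
      rw [← hP₁card]
      exact Nat.card_congr (Subgroup.subgroupOfEquivOfLe hP₁G₀).toEquiv
    have h2 : K₀.index ∣ (P₁.subgroupOf G₀).index := Subgroup.index_dvd_of_le hle'
    have h3 : (P₁.subgroupOf G₀).index = (P : Subgroup G₀).index := by
      have e1 := (P₁.subgroupOf G₀).index_mul_card
      have e2 := (P : Subgroup G₀).index_mul_card
      have hpos : 0 < Nat.card (P : Subgroup G₀) := Nat.card_pos
      apply Nat.eq_of_mul_eq_mul_right hpos
      rw [e2, ← h1, e1]
    rw [h3] at h2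
    exact P.not_dvd_index (dvd_trans hpdvd h2)

end Cfsg.Agent.Lib.Helper21.TIHall
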