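import Mathlib
import Cfsg.Prelude.Def_OddOrderLocal
import Cfsg.Prelude.Def_Solvable
import Cfsg.Agent.Lib.Helper21.TIHallB
import Cfsg.Agent.Lib.Helper22.FrobSemi
/-! TI subgroups `H` that are Hall subgroups of their normalizer (S4115). Part C: `H` is isomorphic
to a Frobenius complement. -/
set_option autoImplicit false
open scoped Pointwise
namespace Cfsg.Agent.Lib.Helper21.TIHall
open Cfsg Subgroup
universe u
variable {G : Type u} [Group G] [Finite G]

theorem conj_pow_eq (h t c : G) (hc : h * t * h⁻¹ = t * c) (hcomm : h * c = c * h) (i : ℕ) :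
    h ^ i * t * (h ^ i)⁻¹ = t * c ^ i := by
  induction i with
  | zero => simp
  | succ i ih =>
    have hcomm' : h * c ^ i = c ^ i * h := by
      have : Commute h c := hcomm
      exact (this.pow_right i).eq
    calc h ^ (i + 1) * t * (h ^ (i + 1))⁻¹
        = h * (h ^ i * t * (h ^ i)⁻¹) * h⁻¹ := by rw [pow_succ']; group
      _ = h * (t * c ^ i) * h⁻¹ := by rw [ih]
      _ = (h * t * h⁻¹) * (h * c ^ i * h⁻¹) := by group
      _ = (t * c) * (c ^ i) := by rw [hc, hcomm']; group
      _ = t * c ^ (i + 1) := by rw [pow_succ']; group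

theorem exists_frobenius_of_invariant (H : Subgroup G) (hTI : IsTISubset (H : Set G))
    (hHallG : (Nat.card H).Coprime H.index) (hH1 : H ≠ ⊥)
    (G₀ : Subgroup G) [hG₀n : G₀.Normal] (hc : G₀.IsComplement' H)
    (p : ℕ) (hp : p.Prime) (P₁ : Subgroup G) (hP₁p : IsPGroup p P₁) (hP₁G₀ : P₁ ≤ G₀)
    (hHP₁ : H ≤ normalizer (P₁ : Set G)) (hP₁N : ¬ P₁ ≤ normalizer (H : Set G)) :
    ∃ (F : Type u) (_ : Group F) (_ : Finite F) (C : Subgroup F),
      IsFrobeniusComplement C ∧ Nonempty (H ≃* C) := by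
  classical
  haveI : Fact p.Prime := ⟨hp⟩
  set N := normalizer (H : Set G) with hN
  set Q : Subgroup G := P₁ ⊓ N with hQ
  -- elements of G₀ ∩ N commute with H
  have hcomm : ∀ q ∈ Q, ∀ h ∈ H, h * q = q * h := by
    intro q hq h hh
    have hqG₀ : q ∈ G₀ := hP₁G₀ hq.1
    have hqN : q ∈ N := hq.2
    have h1 : q * h * q⁻¹ * h⁻¹ ∈ H := by
      have := (Subgroup.mem_normalizer_iff.mp hqN h).mp hh
      exact H.mul_mem this (H.inv_mem hh)
    have h2 : q * h * q⁻¹ * h⁻¹ ∈ G₀ := by
      have := hG₀n.conj_mem _ (G₀.inv_mem hqG₀) h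
      have h3 := G₀.mul_mem hqG₀ this
      have : q * (h * q⁻¹ * h⁻¹) = q * h * q⁻¹ * h⁻¹ := by group
      rwa [this] at h3
    have hd := hc.disjoint
    rw [Subgroup.disjoint_def] at hd
    have h4 := hd h2 h1
    calc h * q = (q * h * q⁻¹ * h⁻¹)⁻¹ * (q * h) := by group
      _ = q * h := by rw [h4]; group
  -- Q is proper in P₁, so its normalizer in P₁ is bigger
  have hQlt : Q.subgroupOf P₁ ≠ ⊤ := by
    intro htop
    rw [Subgroup.subgroupOf_eq_top] at htop
    exact hP₁N (fun x hx => (htop hx).2)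
  haveI : Group.IsNilpotent P₁ := hP₁p.isNilpotent
  have hnc : NormalizerCondition P₁ := Group.normalizerCondition_of_isNilpotent
  have hlt := hnc (Q.subgroupOf P₁) (lt_top_iff_ne_top.mpr hQlt)
  obtain ⟨m', hm'n, hm'Q⟩ := SetLike.exists_of_lt hlt
  obtain ⟨m, hmP₁⟩ := m'
  have hmQ : m ∉ Q := by
    intro h
    apply hm'Q
    rw [Subgroup.mem_subgroupOf]; exact h
  have hmnorm : m ∈ normalizer (Q : Set G) := by
    rw [Subgroup.mem_normalizer_iff]
    intro x
    rw [Subgroup.mem_normalizer_iff] at hm'n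
    constructor
    · intro hx
      have hxP₁ : x ∈ P₁ := hx.1
      have := (hm'n ⟨x, hxP₁⟩).mp (by rw [Subgroup.mem_subgroupOf]; exact hx)
      rw [Subgroup.mem_subgroupOf] at this
      simpa using this
    · intro hx
      have hxP₁ : x ∈ P₁ := by
        have h1 : m * x * m⁻¹ ∈ P₁ := hx.1
        have h2 := P₁.mul_mem (P₁.mul_mem (P₁.inv_mem hmP₁) h1) hmP₁
        have : m⁻¹ * (m * x * m⁻¹) * m = x := by group
        rwa [this] at h2
      have := (hm'n ⟨x, hxP₁⟩).mpr (by rw [Subgroup.mem_subgroupOf]; simpa using hx)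
      rw [Subgroup.mem_subgroupOf] at this
      exact this
  set M : Subgroup G := P₁ ⊓ normalizer (Q : Set G) with hM
  have hmM : m ∈ M := ⟨hmP₁, hmnorm⟩
  have hQM : Q ≤ M := fun x hx => ⟨hx.1, Subgroup.le_normalizer hx⟩
  have hMQ : ∀ x ∈ M, x ∈ N → x ∈ Q := fun x hx hxN => ⟨hx.1, hxN⟩
  -- H normalizes Q and M
  have hHQ : H ≤ normalizer (Q : Set G) := by
    intro h hh
    rw [Subgroup.mem_normalizer_iff]
    intro x
    constructor
    · intro hx
      have := hcomm x hx h hh
      have e : h * x * h⁻¹ = x := by rw [this]; group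
      rw [e]; exact hx
    · intro hx
      have h5 : h * (h * x * h⁻¹) = h * x * h⁻¹ * h := hcomm _ hx h hh
      have e : x = h * x * h⁻¹ := by
        calc x = h⁻¹ * (h * x * h⁻¹ * h) := by group
          _ = h⁻¹ * (h * (h * x * h⁻¹)) := by rw [h5]
          _ = h * x * h⁻¹ := by group
      rw [e]; exact hx
  have hHM : H ≤ normalizer (M : Set G) := by
    intro h hh
    have h1 : ∀ k ∈ H, ∀ x ∈ M, k * x * k⁻¹ ∈ M := by
      intro k hk x hx
      refine ⟨?_, ?_⟩
      · exact (Subgroup.mem_normalizer_iff.mp (hHP₁ hk) x).mp hx.1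
      · have hkQ := hHQ hk
        have := (normalizer (Q : Set G)).mul_mem ((normalizer (Q : Set G)).mul_mem hkQ hx.2)
          ((normalizer (Q : Set G)).inv_mem hkQ)
        exact this
    rw [Subgroup.mem_normalizer_iff]
    intro x
    constructor
    · exact h1 h hh x
    · intro hx
      have := h1 h⁻¹ (H.inv_mem hh) _ hx
      have e : h⁻¹ * (h * x * h⁻¹) * h⁻¹⁻¹ = x := by group
      rwa [e] at this
  -- the ambient group T
  set T : Subgroup G := normalizer (M : Set G) ⊓ normalizer (Q : Set G) with hT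
  have hHT : H ≤ T := le_inf hHM hHQ
  have hMT : M ≤ T := le_inf Subgroup.le_normalizer (fun x hx => hx.2)
  haveI hQTn : (Q.subgroupOf T).Normal := Subgroup.normal_subgroupOf_of_le_normalizer inf_le_right
  haveI hMTn : (M.subgroupOf T).Normal := Subgroup.normal_subgroupOf_of_le_normalizer inf_le_left
  set Mbar : Subgroup (T ⧸ Q.subgroupOf T) := (M.subgroupOf T).map (QuotientGroup.mk' (Q.subgroupOf T))
    with hMbar
  haveI hMbarn : Mbar.Normal :=
    Subgroup.Normal.map hMTn _ (QuotientGroup.mk'_surjective _)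
  let φ : H →* MulAut Mbar :=
    (MulAut.conjNormal (H := Mbar)).comp
      ((QuotientGroup.mk' (Q.subgroupOf T)).comp (Subgroup.inclusion hHT))
  haveI : Nontrivial Mbar := by
    refine ⟨⟨⟨QuotientGroup.mk' (Q.subgroupOf T) ⟨m, hMT hmM⟩, ?_⟩, 1, ?_⟩⟩
    · exact ⟨⟨m, hMT hmM⟩, by rw [SetLike.mem_coe, Subgroup.mem_subgroupOf]; exact hmM, rfl⟩
    · intro h
      have h1 := congrArg Subtype.val h
      simp only [Subgroup.coe_one] at h1
      rw [QuotientGroup.mk'_apply, QuotientGroup.eq_one_iff, Subgroup.mem_subgroupOf] at h1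
      exact hmQ h1
  haveI : Nontrivial H := (Subgroup.nontrivial_iff_ne_bot H).mpr hH1
  have hcardG₀ : Nat.card G₀ = H.index := by
    have h1 := hc.card_mul_card
    have h2 := H.index_mul_card
    have hpos : 0 < Nat.card H := Nat.card_pos
    apply Nat.eq_of_mul_eq_mul_right hpos
    rw [h1, h2]
  have hfpf : ∀ k : H, k ≠ 1 → ∀ v : Mbar, φ k v = v → v = 1 := by
    intro k hk v hv
    obtain ⟨vv, hvv⟩ := v
    obtain ⟨t, htM, rfl⟩ := hvv
    rw [SetLike.mem_coe, Subgroup.mem_subgroupOf] at htM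
    have h1 := congrArg Subtype.val hv
    have h2 : (QuotientGroup.mk' (Q.subgroupOf T) (Subgroup.inclusion hHT k)) *
        (QuotientGroup.mk' (Q.subgroupOf T) t) *
        (QuotientGroup.mk' (Q.subgroupOf T) (Subgroup.inclusion hHT k))⁻¹ =
        QuotientGroup.mk' (Q.subgroupOf T) t := h1
    rw [← map_inv, ← map_mul, ← map_mul, QuotientGroup.mk'_apply, QuotientGroup.mk'_apply,
      eq_comm, QuotientGroup.eq, Subgroup.mem_subgroupOf] at h2
    set c : G := (t : G)⁻¹ * ((k : G) * (t : G) * (k : G)⁻¹) with hcdef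
    have hcQ : c ∈ Q := by
      simpa using h2
    have hkt : (k : G) * (t : G) * (k : G)⁻¹ = (t : G) * c := by rw [hcdef]; group
    have hkc : (k : G) * c = c * (k : G) := hcomm c hcQ k k.2
    have hpow := conj_pow_eq (k : G) (t : G) c hkt hkc (orderOf (k : G))
    rw [pow_orderOf_eq_one] at hpow
    have hc1 : c ^ orderOf (k : G) = 1 := by
      have : (t : G) = (t : G) * c ^ orderOf (k : G) := by simpa using hpow
      exact (mul_eq_left.mp this.symm)
    have hc2 : orderOf c ∣ orderOf (k : G) := orderOf_dvd_of_pow_eq_one hc1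
    have hc3 : orderOf c ∣ Nat.card G₀ := by
      have hcG₀ : c ∈ G₀ := hP₁G₀ hcQ.1
      have := orderOf_dvd_natCard (⟨c, hcG₀⟩ : G₀)
      rwa [Subgroup.orderOf_mk] at this
    have hc4 : orderOf (k : G) ∣ Nat.card H := by
      rw [Subgroup.orderOf_coe]; exact orderOf_dvd_natCard k
    have hc5 : orderOf c = 1 := by
      have h5 : orderOf c ∣ Nat.gcd (Nat.card H) H.index :=
        Nat.dvd_gcd (dvd_trans hc2 hc4) (hcardG₀ ▸ hc3)
      rw [hHallG.gcd_eq_one] at h5
      exact Nat.dvd_one.mp h5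
    have hc6 : c = 1 := orderOf_eq_one_iff.mp hc5
    rw [hc6, mul_one] at hkt
    -- t commutes with k, so t ∈ N by TI
    have htN : (t : G) ∈ N := by
      by_contra htn
      have h5 : (t : G) * (k : G) * (t : G)⁻¹ ∈ H := by
        have : (t : G) * (k : G) * (t : G)⁻¹ = (k : G) := by
          calc (t : G) * (k : G) * (t : G)⁻¹
              = ((k : G) * (t : G) * (k : G)⁻¹) * (k : G) * (t : G)⁻¹ := by rw [hkt]
            _ = (k : G) := by group
        rw [this]; exact k.2
      have := hTI (t : G) htn (k : G) k.2 h5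
      exact hk (Subtype.ext this)
    have htQ : (t : G) ∈ Q := hMQ _ htM htN
    apply Subtype.ext
    show QuotientGroup.mk' (Q.subgroupOf T) t = 1
    rw [QuotientGroup.mk'_apply, QuotientGroup.eq_one_iff, Subgroup.mem_subgroupOf]
    exact htQ
  refine ⟨Mbar ⋊[φ] H, inferInstance, Finite.of_equiv _ SemidirectProduct.equivProd.symm,
    (SemidirectProduct.inr : H →* Mbar ⋊[φ] H).range,
    Cfsg.Agent.Lib.Helper22.isFrobeniusComplement_range_inr φ hfpf,
    ⟨MonoidHom.ofInjective SemidirectProduct.inr_injective⟩⟩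

end Cfsg.Agent.Lib.Helper21.TIHall
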