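import Mathlib
import Cfsg.Agent.Lib.Helper21.TypeVL5
import Cfsg.Agent.Lib.Helper8.ExtraCube

set_option autoImplicit false

namespace Cfsg.Agent.Lib.Helper21.TypeV

variable {G : Type*} [Group G] [Finite G]

/-- **L5** of the `typeV_alt` farm-out (literal statement). -/
theorem card_dvd_of_rank_two {p : ℕ} [Fact p.Prime] (hp2 : p ≠ 2)
    (hG : Cfsg.IsMinSimpleOddOrder G) (S : Sylow p G) (hr : Cfsg.PRankLE p 2 (S : Subgroup G))
    (hna : ¬ IsMulCommutative (S : Subgroup G)) {K Z : Subgroup G}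
    (hKP : K ≤ Subgroup.normalizer ((S : Subgroup G) : Set G)) (hKc : IsCyclic K)
    (hKodd : Odd (Nat.card K)) (hKp : (Nat.card K).Coprime p) (hZ : Nat.card Z ∣ p)
    (hfix : ∀ k ∈ K, k ≠ 1 → (S : Subgroup G) ⊓ Subgroup.centralizer ({k} : Set G) = Z) :
    Nat.card K ∣ p - 1 ∨ (Nat.card (S : Subgroup G) = p ^ 3 ∧ Nat.card K ∣ p + 1) :=
  card_dvd_of_rank_two_of_cube hp2 hG S hr hna hKP hKc hKp hZ hfix
    (fun h => Cfsg.Agent.Lib.Helper8.ExtraCube.card_dvd_pm_one_of_card_cube hp2 h hna hKP hKc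
      hKodd hKp hZ hfix)

end Cfsg.Agent.Lib.Helper21.TypeV
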