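import Mathlib
import Cfsg.Agent.Lib.Helper7.DHBDefs
import Cfsg.Agent.Lib.Helper7.DHBALG
import Cfsg.Agent.Lib.Helper7.DHBFROB
import Cfsg.Agent.Lib.Helper7.DHBSCHUR

/-!
# The valuation leaf for S3572 (Wielandt: dihedral groups are B-groups), case `n = p ^ a`, `p` odd

In `Λ = F_p[ZMod (p ^ a)]` (a local ring, `t = g - 1`, `t ^ n = 0`, `t ^ k ≠ 0` for `k < n`, every element
is `0` or `t ^ j * unit`): if `(y y*) ^ ((p-1)/2) * y = 0` then `y ^ p = 0`, i.e. (Frobenius) the `0/1` element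
`y = ind Y` has all its fibre sums over the cosets of `P = {t | p • t = 0}` equal to `0` mod `p`: `Y` is `P`-invariant.
-/

set_option autoImplicit false
set_option linter.unusedSectionVars false

namespace Cfsg.Agent.Lib.Helper21.WDVAL

open Finset Cfsg.Agent.Lib.Helper7.DHB Cfsg.Agent.Lib.Helper7.DHBALG
  Cfsg.Agent.Lib.Helper7.DHBFROB Cfsg.Agent.Lib.Helper7.DHBSCHUR

variable {p : ℕ} [Fact p.Prime] {n : ℕ} [NeZero n]

/-- the generator `g` of the group inside the group algebra -/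
noncomputable def gg (p n : ℕ) : AddMonoidAlgebra (ZMod p) (ZMod n) :=
  AddMonoidAlgebra.single (1 : ZMod n) (1 : ZMod p)

/-- the uniformizer `t = g - 1` -/
noncomputable def tt (p n : ℕ) : AddMonoidAlgebra (ZMod p) (ZMod n) := gg p n - 1

/-- the augmentation -/
noncomputable def aug (f : AddMonoidAlgebra (ZMod p) (ZMod n)) : ZMod p := ∑ s : ZMod n, f.coeff s

theorem expand (f : AddMonoidAlgebra (ZMod p) (ZMod n)) :
    f = ∑ s : ZMod n, AddMonoidAlgebra.single s (f.coeff s) := by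
  apply AddMonoidAlgebra.ext
  ext u
  rw [AddMonoidAlgebra.coeff_sum, Finsupp.finsetSum_apply]
  simp only [AddMonoidAlgebra.coeff_single, Finsupp.single_apply]
  rw [Finset.sum_ite_eq' Finset.univ u]
  simp

theorem gg_pow (k : ℕ) : gg p n ^ k = AddMonoidAlgebra.single ((k : ℕ) : ZMod n) (1 : ZMod p) := by
  unfold gg
  rw [AddMonoidAlgebra.single_pow, one_pow, nsmul_one]

theorem single_eq_gg_pow (s : ZMod n) :
    AddMonoidAlgebra.single s (1 : ZMod p) = gg p n ^ s.val := by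
  rw [gg_pow, ZMod.natCast_zmod_val]

theorem one_def' : (1 : AddMonoidAlgebra (ZMod p) (ZMod n)) = AddMonoidAlgebra.single 0 1 := rfl

theorem cast_pow_eq_zero {a : ℕ} (hn : n = p ^ a) : (((p ^ a : ℕ)) : ZMod n) = 0 :=
  (ZMod.natCast_eq_zero_iff (p ^ a) n).2 (hn ▸ dvd_rfl)

theorem single_zero_sum (c : ZMod n → ZMod p) :
    AddMonoidAlgebra.single (0 : ZMod n) (∑ s : ZMod n, c s) =
      ∑ s : ZMod n, AddMonoidAlgebra.single (0 : ZMod n) (c s) := by
  apply AddMonoidAlgebra.ext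
  ext u
  rw [AddMonoidAlgebra.coeff_sum, Finsupp.finsetSum_apply]
  simp only [AddMonoidAlgebra.coeff_single, Finsupp.single_apply]
  by_cases hu : (0 : ZMod n) = u
  · simp [hu]
  · simp [hu]

/-- `t ^ (p ^ a) = 0` when `n = p ^ a`. -/
theorem tt_pow_card {a : ℕ} (hn : n = p ^ a) : tt p n ^ (p ^ a) = 0 := by
  have := charP_alg (n := n) (p := p)
  unfold tt
  rw [sub_pow_char_pow, one_pow, gg_pow, cast_pow_eq_zero hn, ← one_def', sub_self]

/-- the coefficients of `t ^ k` at the points `k ≤ j < n`. -/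
theorem coeff_tt_pow (k : ℕ) : ∀ j : ℕ, k ≤ j → j < n →
    (tt p n ^ k).coeff ((j : ℕ) : ZMod n) = if j = k then 1 else 0 := by
  induction k with
  | zero =>
    intro j _ hj
    rw [pow_zero, one_def', AddMonoidAlgebra.coeff_single, Finsupp.single_apply]
    by_cases h0 : j = 0
    · subst h0; simp
    · rw [if_neg h0, if_neg]
      intro h
      have := (ZMod.natCast_eq_zero_iff j n).1 h.symm
      exact h0 (Nat.eq_zero_of_dvd_of_lt this hj)
  | succ k ih =>
    intro j hkj hj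
    have e : tt p n ^ (k + 1) = tt p n ^ k * AddMonoidAlgebra.single (1 : ZMod n) (1 : ZMod p) -
        tt p n ^ k := by
      rw [pow_succ]
      unfold tt gg
      ring
    rw [e, AddMonoidAlgebra.coeff_sub, Finsupp.sub_apply, AddMonoidAlgebra.coeff_mul_single_apply,
      mul_one]
    obtain ⟨j', rfl⟩ : ∃ j', j = j' + 1 := ⟨j - 1, by omega⟩
    have e2 : (((j' + 1 : ℕ) : ZMod n) + -1) = ((j' : ℕ) : ZMod n) := by
      push_cast; ring
    rw [e2, ih j' (by omega) (by omega), ih (j' + 1) (by omega) hj]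
    by_cases h : j' = k
    · subst h; simp
    · have h1 : ¬ j' + 1 = k + 1 := by omega
      have h2 : ¬ j' + 1 = k := by omega
      simp [h, h2]

/-- `t ^ k ≠ 0` for `k < n`. -/
theorem tt_pow_ne_zero {k : ℕ} (hk : k < n) : tt p n ^ k ≠ 0 := by
  intro h0
  have := coeff_tt_pow (p := p) (n := n) k k le_rfl hk
  rw [h0, if_pos rfl] at this
  simp at this

/-- Frobenius: `f ^ (p ^ a) = aug f` when `n = p ^ a`. -/
theorem pow_card_eq_aug {a : ℕ} (hn : n = p ^ a) (f : AddMonoidAlgebra (ZMod p) (ZMod n)) :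
    f ^ (p ^ a) = AddMonoidAlgebra.single 0 (aug f) := by
  have := charP_alg (n := n) (p := p)
  conv_lhs => rw [expand f, sum_pow_char_pow]
  unfold aug
  have : ∀ s : ZMod n, (AddMonoidAlgebra.single s (f.coeff s)) ^ p ^ a =
      AddMonoidAlgebra.single (0 : ZMod n) (f.coeff s) := by
    intro s
    rw [AddMonoidAlgebra.single_pow, ZMod.pow_card_pow]
    congr 1
    rw [nsmul_eq_mul, cast_pow_eq_zero hn, zero_mul]
  simp only [this]
  rw [single_zero_sum]

/-- `t ∣ f - aug f`. -/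
theorem tt_dvd_sub_aug (f : AddMonoidAlgebra (ZMod p) (ZMod n)) :
    tt p n ∣ f - AddMonoidAlgebra.single 0 (aug f) := by
  have e : f - AddMonoidAlgebra.single 0 (aug f) =
      ∑ s : ZMod n, (f.coeff s) • (gg p n ^ s.val - 1) := by
    have h1 : AddMonoidAlgebra.single (0 : ZMod n) (aug f) =
        ∑ s : ZMod n, AddMonoidAlgebra.single (0 : ZMod n) (f.coeff s) := by
      unfold aug
      rw [single_zero_sum]
    have h2 : ∀ s : ZMod n, (f.coeff s) • (gg p n ^ s.val - 1) =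
        AddMonoidAlgebra.single s (f.coeff s) - AddMonoidAlgebra.single (0 : ZMod n) (f.coeff s) := by
      intro s
      rw [smul_sub, ← single_eq_gg_pow, AddMonoidAlgebra.smul_single, smul_eq_mul, mul_one, one_def',
        AddMonoidAlgebra.smul_single, smul_eq_mul, mul_one]
    simp only [h2]
    rw [Finset.sum_sub_distrib, ← expand f, ← h1]
  rw [e]
  apply Finset.dvd_sum
  intro s _
  apply dvd_smul_of_dvd
  have := sub_dvd_pow_sub_pow (gg p n) 1 s.val
  rwa [one_pow] at this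

/-- non-zero augmentation gives a unit. -/
theorem isUnit_of_aug_ne_zero {a : ℕ} (hn : n = p ^ a) (f : AddMonoidAlgebra (ZMod p) (ZMod n))
    (hf : aug f ≠ 0) : IsUnit f := by
  have h1 := pow_card_eq_aug hn f
  have hn0 : p ^ a ≠ 0 := pow_ne_zero _ (Fact.out : p.Prime).ne_zero
  obtain ⟨m, hm⟩ : ∃ m, p ^ a = m + 1 := ⟨p ^ a - 1, by omega⟩
  apply IsUnit.of_mul_eq_one (f ^ m * AddMonoidAlgebra.single 0 (aug f)⁻¹)
  rw [← mul_assoc, ← pow_succ', ← hm, h1, AddMonoidAlgebra.single_mul_single, add_zero,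
    mul_inv_cancel₀ hf]
  rfl

/-- every non-zero element is `t ^ j * unit`. -/
theorem exists_decomp {a : ℕ} (hn : n = p ^ a) (f : AddMonoidAlgebra (ZMod p) (ZMod n)) (hf : f ≠ 0) :
    ∃ j : ℕ, j < n ∧ ∃ h : AddMonoidAlgebra (ZMod p) (ZMod n), f = tt p n ^ j * h ∧ IsUnit h := by
  classical
  obtain ⟨j, hj⟩ : ∃ j, j = Nat.findGreatest (fun j => tt p n ^ j ∣ f) (p ^ a) := ⟨_, rfl⟩
  have hP0 : (fun j => tt p n ^ j ∣ f) 0 := by simp
  have hspec : tt p n ^ j ∣ f := by
    rw [hj]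
    exact Nat.findGreatest_spec (P := fun j => tt p n ^ j ∣ f) (Nat.zero_le (p ^ a)) hP0
  have hle : j ≤ p ^ a := by rw [hj]; exact Nat.findGreatest_le (p ^ a)
  have hne : j ≠ p ^ a := by
    intro hjj
    rw [hjj, tt_pow_card hn, zero_dvd_iff] at hspec
    exact hf hspec
  have hlt' : j < p ^ a := lt_of_le_of_ne hle hne
  have hlt : j < n := by rw [hn]; exact hlt'
  have hnot : ¬ tt p n ^ (j + 1) ∣ f := by
    have := Nat.findGreatest_is_greatest (P := fun j => tt p n ^ j ∣ f) (n := p ^ a) (k := j + 1)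
      (by rw [← hj]; omega) (by omega)
    exact this
  obtain ⟨h, hh⟩ := hspec
  refine ⟨j, hlt, h, hh, ?_⟩
  apply isUnit_of_aug_ne_zero hn
  intro h0
  apply hnot
  have := tt_dvd_sub_aug h
  rw [h0] at this
  have hz : AddMonoidAlgebra.single (0 : ZMod n) (0 : ZMod p) = 0 := by simp
  rw [hz, sub_zero] at this
  obtain ⟨h', rfl⟩ := this
  exact ⟨h', by rw [hh, pow_succ]; ring⟩

/-- the involution `s ↦ -s` of the group algebra. -/
noncomputable def sig (p n : ℕ) :
    AddMonoidAlgebra (ZMod p) (ZMod n) →+* AddMonoidAlgebra (ZMod p) (ZMod n) :=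
  AddMonoidAlgebra.mapDomainRingHom (ZMod p) (-AddMonoidHom.id (ZMod n))

theorem sig_single (s : ZMod n) (c : ZMod p) :
    sig p n (AddMonoidAlgebra.single s c) = AddMonoidAlgebra.single (-s) c := by
  unfold sig
  rw [AddMonoidAlgebra.mapDomainRingHom_apply]
  simp [AddMonoidAlgebra.mapDomain_single]

theorem sig_ind (Y : Finset (ZMod n)) : sig p n (ind (ZMod p) Y) = ind (ZMod p) (Y.image Neg.neg) := by
  unfold ind
  rw [map_sum, Finset.sum_image (fun a _ b _ h => neg_injective h)]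
  apply Finset.sum_congr rfl
  intro i _
  exact sig_single i 1

theorem sig_tt : sig p n (tt p n) = -(AddMonoidAlgebra.single (-1 : ZMod n) (1 : ZMod p)) * tt p n := by
  unfold tt gg
  rw [map_sub, map_one, sig_single, mul_sub, mul_one, neg_mul, AddMonoidAlgebra.single_mul_single,
    neg_add_cancel, mul_one]
  rw [one_def']
  ring

theorem isUnit_neg_single : IsUnit (-(AddMonoidAlgebra.single (-1 : ZMod n) (1 : ZMod p))) := by
  apply IsUnit.of_mul_eq_one (-(AddMonoidAlgebra.single (1 : ZMod n) (1 : ZMod p)))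
  rw [neg_mul_neg, AddMonoidAlgebra.single_mul_single, neg_add_cancel, mul_one]
  rfl

/-- the core: `(f f*) ^ q * f = 0` with `2 q + 1 = p` forces `f ^ p = 0`. -/
theorem pow_eq_zero_of {a : ℕ} (hn : n = p ^ a) (q : ℕ) (hq : 2 * q + 1 = p)
    (f : AddMonoidAlgebra (ZMod p) (ZMod n)) (h2 : (f * sig p n f) ^ q * f = 0) : f ^ p = 0 := by
  by_cases hf : f = 0
  · rw [hf, zero_pow (Fact.out : p.Prime).ne_zero]
  obtain ⟨j, hjn, h, hfh, hu⟩ := exists_decomp hn f hf
  have hus : IsUnit (sig p n h) := hu.map (sig p n)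
  have hu0 := isUnit_neg_single (p := p) (n := n)
  obtain ⟨u0, hu0'⟩ : ∃ u0, u0 = -(AddMonoidAlgebra.single (-1 : ZMod n) (1 : ZMod p)) := ⟨_, rfl⟩
  rw [← hu0'] at hu0
  have hsf : sig p n f = u0 ^ j * tt p n ^ j * sig p n h := by
    rw [hfh, map_mul, map_pow, sig_tt, ← hu0', mul_pow]
  have key : (f * sig p n f) ^ q * f =
      tt p n ^ (p * j) * ((h * u0 ^ j * sig p n h) ^ q * h) := by
    rw [hsf]
    conv_lhs => rw [hfh]
    have : p * j = (j + j) * q + j := by rw [← hq]; ring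
    rw [this, pow_add, pow_mul, pow_add]
    ring
  have hU : IsUnit ((h * u0 ^ j * sig p n h) ^ q * h) :=
    (((hu.mul (hu0.pow j)).mul hus).pow q).mul hu
  rw [key] at h2
  have ht0 : tt p n ^ (p * j) = 0 := by
    have := hU.mul_left_eq_zero.1 h2
    exact this
  rw [hfh, mul_pow, ← pow_mul, mul_comm j p, ht0, zero_mul]

/-- **VAL**: for `n = p ^ a`, `p` odd, `(y y*) ^ ((p-1)/2) * y = 0` in `F_p[ZMod n]` forces `Y` to be `P`-invariant. -/
theorem pinv_of_pow_zero {a : ℕ} (hp2 : p ≠ 2) (hn : n = p ^ a) (Y : Finset (ZMod n))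
    (h2 : (ind (ZMod p) Y * ind (ZMod p) (Y.image Neg.neg)) ^ ((p - 1) / 2) * ind (ZMod p) Y = 0) :
    PInv p Y := by
  have hp : p.Prime := Fact.out
  have hodd : 2 * ((p - 1) / 2) + 1 = p := by
    rcases hp.eq_two_or_odd with h | h
    · exact absurd h hp2
    · have := hp.two_le
      omega
  rw [← sig_ind] at h2
  have h3 := pow_eq_zero_of hn ((p - 1) / 2) hodd (ind (ZMod p) Y) h2
  rw [ind_pow_p] at h3
  intro i₀ hi₀ t ht
  have e := congrArg (fun f => f.coeff (p • i₀)) h3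
  simp only [coeff_frob] at e
  have hz : (0 : AddMonoidAlgebra (ZMod p) (ZMod n)).coeff = 0 := rfl
  rw [hz, Finsupp.zero_apply] at e
  have hdvd : p ∣ (Y.filter (fun i => p • i = p • i₀)).card :=
    (ZMod.natCast_eq_zero_iff _ _).1 e
  have hpos : 0 < (Y.filter (fun i => p • i = p • i₀)).card :=
    Finset.card_pos.2 ⟨i₀, Finset.mem_filter.2 ⟨hi₀, rfl⟩⟩
  have hge : p ≤ (Y.filter (fun i => p • i = p • i₀)).card := Nat.le_of_dvd hpos hdvd
  have hP : (univ.filter (fun a : ZMod n => p • a = 0)).card ≤ p :=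
    IsAddCyclic.card_nsmul_eq_zero_le hp.pos
  have hsub : Y.filter (fun i => p • i = p • i₀) ⊆
      (univ.filter (fun a : ZMod n => p • a = 0)).image (fun a => i₀ + a) := by
    intro i hi
    rw [Finset.mem_filter] at hi
    rw [Finset.mem_image]
    refine ⟨i - i₀, ?_, by abel⟩
    rw [Finset.mem_filter]
    refine ⟨Finset.mem_univ _, ?_⟩
    rw [smul_sub, hi.2, sub_self]
  have hcard_img : ((univ.filter (fun a : ZMod n => p • a = 0)).image (fun a => i₀ + a)).card ≤ p :=
    Finset.card_image_le.trans hP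
  have heq := Finset.eq_of_subset_of_card_le hsub (hcard_img.trans hge)
  have hmem : i₀ + t ∈ (univ.filter (fun a : ZMod n => p • a = 0)).image (fun a => i₀ + a) :=
    Finset.mem_image_of_mem _ (Finset.mem_filter.2 ⟨Finset.mem_univ _, ht⟩)
  rw [← heq] at hmem
  exact (Finset.mem_filter.1 hmem).1

end Cfsg.Agent.Lib.Helper21.WDVAL
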